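import Mathlib

/-!
# Functions on `ZMod p` in characteristic `p` and permutation groups of prime degree

Part A: translation-invariant subspaces of `ZMod p → K` are the spaces of polynomial functions
of bounded degree.
-/

set_option autoImplicit false

namespace Cfsg.Agent.Lib.Helper19.PrimeDegree

open Polynomial Module

variable (p : ℕ) [Fact p.Prime] (K : Type*) [Field K] [CharP K p]

/-- evaluation of a polynomial at the points of `ZMod p` -/
noncomputable def ev : K[X] →ₗ[K] (ZMod p → K) where
  toFun P j := P.eval (ZMod.cast j : K)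
  map_add' P Q := by ext j; simp
  map_smul' c P := by ext j; simp

variable {p K}

theorem ev_apply (P : K[X]) (j : ZMod p) : ev p K P j = P.eval (ZMod.cast j : K) := rfl

theorem cast_injective : Function.Injective (ZMod.cast : ZMod p → K) :=
  (ZMod.castHom (dvd_refl p) K).injective

theorem cast_sub_one (j : ZMod p) : (ZMod.cast (j - 1) : K) = ZMod.cast j - 1 := by
  have h := map_sub (ZMod.castHom (dvd_refl p) K) j 1
  rw [map_one] at h
  exact h

/-- a polynomial of degree `< p` vanishing on `ZMod p` is zero -/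
theorem ev_eq_zero {P : K[X]} (hP : P.degree < p) (h : ev p K P = 0) : P = 0 := by
  refine Polynomial.eq_zero_of_degree_lt_of_eval_index_eq_zero (s := Finset.univ)
    (v := fun j : ZMod p => (ZMod.cast j : K)) (cast_injective.injOn) ?_ ?_
  · simpa [ZMod.card] using hP
  · intro i _
    exact congrFun h i

variable (p K)

/-- the shift operator `f ↦ f (· - 1)` -/
noncomputable def shift : (ZMod p → K) →ₗ[K] (ZMod p → K) :=
  LinearMap.funLeft K K (fun j : ZMod p => j - 1)

/-- the difference operator -/
noncomputable def diff : Module.End K (ZMod p → K) := shift p K - 1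

/-- polynomial functions of degree `< r` -/
noncomputable def Pdeg (r : ℕ) : Submodule K (ZMod p → K) :=
  (Polynomial.degreeLT K r).map (ev p K)

variable {p K}

theorem shift_apply (f : ZMod p → K) (j : ZMod p) : shift p K f j = f (j - 1) := rfl

theorem diff_apply (f : ZMod p → K) (j : ZMod p) : diff p K f j = f (j - 1) - f j := rfl

theorem mem_Pdeg {r : ℕ} {f : ZMod p → K} :
    f ∈ Pdeg p K r ↔ ∃ P : K[X], P.degree < r ∧ ev p K P = f := by
  simp only [Pdeg, Submodule.mem_map, Polynomial.mem_degreeLT]

theorem shift_ev (P : K[X]) : shift p K (ev p K P) = ev p K (taylor (-1) P) := by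
  ext j
  rw [shift_apply, ev_apply, ev_apply, taylor_eval, cast_sub_one, sub_eq_add_neg]

theorem diff_ev (P : K[X]) : diff p K (ev p K P) = ev p K (taylor (-1) P - P) := by
  rw [map_sub, ← shift_ev]
  rfl

theorem degree_taylor_sub_lt {P : K[X]} (hP : P ≠ 0) : (taylor (-1) P - P).degree < P.degree := by
  have h := Polynomial.degree_sub_lt_left (p := taylor (-1) P) (q := P) (degree_taylor P (-1))
    ((taylor_eq_zero (-1) P).not.mpr hP) (leadingCoeff_taylor _ _)
  rwa [degree_taylor] at h

theorem diff_mem_Pdeg {r : ℕ} {f : ZMod p → K} (hf : f ∈ Pdeg p K (r + 1)) :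
    diff p K f ∈ Pdeg p K r := by
  obtain ⟨P, hP, rfl⟩ := mem_Pdeg.mp hf
  rw [diff_ev]
  refine mem_Pdeg.mpr ⟨_, ?_, rfl⟩
  by_cases hP0 : P = 0
  · rw [hP0, map_zero, sub_zero, degree_zero]
    exact WithBot.bot_lt_coe r
  · have h1 := degree_taylor_sub_lt hP0
    have h2 : P.degree ≤ r := by
      have h3 : P.natDegree < r + 1 := (natDegree_lt_iff_degree_lt hP0).mpr hP
      exact natDegree_le_iff_degree_le.mp (by omega)
    exact lt_of_lt_of_le h1 h2

theorem Pdeg_zero : Pdeg p K 0 = ⊥ := by
  rw [eq_bot_iff]
  intro f hf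
  obtain ⟨P, hP, rfl⟩ := mem_Pdeg.mp hf
  have : P = 0 := by
    rw [← Polynomial.degree_eq_bot]
    by_contra h
    rw [Polynomial.degree_eq_natDegree (fun h0 => h (by rw [h0, degree_zero]))] at hP
    exact absurd hP (by simp)
  rw [this, map_zero]
  exact Submodule.zero_mem _

theorem Pdeg_le_ker (r : ℕ) : Pdeg p K r ≤ LinearMap.ker (diff p K ^ r) := by
  induction r with
  | zero => rw [Pdeg_zero]; exact bot_le
  | succ r ih =>
    intro f hf
    rw [LinearMap.mem_ker, pow_succ, Module.End.mul_apply]
    exact LinearMap.mem_ker.mp (ih (diff_mem_Pdeg hf))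

theorem finrank_Pdeg {r : ℕ} (hr : r ≤ p) : finrank K (Pdeg p K r) = r := by
  have hinj : Function.Injective ((ev p K).domRestrict (Polynomial.degreeLT K r)) := by
    rw [← LinearMap.ker_eq_bot, LinearMap.ker_eq_bot']
    intro x hx
    have hdeg : (x : K[X]).degree < p :=
      lt_of_lt_of_le (Polynomial.mem_degreeLT.mp x.2) (by exact_mod_cast hr)
    exact Subtype.ext (ev_eq_zero hdeg hx)
  have h1 := LinearMap.finrank_range_of_inj hinj
  rw [LinearMap.range_domRestrict] at h1
  have h2 : finrank K (Polynomial.degreeLT K r) = r := by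
    rw [(Polynomial.degreeLTEquiv K r).finrank_eq, Module.finrank_fin_fun]
  exact h1.trans h2

theorem finrank_fun : finrank K (ZMod p → K) = p := by
  rw [Module.finrank_fintype_fun_eq_card, ZMod.card]

theorem Pdeg_top : Pdeg p K p = ⊤ := by
  apply Submodule.eq_top_of_finrank_eq
  rw [finrank_Pdeg le_rfl, finrank_fun]

theorem diff_pow_p : diff p K ^ p = 0 := by
  rw [← LinearMap.ker_eq_top, eq_top_iff, ← Pdeg_top]
  exact Pdeg_le_ker p

theorem ker_diff_le : LinearMap.ker (diff p K) ≤ Pdeg p K 1 := by
  intro f hf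
  have h1 : ∀ j : ZMod p, f (j - 1) = f j := by
    intro j
    have := congrFun (LinearMap.mem_ker.mp hf) j
    rw [diff_apply] at this
    exact sub_eq_zero.mp this
  have h2 : ∀ n : ℕ, f (n : ZMod p) = f 0 := by
    intro n
    induction n with
    | zero => simp
    | succ n ih =>
      rw [← ih, ← h1 ((n + 1 : ℕ) : ZMod p)]
      congr 1
      push_cast
      ring
  refine mem_Pdeg.mpr ⟨C (f 0), ?_, ?_⟩
  · exact lt_of_le_of_lt degree_C_le (by exact_mod_cast zero_lt_one)
  · ext j
    rw [ev_apply, eval_C, ← h2 j.val, ZMod.natCast_zmod_val]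

theorem finrank_ker_diff_le : finrank K (LinearMap.ker (diff p K)) ≤ 1 := by
  have h := Submodule.finrank_mono (ker_diff_le (p := p) (K := K))
  rwa [finrank_Pdeg (Fact.out : p.Prime).one_lt.le] at h

theorem finrank_ker_pow_le (r : ℕ) : finrank K (LinearMap.ker (diff p K ^ r)) ≤ r := by
  induction r with
  | zero =>
    rw [pow_zero]
    have : LinearMap.ker (1 : Module.End K (ZMod p → K)) = ⊥ := by
      rw [LinearMap.ker_eq_bot]; exact fun x y h => h
    rw [this, finrank_bot]
  | succ r ih =>
    set U := LinearMap.ker (diff p K ^ (r + 1)) with hU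
    let g : U →ₗ[K] (ZMod p → K) := (diff p K).domRestrict U
    have hrk := LinearMap.finrank_range_add_finrank_ker g
    have h1 : LinearMap.range g ≤ LinearMap.ker (diff p K ^ r) := by
      rintro _ ⟨x, rfl⟩
      rw [LinearMap.mem_ker]
      have := LinearMap.mem_ker.mp x.2
      rwa [pow_succ, Module.End.mul_apply] at this
    have h2 : finrank K (LinearMap.ker g) ≤ 1 := by
      let φ : LinearMap.ker g →ₗ[K] LinearMap.ker (diff p K) :=
        { toFun := fun x => ⟨x.1.1, LinearMap.mem_ker.mpr (LinearMap.mem_ker.mp x.2)⟩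
          map_add' := fun x y => rfl
          map_smul' := fun c x => rfl }
      have hφ : Function.Injective φ := by
        intro x y hxy
        apply Subtype.ext
        apply Subtype.ext
        exact congrArg (fun z : LinearMap.ker (diff p K) => (z : ZMod p → K)) hxy
      exact (LinearMap.finrank_le_finrank_of_injective hφ).trans finrank_ker_diff_le
    have h3 := Submodule.finrank_mono h1
    omega

theorem ker_pow_eq {r : ℕ} (hr : r ≤ p) : LinearMap.ker (diff p K ^ r) = Pdeg p K r := by
  symm
  apply Submodule.eq_of_le_of_finrank_le (Pdeg_le_ker r)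
  rw [finrank_Pdeg hr]
  exact finrank_ker_pow_le r

/-- **Translation-invariant subspaces** are spaces of polynomial functions. -/
theorem invariant_eq_Pdeg (W : Submodule K (ZMod p → K))
    (hW : ∀ f ∈ W, (fun j => f (j - 1)) ∈ W) :
    finrank K W ≤ p ∧ W = Pdeg p K (finrank K W) := by
  have hle : finrank K W ≤ p := by
    have := Submodule.finrank_le W
    rwa [finrank_fun] at this
  refine ⟨hle, ?_⟩
  have hN : ∀ f ∈ W, diff p K f ∈ W := by
    intro f hf
    have : diff p K f = (fun j => f (j - 1)) - f := rfl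
    rw [this]
    exact W.sub_mem (hW f hf) hf
  have hpowapp : ∀ (n : ℕ) (x : W),
      (((diff p K).restrict hN ^ n) x : ZMod p → K) = (diff p K ^ n) x := by
    intro n x
    rw [Module.End.pow_restrict]
    rfl
  have hpow : (diff p K).restrict hN ^ p = 0 := by
    ext x : 1
    apply Subtype.ext
    rw [hpowapp, diff_pow_p]
    rfl
  have hker : LinearMap.ker ((diff p K).restrict hN ^ finrank K W) = ⊤ := by
    rw [← Module.End.ker_pow_eq_ker_pow_finrank_of_le hle, hpow, LinearMap.ker_zero]
  have hWle : W ≤ LinearMap.ker (diff p K ^ finrank K W) := by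
    intro f hf
    have h1 : (⟨f, hf⟩ : W) ∈ LinearMap.ker ((diff p K).restrict hN ^ finrank K W) := by
      rw [hker]; exact Submodule.mem_top
    rw [LinearMap.mem_ker] at h1
    rw [LinearMap.mem_ker, ← hpowapp _ ⟨f, hf⟩, h1]
    rfl
  rw [ker_pow_eq hle] at hWle
  apply Submodule.eq_of_le_of_finrank_le hWle
  rw [finrank_Pdeg hle]

end Cfsg.Agent.Lib.Helper19.PrimeDegree
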