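import Mathlib
import Cfsg.Prelude.Def_Perm
import Cfsg.Agent.Lib.Helper19.PrimeDegree

/-!
# Permutations of `ZMod p` preserving a circulant relation are affine

Part B of the prime-degree development: a permutation of `ZMod p` that preserves a circulant
graph `y - x ∈ A` (with `A` a non-empty proper subset of the non-zero residues) is affine.
This is the core of Burnside's theorem on transitive groups of prime degree.
-/

set_option autoImplicit false

namespace Cfsg.Agent.Lib.Helper19.PrimeDegree

open Polynomial Module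

variable {p : ℕ} [Fact p.Prime] {K : Type*} [Field K] [CharP K p]

/-- composition with a self-map of `ZMod p` -/
noncomputable def compR (K : Type*) [Field K] (π : ZMod p → ZMod p) :
    (ZMod p → K) →ₗ[K] (ZMod p → K) :=
  LinearMap.funLeft K K π

omit [Fact p.Prime] [CharP K p] in
theorem compR_apply (π : ZMod p → ZMod p) (f : ZMod p → K) (x : ZMod p) :
    compR K π f x = f (π x) := rfl

theorem ev_X_mem {m : ℕ} (hm : 2 ≤ m) : ev p K X ∈ Pdeg p K m := by
  refine mem_Pdeg.mpr ⟨X, ?_, rfl⟩
  rw [degree_X]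
  exact_mod_cast hm

theorem ev_pow (Q : K[X]) (j : ℕ) (x : ZMod p) : ev p K (Q ^ j) x = (ev p K Q x) ^ j := by
  rw [ev_apply, ev_apply, eval_pow]

/-- **Step 5.** A permutation preserving the polynomial functions of degree `≤ d`,
with `1 ≤ d` and `2 d ≤ p - 1`, is affine. -/
theorem affine_of_Pdeg_invariant {d : ℕ} (hd1 : 1 ≤ d) (hd2 : 2 * d + 1 ≤ p)
    (π : Equiv.Perm (ZMod p))
    (hπ : ∀ f ∈ Pdeg p K (d + 1), compR K π f ∈ Pdeg p K (d + 1)) :
    π ∈ Cfsg.affineGroup (ZMod p) := by
  -- the polynomial of `π`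
  obtain ⟨Q, hQdeg, hQ⟩ := mem_Pdeg.mp (hπ _ (ev_X_mem (K := K) (by omega : 2 ≤ d + 1)))
  have hQx : ∀ x : ZMod p, Q.eval (ZMod.cast x : K) = (ZMod.cast (π x) : K) := by
    intro x
    have := congrFun hQ x
    rw [ev_apply, compR_apply, ev_apply, eval_X] at this
    exact this
  have hQ0 : Q ≠ 0 := by
    rintro rfl
    have h0 := hQx 0
    have h1 := hQx 1
    rw [eval_zero] at h0 h1
    have : π 0 = π 1 := cast_injective (K := K) (h0.symm.trans h1)
    exact zero_ne_one (π.injective this)
  set e := Q.natDegree with he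
  have he_le : e ≤ d := by
    have := (natDegree_lt_iff_degree_lt hQ0).mpr hQdeg
    omega
  -- powers
  have hpow : ∀ j : ℕ, j ≤ d → j * e < p → j * e ≤ d := by
    intro j hj hlt
    have hmem : ev p K (X ^ j) ∈ Pdeg p K (d + 1) := by
      refine mem_Pdeg.mpr ⟨X ^ j, ?_, rfl⟩
      rw [degree_X_pow]
      exact_mod_cast (by omega : j < d + 1)
    obtain ⟨Qj, hQjdeg, hQj⟩ := mem_Pdeg.mp (hπ _ hmem)
    have heq : ev p K (Qj - Q ^ j) = 0 := by
      rw [map_sub, hQj]
      ext x
      rw [Pi.sub_apply, compR_apply, ev_pow, ev_pow, ev_apply, ev_apply, eval_X, hQx, sub_self]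
      rfl
    have hdegQj : (Q ^ j).degree < p := by
      rw [degree_eq_natDegree (pow_ne_zero j hQ0), Polynomial.natDegree_pow]
      exact_mod_cast hlt
    have hdp : ((d + 1 : ℕ) : WithBot ℕ) ≤ p := by exact_mod_cast (by omega : d + 1 ≤ p)
    have hz : Qj - Q ^ j = 0 := by
      apply ev_eq_zero _ heq
      exact lt_of_le_of_lt (degree_sub_le _ _) (max_lt (lt_of_lt_of_le hQjdeg hdp) hdegQj)
    have hQj' : Q ^ j = Qj := (sub_eq_zero.mp hz).symm
    have h1 : (Q ^ j).natDegree < d + 1 := by
      rw [hQj']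
      by_cases h0 : Qj = 0
      · rw [h0, natDegree_zero]; omega
      · exact (natDegree_lt_iff_degree_lt h0).mpr hQjdeg
    rw [Polynomial.natDegree_pow, ← he] at h1
    omega
  have hind : ∀ j : ℕ, 1 ≤ j → j ≤ d → j * e ≤ d := by
    intro j hj1
    induction j, hj1 using Nat.le_induction with
    | base => intro _; simpa using he_le
    | succ j hj1 ih =>
      intro hjd
      have h1 := ih (by omega)
      apply hpow (j + 1) hjd
      have : (j + 1) * e = j * e + e := by ring
      omega
  have hde := hind d hd1 le_rfl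
  have he1 : e ≤ 1 := by
    by_contra h
    have : d * 2 ≤ d * e := Nat.mul_le_mul_left d (by omega)
    omega
  -- `Q` is linear
  have hlin := eq_X_add_C_of_natDegree_le_one he1
  set α := Q.coeff 1 with hα
  set β := Q.coeff 0 with hβ
  have hval : ∀ x : ZMod p, (ZMod.cast (π x) : K) = α * ZMod.cast x + β := by
    intro x
    rw [← hQx x, hlin]
    simp
  have hβ' : β = (ZMod.cast (π 0) : K) := by
    have := hval 0
    rw [ZMod.cast_zero, mul_zero, zero_add] at this
    exact this.symm
  have hα' : α = (ZMod.cast (π 1 - π 0) : K) := by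
    have h1 := hval 1
    have hc1 : (ZMod.cast (1 : ZMod p) : K) = 1 := map_one (ZMod.castHom (dvd_refl p) K)
    rw [hc1, mul_one] at h1
    have hsub : (ZMod.cast (π 1 - π 0) : K) = ZMod.cast (π 1) - ZMod.cast (π 0) :=
      map_sub (ZMod.castHom (dvd_refl p) K) _ _
    rw [hsub, h1, hβ']
    ring
  have hne : π 1 - π 0 ≠ 0 := by
    intro h
    exact one_ne_zero (π.injective (sub_eq_zero.mp h))
  refine ⟨Units.mk0 (π 1 - π 0) hne, π 0, fun x => ?_⟩
  apply cast_injective (K := K)
  rw [hval x, hα', hβ']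
  have hmul : (ZMod.cast ((π 1 - π 0) * x + π 0) : K)
      = ZMod.cast (π 1 - π 0) * ZMod.cast x + ZMod.cast (π 0) := by
    have := map_add (ZMod.castHom (dvd_refl p) K) ((π 1 - π 0) * x) (π 0)
    rw [map_mul] at this
    exact this
  rw [Units.val_mk0, hmul]


/-! ### The adjacency operator of a circulant relation -/

section Psi

/-- the operator `ψ f x = ∑ a ∈ A, (f (x + a) - f x)` -/
noncomputable def psi (K : Type*) [Field K] (A : Finset (ZMod p)) : Module.End K (ZMod p → K) :=
  ∑ a ∈ A, (LinearMap.funLeft K K (fun x : ZMod p => x + a) - 1)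

theorem psi_apply (A : Finset (ZMod p)) (f : ZMod p → K) (x : ZMod p) :
    psi K A f x = ∑ a ∈ A, (f (x + a) - f x) := by
  simp only [psi, LinearMap.sum_apply, Finset.sum_apply]
  rfl

theorem psi_shift (A : Finset (ZMod p)) (f : ZMod p → K) :
    psi K A (shift p K f) = shift p K (psi K A f) := by
  ext x
  rw [psi_apply]
  show _ = psi K A f (x - 1)
  rw [psi_apply]
  apply Finset.sum_congr rfl
  intro a _
  rw [shift_apply, shift_apply]
  congr 2
  ring

theorem psi_compR (A : Finset (ZMod p)) (π : Equiv.Perm (ZMod p))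
    (hπ : ∀ x y, y - x ∈ A → π y - π x ∈ A) (f : ZMod p → K) :
    psi K A (compR K π f) = compR K π (psi K A f) := by
  classical
  ext x
  rw [psi_apply]
  show _ = psi K A f (π x)
  rw [psi_apply]
  set φ : ZMod p → ZMod p := fun a => π (x + a) - π x with hφ
  have hinj : Function.Injective φ := by
    intro a a' h
    have : π (x + a) = π (x + a') := sub_left_injective h
    exact add_right_injective x (π.injective this)
  have himg : A.image φ = A := by
    apply Finset.eq_of_subset_of_card_le
    · intro c hc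
      obtain ⟨a, ha, rfl⟩ := Finset.mem_image.mp hc
      exact hπ x (x + a) (by rwa [add_sub_cancel_left])
    · rw [Finset.card_image_of_injective _ hinj]
  conv_rhs => rw [← himg]
  rw [Finset.sum_image (fun a _ b _ h => hinj h)]
  apply Finset.sum_congr rfl
  intro a _
  rw [compR_apply, compR_apply, hφ]
  congr 2
  ring

theorem psi_const (A : Finset (ZMod p)) (c : K) : psi K A (fun _ => c) = 0 := by
  ext x
  rw [psi_apply]
  simp

end Psi

/-! ### Invariance of kernels and ranges -/

theorem finrank_ker_mul_le (f g : Module.End K (ZMod p → K)) :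
    finrank K (LinearMap.ker (f * g)) ≤ finrank K (LinearMap.ker f) + finrank K (LinearMap.ker g) := by
  set U := LinearMap.ker (f * g) with hU
  let h : U →ₗ[K] (ZMod p → K) := g.domRestrict U
  have hrk := LinearMap.finrank_range_add_finrank_ker h
  have h1 : LinearMap.range h ≤ LinearMap.ker f := by
    rintro _ ⟨x, rfl⟩
    rw [LinearMap.mem_ker]
    exact LinearMap.mem_ker.mp x.2
  have h2 : finrank K (LinearMap.ker h) ≤ finrank K (LinearMap.ker g) := by
    let φ : LinearMap.ker h →ₗ[K] LinearMap.ker g :=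
      { toFun := fun x => ⟨x.1.1, LinearMap.mem_ker.mpr (LinearMap.mem_ker.mp x.2)⟩
        map_add' := fun x y => rfl
        map_smul' := fun c x => rfl }
    have hφ : Function.Injective φ := by
      intro x y hxy
      apply Subtype.ext
      apply Subtype.ext
      exact congrArg (fun z : LinearMap.ker g => (z : ZMod p → K)) hxy
    exact LinearMap.finrank_le_finrank_of_injective hφ
  have h3 := Submodule.finrank_mono h1
  omega

theorem Pdeg_mono {r s : ℕ} (h : r ≤ s) : Pdeg p K r ≤ Pdeg p K s := by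
  intro f hf
  obtain ⟨P, hP, rfl⟩ := mem_Pdeg.mp hf
  exact mem_Pdeg.mpr ⟨P, lt_of_lt_of_le hP (by exact_mod_cast h), rfl⟩

theorem const_mem_Pdeg_one (c : K) : (fun _ : ZMod p => c) ∈ Pdeg p K 1 := by
  refine mem_Pdeg.mpr ⟨C c, ?_, ?_⟩
  · exact lt_of_le_of_lt degree_C_le (by exact_mod_cast zero_lt_one)
  · ext j
    rw [ev_apply, eval_C]

theorem eq_const_of_mem_Pdeg_one {f : ZMod p → K} (hf : f ∈ Pdeg p K 1) :
    ∃ c : K, ∀ x, f x = c := by
  obtain ⟨P, hP, rfl⟩ := mem_Pdeg.mp hf
  have hP' : P.degree ≤ 0 := by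
    by_cases h0 : P = 0
    · rw [h0, degree_zero]; exact bot_le
    · have := (natDegree_lt_iff_degree_lt h0).mpr hP
      exact natDegree_le_iff_degree_le.mp (by omega)
  refine ⟨P.coeff 0, fun x => ?_⟩
  rw [ev_apply, eq_C_of_degree_le_zero hP', eval_C, coeff_C_zero]

/-- **Theorem B.** A permutation of `ZMod p` preserving the circulant relation `y - x ∈ A`,
for a non-empty proper subset `A` of the non-zero residues, is affine. -/
theorem affine_of_preserves (A : Finset (ZMod p)) (h0 : (0 : ZMod p) ∉ A) (hne : A.Nonempty)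
    (hb : ∃ b : ZMod p, b ≠ 0 ∧ b ∉ A) (π : Equiv.Perm (ZMod p))
    (hπ : ∀ x y, y - x ∈ A → π y - π x ∈ A) : π ∈ Cfsg.affineGroup (ZMod p) := by
  classical
  obtain ⟨a₁, ha₁⟩ := hne
  obtain ⟨b, hb0, hbA⟩ := hb
  have ha₁0 : a₁ ≠ 0 := fun h => h0 (h ▸ ha₁)
  set ψ := psi (ZMod p) A with hψ
  -- invariance helper
  have hinv : ∀ θ : Module.End (ZMod p) (ZMod p → ZMod p),
      (∀ f, θ (shift p (ZMod p) f) = shift p (ZMod p) (θ f)) →
      (∀ f, θ (compR (ZMod p) π f) = compR (ZMod p) π (θ f)) →
      (LinearMap.ker θ = Pdeg p (ZMod p) (finrank (ZMod p) (LinearMap.ker θ)) ∧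
        LinearMap.range θ = Pdeg p (ZMod p) (finrank (ZMod p) (LinearMap.range θ)) ∧
        (∀ f ∈ LinearMap.ker θ, compR (ZMod p) π f ∈ LinearMap.ker θ) ∧
        (∀ f ∈ LinearMap.range θ, compR (ZMod p) π f ∈ LinearMap.range θ)) := by
    intro θ hs hc
    refine ⟨?_, ?_, ?_, ?_⟩
    · refine (invariant_eq_Pdeg (LinearMap.ker θ) ?_).2
      intro f hf
      show shift p (ZMod p) f ∈ LinearMap.ker θ
      rw [LinearMap.mem_ker, hs, LinearMap.mem_ker.mp hf, map_zero]
    · refine (invariant_eq_Pdeg (LinearMap.range θ) ?_).2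
      rintro _ ⟨g, rfl⟩
      show shift p (ZMod p) (θ g) ∈ LinearMap.range θ
      exact ⟨shift p (ZMod p) g, hs g⟩
    · intro f hf
      rw [LinearMap.mem_ker, hc, LinearMap.mem_ker.mp hf, map_zero]
    · rintro _ ⟨g, rfl⟩
      exact ⟨compR (ZMod p) π g, hc g⟩
  obtain ⟨hker, hrange, hkinv, hrinv⟩ := hinv ψ (psi_shift A) (psi_compR A π hπ)
  set r₁ := finrank (ZMod p) (LinearMap.ker ψ) with hr₁
  set s := finrank (ZMod p) (LinearMap.range ψ) with hs
  have hsum : s + r₁ = p := by
    have := LinearMap.finrank_range_add_finrank_ker ψ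
    rwa [finrank_fun] at this
  -- the kernel contains the constants
  have hone : (fun _ : ZMod p => (1 : ZMod p)) ∈ LinearMap.ker ψ :=
    LinearMap.mem_ker.mpr (psi_const A 1)
  have hr₁1 : 1 ≤ r₁ := by
    by_contra h
    have h0' : r₁ = 0 := by omega
    rw [hker, h0', Pdeg_zero, Submodule.mem_bot] at hone
    have := congrFun hone 0
    exact one_ne_zero this
  -- the range contains a non-constant function
  have hs2 : 2 ≤ s := by
    by_contra h
    have hle : LinearMap.range ψ ≤ Pdeg p (ZMod p) 1 := by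
      rw [hrange]; exact Pdeg_mono (by omega)
    have hmem : ψ (Pi.single 0 1) ∈ Pdeg p (ZMod p) 1 := hle ⟨_, rfl⟩
    obtain ⟨c, hc⟩ := eq_const_of_mem_Pdeg_one hmem
    have e1 : ψ (Pi.single 0 1) (-a₁) = 1 := by
      rw [hψ, psi_apply]
      have : ∀ a ∈ A, ((Pi.single 0 1 : ZMod p → ZMod p) (-a₁ + a) - (Pi.single 0 1 : ZMod p → ZMod p) (-a₁))
          = if a = a₁ then 1 else 0 := by
        intro a _
        rw [Pi.single_apply, Pi.single_apply, if_neg (neg_ne_zero.mpr ha₁0), sub_zero]
        congr 1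
        rw [eq_iff_iff, neg_add_eq_zero, eq_comm]
      rw [Finset.sum_congr rfl this, Finset.sum_ite_eq' A a₁, if_pos ha₁]
    have e2 : ψ (Pi.single 0 1) (-b) = 0 := by
      rw [hψ, psi_apply]
      apply Finset.sum_eq_zero
      intro a ha
      rw [Pi.single_apply, Pi.single_apply, if_neg (neg_ne_zero.mpr hb0), sub_zero, if_neg]
      rw [neg_add_eq_zero]
      rintro rfl
      exact hbA ha
    rw [hc] at e1 e2
    exact one_ne_zero (e1.symm.trans e2)
  -- choose the invariant space
  have hex : ∃ m : ℕ, 2 ≤ m ∧ 2 * m ≤ p + 1 ∧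
      ∀ f ∈ Pdeg p (ZMod p) m, compR (ZMod p) π f ∈ Pdeg p (ZMod p) m := by
    by_cases hr2 : 2 ≤ r₁
    · rcases le_total r₁ s with hle | hle
      · refine ⟨r₁, hr2, by omega, ?_⟩
        rw [← hker]; exact hkinv
      · refine ⟨s, hs2, by omega, ?_⟩
        rw [← hrange]; exact hrinv
    · have hr1 : r₁ = 1 := by omega
      obtain ⟨hker2, -, hkinv2, -⟩ := hinv (ψ * ψ)
        (fun f => by rw [Module.End.mul_apply, Module.End.mul_apply, hψ, psi_shift, psi_shift])
        (fun f => by
          rw [Module.End.mul_apply, Module.End.mul_apply, hψ, psi_compR A π hπ, psi_compR A π hπ])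
      set r₂ := finrank (ZMod p) (LinearMap.ker (ψ * ψ)) with hr₂
      have hle2 : r₂ ≤ 2 := by
        have := finrank_ker_mul_le ψ ψ
        omega
      have hlt : LinearMap.ker ψ < LinearMap.ker (ψ * ψ) := by
        refine lt_of_le_of_ne ?_ ?_
        · intro f hf
          rw [LinearMap.mem_ker, Module.End.mul_apply, LinearMap.mem_ker.mp hf, map_zero]
        · intro heq
          have h1 : (fun _ : ZMod p => (1 : ZMod p)) ∈ LinearMap.range ψ := by
            rw [hrange]
            exact Pdeg_mono (by omega) (const_mem_Pdeg_one 1)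
          obtain ⟨g, hg⟩ := h1
          have hg2 : g ∈ LinearMap.ker (ψ * ψ) := by
            rw [LinearMap.mem_ker, Module.End.mul_apply, hg]
            exact psi_const A 1
          rw [← heq, LinearMap.mem_ker, hg] at hg2
          exact one_ne_zero (congrFun hg2 0)
      have hgt : r₁ < r₂ := Submodule.finrank_lt_finrank_of_lt hlt
      have hr22 : r₂ = 2 := by omega
      refine ⟨2, le_rfl, by omega, ?_⟩
      rw [← hr22, ← hker2]
      exact hkinv2
  obtain ⟨m, hm2, hmp, hminv⟩ := hex
  obtain ⟨d, rfl⟩ : ∃ d, m = d + 1 := ⟨m - 1, by omega⟩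
  exact affine_of_Pdeg_invariant (K := ZMod p) (by omega) (by omega) π hminv

end Cfsg.Agent.Lib.Helper19.PrimeDegree
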