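import Mathlib
import Cfsg.Prelude.Def_Perm
import Cfsg.Agent.Lib.Helper19.PrimeDegree2

/-!
# Invariant subspaces of the permutation module in prime degree

Part C: a group of permutations of `ZMod p` containing the translation `x ↦ x + 1` and
preserving a subspace of `ZMod p → K` of dimension `r` with `2 ≤ r ≤ p - 2` is contained in the
affine group.
-/

set_option autoImplicit false

namespace Cfsg.Agent.Lib.Helper19.PrimeDegree

open Polynomial Module

variable {p : ℕ} [Fact p.Prime] {K : Type*} [Field K] [CharP K p]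

/-- the dot product on functions -/
noncomputable def dotB (p : ℕ) [Fact p.Prime] (K : Type*) [Field K] :
    LinearMap.BilinForm K (ZMod p → K) :=
  LinearMap.mk₂ K (fun f g => ∑ x, f x * g x)
    (fun f₁ f₂ g => by simp only [Pi.add_apply, add_mul, Finset.sum_add_distrib])
    (fun c f g => by simp only [Pi.smul_apply, smul_eq_mul, mul_assoc, Finset.mul_sum])
    (fun f g₁ g₂ => by simp only [Pi.add_apply, mul_add, Finset.sum_add_distrib])
    (fun c f g => by
      simp only [Pi.smul_apply, smul_eq_mul, Finset.mul_sum]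
      apply Finset.sum_congr rfl
      intro x _
      ring)

omit [CharP K p] in
theorem dotB_apply (f g : ZMod p → K) : dotB p K f g = ∑ x, f x * g x := rfl

omit [CharP K p] in
theorem dotB_ker : LinearMap.ker (dotB p K) = ⊥ := by
  classical
  rw [LinearMap.ker_eq_bot']
  intro f hf
  ext x
  have := congrArg (fun φ : (ZMod p → K) →ₗ[K] K => φ (Pi.single x 1)) hf
  simp only [LinearMap.zero_apply] at this
  rw [dotB_apply] at this
  simpa [Pi.single_apply] using this

omit [CharP K p] in
theorem dotB_compR (π : Equiv.Perm (ZMod p)) (f g : ZMod p → K) :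
    dotB p K g (compR K π f) = dotB p K (compR K (π⁻¹ : Equiv.Perm (ZMod p)) g) f := by
  rw [dotB_apply, dotB_apply]
  rw [← Equiv.sum_comp π (fun y => compR K (π⁻¹ : Equiv.Perm (ZMod p)) g y * f y)]
  apply Finset.sum_congr rfl
  intro x _
  rw [compR_apply, compR_apply, Equiv.Perm.coe_inv, Equiv.symm_apply_apply]

theorem finrank_orthogonal_dotB (U : Submodule K (ZMod p → K)) :
    finrank K U + finrank K ((dotB p K).orthogonal U) = p := by
  have h := LinearMap.BilinForm.finrank_add_finrank_orthogonal' (B := dotB p K) U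
  rw [dotB_ker, inf_bot_eq, finrank_bot, add_zero, finrank_fun] at h
  exact h

/-- Invariance under a group containing the unit translation gives shift-invariance. -/
theorem shift_mem_of_invariant (G : Subgroup (Equiv.Perm (ZMod p)))
    (ht : Equiv.addRight (1 : ZMod p) ∈ G) (U : Submodule K (ZMod p → K))
    (hU : ∀ π ∈ G, ∀ f ∈ U, compR K π f ∈ U) :
    ∀ f ∈ U, (fun j => f (j - 1)) ∈ U := by
  intro f hf
  have h1 := hU _ (G.inv_mem ht) f hf
  have h2 : compR K ((Equiv.addRight (1 : ZMod p))⁻¹ : Equiv.Perm (ZMod p)) f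
      = fun j => f (j - 1) := by
    ext j
    rw [compR_apply]
    congr 1
    apply (Equiv.addRight (1 : ZMod p)).injective
    rw [Equiv.Perm.coe_inv, Equiv.apply_symm_apply]
    simp
  rwa [h2] at h1

/-- the small-dimensional case -/
theorem affine_of_invariant_small (G : Subgroup (Equiv.Perm (ZMod p)))
    (ht : Equiv.addRight (1 : ZMod p) ∈ G) (U : Submodule K (ZMod p → K))
    (hU : ∀ π ∈ G, ∀ f ∈ U, compR K π f ∈ U)
    (h2 : 2 ≤ finrank K U) (hp2 : 2 * finrank K U ≤ p + 1) :
    G ≤ Cfsg.affineGroup (ZMod p) := by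
  obtain ⟨-, hUeq⟩ := invariant_eq_Pdeg U (shift_mem_of_invariant G ht U hU)
  obtain ⟨d, hd⟩ : ∃ d, finrank K U = d + 1 := ⟨finrank K U - 1, by omega⟩
  intro π hπ
  refine affine_of_Pdeg_invariant (K := K) (d := d) (by omega) (by omega) π ?_
  rw [← hd, ← hUeq]
  exact hU π hπ

/-- **Theorem C.** A group of permutations of `ZMod p` containing `x ↦ x + 1` and preserving a
subspace of dimension `r`, `2 ≤ r ≤ p - 2`, of the function space is contained in the affine
group. -/
theorem affine_of_invariant (G : Subgroup (Equiv.Perm (ZMod p)))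
    (ht : Equiv.addRight (1 : ZMod p) ∈ G) (U : Submodule K (ZMod p → K))
    (hU : ∀ π ∈ G, ∀ f ∈ U, compR K π f ∈ U)
    (h2 : 2 ≤ finrank K U) (hp2 : finrank K U + 2 ≤ p) :
    G ≤ Cfsg.affineGroup (ZMod p) := by
  by_cases hsmall : 2 * finrank K U ≤ p + 1
  · exact affine_of_invariant_small G ht U hU h2 hsmall
  · have hdim := finrank_orthogonal_dotB U
    apply affine_of_invariant_small (K := K) G ht ((dotB p K).orthogonal U)
    · intro π hπ f hf
      rw [LinearMap.BilinForm.mem_orthogonal_iff] at hf ⊢
      intro g hg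
      rw [dotB_compR]
      exact hf _ (hU _ (G.inv_mem hπ) g hg)
    · omega
    · omega

end Cfsg.Agent.Lib.Helper19.PrimeDegree
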