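import Mathlib
import Cfsg.Agent.Lib.Helper20.SylowCount

set_option autoImplicit false

/-!
Groups with exactly 22 Sylow 3-subgroups acting faithfully on them: the Sylow 3-subgroups
have order 3.  The argument is combinatorial: call two Sylow subgroups adjacent when they meet
in a subgroup of index 3; three pairwise adjacent Sylow subgroups have a common pairwise
intersection ("triangle lemma"), and a count of the Sylow subgroups through such an intersection
finishes the proof.
-/

namespace Cfsg.Agent.Lib.Helper19.Syl22A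

open Subgroup MulAction Cfsg.Agent.Lib.Helper20.SylowCount
open scoped Pointwise

universe u

variable {G : Type u} [Group G] [Finite G]

theorem mem_smul_iff (g : G) (Q : Sylow 3 G) (x : G) :
    x ∈ ((g • Q : Sylow 3 G) : Subgroup G) ↔ g⁻¹ * x * g ∈ (Q : Subgroup G) := by
  rw [Sylow.coe_subgroup_smul, Subgroup.mem_pointwise_smul_iff_inv_smul_mem]
  simp [MulAut.smul_def]

theorem card_sylow_eq (P Q : Sylow 3 G) :
    Nat.card (P : Subgroup G) = Nat.card (Q : Subgroup G) := by
  rw [Sylow.card_eq_multiplicity P, Sylow.card_eq_multiplicity Q]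

theorem eq_or_eq_of_card_mul_three {A B C : Subgroup G} (hAB : A ≤ B) (hBC : B ≤ C)
    (h : Nat.card A * 3 = Nat.card C) : B = A ∨ B = C := by
  have h1 : Nat.card A ∣ Nat.card B := Subgroup.card_dvd_of_le hAB
  have h2 : Nat.card B ∣ Nat.card C := Subgroup.card_dvd_of_le hBC
  obtain ⟨m, hm⟩ := h1
  have hApos : 0 < Nat.card A := Nat.card_pos
  rw [hm, ← h] at h2
  have h3 : m ∣ 3 := (Nat.mul_dvd_mul_iff_left hApos).mp h2
  rcases (Nat.dvd_prime Nat.prime_three).mp h3 with rfl | rfl
  · left
    exact (Subgroup.eq_of_le_of_card_ge hAB (by omega)).symm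
  · right
    exact Subgroup.eq_of_le_of_card_ge hBC (by omega)

theorem conj_mem_of_card_mul_three (P : Sylow 3 G) (D : Subgroup G)
    (hD : D ≤ (P : Subgroup G)) (h : Nat.card D * 3 = Nat.card (P : Subgroup G))
    (x : G) (hx : x ∈ (P : Subgroup G)) (d : G) (hd : d ∈ D) : x * d * x⁻¹ ∈ D := by
  have hrel : D.relIndex (P : Subgroup G) = 3 := by
    have h1 := Cfsg.Agent.Lib.Helper18.card_eq_card_inf_mul_relIndex (P : Subgroup G) D
    rw [inf_of_le_right hD, ← h] at h1
    have hpos : 0 < Nat.card D := Nat.card_pos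
    exact (Nat.eq_of_mul_eq_mul_left hpos h1).symm
  have hmin : (Nat.card (P : Subgroup G)).minFac = 3 := by
    obtain ⟨k, hk⟩ := P.2.exists_card_eq
    have hk0 : k ≠ 0 := by
      rintro rfl
      rw [pow_zero] at hk
      rw [hk] at h
      omega
    rw [hk, Nat.pow_minFac hk0, Nat.Prime.minFac_eq Nat.prime_three]
  have hn : (D.subgroupOf (P : Subgroup G)).Normal :=
    Subgroup.normal_of_index_eq_minFac_card (by rw [hmin]; exact hrel)
  have := hn.conj_mem ⟨d, hD hd⟩ (Subgroup.mem_subgroupOf.mpr hd) ⟨x, hx⟩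
  exact Subgroup.mem_subgroupOf.mp this

/-- two Sylow 3-subgroups meeting in a subgroup of index 3 -/
def adj (P Q : Sylow 3 G) : Prop :=
  P ≠ Q ∧ Nat.card ↥((P : Subgroup G) ⊓ (Q : Subgroup G)) * 3 = Nat.card (P : Subgroup G)

theorem adj.symm {P Q : Sylow 3 G} (h : adj P Q) : adj Q P := by
  refine ⟨h.1.symm, ?_⟩
  rw [inf_comm, h.2]
  exact card_sylow_eq P Q

theorem card_conj_smul (g : G) (H : Subgroup G) :
    Nat.card ↥(MulAut.conj g • H) = Nat.card H :=
  Nat.card_congr (Subgroup.equivSMul (MulAut.conj g) H).symm.toEquiv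

theorem coe_smul_inf (g : G) (P Q : Sylow 3 G) :
    ((g • P : Sylow 3 G) : Subgroup G) ⊓ ((g • Q : Sylow 3 G) : Subgroup G)
      = MulAut.conj g • ((P : Subgroup G) ⊓ (Q : Subgroup G)) := by
  rw [Sylow.coe_subgroup_smul, Sylow.coe_subgroup_smul, Subgroup.smul_inf]

theorem adj_smul (g : G) {P Q : Sylow 3 G} (h : adj P Q) : adj (g • P) (g • Q) := by
  refine ⟨fun he => h.1 (smul_left_cancel g he), ?_⟩
  rw [coe_smul_inf, card_conj_smul, h.2, Sylow.coe_subgroup_smul, card_conj_smul]

/-- three pairwise adjacent Sylow subgroups have a common pairwise intersection -/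
theorem triangle {P Q R : Sylow 3 G} (hPQ : adj P Q) (hQR : adj Q R) (hPR : adj P R) :
    (P : Subgroup G) ⊓ Q = (Q : Subgroup G) ⊓ R := by
  by_contra hne
  have cPQ := card_sylow_eq P Q
  have cQR := card_sylow_eq Q R
  have c1 : Nat.card ↥((P : Subgroup G) ⊓ Q) * 3 = Nat.card (P : Subgroup G) := hPQ.2
  have c2 : Nat.card ↥((Q : Subgroup G) ⊓ R) * 3 = Nat.card (Q : Subgroup G) := hQR.2
  have c3 : Nat.card ↥((P : Subgroup G) ⊓ R) * 3 = Nat.card (P : Subgroup G) := hPR.2
  have hDD' : ¬ (P : Subgroup G) ⊓ Q ≤ (Q : Subgroup G) ⊓ R := by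
    intro hle
    exact hne (Subgroup.eq_of_le_of_card_ge hle (by omega))
  obtain ⟨d, hdD, hdD'⟩ := SetLike.not_le_iff_exists.mp hDD'
  obtain ⟨hdP, hdQ⟩ := Subgroup.mem_inf.mp hdD
  have hdR : d ∉ (R : Subgroup G) := fun h => hdD' (Subgroup.mem_inf.mpr ⟨hdQ, h⟩)
  have hR1 : d • R ≠ R := fun h => hdR (mem_of_smul_eq Q R d hdQ h)
  have hD'R1 : (Q : Subgroup G) ⊓ R ≤ ((d • R : Sylow 3 G) : Subgroup G) := by
    intro z hz
    rw [mem_smul_iff]
    have := conj_mem_of_card_mul_three Q _ inf_le_left c2 d⁻¹ (inv_mem hdQ) z hz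
    rw [inv_inv] at this
    exact (Subgroup.mem_inf.mp this).2
  have hD''R1 : (P : Subgroup G) ⊓ R ≤ ((d • R : Sylow 3 G) : Subgroup G) := by
    intro z hz
    rw [mem_smul_iff]
    have := conj_mem_of_card_mul_three P _ inf_le_left c3 d⁻¹ (inv_mem hdP) z hz
    rw [inv_inv] at this
    exact (Subgroup.mem_inf.mp this).2
  by_cases hEq : (Q : Subgroup G) ⊓ R = (P : Subgroup G) ⊓ R
  · apply hne
    have hle1 : (Q : Subgroup G) ⊓ R ≤ (P : Subgroup G) := by
      rw [hEq]; exact inf_le_left
    have hle : (Q : Subgroup G) ⊓ R ≤ (P : Subgroup G) ⊓ Q := le_inf hle1 inf_le_left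
    exact (Subgroup.eq_of_le_of_card_ge hle (by omega)).symm
  · have hsup : ((Q : Subgroup G) ⊓ R) ⊔ ((P : Subgroup G) ⊓ R) ≤ (R : Subgroup G) :=
      sup_le inf_le_right inf_le_right
    rcases eq_or_eq_of_card_mul_three
      (le_sup_left : (Q : Subgroup G) ⊓ R ≤ ((Q : Subgroup G) ⊓ R) ⊔ ((P : Subgroup G) ⊓ R))
      hsup (by omega) with h | h
    · apply hEq
      have hle : (P : Subgroup G) ⊓ R ≤ (Q : Subgroup G) ⊓ R := by
        calc (P : Subgroup G) ⊓ R ≤ ((Q : Subgroup G) ⊓ R) ⊔ ((P : Subgroup G) ⊓ R) :=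
              le_sup_right
          _ = (Q : Subgroup G) ⊓ R := h
      exact (Subgroup.eq_of_le_of_card_ge hle (by omega)).symm
    · apply hR1
      have hle : (R : Subgroup G) ≤ ((d • R : Sylow 3 G) : Subgroup G) := by
        calc (R : Subgroup G) = ((Q : Subgroup G) ⊓ R) ⊔ ((P : Subgroup G) ⊓ R) := h.symm
          _ ≤ _ := sup_le hD'R1 hD''R1
      have := Subgroup.eq_of_le_of_card_ge hle (le_of_eq (card_sylow_eq (d • R) R))
      exact (Sylow.ext this).symm

/-! ### orbit sizes -/

theorem dvd_card_of_forall_dvd_index {H α : Type*} [Group H] [MulAction H α] [Finite α] (n : ℕ)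
    (h : ∀ a : α, n ∣ (stabilizer H a).index) : n ∣ Nat.card α := by
  classical
  haveI : Fintype (orbitRel.Quotient H α) := Fintype.ofFinite _
  rw [Nat.card_congr (selfEquivSigmaOrbits H α), Nat.card_sigma]
  refine Finset.dvd_sum (fun ω _ => ?_)
  rw [Nat.card_coe_set_eq, ← index_stabilizer]
  exact h _

theorem stabilizer_eq_subgroupOf (P Q : Sylow 3 G) :
    stabilizer ↥(P : Subgroup G) Q = (Q : Subgroup G).subgroupOf (P : Subgroup G) := by
  ext u
  rw [mem_stabilizer_iff, Subgroup.mem_subgroupOf]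
  constructor
  · intro h
    exact mem_of_smul_eq P Q u u.2 h
  · intro h
    exact smul_self_eq Q u h

theorem index_stabilizer_eq (P Q : Sylow 3 G) :
    (stabilizer ↥(P : Subgroup G) Q).index = (Q : Subgroup G).relIndex (P : Subgroup G) := by
  rw [stabilizer_eq_subgroupOf]
  rfl

theorem nine_dvd_relIndex {P Q : Sylow 3 G} (hne : Q ≠ P) (hadj : ¬ adj P Q) :
    9 ∣ (Q : Subgroup G).relIndex (P : Subgroup G) := by
  have h1 := Cfsg.Agent.Lib.Helper18.card_eq_card_inf_mul_relIndex (P : Subgroup G)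
    (Q : Subgroup G)
  obtain ⟨k, hk⟩ := P.2.exists_card_eq
  have hdvd : (Q : Subgroup G).relIndex (P : Subgroup G) ∣ 3 ^ k := by
    rw [← hk, h1]
    exact dvd_mul_left _ _
  obtain ⟨j, _, hj⟩ := (Nat.dvd_prime_pow Nat.prime_three).mp hdvd
  rcases j with _ | _ | j
  · exfalso
    rw [pow_zero] at hj
    have hle : (P : Subgroup G) ≤ Q := Subgroup.relIndex_eq_one.mp hj
    have := Subgroup.eq_of_le_of_card_ge hle (card_sylow_eq Q P).le
    exact hne (Sylow.ext this).symm
  · exfalso
    rw [zero_add, pow_one] at hj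
    apply hadj
    refine ⟨hne.symm, ?_⟩
    rw [h1, hj]
  · rw [hj]
    exact ⟨3 ^ j, by ring⟩

def Aset (P : Sylow 3 G) : Set (Sylow 3 G) := {Q | adj P Q}

def Bset (P : Sylow 3 G) : Set (Sylow 3 G) := {Q | Q ≠ P ∧ ¬ adj P Q}

theorem nine_dvd_Bset (P : Sylow 3 G) : 9 ∣ (Bset P).ncard := by
  let S : SubMulAction ↥(P : Subgroup G) (Sylow 3 G) :=
    { carrier := Bset P
      smul_mem' := by
        rintro u Q ⟨hne, hadj⟩
        have hP : (u : G) • P = P := smul_self_eq P u u.2
        refine ⟨?_, ?_⟩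
        · intro h
          have h' : (u : G) • Q = P := h
          apply hne
          have h2 : (u : G) • Q = (u : G) • P := by rw [hP]; exact h'
          exact smul_left_cancel _ h2
        · intro h
          have h' : adj P ((u : G) • Q) := h
          apply hadj
          have := adj_smul (u : G)⁻¹ h'
          rw [inv_smul_smul, inv_smul_eq_iff.mpr hP.symm] at this
          exact this }
  have hS : Nat.card ↥S = (Bset P).ncard := Nat.card_coe_set_eq (Bset P)
  rw [← hS]
  apply dvd_card_of_forall_dvd_index (H := ↥(P : Subgroup G))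
  intro a
  rw [SubMulAction.stabilizer_of_subMul, index_stabilizer_eq]
  exact nine_dvd_relIndex a.2.1 a.2.2

theorem Aset_add_Bset (h22 : Nat.card (Sylow 3 G) = 22) (P : Sylow 3 G) :
    (Aset P).ncard + (Bset P).ncard = 21 := by
  have hdisj : Disjoint (Aset P) (Bset P) := by
    rw [Set.disjoint_left]
    intro Q hA hB
    exact hB.2 hA
  have hunion : Aset P ∪ Bset P = {P}ᶜ := by
    ext Q
    simp only [Set.mem_union, Set.mem_compl_iff, Set.mem_singleton_iff, Aset, Bset,
      Set.mem_setOf_eq]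
    constructor
    · rintro (h | h)
      · exact fun he => h.1 he.symm
      · exact h.1
    · intro h
      by_cases ha : adj P Q
      · exact Or.inl ha
      · exact Or.inr ⟨h, ha⟩
  have h1 := Set.ncard_union_eq hdisj
  rw [hunion, Set.ncard_compl, Set.ncard_singleton, h22] at h1
  omega

theorem Aset_ncard_cases (h22 : Nat.card (Sylow 3 G) = 22) (P : Sylow 3 G) :
    (Aset P).ncard = 3 ∨ (Aset P).ncard = 12 ∨ (Aset P).ncard = 21 := by
  have h1 := Aset_add_Bset h22 P
  obtain ⟨k, hk⟩ := nine_dvd_Bset P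
  omega

theorem Aset_smul (g : G) (P : Sylow 3 G) :
    Aset (g • P) = (fun Q => g • Q) '' Aset P := by
  ext Q
  constructor
  · intro h
    have h' : adj (g • P) Q := h
    refine ⟨g⁻¹ • Q, ?_, smul_inv_smul g Q⟩
    have := adj_smul g⁻¹ h'
    rw [inv_smul_smul] at this
    exact this
  · rintro ⟨Q', h, rfl⟩
    exact adj_smul g h

theorem Aset_ncard_eq (P R : Sylow 3 G) : (Aset R).ncard = (Aset P).ncard := by
  obtain ⟨g, rfl⟩ := MulAction.exists_smul_eq G P R
  rw [Aset_smul, Set.ncard_image_of_injective _ (MulAction.injective g)]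

/-! ### lines -/

def Lset (D : Subgroup G) : Set (Sylow 3 G) := {R | D ≤ (R : Subgroup G)}

theorem line_adj {P : Sylow 3 G} {D : Subgroup G}
    (hD : Nat.card D * 3 = Nat.card (P : Subgroup G))
    {R R' : Sylow 3 G} (hR : D ≤ (R : Subgroup G)) (hR' : D ≤ (R' : Subgroup G))
    (hne : R ≠ R') : adj R R' ∧ (R : Subgroup G) ⊓ R' = D := by
  have hc : Nat.card D * 3 = Nat.card (R : Subgroup G) := by
    rw [hD]; exact card_sylow_eq P R
  have hle : D ≤ (R : Subgroup G) ⊓ R' := le_inf hR hR'
  rcases eq_or_eq_of_card_mul_three hle inf_le_left hc with h | h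
  · exact ⟨⟨hne, by rw [h, hc]⟩, h⟩
  · exfalso
    have hle2 : (R : Subgroup G) ≤ R' := by
      calc (R : Subgroup G) = (R : Subgroup G) ⊓ R' := h.symm
        _ ≤ R' := inf_le_right
    exact hne (Sylow.ext (Subgroup.eq_of_le_of_card_ge hle2 (card_sylow_eq R' R).le))

theorem line_triangle {P : Sylow 3 G} {D : Subgroup G}
    (hD : Nat.card D * 3 = Nat.card (P : Subgroup G))
    {R R' S : Sylow 3 G} (hR : D ≤ (R : Subgroup G)) (hR' : D ≤ (R' : Subgroup G))
    (hne : R' ≠ R) (hRS : adj R S) (hS : ¬ D ≤ (S : Subgroup G)) : ¬ adj R' S := by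
  intro h
  obtain ⟨hadj, hinf⟩ := line_adj hD hR' hR hne
  have := triangle hadj hRS h
  apply hS
  rw [← hinf, this]
  exact inf_le_right

theorem line_count (P : Sylow 3 G) (D : Subgroup G) (hDP : D ≤ (P : Subgroup G))
    (hD : Nat.card D * 3 = Nat.card (P : Subgroup G)) :
    (Lset D \ {P}).ncard * ((Aset P).ncard - (Lset D \ {P}).ncard) ≤ (Bset P).ncard := by
  classical
  haveI : Fintype (Sylow 3 G) := Fintype.ofFinite _
  set Lf : Finset (Sylow 3 G) := Finset.univ.filter (fun R => R ∈ Lset D) with hLf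
  have hLfc : (Lf : Set (Sylow 3 G)) = Lset D := by ext R; simp [hLf]
  have hAfc : ∀ R : Sylow 3 G,
      ((Finset.univ.filter (fun S => S ∈ Aset R) : Finset (Sylow 3 G)) : Set (Sylow 3 G))
        = Aset R := by
    intro R; ext S; simp
  set Bf : Finset (Sylow 3 G) := Finset.univ.filter (fun S => S ∈ Bset P) with hBf
  have hBfc : (Bf : Set (Sylow 3 G)) = Bset P := by ext S; simp [hBf]
  have hPL : P ∈ Lf := by
    rw [hLf, Finset.mem_filter]; exact ⟨Finset.mem_univ _, hDP⟩
  have memL : ∀ R, R ∈ Lf ↔ D ≤ (R : Subgroup G) := by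
    intro R; rw [hLf, Finset.mem_filter]; simp [Lset]
  have memA : ∀ R S, S ∈ (Finset.univ.filter (fun S => S ∈ Aset R) : Finset (Sylow 3 G))
      ↔ adj R S := by
    intro R S; rw [Finset.mem_filter]; simp [Aset]
  set d := (Aset P).ncard with hd
  have he : (Lset D \ {P}).ncard = (Lf.erase P).card := by
    rw [← hLfc, ← Finset.coe_erase, Set.ncard_coe_finset]
  have hAcard : ∀ R, (Finset.univ.filter (fun S => S ∈ Aset R) : Finset (Sylow 3 G)).card = d := by
    intro R
    rw [← Set.ncard_coe_finset, hAfc, hd]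
    exact Aset_ncard_eq P R
  have hBcard : Bf.card = (Bset P).ncard := by
    rw [← Set.ncard_coe_finset, hBfc]
  have hLcard : Lf.card = (Lf.erase P).card + 1 := by
    rw [Finset.card_erase_of_mem hPL]
    have : 0 < Lf.card := Finset.card_pos.mpr ⟨P, hPL⟩
    omega
  -- fibres
  have hfib : ∀ R ∈ Lf,
      ((Finset.univ.filter (fun S => S ∈ Aset R) : Finset (Sylow 3 G)) \ Lf).card
        = d - (Lf.erase P).card := by
    intro R hR
    have h1 := Finset.card_sdiff_add_card_inter
      (Finset.univ.filter (fun S => S ∈ Aset R) : Finset (Sylow 3 G)) Lf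
    have h2 : (Finset.univ.filter (fun S => S ∈ Aset R) : Finset (Sylow 3 G)) ∩ Lf
        = Lf.erase R := by
      ext S
      rw [Finset.mem_inter, Finset.mem_erase, memA, memL]
      constructor
      · rintro ⟨ha, hl⟩
        exact ⟨fun h => ha.1 h.symm, hl⟩
      · rintro ⟨hne, hl⟩
        exact ⟨(line_adj hD ((memL R).mp hR) hl (fun h => hne h.symm)).1, hl⟩
    rw [h2, Finset.card_erase_of_mem hR, hAcard R] at h1
    omega
  -- the union
  have hsub : (Lf.erase P).biUnion
      (fun R => (Finset.univ.filter (fun S => S ∈ Aset R) : Finset (Sylow 3 G)) \ Lf) ⊆ Bf := by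
    intro S hS
    rw [Finset.mem_biUnion] at hS
    obtain ⟨R, hR, hSR⟩ := hS
    rw [Finset.mem_erase] at hR
    rw [Finset.mem_sdiff, memA, memL] at hSR
    rw [hBf, Finset.mem_filter]
    refine ⟨Finset.mem_univ _, ?_, ?_⟩
    · rintro rfl
      exact hSR.2 hDP
    · exact line_triangle hD ((memL R).mp hR.2) hDP (fun h => hR.1 h.symm) hSR.1 hSR.2
  have hdisj : ((Lf.erase P : Finset (Sylow 3 G)) : Set (Sylow 3 G)).PairwiseDisjoint
      (fun R => (Finset.univ.filter (fun S => S ∈ Aset R) : Finset (Sylow 3 G)) \ Lf) := by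
    intro R hR R' hR' hne
    rw [Finset.mem_coe, Finset.mem_erase] at hR hR'
    rw [Function.onFun, Finset.disjoint_left]
    intro S hS hS'
    rw [Finset.mem_sdiff, memA, memL] at hS hS'
    exact line_triangle hD ((memL R).mp hR.2) ((memL R').mp hR'.2) (fun h => hne h.symm)
      hS.1 hS.2 hS'.1
  have hcard := Finset.card_biUnion hdisj
  rw [Finset.sum_const_nat (m := d - (Lf.erase P).card)
    (fun R hR => hfib R (Finset.mem_of_mem_erase hR))] at hcard
  have hle := Finset.card_le_card hsub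
  rw [hcard, hBcard] at hle
  rw [he]
  exact hle

theorem card_sylow_subgroup_eq_relIndex (H : Subgroup G) (P : Sylow 3 G)
    (hPH : (P : Subgroup G) ≤ H) :
    Nat.card (Sylow 3 ↥H) = (normalizer ((P : Subgroup G) : Set G)).relIndex H := by
  have := Sylow.card_eq_index_normalizer (P.subtype hPH)
  rw [this]
  have e : normalizer (((P.subtype hPH : Sylow 3 ↥H) : Subgroup ↥H) : Set ↥H)
      = (normalizer ((P : Subgroup G) : Set G)).subgroupOf H := by
    rw [Sylow.coe_subtype, ← Subgroup.subgroupOf_normalizer_eq hPH]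
  change (normalizer (((P.subtype hPH : Sylow 3 ↥H) : Subgroup ↥H) : Set ↥H)).index = _
  rw [e]
  rfl

theorem arith_key (e d B : ℕ) (h1 : e * (d - e) ≤ B) (h2 : d + B = 21)
    (h3 : d = 3 ∨ d = 12 ∨ d = 21) (h4 : 1 ≤ e) (h5 : e ≤ d) (h6 : 3 ∣ e) :
    e = 21 ∨ (e = d ∧ d ≤ 12) := by
  rcases h3 with rfl | rfl | rfl
  · right
    obtain ⟨k, rfl⟩ := h6
    omega
  · right
    have hB : B = 9 := by omega
    subst hB
    interval_cases e <;> omega
  · left
    have hB : B = 0 := by omega
    subst hB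
    interval_cases e <;> omega

/-- the Sylow 3-subgroups have order 3 -/
theorem card_sylow_eq_three (h22 : Nat.card (Sylow 3 G) = 22)
    (hfaith : ∀ g : G, (∀ ω : Sylow 3 G, g • ω = ω) → g = 1) (P : Sylow 3 G) :
    Nat.card (P : Subgroup G) = 3 := by
  have hd := Aset_ncard_cases h22 P
  have hAB := Aset_add_Bset h22 P
  have hne : (Aset P).Nonempty := by
    rw [← Set.ncard_pos]
    omega
  obtain ⟨Q, hPQ⟩ := hne
  have hPQ' : adj P Q := hPQ
  have hDP : (P : Subgroup G) ⊓ Q ≤ P := inf_le_left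
  have hDQ : (P : Subgroup G) ⊓ Q ≤ Q := inf_le_right
  have hD : Nat.card ↥((P : Subgroup G) ⊓ Q) * 3 = Nat.card (P : Subgroup G) := hPQ'.2
  have hDcQ : Nat.card ↥((P : Subgroup G) ⊓ Q) * 3 = Nat.card (Q : Subgroup G) := by
    rw [hD]; exact card_sylow_eq P Q
  have hcount := line_count P _ hDP hD
  have hsub : Lset ((P : Subgroup G) ⊓ Q) \ {P} ⊆ Aset P := by
    rintro R ⟨hR, hRP⟩
    exact (line_adj hD hDP hR (fun h => hRP h.symm)).1
  have hed : (Lset ((P : Subgroup G) ⊓ Q) \ {P}).ncard ≤ (Aset P).ncard :=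
    Set.ncard_le_ncard hsub
  have hQmem : Q ∈ Lset ((P : Subgroup G) ⊓ Q) \ {P} := ⟨hDQ, fun h => hPQ'.1 h.symm⟩
  have he1 : 1 ≤ (Lset ((P : Subgroup G) ⊓ Q) \ {P}).ncard := by
    have : 0 < (Lset ((P : Subgroup G) ⊓ Q) \ {P}).ncard :=
      (Set.ncard_pos).mpr ⟨Q, hQmem⟩
    omega
  have hInv : Inv P (Lset ((P : Subgroup G) ⊓ Q) \ {P}) := by
    intro u hu R hR
    refine ⟨?_, ?_⟩
    · intro z hz
      show z ∈ ((u • R : Sylow 3 G) : Subgroup G)
      rw [mem_smul_iff]
      have := conj_mem_of_card_mul_three P _ hDP hD u⁻¹ (inv_mem hu) z hz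
      rw [inv_inv] at this
      exact hR.1 this
    · intro h
      apply hR.2
      have h1 : u • R = u • P := by rw [smul_self_eq P u hu]; exact h
      exact smul_left_cancel u h1
  have h3e : 3 ∣ (Lset ((P : Subgroup G) ⊓ Q) \ {P}).ncard :=
    dvd_ncard_of_inv P _ hInv (fun h => h.2 rfl)
  rcases arith_key _ _ _ hcount hAB hd he1 hed h3e with h21 | ⟨hed', hd12⟩
  · -- every Sylow subgroup contains the intersection
    have hall : ∀ R : Sylow 3 G, (P : Subgroup G) ⊓ Q ≤ (R : Subgroup G) := by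
      intro R
      by_cases hR : R = P
      · rw [hR]; exact hDP
      · have heq : Lset ((P : Subgroup G) ⊓ Q) \ {P} = {P}ᶜ :=
          Set.eq_of_subset_of_ncard_le (fun S hS => hS.2)
            (by rw [Set.ncard_compl, Set.ncard_singleton, h22, h21]) (Set.toFinite _)
        have hmem : R ∈ Lset ((P : Subgroup G) ⊓ Q) \ {P} := by
          rw [heq]; exact hR
        exact hmem.1
    have hbot : (P : Subgroup G) ⊓ Q = ⊥ := by
      rw [Subgroup.eq_bot_iff_forall]
      intro z hz
      apply hfaith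
      intro ω
      exact smul_self_eq ω z (hall ω hz)
    rw [← hD, hbot, Subgroup.card_bot]
  · exfalso
    have hLA : Lset ((P : Subgroup G) ⊓ Q) \ {P} = Aset P :=
      Set.eq_of_subset_of_ncard_le hsub (le_of_eq hed'.symm)
    -- the normalizer argument
    have hNH : normalizer ((P : Subgroup G) : Set G)
        ≤ normalizer ((((P : Subgroup G) ⊓ Q : Subgroup G)) : Set G) := by
      intro n hn
      have hnP : n • P = P := Sylow.smul_eq_iff_mem_normalizer.mpr hn
      have h1 : adj P (n • Q) := by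
        have := adj_smul n hPQ'
        rwa [hnP] at this
      have h2 : n • Q ∈ Lset ((P : Subgroup G) ⊓ Q) \ {P} := by
        rw [hLA]; exact h1
      have h3 : (P : Subgroup G) ⊓ Q ≤ MulAut.conj n • ((P : Subgroup G) ⊓ Q) := by
        rw [← coe_smul_inf, hnP]
        exact le_inf hDP h2.1
      have hconj : MulAut.conj n • ((P : Subgroup G) ⊓ Q) = (P : Subgroup G) ⊓ Q :=
        (Subgroup.eq_of_le_of_card_ge h3 (le_of_eq (card_conj_smul n _))).symm
      rw [Subgroup.mem_normalizer_iff]
      intro z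
      constructor
      · intro hz
        have := Subgroup.smul_mem_pointwise_smul z (MulAut.conj n) _ hz
        rw [hconj] at this
        simpa [MulAut.smul_def] using this
      · intro hz
        have h4 : MulAut.conj n • z ∈ MulAut.conj n • ((P : Subgroup G) ⊓ Q) := by
          rw [hconj]
          simpa [MulAut.smul_def] using hz
        exact Subgroup.smul_mem_pointwise_smul_iff.mp h4
    have hQH : (Q : Subgroup G) ≤ normalizer ((((P : Subgroup G) ⊓ Q : Subgroup G)) : Set G) := by
      intro q hq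
      rw [Subgroup.mem_normalizer_iff]
      intro z
      constructor
      · intro hz
        exact conj_mem_of_card_mul_three Q _ hDQ hDcQ q hq z hz
      · intro hz
        have := conj_mem_of_card_mul_three Q _ hDQ hDcQ q⁻¹ (inv_mem hq) _ hz
        have e : q⁻¹ * (q * z * q⁻¹) * q⁻¹⁻¹ = z := by group
        rwa [e] at this
    have hPN : (P : Subgroup G) ≤ normalizer ((P : Subgroup G) : Set G) := Subgroup.le_normalizer
    have hPH := hPN.trans hNH
    have hidx := Subgroup.relIndex_mul_index hNH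
    have hN22 : (normalizer ((P : Subgroup G) : Set G)).index = 22 := by
      have h1 := Sylow.card_eq_index_normalizer P
      rw [h22] at h1
      exact h1.symm
    rw [hN22] at hidx
    have e1 := card_sylow_subgroup_eq_relIndex
      (normalizer ((((P : Subgroup G) ⊓ Q : Subgroup G)) : Set G)) P hPH
    have hmod := card_sylow_modEq_one 3
      ↥(normalizer ((((P : Subgroup G) ⊓ Q : Subgroup G)) : Set G))
    rw [e1] at hmod
    have hr22 : (normalizer ((P : Subgroup G) : Set G)).relIndex
        (normalizer ((((P : Subgroup G) ⊓ Q : Subgroup G)) : Set G)) ∣ 22 :=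
      Dvd.intro _ hidx
    have hrcases : (normalizer ((P : Subgroup G) : Set G)).relIndex
        (normalizer ((((P : Subgroup G) ⊓ Q : Subgroup G)) : Set G)) = 1 ∨
        (normalizer ((P : Subgroup G) : Set G)).relIndex
        (normalizer ((((P : Subgroup G) ⊓ Q : Subgroup G)) : Set G)) = 22 := by
      have hle := Nat.le_of_dvd (by norm_num) hr22
      unfold Nat.ModEq at hmod
      generalize (normalizer ((P : Subgroup G) : Set G)).relIndex
        (normalizer ((((P : Subgroup G) ⊓ Q : Subgroup G)) : Set G)) = r at *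
      interval_cases r <;> omega
    rcases hrcases with hr | hr
    · have hHN := Subgroup.relIndex_eq_one.mp hr
      have hQN := hQH.trans hHN
      have : P = Q := eq_of_forall_smul_eq Q P
        (fun q hq => Sylow.smul_eq_iff_mem_normalizer.mpr (hQN hq))
      exact hPQ'.1 this
    · rw [hr] at hidx
      have hH1 : (normalizer ((((P : Subgroup G) ⊓ Q : Subgroup G)) : Set G)).index = 1 := by
        omega
      have hHtop := Subgroup.index_eq_one.mp hH1
      have hall : ∀ R : Sylow 3 G, R ≠ P → R ∈ Aset P := by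
        intro R hR
        rw [← hLA]
        refine ⟨?_, hR⟩
        obtain ⟨g, rfl⟩ := MulAction.exists_smul_eq G P R
        intro z hz
        show z ∈ ((g • P : Sylow 3 G) : Subgroup G)
        rw [mem_smul_iff]
        have hg : g⁻¹ ∈ normalizer ((((P : Subgroup G) ⊓ Q : Subgroup G)) : Set G) := by
          rw [hHtop]; exact Subgroup.mem_top _
        have := (Subgroup.mem_normalizer_iff.mp hg z).mp hz
        rw [inv_inv] at this
        exact hDP this
      have hsup : ({P}ᶜ : Set (Sylow 3 G)) ⊆ Aset P := fun R hR => hall R hR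
      have := Set.ncard_le_ncard hsup
      rw [Set.ncard_compl, Set.ncard_singleton, h22] at this
      omega

end Cfsg.Agent.Lib.Helper19.Syl22A
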