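import Mathlib
import Cfsg.Agent.Lib.Helper20.SylowCount
import Cfsg.Agent.Lib.Helper19.Syl22A

set_option autoImplicit false

/-!
Groups with exactly 22 Sylow 3-subgroups, all of order 3, acting faithfully and by even
permutations on them, and without proper normal subgroups of index prime to 3: there are none.
-/

namespace Cfsg.Agent.Lib.Helper19.Syl22B

open Subgroup MulAction Cfsg.Agent.Lib.Helper20.SylowCount Cfsg.Agent.Lib.Helper19.Syl22A

universe u

variable {G : Type u} [Group G] [Finite G]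

/-- a nonidentity element of a Sylow subgroup of order 3 fixes no other Sylow subgroup -/
theorem eq_of_fix (h3 : ∀ P : Sylow 3 G, Nat.card (P : Subgroup G) = 3) (P Q : Sylow 3 G) (x : G)
    (hx : x ∈ (P : Subgroup G)) (hx1 : x ≠ 1) (h : x • Q = Q) : Q = P := by
  have hxQ : x ∈ (Q : Subgroup G) := mem_of_smul_eq P Q x hx h
  have hle : (P : Subgroup G) ⊓ Q ≤ P := inf_le_left
  have hdvd : Nat.card ↥((P : Subgroup G) ⊓ Q) ∣ 3 := by
    have := Subgroup.card_dvd_of_le hle
    rwa [h3 P] at this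
  have hne1 : Nat.card ↥((P : Subgroup G) ⊓ Q) ≠ 1 := by
    intro h1
    have hb := Subgroup.eq_bot_of_card_eq _ h1
    have hmem : x ∈ (P : Subgroup G) ⊓ Q := Subgroup.mem_inf.mpr ⟨hx, hxQ⟩
    rw [hb, Subgroup.mem_bot] at hmem
    exact hx1 hmem
  have hc : Nat.card ↥((P : Subgroup G) ⊓ Q) = 3 := by
    rcases (Nat.dvd_prime Nat.prime_three).mp hdvd with h | h
    · exact absurd h hne1
    · exact h
  have hPQ : (P : Subgroup G) ⊓ Q = P := Subgroup.eq_of_le_of_card_ge hle (by rw [hc, h3 P])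
  have hPleQ : (P : Subgroup G) ≤ Q := by
    calc (P : Subgroup G) = (P : Subgroup G) ⊓ Q := hPQ.symm
      _ ≤ Q := inf_le_right
  exact (Sylow.ext (Subgroup.eq_of_le_of_card_ge hPleQ (by rw [h3 P, h3 Q]))).symm

theorem elem_cases (h3 : ∀ P : Sylow 3 G, Nat.card (P : Subgroup G) = 3) (P : Sylow 3 G) (y : G)
    (hy : y ∈ (P : Subgroup G)) (hy1 : y ≠ 1) :
    y ^ 3 = 1 ∧ ∀ z ∈ (P : Subgroup G), z = 1 ∨ z = y ∨ z = y⁻¹ := by
  have ho : orderOf y = 3 := by
    have h1 : orderOf (⟨y, hy⟩ : ↥(P : Subgroup G)) ∣ 3 := by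
      have := orderOf_dvd_natCard (⟨y, hy⟩ : ↥(P : Subgroup G))
      rwa [h3 P] at this
    rw [Subgroup.orderOf_mk] at h1
    rcases (Nat.dvd_prime Nat.prime_three).mp h1 with h | h
    · exact absurd (orderOf_eq_one_iff.mp h) hy1
    · exact h
  have hy3 : y ^ 3 = 1 := by rw [← ho]; exact pow_orderOf_eq_one y
  refine ⟨hy3, ?_⟩
  have hz : zpowers y = (P : Subgroup G) := by
    apply Subgroup.eq_of_le_of_card_ge (zpowers_le.mpr hy)
    rw [Nat.card_zpowers, ho, h3 P]
  intro z hzP
  rw [← hz, Subgroup.mem_zpowers_iff] at hzP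
  obtain ⟨k, rfl⟩ := hzP
  have hk : y ^ k = y ^ (k % 3) := by
    have := zpow_mod_orderOf y k
    rw [ho] at this
    exact this.symm
  have hk0 : 0 ≤ k % 3 := Int.emod_nonneg k (by norm_num)
  have hk3 : k % 3 < 3 := Int.emod_lt_of_pos k (by norm_num)
  have hy2 : y ^ (2 : ℤ) = y⁻¹ := by
    apply eq_inv_of_mul_eq_one_left
    calc y ^ (2 : ℤ) * y = y ^ (3 : ℕ) := by
          rw [show (2 : ℤ) = ((2 : ℕ) : ℤ) by norm_num, zpow_natCast, ← pow_succ]
      _ = 1 := hy3
  rw [hk]
  obtain h | h | h : k % 3 = 0 ∨ k % 3 = 1 ∨ k % 3 = 2 := by omega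
  · left; rw [h, zpow_zero]
  · right; left; rw [h, zpow_one]
  · right; right; rw [h, hy2]

/-- an element of odd order normalizing a Sylow subgroup of order 3 centralizes it -/
theorem comm_of_odd (h3 : ∀ P : Sylow 3 G, Nat.card (P : Subgroup G) = 3) (γ : Sylow 3 G)
    (g : G) (hg : g • γ = γ) (hodd : Odd (orderOf g)) (y : G) (hy : y ∈ (γ : Subgroup G)) :
    y * g = g * y := by
  by_cases hy1 : y = 1
  · rw [hy1, one_mul, mul_one]
  obtain ⟨hy3, hcases⟩ := elem_cases h3 γ y hy hy1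
  have hconj : g * y * g⁻¹ ∈ (γ : Subgroup G) := by
    have h1 : g * y * g⁻¹ ∈ ((g • γ : Sylow 3 G) : Subgroup G) := by
      rw [mem_smul_iff]
      have e : g⁻¹ * (g * y * g⁻¹) * g = y := by group
      rw [e]; exact hy
    rwa [hg] at h1
  rcases hcases _ hconj with h | h | h
  · exfalso
    apply hy1
    have e : y = g⁻¹ * (g * y * g⁻¹) * g := by group
    rw [e, h]; group
  · exact (mul_inv_eq_iff_eq_mul.mp h).symm
  · have hgy : g * y = y⁻¹ * g := mul_inv_eq_iff_eq_mul.mp h
    have hgy' : g * y⁻¹ = y * g := by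
      have h'' : g * y⁻¹ * g⁻¹ = y := by
        have e : g * y⁻¹ * g⁻¹ = (g * y * g⁻¹)⁻¹ := by group
        rw [e, h, inv_inv]
      exact mul_inv_eq_iff_eq_mul.mp h''
    have hc2 : Commute (g ^ 2) y := by
      show g ^ 2 * y = y * g ^ 2
      rw [pow_two, mul_assoc, hgy, ← mul_assoc, hgy', mul_assoc]
    obtain ⟨k, hk⟩ := hodd
    have hgk : (g ^ 2) ^ (k + 1) = g := by
      rw [← pow_mul, show 2 * (k + 1) = orderOf g + 1 by omega, pow_succ, pow_orderOf_eq_one,
        one_mul]
    have := (hc2.pow_left (k + 1)).eq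
    rw [hgk] at this
    exact this.symm

/-- orbit counting for an element of prime order on an invariant set of Sylow subgroups -/
theorem ncard_modEq_inter_fixedBy (z : G) (q : ℕ) [Fact q.Prime] (hz : orderOf z = q)
    (T : Set (Sylow 3 G)) (hT : ∀ t ∈ T, z • t ∈ T) :
    T.ncard ≡ (T ∩ fixedBy (Sylow 3 G) z).ncard [MOD q] := by
  classical
  have hpow : ∀ w ∈ zpowers z, ∀ t ∈ T, w • t ∈ T := by
    intro w hw t ht
    rw [← mem_powers_iff_mem_zpowers] at hw
    obtain ⟨n, rfl⟩ := hw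
    have hall : ∀ n : ℕ, z ^ n • t ∈ T := by
      intro n
      induction n with
      | zero => simpa using ht
      | succ n ih => rw [pow_succ', mul_smul]; exact hT _ ih
    exact hall n
  let S : SubMulAction ↥(zpowers z) (Sylow 3 G) :=
    { carrier := T
      smul_mem' := fun w t ht => hpow w w.2 t ht }
  have hpg : IsPGroup q ↥(zpowers z) :=
    IsPGroup.of_card (n := 1) (by rw [Nat.card_zpowers, hz, pow_one])
  have h := hpg.card_modEq_card_fixedPoints ↥S
  have hS : Nat.card ↥S = T.ncard := Nat.card_coe_set_eq T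
  rw [hS] at h
  have hfp : Nat.card ↥(fixedPoints ↥(zpowers z) ↥S) = (T ∩ fixedBy (Sylow 3 G) z).ncard := by
    rw [← Nat.card_coe_set_eq]
    apply Nat.card_congr
    refine ⟨fun s => ⟨(s.1 : Sylow 3 G), s.1.2, ?_⟩, fun t => ⟨⟨t.1, t.2.1⟩, ?_⟩, ?_, ?_⟩
    · have := s.2 ⟨z, mem_zpowers z⟩
      exact congrArg Subtype.val this
    · intro w
      apply Subtype.ext
      obtain ⟨j, hj⟩ := mem_zpowers_iff.mp w.2
      have := MulAction.mem_fixedBy_zpow t.2.2 j
      rw [mem_fixedBy, hj] at this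
      exact this
    · intro s; rfl
    · intro t; rfl
  rw [hfp] at h
  exact h

theorem fixed_mod3 (γ : Sylow 3 G) (c : G)
    (hc : c ∈ centralizer ((γ : Subgroup G) : Set G)) :
    (fixedBy (Sylow 3 G) c).ncard ≡ 1 [MOD 3] := by
  have hinv : Inv γ (fixedBy (Sylow 3 G) c) :=
    inv_fixedBy c (fun u hu => (Subgroup.mem_centralizer_iff.mp hc) u hu)
  have hfix : γ ∈ fixedBy (Sylow 3 G) c :=
    Sylow.smul_eq_iff_mem_normalizer.mpr (Subgroup.centralizer_le_normalizer _ hc)
  exact ncard_modEq_one γ _ hinv hfix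

theorem fixed_modq (h22 : Nat.card (Sylow 3 G) = 22) (z : G) (q : ℕ) [Fact q.Prime]
    (hz : orderOf z = q) : 22 ≡ (fixedBy (Sylow 3 G) z).ncard [MOD q] := by
  have := ncard_modEq_inter_fixedBy z q hz Set.univ (fun t _ => Set.mem_univ _)
  rwa [Set.univ_inter, Set.ncard_univ, h22] at this

theorem fixed_ne (h22 : Nat.card (Sylow 3 G) = 22)
    (hfaith : ∀ g : G, (∀ ω : Sylow 3 G, g • ω = ω) → g = 1) (z : G) (hz : z ≠ 1) :
    (fixedBy (Sylow 3 G) z).ncard ≠ 22 := by
  intro h
  apply hz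
  apply hfaith
  intro ω
  have heq : fixedBy (Sylow 3 G) z = Set.univ :=
    Set.eq_of_subset_of_ncard_le (Set.subset_univ _) (by rw [Set.ncard_univ, h22, h])
      (Set.toFinite _)
  have hω : ω ∈ fixedBy (Sylow 3 G) z := by rw [heq]; exact Set.mem_univ _
  exact hω

theorem fixed_le (h22 : Nat.card (Sylow 3 G) = 22) (z : G) :
    (fixedBy (Sylow 3 G) z).ncard ≤ 22 := by
  rw [← h22]; exact Set.ncard_le_card _

theorem ne_one_of_orderOf {z : G} {n : ℕ} (h : orderOf z = n) (hn : n ≠ 1) : z ≠ 1 := by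
  rintro rfl
  rw [orderOf_one] at h
  exact hn h.symm

theorem fix_seven (h22 : Nat.card (Sylow 3 G) = 22)
    (hfaith : ∀ g : G, (∀ ω : Sylow 3 G, g • ω = ω) → g = 1) (γ : Sylow 3 G) (h : G)
    (hh : h ∈ centralizer ((γ : Subgroup G) : Set G)) (ho : orderOf h = 7) :
    fixedBy (Sylow 3 G) h = {γ} := by
  haveI : Fact (Nat.Prime 7) := ⟨by norm_num⟩
  have h1 := fixed_mod3 γ h hh
  have h2 := fixed_modq h22 h 7 ho
  have h3 := fixed_ne h22 hfaith h (ne_one_of_orderOf ho (by norm_num))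
  have h4 := fixed_le h22 h
  have h5 : (fixedBy (Sylow 3 G) h).ncard = 1 := by
    unfold Nat.ModEq at h1 h2; omega
  obtain ⟨a, ha⟩ := Set.ncard_eq_one.mp h5
  have hγ : γ ∈ fixedBy (Sylow 3 G) h :=
    Sylow.smul_eq_iff_mem_normalizer.mpr (Subgroup.centralizer_le_normalizer _ hh)
  rw [ha] at hγ ⊢
  rw [Set.mem_singleton_iff.mp hγ]

theorem fix_five (h22 : Nat.card (Sylow 3 G) = 22)
    (hfaith : ∀ g : G, (∀ ω : Sylow 3 G, g • ω = ω) → g = 1) (γ : Sylow 3 G) (g : G)
    (hg : g ∈ centralizer ((γ : Subgroup G) : Set G)) (ho : orderOf g = 5) :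
    (fixedBy (Sylow 3 G) g).ncard = 7 := by
  haveI : Fact (Nat.Prime 5) := ⟨by norm_num⟩
  have h1 := fixed_mod3 γ g hg
  have h2 := fixed_modq h22 g 5 ho
  have h3 := fixed_ne h22 hfaith g (ne_one_of_orderOf ho (by norm_num))
  have h4 := fixed_le h22 g
  unfold Nat.ModEq at h1 h2; omega

theorem fix_two [Fintype (Sylow 3 G)] [DecidableEq (Sylow 3 G)]
    (h22 : Nat.card (Sylow 3 G) = 22)
    (hfaith : ∀ g : G, (∀ ω : Sylow 3 G, g • ω = ω) → g = 1)
    (heven : ∀ g : G, Equiv.Perm.sign (MulAction.toPerm g : Equiv.Perm (Sylow 3 G)) = 1)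
    (γ : Sylow 3 G) (u : G) (hu : u ∈ centralizer ((γ : Subgroup G) : Set G))
    (ho : orderOf u = 2) : (fixedBy (Sylow 3 G) u).ncard = 10 := by
  have h1 := fixed_mod3 γ u hu
  have h2 := fixed_modq h22 u 2 ho
  have h3 := fixed_ne h22 hfaith u (ne_one_of_orderOf ho (by norm_num))
  have h4 := fixed_le h22 u
  let σ : Equiv.Perm (Sylow 3 G) := MulAction.toPerm u
  have hinj : Function.Injective (MulAction.toPermHom G (Sylow 3 G)) := by
    rw [injective_iff_map_eq_one]
    intro x hx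
    apply hfaith
    intro ω
    have := congrArg (fun τ : Equiv.Perm (Sylow 3 G) => τ ω) hx
    simpa using this
  have hσo : orderOf σ = 2 := by
    have := orderOf_injective (MulAction.toPermHom G (Sylow 3 G)) hinj u
    rw [ho] at this
    exact this
  have hσfix : Fintype.card (Function.fixedPoints σ) = (fixedBy (Sylow 3 G) u).ncard := by
    rw [← Nat.card_eq_fintype_card]
    have hset : Function.fixedPoints σ = fixedBy (Sylow 3 G) u := by
      ext t
      rfl
    rw [hset, Nat.card_coe_set_eq]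
  have hsum : σ.cycleType.sum = 22 - (fixedBy (Sylow 3 G) u).ncard := by
    have h2' := Equiv.Perm.card_fixedPoints σ
    have hle2 := Equiv.Perm.sum_cycleType_le σ
    rw [hσfix, ← Nat.card_eq_fintype_card, h22] at h2'
    rw [← Nat.card_eq_fintype_card, h22] at hle2
    omega
  obtain ⟨n, hn⟩ := Equiv.Perm.cycleType_prime_order (σ := σ) (by rw [hσo]; exact Nat.prime_two)
  rw [hσo] at hn
  have hsign := Equiv.Perm.sign_of_cycleType σ
  rw [hn] at hsum hsign
  simp only [Multiset.sum_replicate, Multiset.card_replicate, smul_eq_mul] at hsum hsign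
  have hev : Equiv.Perm.sign σ = 1 := heven u
  rw [hev] at hsign
  have hpar : Even (n + 1) := by
    by_contra hodd
    rw [Nat.not_even_iff_odd] at hodd
    have hodd3 : Odd ((n + 1) * 2 + (n + 1)) := by
      obtain ⟨k, hk⟩ := hodd
      exact ⟨3 * k + 1, by omega⟩
    rw [hodd3.neg_one_pow] at hsign
    revert hsign
    decide
  obtain ⟨k, hk⟩ := hpar
  unfold Nat.ModEq at h1 h2
  omega

/-- if `g` centralizes every Sylow subgroup it normalizes, its centralizer is transitive on
its fixed points -/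
theorem fixed_dvd_centralizer (g : G) (γ₀ : Sylow 3 G) (hγ₀ : γ₀ ∈ fixedBy (Sylow 3 G) g)
    (hcen : ∀ γ ∈ fixedBy (Sylow 3 G) g, ∀ y ∈ (γ : Subgroup G), y * g = g * y) :
    (fixedBy (Sylow 3 G) g).ncard ∣ Nat.card ↥(centralizer ({g} : Set G)) := by
  have hmemH : ∀ γ ∈ fixedBy (Sylow 3 G) g, ∀ y ∈ (γ : Subgroup G),
      y ∈ centralizer ({g} : Set G) := by
    intro γ hγ y hy
    rw [Subgroup.mem_centralizer_iff]
    intro x hx
    rw [Set.mem_singleton_iff.mp hx]
    exact (hcen γ hγ y hy).symm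
  have hinvΘ : ∀ γ ∈ fixedBy (Sylow 3 G) g,
      Inv γ (orbit ↥(centralizer ({g} : Set G)) γ₀) := by
    intro γ hγ u hu t ht
    obtain ⟨h, rfl⟩ := ht
    exact ⟨⟨u, hmemH γ hγ u hu⟩ * h, mul_smul _ _ _⟩
  have hsub1 : orbit ↥(centralizer ({g} : Set G)) γ₀ ⊆ fixedBy (Sylow 3 G) g := by
    rintro t ⟨h, rfl⟩
    have hcomm : g * (h : G) = (h : G) * g :=
      (Subgroup.mem_centralizer_iff.mp h.2) g (Set.mem_singleton g)
    have hγ₀' : g • γ₀ = γ₀ := hγ₀
    show g • ((h : G) • γ₀) = (h : G) • γ₀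
    rw [← mul_smul, hcomm, mul_smul, hγ₀']
  have hsub2 : fixedBy (Sylow 3 G) g ⊆ orbit ↥(centralizer ({g} : Set G)) γ₀ := by
    intro γ hγ
    by_contra hnot
    have hd := dvd_ncard_of_inv γ _ (hinvΘ γ hγ) hnot
    have hm := ncard_modEq_one γ₀ _ (hinvΘ γ₀ hγ₀) (mem_orbit_self γ₀)
    unfold Nat.ModEq at hm
    omega
  have heq : fixedBy (Sylow 3 G) g = orbit ↥(centralizer ({g} : Set G)) γ₀ :=
    Set.Subset.antisymm hsub2 hsub1
  rw [heq, ← index_stabilizer]
  exact Subgroup.index_dvd_card _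

/-- an involution inverting a Sylow subgroup it normalizes has at most 8 fixed points -/
theorem fixed_le_eight (h22 : Nat.card (Sylow 3 G) = 22)
    (h3 : ∀ P : Sylow 3 G, Nat.card (P : Subgroup G) = 3) (u : G) (γ : Sylow 3 G)
    (hγ : u • γ = γ) (y : G) (hy : y ∈ (γ : Subgroup G)) (hy1 : y ≠ 1)
    (hinv : u * y * u⁻¹ = y⁻¹) : (fixedBy (Sylow 3 G) u).ncard ≤ 8 := by
  obtain ⟨hy3, -⟩ := elem_cases h3 γ y hy hy1
  have huy : u * y = y⁻¹ * u := mul_inv_eq_iff_eq_mul.mp hinv
  have huy' : u * y⁻¹ = y * u := by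
    have h'' : u * y⁻¹ * u⁻¹ = y := by
      have e : u * y⁻¹ * u⁻¹ = (u * y * u⁻¹)⁻¹ := by group
      rw [e, hinv, inv_inv]
    exact mul_inv_eq_iff_eq_mul.mp h''
  have key1 : ∀ δ ∈ fixedBy (Sylow 3 G) u, u • (y • δ) = y⁻¹ • δ := by
    intro δ hδ
    have hδ' : u • δ = δ := hδ
    rw [← mul_smul, huy, mul_smul, hδ']
  have key2 : ∀ δ ∈ fixedBy (Sylow 3 G) u, u • (y⁻¹ • δ) = y • δ := by
    intro δ hδ
    have hδ' : u • δ = δ := hδ
    rw [← mul_smul, huy', mul_smul, hδ']
  have hyinv1 : y⁻¹ ≠ 1 := inv_ne_one.mpr hy1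
  have fixyi : ∀ δ : Sylow 3 G, y⁻¹ • δ = δ → δ = γ :=
    fun δ h => eq_of_fix h3 γ δ y⁻¹ (inv_mem hy) hyinv1 h
  have hyy : y * y = y⁻¹ := by
    apply eq_inv_of_mul_eq_one_left
    calc y * y * y = y ^ 3 := by rw [pow_succ, pow_two]
      _ = 1 := hy3
  have fixyy : ∀ δ : Sylow 3 G, y • δ = y⁻¹ • δ → δ = γ := by
    intro δ h
    apply fixyi
    have h2 : y • y • δ = δ := by rw [h, smul_inv_smul]
    rw [← mul_smul, hyy] at h2
    exact h2
  have hγF : γ ∈ fixedBy (Sylow 3 G) u := hγ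
  have hγy : y • γ = γ := smul_self_eq γ y hy
  have d1 : Disjoint (fixedBy (Sylow 3 G) u \ {γ})
      ((fun δ => y • δ) '' (fixedBy (Sylow 3 G) u \ {γ})) := by
    rw [Set.disjoint_left]
    rintro δ' ⟨hδ'F, -⟩ ⟨δ, ⟨hδF, hδne⟩, rfl⟩
    apply hδne
    have h1 := key1 δ hδF
    have h2 : u • (y • δ) = y • δ := hδ'F
    rw [h2] at h1
    exact Set.mem_singleton_iff.mpr (fixyy δ h1)
  have d2 : Disjoint (fixedBy (Sylow 3 G) u \ {γ})
      ((fun δ => y⁻¹ • δ) '' (fixedBy (Sylow 3 G) u \ {γ})) := by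
    rw [Set.disjoint_left]
    rintro δ' ⟨hδ'F, -⟩ ⟨δ, ⟨hδF, hδne⟩, rfl⟩
    apply hδne
    have h1 := key2 δ hδF
    have h2 : u • (y⁻¹ • δ) = y⁻¹ • δ := hδ'F
    rw [h2] at h1
    exact Set.mem_singleton_iff.mpr (fixyy δ h1.symm)
  have d3 : Disjoint ((fun δ => y • δ) '' (fixedBy (Sylow 3 G) u \ {γ}))
      ((fun δ => y⁻¹ • δ) '' (fixedBy (Sylow 3 G) u \ {γ})) := by
    rw [Set.disjoint_left]
    rintro _ ⟨δ, ⟨hδF, hδne⟩, rfl⟩ ⟨δ', ⟨hδ'F, -⟩, h⟩
    apply hδne
    -- h : y⁻¹ • δ' = y • δ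
    have h' : y • δ = y⁻¹ • δ' := h.symm
    have hδ' : δ' = y • y • δ := by rw [h', smul_inv_smul]
    have hu : y⁻¹ • δ = y • δ' := by rw [← key1 δ hδF, h', key2 δ' hδ'F]
    rw [hδ'] at hu
    have e3 : y • y • y • δ = δ := by
      rw [← mul_smul, ← mul_smul]
      have : y * y * y = 1 := by
        calc y * y * y = y ^ 3 := by rw [pow_succ, pow_two]
          _ = 1 := hy3
      rw [this, one_smul]
    rw [e3] at hu
    exact Set.mem_singleton_iff.mpr (fixyi δ hu)
  have s0 : fixedBy (Sylow 3 G) u \ {γ} ⊆ ({γ}ᶜ : Set (Sylow 3 G)) := fun δ hδ => hδ.2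
  have s1 : (fun δ => y • δ) '' (fixedBy (Sylow 3 G) u \ {γ}) ⊆ ({γ}ᶜ : Set (Sylow 3 G)) := by
    rintro _ ⟨δ, ⟨-, hδne⟩, rfl⟩ h
    apply hδne
    have h' : y • δ = γ := h
    have : δ = y⁻¹ • γ := by rw [← h', inv_smul_smul]
    rw [this]
    exact Set.mem_singleton_iff.mpr (smul_self_eq γ y⁻¹ (inv_mem hy))
  have s2 : (fun δ => y⁻¹ • δ) '' (fixedBy (Sylow 3 G) u \ {γ}) ⊆ ({γ}ᶜ : Set (Sylow 3 G)) := by
    rintro _ ⟨δ, ⟨-, hδne⟩, rfl⟩ h
    apply hδne
    have h' : y⁻¹ • δ = γ := h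
    have : δ = y • γ := by rw [← h', smul_inv_smul]
    rw [this]
    exact Set.mem_singleton_iff.mpr hγy
  have c0 : (fixedBy (Sylow 3 G) u \ {γ}).ncard = (fixedBy (Sylow 3 G) u).ncard - 1 :=
    Set.ncard_diff_singleton_of_mem hγF
  have c1 : ((fun δ => y • δ) '' (fixedBy (Sylow 3 G) u \ {γ})).ncard
      = (fixedBy (Sylow 3 G) u \ {γ}).ncard :=
    Set.ncard_image_of_injective _ (MulAction.injective y)
  have c2 : ((fun δ => y⁻¹ • δ) '' (fixedBy (Sylow 3 G) u \ {γ})).ncard
      = (fixedBy (Sylow 3 G) u \ {γ}).ncard :=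
    Set.ncard_image_of_injective _ (MulAction.injective y⁻¹)
  have u1 := Set.ncard_union_eq d1
  have u2 := Set.ncard_union_eq (Set.disjoint_union_left.mpr ⟨d2, d3⟩)
  have hsub : (fixedBy (Sylow 3 G) u \ {γ}) ∪
      ((fun δ => y • δ) '' (fixedBy (Sylow 3 G) u \ {γ})) ∪
      ((fun δ => y⁻¹ • δ) '' (fixedBy (Sylow 3 G) u \ {γ})) ⊆ ({γ}ᶜ : Set (Sylow 3 G)) :=
    Set.union_subset (Set.union_subset s0 s1) s2
  have hle := Set.ncard_le_ncard hsub
  rw [Set.ncard_compl, Set.ncard_singleton, h22] at hle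
  have hpos : 0 < (fixedBy (Sylow 3 G) u).ncard := (Set.ncard_pos).mpr ⟨γ, hγF⟩
  omega

theorem mem_centralizer_of_odd (h3 : ∀ P : Sylow 3 G, Nat.card (P : Subgroup G) = 3)
    (γ : Sylow 3 G) (g : G) (hg : g • γ = γ) (hodd : Odd (orderOf g)) :
    g ∈ centralizer ((γ : Subgroup G) : Set G) := by
  rw [Subgroup.mem_centralizer_iff]
  intro y hy
  exact comm_of_odd h3 γ g hg hodd y hy

/-- no element of order 5 centralizes a Sylow 3-subgroup -/
theorem no_five (h22 : Nat.card (Sylow 3 G) = 22)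
    (hfaith : ∀ g : G, (∀ ω : Sylow 3 G, g • ω = ω) → g = 1)
    (h3 : ∀ P : Sylow 3 G, Nat.card (P : Subgroup G) = 3) (γ : Sylow 3 G) (g : G)
    (hg : g ∈ centralizer ((γ : Subgroup G) : Set G)) (ho : orderOf g = 5) : False := by
  haveI : Fact (Nat.Prime 7) := ⟨by norm_num⟩
  have hf := fix_five h22 hfaith γ g hg ho
  have hγ : γ ∈ fixedBy (Sylow 3 G) g :=
    Sylow.smul_eq_iff_mem_normalizer.mpr (Subgroup.centralizer_le_normalizer _ hg)
  have hodd : Odd (orderOf g) := by rw [ho]; exact ⟨2, by norm_num⟩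
  have hcen : ∀ δ ∈ fixedBy (Sylow 3 G) g, ∀ y ∈ (δ : Subgroup G), y * g = g * y :=
    fun δ hδ y hy => comm_of_odd h3 δ g hδ hodd y hy
  have hdvd := fixed_dvd_centralizer g γ hγ hcen
  rw [hf] at hdvd
  obtain ⟨h', hh'⟩ := exists_prime_orderOf_dvd_card' (G := ↥(centralizer ({g} : Set G))) 7 hdvd
  have hh'o : orderOf (h' : G) = 7 := by rw [Subgroup.orderOf_coe, hh']
  have hcomm : g * (h' : G) = (h' : G) * g :=
    (Subgroup.mem_centralizer_iff.mp h'.2) g (Set.mem_singleton g)
  have hmod := fixed_modq h22 (h' : G) 7 hh'o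
  have hnonempty : (fixedBy (Sylow 3 G) (h' : G)).Nonempty := by
    rw [← Set.ncard_pos]
    unfold Nat.ModEq at hmod
    omega
  obtain ⟨δ, hδ⟩ := hnonempty
  have hδ' : (h' : G) • δ = δ := hδ
  have hodd7 : Odd (orderOf (h' : G)) := by rw [hh'o]; exact ⟨3, by norm_num⟩
  have hh'cen := mem_centralizer_of_odd h3 δ (h' : G) hδ' hodd7
  have hfix7 := fix_seven h22 hfaith δ (h' : G) hh'cen hh'o
  have hgδ : g • δ = δ := by
    have hmem : g • δ ∈ fixedBy (Sylow 3 G) (h' : G) := by
      show (h' : G) • (g • δ) = g • δ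
      rw [← mul_smul, ← hcomm, mul_smul, hδ']
    rw [hfix7] at hmem
    exact hmem
  have hT : ∀ t ∈ fixedBy (Sylow 3 G) g, (h' : G) • t ∈ fixedBy (Sylow 3 G) g := by
    intro t ht
    have ht' : g • t = t := ht
    show g • ((h' : G) • t) = (h' : G) • t
    rw [← mul_smul, hcomm, mul_smul, ht']
  have hpf := ncard_modEq_inter_fixedBy (h' : G) 7 hh'o _ hT
  have hinter : fixedBy (Sylow 3 G) g ∩ fixedBy (Sylow 3 G) (h' : G) = {δ} := by
    rw [hfix7]
    exact Set.inter_eq_right.mpr (Set.singleton_subset_iff.mpr hgδ)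
  rw [hinter, Set.ncard_singleton, hf] at hpf
  unfold Nat.ModEq at hpf
  omega

theorem card_eq_mul_normalizer (h22 : Nat.card (Sylow 3 G) = 22) (γ : Sylow 3 G) :
    Nat.card G = 22 * Nat.card ↥(normalizer ((γ : Subgroup G) : Set G)) := by
  have h1 := Sylow.card_eq_index_normalizer γ
  rw [h22] at h1
  have h2 := Subgroup.index_mul_card (normalizer ((γ : Subgroup G) : Set G))
  rw [← h2]
  congr 1
  exact h1.symm

theorem relIndex_dvd_two (h3 : ∀ P : Sylow 3 G, Nat.card (P : Subgroup G) = 3)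
    (γ : Sylow 3 G) :
    (centralizer ((γ : Subgroup G) : Set G)).relIndex
      (normalizer ((γ : Subgroup G) : Set G)) ∣ 2 := by
  have hcyc : IsCyclic γ := isCyclic_of_prime_card (h3 γ)
  have key := Subgroup.card_dvd_of_injective _
    (QuotientGroup.kerLift_injective (γ : Subgroup G).normalizerMonoidHom)
  rw [Subgroup.normalizerMonoidHom_ker, ← Subgroup.index, ← Subgroup.relIndex] at key
  rw [hcyc.card_mulAut, h3 γ, Nat.totient_prime Nat.prime_three] at key
  exact key

theorem card_normalizer_eq (γ : Sylow 3 G) :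
    Nat.card ↥(normalizer ((γ : Subgroup G) : Set G))
      = Nat.card ↥(centralizer ((γ : Subgroup G) : Set G)) *
        (centralizer ((γ : Subgroup G) : Set G)).relIndex
          (normalizer ((γ : Subgroup G) : Set G)) := by
  have := Cfsg.Agent.Lib.Helper18.card_eq_card_inf_mul_relIndex
    (normalizer ((γ : Subgroup G) : Set G)) (centralizer ((γ : Subgroup G) : Set G))
  rwa [inf_of_le_right (Subgroup.centralizer_le_normalizer _)] at this

/-- an odd prime other than 11 dividing the group order divides the order of the centralizer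
of a Sylow 3-subgroup -/
theorem prime_dvd_centralizer (h22 : Nat.card (Sylow 3 G) = 22)
    (h3 : ∀ P : Sylow 3 G, Nat.card (P : Subgroup G) = 3) (γ : Sylow 3 G) (r : ℕ)
    (hr : r.Prime) (hr2 : r ≠ 2) (hr11 : r ≠ 11) (hdvd : r ∣ Nat.card G) :
    r ∣ Nat.card ↥(centralizer ((γ : Subgroup G) : Set G)) := by
  rw [card_eq_mul_normalizer h22 γ, card_normalizer_eq γ] at hdvd
  have h2 := relIndex_dvd_two h3 γ
  rcases (Nat.Prime.dvd_mul hr).mp hdvd with h | h
  · exfalso
    have h22' : (22 : ℕ) = 2 * 11 := by norm_num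
    rw [h22'] at h
    rcases (Nat.Prime.dvd_mul hr).mp h with h' | h'
    · exact hr2 ((Nat.prime_dvd_prime_iff_eq hr Nat.prime_two).mp h')
    · exact hr11 ((Nat.prime_dvd_prime_iff_eq hr (by norm_num)).mp h')
  · rcases (Nat.Prime.dvd_mul hr).mp h with h' | h'
    · exact h'
    · exfalso
      exact hr2 ((Nat.prime_dvd_prime_iff_eq hr Nat.prime_two).mp (h'.trans h2))

/-- no involution centralizes a Sylow 3-subgroup -/
theorem no_two [Fintype (Sylow 3 G)] [DecidableEq (Sylow 3 G)]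
    (h22 : Nat.card (Sylow 3 G) = 22)
    (hfaith : ∀ g : G, (∀ ω : Sylow 3 G, g • ω = ω) → g = 1)
    (heven : ∀ g : G, Equiv.Perm.sign (MulAction.toPerm g : Equiv.Perm (Sylow 3 G)) = 1)
    (h3 : ∀ P : Sylow 3 G, Nat.card (P : Subgroup G) = 3) (γ : Sylow 3 G) (u : G)
    (hu : u ∈ centralizer ((γ : Subgroup G) : Set G)) (ho : orderOf u = 2) : False := by
  haveI : Fact (Nat.Prime 5) := ⟨by norm_num⟩
  have hf := fix_two h22 hfaith heven γ u hu ho
  have hγ : γ ∈ fixedBy (Sylow 3 G) u :=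
    Sylow.smul_eq_iff_mem_normalizer.mpr (Subgroup.centralizer_le_normalizer _ hu)
  have hcen : ∀ δ ∈ fixedBy (Sylow 3 G) u, ∀ y ∈ (δ : Subgroup G), y * u = u * y := by
    intro δ hδ y hy
    by_contra hne
    have hδ' : u • δ = δ := hδ
    have hy1 : y ≠ 1 := by
      rintro rfl
      exact hne (by rw [one_mul, mul_one])
    obtain ⟨-, hcases⟩ := elem_cases h3 δ y hy hy1
    have hconj : u * y * u⁻¹ ∈ (δ : Subgroup G) := by
      have h1 : u * y * u⁻¹ ∈ ((u • δ : Sylow 3 G) : Subgroup G) := by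
        rw [mem_smul_iff]
        have e : u⁻¹ * (u * y * u⁻¹) * u = y := by group
        rw [e]; exact hy
      rwa [hδ'] at h1
    rcases hcases _ hconj with h | h | h
    · apply hy1
      have e : y = u⁻¹ * (u * y * u⁻¹) * u := by group
      rw [e, h]; group
    · exact hne (mul_inv_eq_iff_eq_mul.mp h).symm
    · have := fixed_le_eight h22 h3 u δ hδ' y hy hy1 h
      omega
  have hdvd := fixed_dvd_centralizer u γ hγ hcen
  rw [hf] at hdvd
  have h5G : 5 ∣ Nat.card G :=
    (Dvd.intro_left 2 rfl : (5 : ℕ) ∣ 10).trans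
      (hdvd.trans (Subgroup.card_subgroup_dvd_card _))
  have h5C := prime_dvd_centralizer h22 h3 γ 5 (by norm_num) (by norm_num) (by norm_num) h5G
  obtain ⟨g, hg⟩ := exists_prime_orderOf_dvd_card'
    (G := ↥(centralizer ((γ : Subgroup G) : Set G))) 5 h5C
  have hgo : orderOf (g : G) = 5 := by rw [Subgroup.orderOf_coe, hg]
  exact no_five h22 hfaith h3 γ (g : G) g.2 hgo

/-- a 7-subgroup of the centralizer of a Sylow 3-subgroup acts freely on the other 21 -/
theorem seven_subgroup_card_le (h22 : Nat.card (Sylow 3 G) = 22)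
    (hfaith : ∀ g : G, (∀ ω : Sylow 3 G, g • ω = ω) → g = 1) (γ : Sylow 3 G)
    (S : Subgroup G) (hS : IsPGroup 7 S)
    (hSC : S ≤ centralizer ((γ : Subgroup G) : Set G)) : Nat.card S ≤ 22 := by
  haveI : Fact (Nat.Prime 7) := ⟨by norm_num⟩
  haveI : Nontrivial (Sylow 3 G) := by
    rw [← Finite.one_lt_card_iff_nontrivial, h22]; norm_num
  obtain ⟨δ, hδ⟩ := exists_ne γ
  have hinj : Function.Injective (fun s : ↥S => (s : G) • δ) := by
    intro s s' hss
    have hss' : (s : G) • δ = (s' : G) • δ := hss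
    have htS : (s' : G)⁻¹ * (s : G) ∈ S := S.mul_mem (S.inv_mem s'.2) s.2
    have htδ : ((s' : G)⁻¹ * (s : G)) • δ = δ := by
      rw [mul_smul, hss', inv_smul_smul]
    have ht1 : (s' : G)⁻¹ * (s : G) = 1 := by
      by_contra hne
      obtain ⟨j, hj⟩ := (IsPGroup.iff_orderOf.mp hS) ⟨(s' : G)⁻¹ * (s : G), htS⟩
      rw [Subgroup.orderOf_mk] at hj
      have hj0 : j ≠ 0 := by
        rintro rfl
        rw [pow_zero, orderOf_eq_one_iff] at hj
        exact hne hj
      have h7 : 7 ∣ Nat.card ↥(zpowers ((s' : G)⁻¹ * (s : G))) := by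
        rw [Nat.card_zpowers, hj]
        exact dvd_pow_self 7 hj0
      obtain ⟨t', ht'⟩ := exists_prime_orderOf_dvd_card'
        (G := ↥(zpowers ((s' : G)⁻¹ * (s : G)))) 7 h7
      have ht'o : orderOf (t' : G) = 7 := by rw [Subgroup.orderOf_coe, ht']
      have ht'S : (t' : G) ∈ S := (zpowers_le.mpr htS) t'.2
      obtain ⟨m, hm⟩ := mem_zpowers_iff.mp t'.2
      have hfix := fix_seven h22 hfaith γ (t' : G) (hSC ht'S) ht'o
      have hmem : δ ∈ fixedBy (Sylow 3 G) (t' : G) := by
        rw [← hm]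
        exact MulAction.mem_fixedBy_zpow htδ m
      rw [hfix] at hmem
      exact hδ hmem
    have : (s : G) = (s' : G) := by
      have := congrArg (fun t => (s' : G) * t) ht1
      simpa using this
    exact Subtype.ext this
  have := Nat.card_le_card_of_injective _ hinj
  rwa [h22] at this

/-- the centralizer of a Sylow 3-subgroup has order 3 or 21 -/
theorem card_centralizer_cases [Fintype (Sylow 3 G)] [DecidableEq (Sylow 3 G)]
    (h22 : Nat.card (Sylow 3 G) = 22)
    (hfaith : ∀ g : G, (∀ ω : Sylow 3 G, g • ω = ω) → g = 1)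
    (heven : ∀ g : G, Equiv.Perm.sign (MulAction.toPerm g : Equiv.Perm (Sylow 3 G)) = 1)
    (h3 : ∀ P : Sylow 3 G, Nat.card (P : Subgroup G) = 3) (γ : Sylow 3 G) :
    Nat.card ↥(centralizer ((γ : Subgroup G) : Set G)) = 3 ∨
      Nat.card ↥(centralizer ((γ : Subgroup G) : Set G)) = 21 := by
  haveI : Fact (Nat.Prime 7) := ⟨by norm_num⟩
  have hcyc : IsCyclic γ := isCyclic_of_prime_card (h3 γ)
  have hγC : (γ : Subgroup G) ≤ centralizer ((γ : Subgroup G) : Set G) := by
    haveI : IsCyclic (γ : Subgroup G) := hcyc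
    exact Subgroup.le_centralizer (γ : Subgroup G)
  have h3dvd : 3 ∣ Nat.card ↥(centralizer ((γ : Subgroup G) : Set G)) := by
    have := Subgroup.card_dvd_of_le hγC
    rwa [h3 γ] at this
  have hprime : ∀ r : ℕ, r.Prime → r ∣ Nat.card ↥(centralizer ((γ : Subgroup G) : Set G)) →
      r = 3 ∨ r = 7 := by
    intro r hr hrd
    haveI : Fact r.Prime := ⟨hr⟩
    obtain ⟨g, hg⟩ := exists_prime_orderOf_dvd_card'
      (G := ↥(centralizer ((γ : Subgroup G) : Set G))) r hrd
    have hgo : orderOf (g : G) = r := by rw [Subgroup.orderOf_coe, hg]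
    by_cases hr2 : r = 2
    · exfalso
      exact no_two h22 hfaith heven h3 γ (g : G) g.2 (hgo.trans hr2)
    by_cases hr5 : r = 5
    · exfalso
      exact no_five h22 hfaith h3 γ (g : G) g.2 (hgo.trans hr5)
    have h1 := fixed_mod3 γ (g : G) g.2
    have h2 := fixed_modq h22 (g : G) r hgo
    have h3' := fixed_ne h22 hfaith (g : G) (ne_one_of_orderOf hgo hr.one_lt.ne')
    have h4 := fixed_le h22 (g : G)
    have hdvd : r ∣ 22 - (fixedBy (Sylow 3 G) (g : G)).ncard :=
      (Nat.modEq_iff_dvd' h4).mp h2.symm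
    unfold Nat.ModEq at h1
    obtain ⟨t, ht⟩ : ∃ t, 22 - (fixedBy (Sylow 3 G) (g : G)).ncard = 3 * t := ⟨
      (22 - (fixedBy (Sylow 3 G) (g : G)).ncard) / 3, by omega⟩
    have ht7 : t ≤ 7 := by omega
    have ht1 : 1 ≤ t := by omega
    rw [ht] at hdvd
    rcases (Nat.Prime.dvd_mul hr).mp hdvd with h | h
    · left
      exact (Nat.prime_dvd_prime_iff_eq hr Nat.prime_three).mp h
    · have hle : r ≤ 7 := (Nat.le_of_dvd (by omega) h).trans ht7
      have h2le := hr.two_le
      interval_cases r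
      · exact absurd rfl hr2
      · left; rfl
      · exact absurd hr (by norm_num)
      · exact absurd rfl hr5
      · exact absurd hr (by norm_num)
      · right; rfl
  have hdvd21 : Nat.card ↥(centralizer ((γ : Subgroup G) : Set G)) ∣ 21 := by
    rw [Nat.dvd_iff_prime_pow_dvd_dvd]
    intro p k hp hpk
    rcases Nat.eq_zero_or_pos k with rfl | hkpos
    · rw [pow_zero]; exact one_dvd _
    have hpd : p ∣ Nat.card ↥(centralizer ((γ : Subgroup G) : Set G)) :=
      (dvd_pow_self p hkpos.ne').trans hpk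
    rcases hprime p hp hpd with rfl | rfl
    · -- 3
      have h3k : 3 ^ k ∣ Nat.card G := hpk.trans (Subgroup.card_subgroup_dvd_card _)
      have := γ.pow_dvd_card_of_pow_dvd_card h3k
      rw [h3 γ] at this
      exact this.trans (by norm_num)
    · -- 7
      obtain ⟨S7⟩ : Nonempty (Sylow 7 ↥(centralizer ((γ : Subgroup G) : Set G))) := inferInstance
      have hS7 := S7.pow_dvd_card_of_pow_dvd_card hpk
      have hmapP : IsPGroup 7 ↥((S7 : Subgroup ↥(centralizer ((γ : Subgroup G) : Set G))).map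
          (centralizer ((γ : Subgroup G) : Set G)).subtype) := S7.2.map _
      have hmapC : (S7 : Subgroup ↥(centralizer ((γ : Subgroup G) : Set G))).map
          (centralizer ((γ : Subgroup G) : Set G)).subtype
            ≤ centralizer ((γ : Subgroup G) : Set G) := Subgroup.map_subtype_le _
      have hcard : Nat.card ↥((S7 : Subgroup ↥(centralizer ((γ : Subgroup G) : Set G))).map
          (centralizer ((γ : Subgroup G) : Set G)).subtype) = Nat.card S7 :=
        Subgroup.card_map_of_injective (Subgroup.subtype_injective _)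
      have hle := seven_subgroup_card_le h22 hfaith γ _ hmapP hmapC
      rw [hcard] at hle
      have h7k : 7 ^ k ≤ 22 := (Nat.le_of_dvd Nat.card_pos hS7).trans hle
      have hk1 : k = 1 := by
        by_contra hk
        have hk2 : 2 ≤ k := by omega
        have : 7 ^ 2 ≤ 7 ^ k := Nat.pow_le_pow_right (by norm_num) hk2
        omega
      rw [hk1]
      norm_num
  obtain ⟨a, ha⟩ := h3dvd
  rw [ha] at hdvd21 ⊢
  have ha7 : a ∣ 7 := (Nat.mul_dvd_mul_iff_left (by norm_num : 0 < 3)).mp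
    (by simpa using hdvd21)
  rcases (Nat.dvd_prime (by norm_num : Nat.Prime 7)).mp ha7 with rfl | rfl
  · left; rfl
  · right; rfl

/-- the final contradiction -/
theorem ti_contra [Fintype (Sylow 3 G)] [DecidableEq (Sylow 3 G)]
    (h22 : Nat.card (Sylow 3 G) = 22)
    (hfaith : ∀ g : G, (∀ ω : Sylow 3 G, g • ω = ω) → g = 1)
    (heven : ∀ g : G, Equiv.Perm.sign (MulAction.toPerm g : Equiv.Perm (Sylow 3 G)) = 1)
    (hnormal : ∀ N : Subgroup G, N.Normal → ¬ 3 ∣ N.index → N = ⊤)
    (h3 : ∀ P : Sylow 3 G, Nat.card (P : Subgroup G) = 3) : False := by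
  haveI : Fact (Nat.Prime 11) := ⟨by norm_num⟩
  obtain ⟨γ⟩ : Nonempty (Sylow 3 G) := inferInstance
  have hC := card_centralizer_cases h22 hfaith heven h3 γ
  have hrel := relIndex_dvd_two h3 γ
  have hN := card_normalizer_eq γ
  have hG := card_eq_mul_normalizer h22 γ
  have hj : (centralizer ((γ : Subgroup G) : Set G)).relIndex
      (normalizer ((γ : Subgroup G) : Set G)) = 1 ∨
      (centralizer ((γ : Subgroup G) : Set G)).relIndex
      (normalizer ((γ : Subgroup G) : Set G)) = 2 := (Nat.dvd_prime Nat.prime_two).mp hrel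
  have hGcases : Nat.card G = 66 ∨ Nat.card G = 132 ∨ Nat.card G = 462 ∨ Nat.card G = 924 := by
    rw [hG, hN]
    rcases hC with h | h <;> rcases hj with h' | h' <;> rw [h, h'] <;> norm_num
  obtain ⟨R⟩ : Nonempty (Sylow 11 G) := inferInstance
  have h11 : 11 ∣ Nat.card G := by
    rcases hGcases with h | h | h | h <;> rw [h] <;> norm_num
  have h121 : ¬ 11 ^ 2 ∣ Nat.card G := by
    rcases hGcases with h | h | h | h <;> rw [h] <;> norm_num
  have hR : Nat.card R = 11 := by
    obtain ⟨j, hj⟩ := R.2.exists_card_eq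
    have h1 : 11 ∣ Nat.card R := R.dvd_card_of_dvd_card h11
    have h2 : Nat.card R ∣ Nat.card G := Subgroup.card_subgroup_dvd_card _
    rw [hj] at h1 h2 ⊢
    have hj0 : j ≠ 0 := by
      rintro rfl
      rw [pow_zero, Nat.dvd_one] at h1
      omega
    have hj2 : j < 2 := by
      by_contra h
      push Not at h
      exact h121 ((pow_dvd_pow 11 h).trans h2)
    have : j = 1 := by omega
    rw [this, pow_one]
  have hcyc : IsCyclic R := isCyclic_of_prime_card hR
  have hRC : (R : Subgroup G) ≤ centralizer ((R : Subgroup G) : Set G) := by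
    haveI : IsCyclic (R : Subgroup G) := hcyc
    exact Subgroup.le_centralizer (R : Subgroup G)
  have hRN : (R : Subgroup G) ≤ normalizer ((R : Subgroup G) : Set G) := Subgroup.le_normalizer
  have hrel11 : (centralizer ((R : Subgroup G) : Set G)).relIndex
      (normalizer ((R : Subgroup G) : Set G)) ∣ 10 := by
    have key := Subgroup.card_dvd_of_injective _
      (QuotientGroup.kerLift_injective (R : Subgroup G).normalizerMonoidHom)
    rw [Subgroup.normalizerMonoidHom_ker, ← Subgroup.index, ← Subgroup.relIndex] at key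
    rw [hcyc.card_mulAut, hR, Nat.totient_prime (by norm_num)] at key
    exact key
  have hn11 := card_sylow_modEq_one 11 G
  have hn11idx := Sylow.card_eq_index_normalizer R
  have hidxcard := Subgroup.index_mul_card (normalizer ((R : Subgroup G) : Set G))
  have hcard11 := Cfsg.Agent.Lib.Helper18.card_eq_card_inf_mul_relIndex
    (normalizer ((R : Subgroup G) : Set G)) (centralizer ((R : Subgroup G) : Set G))
  have h11inf : 11 ∣ Nat.card ↥(normalizer ((R : Subgroup G) : Set G) ⊓
      centralizer ((R : Subgroup G) : Set G)) := by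
    have := Subgroup.card_dvd_of_le (le_inf hRN hRC)
    rwa [hR] at this
  have hNC : normalizer ((R : Subgroup G) : Set G) ≤ centralizer ((R : Subgroup G) : Set G) := by
    obtain ⟨a, ha⟩ := h11inf
    rw [ha] at hcard11
    rw [hn11idx] at hn11
    unfold Nat.ModEq at hn11
    -- n₁₁ * (11 * a * rel) = |G|
    rw [hcard11] at hidxcard
    have hcases : (normalizer ((R : Subgroup G) : Set G)).index = 1 ∨
        ((normalizer ((R : Subgroup G) : Set G)).index = 12 ∧
          a * (centralizer ((R : Subgroup G) : Set G)).relIndex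
            (normalizer ((R : Subgroup G) : Set G)) ∣ 7) := by
      generalize (normalizer ((R : Subgroup G) : Set G)).index = n at *
      generalize (centralizer ((R : Subgroup G) : Set G)).relIndex
        (normalizer ((R : Subgroup G) : Set G)) = rel at *
      have hprod : n * (a * rel) * 11 = Nat.card G := by rw [← hidxcard]; ring
      rcases hGcases with h | h | h | h
      · rw [h] at hprod
        have h6 : n * (a * rel) = 6 := by omega
        have hn6 : n ∣ 6 := Dvd.intro _ h6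
        have := Nat.le_of_dvd (by norm_num) hn6
        left
        interval_cases n <;> omega
      · rw [h] at hprod
        have h6 : n * (a * rel) = 12 := by omega
        have hn6 : n ∣ 12 := Dvd.intro _ h6
        have := Nat.le_of_dvd (by norm_num) hn6
        interval_cases n <;> first | omega | (left; rfl) |
          (right; exact ⟨rfl, by have hx : a * rel = 1 := by omega
                                 rw [hx]; norm_num⟩)
      · rw [h] at hprod
        have h6 : n * (a * rel) = 42 := by omega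
        have hn6 : n ∣ 42 := Dvd.intro _ h6
        have := Nat.le_of_dvd (by norm_num) hn6
        left
        interval_cases n <;> omega
      · rw [h] at hprod
        have h6 : n * (a * rel) = 84 := by omega
        have hn6 : n ∣ 84 := Dvd.intro _ h6
        have := Nat.le_of_dvd (by norm_num) hn6
        interval_cases n <;> first | omega | (left; rfl) |
          (right; exact ⟨rfl, by have hx : a * rel = 7 := by omega
                                 rw [hx]⟩)
    rcases hcases with h1 | ⟨_, h7⟩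
    · -- the Sylow 11-subgroup is normal
      have hNtop : normalizer ((R : Subgroup G) : Set G) = ⊤ := Subgroup.index_eq_one.mp h1
      haveI hRn : (R : Subgroup G).Normal := Subgroup.normalizer_eq_top_iff.mp hNtop
      have hCn : (centralizer ((R : Subgroup G) : Set G)).Normal := Subgroup.normal_centralizer
      rw [hNtop, Subgroup.relIndex_top_right] at hrel11
      have h3n : ¬ 3 ∣ (centralizer ((R : Subgroup G) : Set G)).index := by
        intro h
        have := h.trans hrel11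
        omega
      rw [hnormal _ hCn h3n]
      exact le_top
    · have hrel7 : (centralizer ((R : Subgroup G) : Set G)).relIndex
          (normalizer ((R : Subgroup G) : Set G)) ∣ 7 := (Dvd.intro_left _ rfl).trans h7
      have hone := Nat.dvd_gcd hrel7 hrel11
      have : (centralizer ((R : Subgroup G) : Set G)).relIndex
          (normalizer ((R : Subgroup G) : Set G)) = 1 := by
        have h' : Nat.gcd 7 10 = 1 := by norm_num
        rw [h'] at hone
        exact Nat.dvd_one.mp hone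
      exact Subgroup.relIndex_eq_one.mp this
  have hcomp := (MonoidHom.ker_transferSylow_isComplement' R hNC).card_mul
  rw [hR] at hcomp
  have hidxM := Subgroup.index_mul_card (MonoidHom.transferSylow R hNC).ker
  have hMpos : 0 < Nat.card ↥(MonoidHom.transferSylow R hNC).ker := Nat.card_pos
  have hidx11 : (MonoidHom.transferSylow R hNC).ker.index = 11 := by
    rw [← hcomp, mul_comm] at hidxM
    exact Nat.eq_of_mul_eq_mul_left hMpos hidxM
  have h3n : ¬ 3 ∣ (MonoidHom.transferSylow R hNC).ker.index := by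
    rw [hidx11]; norm_num
  have htop := hnormal _ inferInstance h3n
  rw [htop, Subgroup.index_top] at hidx11
  omega

end Cfsg.Agent.Lib.Helper19.Syl22B
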