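import Mathlib
set_option autoImplicit false

/-!
# S3360 farm-out FO-5 (for helper5): a minimal normal subgroup on which `g` acts nontrivially
-/

namespace Cfsg.Agent.Lib.Helper19.S3360FO

open Subgroup

/-- coprime action: a commutator of `g` with an `r`-element which commutes with `g` is trivial -/
theorem comm_eq_one_of_coprime {G : Type*} [Group G] (r : ℕ) (g x : G)
    (hcop : (orderOf g).Coprime r) (k : ℕ) (hc : (x * g * x⁻¹ * g⁻¹) ^ r ^ k = 1)
    (hcomm : g * (x * g * x⁻¹ * g⁻¹) = (x * g * x⁻¹ * g⁻¹) * g) : x * g * x⁻¹ * g⁻¹ = 1 := by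
  set c := x * g * x⁻¹ * g⁻¹ with hcdef
  have h1 : x * g * x⁻¹ = c * g := by rw [hcdef]; group
  have h2 : (c * g) ^ orderOf g = 1 := by
    rw [← h1, conj_pow, pow_orderOf_eq_one]; group
  have h3 : (c * g) ^ orderOf g = c ^ orderOf g * g ^ orderOf g :=
    (Commute.mul_pow (show Commute c g from hcomm.symm) _)
  rw [h3, pow_orderOf_eq_one, mul_one] at h2
  have h4 : orderOf c ∣ orderOf g := orderOf_dvd_of_pow_eq_one h2
  have h5 : orderOf c ∣ r ^ k := orderOf_dvd_of_pow_eq_one hc
  have h6 : orderOf c ∣ Nat.gcd (orderOf g) (r ^ k) := Nat.dvd_gcd h4 h5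
  have h7 : Nat.gcd (orderOf g) (r ^ k) = 1 := Nat.Coprime.pow_right k hcop
  rw [h7, Nat.dvd_one, orderOf_eq_one_iff] at h6
  exact h6

/-- in a nontrivial finite abelian `r`-group the `r`-th power map is not surjective -/
theorem exists_not_pow {A : Type*} [CommGroup A] [Finite A] [Nontrivial A] (r : ℕ)
    (hA : IsPGroup r A) : ∃ a : A, ∀ b : A, b ^ r ≠ a := by
  by_contra hcon
  push Not at hcon
  have hsurj : Function.Surjective (fun b : A => b ^ r) := fun a => hcon a
  have hinj : Function.Injective (fun b : A => b ^ r) := Finite.injective_iff_surjective.2 hsurj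
  obtain ⟨a, ha⟩ := exists_ne (1 : A)
  obtain ⟨k, hk⟩ := hA a
  have h1 : ∀ j : ℕ, a ^ r ^ j = 1 → a = 1 := by
    intro j
    induction j with
    | zero => intro h; simpa using h
    | succ j ih =>
      intro h
      apply ih
      apply hinj
      show (a ^ r ^ j) ^ r = 1 ^ r
      rw [one_pow, ← pow_mul, ← pow_succ]
      exact h
  exact ha (h1 k hk)

theorem FO5 {G : Type*} [Group G] [Finite G] (r : ℕ) (hr : r.Prime)
    (g : G) (R : Subgroup G) (hRn : R.Normal) (hR : IsPGroup r R)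
    (hcop : (orderOf g).Coprime r)
    (hg : ∃ x ∈ R, g * x ≠ x * g) :
    ∃ N : Subgroup G, N.Normal ∧ N ≤ R ∧ (∃ x ∈ N, g * x ≠ x * g) ∧
      (∀ x ∈ N, ∀ y ∈ N, ∀ w ∈ N, (x * y * x⁻¹ * y⁻¹) * w = w * (x * y * x⁻¹ * y⁻¹)) ∧
      (∀ x ∈ N, ∀ w ∈ N, x ^ r * w = w * x ^ r) ∧
      (∀ K : Subgroup G, K.Normal → K < N →
        ∀ k ∈ K, (∀ w ∈ N, k * w = w * k) ∧ g * k = k * g) := by
  haveI : Fact r.Prime := ⟨hr⟩
  -- minimal element
  let S : Set (Subgroup G) := {N | N.Normal ∧ N ≤ R ∧ ∃ x ∈ N, g * x ≠ x * g}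
  have hS : S.Nonempty := ⟨R, hRn, le_refl R, hg⟩
  obtain ⟨N, hNS, hmin⟩ := (wellFounded_lt (α := Subgroup G)).has_min S hS
  obtain ⟨hNn, hNR, hNg⟩ := hNS
  haveI := hNn
  -- every proper G-normal subgroup of N is centralized by g
  have hprop : ∀ K : Subgroup G, K.Normal → K < N → ∀ k ∈ K, g * k = k * g := by
    intro K hKn hKN k hk
    by_contra hne
    exact hmin K ⟨hKn, hKN.le.trans hNR, k, hk, hne⟩ hKN
  -- elements of N are r-elements
  have hNr : ∀ x ∈ N, ∃ k : ℕ, x ^ r ^ k = 1 := by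
    intro x hx
    obtain ⟨k, hk⟩ := hR ⟨x, hNR hx⟩
    refine ⟨k, ?_⟩
    have := congrArg Subtype.val hk
    simpa using this
  -- X₀ := normal closure of g
  set X₀ : Subgroup G := normalClosure {g} with hX₀
  have hgX : g ∈ X₀ := subset_normalClosure (Set.mem_singleton g)
  have hXcent : ∀ K : Subgroup G, K.Normal → K < N → X₀ ≤ centralizer (K : Set G) := by
    intro K hKn hKN
    haveI := hKn
    apply normalClosure_le_normal
    intro y hy
    rw [Set.mem_singleton_iff] at hy
    subst hy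
    rw [SetLike.mem_coe, mem_centralizer_iff]
    intro k hk
    exact (hprop K hKn hKN k hk).symm
  -- ⁅N, X₀⁆ = N
  have hL : ⁅N, X₀⁆ = N := by
    have hle : ⁅N, X₀⁆ ≤ N := commutator_le_left N X₀
    by_contra hne
    have hlt : ⁅N, X₀⁆ < N := lt_of_le_of_ne hle hne
    have hLn : (⁅N, X₀⁆).Normal := inferInstance
    obtain ⟨x, hx, hxg⟩ := hNg
    apply hxg
    have hc : x * g * x⁻¹ * g⁻¹ ∈ ⁅N, X₀⁆ := commutator_mem_commutator hx hgX
    have hcomm := hprop _ hLn hlt _ hc
    obtain ⟨k, hk⟩ := hNr _ (hle hc)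
    have h1 := comm_eq_one_of_coprime r g x hcop k hk hcomm
    have h2 : x * g = g * x := by
      have : x * g * x⁻¹ * g⁻¹ * (g * x) = g * x := by rw [h1, one_mul]
      rw [← this]; group
    exact h2.symm
  -- proper G-normal subgroups are central in N
  have hcentral : ∀ K : Subgroup G, K.Normal → K < N → ∀ k ∈ K, ∀ w ∈ N, k * w = w * k := by
    intro K hKn hKN k hk w hw
    haveI := hKn
    have h1 : ⁅⁅X₀, K⁆, N⁆ = ⊥ := by
      have : ⁅X₀, K⁆ = ⊥ := commutator_eq_bot_iff_le_centralizer.2 (hXcent K hKn hKN)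
      rw [this]
      exact commutator_bot_left N
    have h2 : ⁅⁅K, N⁆, X₀⁆ = ⊥ := by
      have hle : ⁅K, N⁆ ≤ K := commutator_le_left K N
      have hlt : ⁅K, N⁆ < N := lt_of_le_of_lt hle hKN
      have hn : (⁅K, N⁆).Normal := inferInstance
      rw [commutator_comm]
      exact commutator_eq_bot_iff_le_centralizer.2 (hXcent _ hn hlt)
    have h3 : ⁅⁅N, X₀⁆, K⁆ = ⊥ := commutator_commutator_eq_bot_of_rotate h1 h2
    rw [hL] at h3
    have h4 := commutator_eq_bot_iff_le_centralizer.1 h3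
    have h5 := h4 hw
    rw [mem_centralizer_iff] at h5
    exact h5 k hk
  -- N is nontrivial
  have hNne : N ≠ ⊥ := by
    obtain ⟨x, hx, hxg⟩ := hNg
    intro h
    rw [h, mem_bot] at hx
    apply hxg
    rw [hx, mul_one, one_mul]
  haveI : Nontrivial ↥N := (Subgroup.nontrivial_iff_ne_bot N).2 hNne
  have hNp : IsPGroup r ↥N := hR.to_le hNR
  haveI : Group.IsNilpotent ↥N := hNp.isNilpotent
  -- derived subgroup is proper
  have hder : ⁅N, N⁆ < N := by
    have h1 : commutator ↥N < ⊤ := Group.IsSolvable.commutator_lt_top_of_nontrivial ↥N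
    have h2 : (commutator ↥N).map N.subtype = ⁅N, N⁆ := N.map_subtype_commutator
    refine lt_of_le_of_ne (commutator_le_left N N) ?_
    intro heq
    apply h1.ne
    rw [eq_top_iff]
    intro x _
    have hx : (x : G) ∈ ⁅N, N⁆ := by rw [heq]; exact x.2
    rw [← h2] at hx
    obtain ⟨y, hy, hyx⟩ := hx
    have : y = x := Subtype.ext hyx
    rw [← this]; exact hy
  have hdern : (⁅N, N⁆).Normal := inferInstance
  have hcl : ∀ x ∈ N, ∀ y ∈ N, ∀ w ∈ N,
      (x * y * x⁻¹ * y⁻¹) * w = w * (x * y * x⁻¹ * y⁻¹) := by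
    intro x hx y hy w hw
    exact hcentral _ hdern hder _ (commutator_mem_commutator hx hy) w hw
  -- the power subgroup
  let P : Set G := {z | ∃ x ∈ N, z = x ^ r}
  set K₂ : Subgroup G := normalClosure P ⊔ ⁅N, N⁆ with hK₂
  have hK₂n : K₂.Normal := inferInstance
  have hPN : P ⊆ N := by
    rintro z ⟨x, hx, rfl⟩
    exact N.pow_mem hx r
  have hK₂le : K₂ ≤ N := sup_le (normalClosure_le_normal hPN) (commutator_le_left N N)
  -- K₂ is proper
  have hK₂lt : K₂ < N := by
    refine lt_of_le_of_ne hK₂le ?_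
    intro heq
    -- abelianization
    haveI : Nontrivial (Abelianization ↥N) := by
      have h1 : commutator ↥N < ⊤ := Group.IsSolvable.commutator_lt_top_of_nontrivial ↥N
      by_contra hnt
      rw [not_nontrivial_iff_subsingleton] at hnt
      apply h1.ne
      rw [eq_top_iff]
      intro x _
      rw [← Abelianization.ker_of, MonoidHom.mem_ker]
      exact Subsingleton.elim _ _
    have hAp : IsPGroup r (Abelianization ↥N) := by
      intro a
      obtain ⟨n, rfl⟩ := QuotientGroup.mk_surjective a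
      obtain ⟨k, hk⟩ := hNp n
      refine ⟨k, ?_⟩
      have h := congrArg (Abelianization.of : ↥N →* Abelianization ↥N) hk
      rw [map_pow, map_one] at h
      exact h
    obtain ⟨a, ha⟩ := exists_not_pow r hAp
    obtain ⟨n, rfl⟩ := QuotientGroup.mk_surjective a
    -- n ∈ N = K₂
    let π : ↥N →* Abelianization ↥N := Abelianization.of
    let T : Subgroup G := ((powMonoidHom r : Abelianization ↥N →* Abelianization ↥N).range.comap π).map N.subtype
    have hK₂T : K₂ ≤ T := by
      apply sup_le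
      · show closure (Group.conjugatesOfSet P) ≤ T
        rw [closure_le]
        intro z hz
        rw [Group.mem_conjugatesOfSet_iff] at hz
        obtain ⟨p, ⟨x, hx, rfl⟩, hconj⟩ := hz
        obtain ⟨c, hc⟩ := isConj_iff.1 hconj
        have hz' : z = (c * x * c⁻¹) ^ r := by rw [← hc, conj_pow]
        have hcx : c * x * c⁻¹ ∈ N := hNn.conj_mem x hx c
        rw [SetLike.mem_coe, mem_map]
        refine ⟨⟨c * x * c⁻¹, hcx⟩ ^ r, ?_, ?_⟩
        · rw [mem_comap, MonoidHom.mem_range]
          exact ⟨π ⟨c * x * c⁻¹, hcx⟩, by rw [powMonoidHom_apply, map_pow]⟩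
        · rw [hz']; rfl
      · rw [← N.map_subtype_commutator]
        apply map_mono
        intro y hy
        rw [mem_comap]
        have : π y = 1 := by
          rw [← MonoidHom.mem_ker]
          show y ∈ (Abelianization.of).ker
          rw [Abelianization.ker_of]; exact hy
        rw [this]; exact one_mem _
    have hn : (n : G) ∈ T := hK₂T (by rw [heq]; exact n.2)
    obtain ⟨y, hy, hyn⟩ := hn
    have hyn' : y = n := Subtype.ext hyn
    rw [SetLike.mem_coe, mem_comap, MonoidHom.mem_range] at hy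
    obtain ⟨b, hb⟩ := hy
    rw [powMonoidHom_apply, hyn'] at hb
    exact ha b hb
  have hpow : ∀ x ∈ N, ∀ w ∈ N, x ^ r * w = w * x ^ r := by
    intro x hx w hw
    have hxr : x ^ r ∈ K₂ := by
      apply (le_sup_left : normalClosure P ≤ K₂)
      exact subset_normalClosure ⟨x, hx, rfl⟩
    exact hcentral _ hK₂n hK₂lt _ hxr w hw
  exact ⟨N, hNn, hNR, hNg, hcl, hpow, fun K hKn hKN k hk =>
    ⟨hcentral K hKn hKN k hk, hprop K hKn hKN k hk⟩⟩

end Cfsg.Agent.Lib.Helper19.S3360FO
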