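import Mathlib
set_option autoImplicit false

/-!
# S3360 farm-out FO-10a (for helper5): `|N : Z(N)| = 4`, `Z(N) ≤ Z(G)`, at most one central
involution ⇒ `|G : C_G(N)|` divides `24`
-/

namespace Cfsg.Agent.Lib.Helper19.S3360FO

open Subgroup

/-- the automorphism group of a group of order `4` has order dividing `6` -/
theorem card_mulAut_dvd_six {Q : Type*} [Group Q] (hQ : Nat.card Q = 4) :
    Nat.card (MulAut Q) ∣ 6 := by
  have : Finite Q := Nat.finite_of_card_ne_zero (by rw [hQ]; norm_num)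
  let St := MulAction.stabilizer (Equiv.Perm Q) (1 : Q)
  have h1 : St.index = 4 := by
    rw [MulAction.index_stabilizer_of_transitive, hQ]
  have h2 : Nat.card (Equiv.Perm Q) = 24 := by rw [Nat.card_perm, hQ]; rfl
  have h3 : St.index * Nat.card St = 24 := by rw [Subgroup.index_mul_card, h2]
  have h4 : Nat.card St = 6 := by rw [h1] at h3; omega
  let f : MulAut Q →* St := (MulAut.toPerm Q).codRestrict St (fun φ => by
    rw [MulAction.mem_stabilizer_iff]; exact map_one φ)
  have hf : Function.Injective f := by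
    intro a b hab
    have h := congrArg (fun s : St => (s : Equiv.Perm Q)) hab
    apply MulEquiv.ext
    intro q
    exact congrFun (congrArg (fun e : Equiv.Perm Q => (e : Q → Q)) h) q
  have := Subgroup.card_dvd_of_injective f hf
  rwa [h4] at this

/-- a subgroup of a group of order `4` containing two distinct nonidentity elements is everything -/
theorem eq_top_of_three {Q : Type*} [Group Q] (hQ : Nat.card Q = 4) (M : Subgroup Q)
    (a b : Q) (ha : a ∈ M) (hb : b ∈ M) (ha1 : a ≠ 1) (hb1 : b ≠ 1) (hab : a ≠ b) : M = ⊤ := by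
  have : Finite Q := Nat.finite_of_card_ne_zero (by rw [hQ]; norm_num)
  have h1 : Nat.card M ∣ 4 := by rw [← hQ]; exact M.card_subgroup_dvd_card
  have h2 : 2 < Nat.card M := by
    classical
    have := Fintype.ofFinite M
    rw [Nat.card_eq_fintype_card, Fintype.two_lt_card_iff]
    refine ⟨⟨1, M.one_mem⟩, ⟨a, ha⟩, ⟨b, hb⟩, ?_, ?_, ?_⟩
    · intro h; exact ha1 (congrArg Subtype.val h).symm
    · intro h; exact hb1 (congrArg Subtype.val h).symm
    · intro h; exact hab (congrArg Subtype.val h)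
  have h3 : Nat.card M ≤ 4 := Nat.le_of_dvd (by norm_num) h1
  have h4 : Nat.card M = 4 := by
    interval_cases (Nat.card M)
    · norm_num at h1
    · rfl
  rw [← Subgroup.card_eq_iff_eq_top, h4, hQ]

theorem FO10a {G : Type*} [Group G] [Finite G] (N : Subgroup G) (hNn : N.Normal)
    (hidx : (Subgroup.center N).index = 4)
    (hZ : ∀ c ∈ N, (∀ w ∈ N, c * w = w * c) → ∀ h : G, c * h = h * c)
    (hinv : ∀ c d : G, (∀ h, c * h = h * c) → (∀ h, d * h = h * d) → c ^ 2 = 1 → d ^ 2 = 1 →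
      c ≠ 1 → d ≠ 1 → c = d) :
    (Subgroup.centralizer (N : Set G)).index ∣ 24 := by
  have := hNn
  set Zc : Subgroup ↥N := Subgroup.center ↥N with hZc
  have hQ : Nat.card (↥N ⧸ Zc) = 4 := hidx
  -- central elements of N are central in G
  have hZG : ∀ n : ↥N, n ∈ Zc → ∀ h : G, (n : G) * h = h * (n : G) := by
    intro n hn h
    apply hZ n n.2
    intro w hw
    have := (Subgroup.mem_center_iff.1 hn) ⟨w, hw⟩
    have h2 := congrArg Subtype.val this
    simpa using h2.symm
  -- the action on the quotient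
  have hchar : ∀ h : G, Zc.map ((MulAut.conjNormal h : MulAut ↥N) : ↥N ≃* ↥N).toMonoidHom = Zc :=
    fun h => (Subgroup.characteristic_iff_map_eq.1 inferInstance) _
  let ρ₀ : G → MulAut (↥N ⧸ Zc) := fun h =>
    QuotientGroup.congr Zc Zc (MulAut.conjNormal h : MulAut ↥N) (hchar h)
  have hρ₀ : ∀ (h : G) (n : ↥N), ρ₀ h (QuotientGroup.mk n) =
      QuotientGroup.mk ((MulAut.conjNormal h : MulAut ↥N) n) := fun h n =>
    QuotientGroup.congr_mk _ _ _ _ _
  let ρ : G →* MulAut (↥N ⧸ Zc) := MonoidHom.mk' ρ₀ (by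
    intro a b
    apply MulEquiv.ext
    intro q
    induction q using QuotientGroup.induction_on with
    | H n =>
      rw [MulAut.mul_apply, hρ₀, hρ₀, hρ₀, map_mul, MulAut.mul_apply])
  have hρ : ∀ (h : G) (n : ↥N), ρ h (QuotientGroup.mk n) =
      QuotientGroup.mk ((MulAut.conjNormal h : MulAut ↥N) n) := hρ₀
  set C₁ : Subgroup G := ρ.ker with hC₁
  -- (a)
  have ha : C₁.index ∣ 6 := by
    rw [hC₁, Subgroup.index_ker]
    exact (Subgroup.card_subgroup_dvd_card _).trans (card_mulAut_dvd_six hQ)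
  -- commutators of C₁ with N
  have hcomm : ∀ h ∈ C₁, ∀ n ∈ N, ∀ k : G,
      (h * n * h⁻¹ * n⁻¹) * k = k * (h * n * h⁻¹ * n⁻¹) := by
    intro h hh n hn k
    have h1 : ρ h (QuotientGroup.mk ⟨n, hn⟩) = QuotientGroup.mk (⟨n, hn⟩ : ↥N) := by
      rw [MonoidHom.mem_ker.1 hh]; rfl
    rw [hρ, QuotientGroup.eq] at h1
    -- h1 : (conj h n)⁻¹ * n ∈ Zc
    have h2 := hZG _ h1
    have h3 : (((MulAut.conjNormal h : MulAut ↥N) ⟨n, hn⟩)⁻¹ * ⟨n, hn⟩ : ↥N).1
        = (h * n * h⁻¹)⁻¹ * n := by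
      rw [Subgroup.coe_mul, Subgroup.coe_inv, MulAut.conjNormal_apply]
    rw [h3] at h2
    -- c' := (h n h⁻¹)⁻¹ n central in G ; c = h n h⁻¹ n⁻¹ = c'⁻¹ conjugated
    have h4 : h * n * h⁻¹ * n⁻¹ = ((h * n * h⁻¹)⁻¹ * n)⁻¹ := by
      have e1 := h2 (h * n * h⁻¹)
      have : (h * n * h⁻¹)⁻¹ * n = n * (h * n * h⁻¹)⁻¹ := by
        have e2 : (h * n * h⁻¹)⁻¹ * n * (h * n * h⁻¹) = n := by rw [e1]; group
        calc (h * n * h⁻¹)⁻¹ * n = (h * n * h⁻¹)⁻¹ * n * (h * n * h⁻¹) * (h * n * h⁻¹)⁻¹ := by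
              group
          _ = n * (h * n * h⁻¹)⁻¹ := by rw [e2]
      rw [this]; group
    rw [h4]
    have h5 := h2 k⁻¹
    calc ((h * n * h⁻¹)⁻¹ * n)⁻¹ * k = (k⁻¹ * ((h * n * h⁻¹)⁻¹ * n))⁻¹ := by group
      _ = (((h * n * h⁻¹)⁻¹ * n) * k⁻¹)⁻¹ := by rw [h5]
      _ = k * ((h * n * h⁻¹)⁻¹ * n)⁻¹ := by group
  -- the quotient is not cyclic, so squares are central
  have hsq : ∀ n : ↥N, n ^ 2 ∈ Zc := by
    intro n
    have hnc : ¬ IsCyclic (↥N ⧸ Zc) := by
      intro hc
      have hcommN : ∀ a b : ↥N, a * b = b * a :=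
        commutative_of_cyclic_center_quotient (QuotientGroup.mk' Zc)
          (by rw [QuotientGroup.ker_mk'])
      have htop : Zc = ⊤ := by
        rw [eq_top_iff]
        intro a _
        rw [hZc, Subgroup.mem_center_iff]
        intro b
        exact hcommN b a
      rw [htop, Subgroup.index_top] at hidx
      norm_num at hidx
    have : Finite (↥N ⧸ Zc) := Nat.finite_of_card_ne_zero (by rw [hQ]; norm_num)
    have hord : orderOf (QuotientGroup.mk n : ↥N ⧸ Zc) ∣ 4 := by
      rw [← hQ]; exact orderOf_dvd_natCard _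
    have hne4 : orderOf (QuotientGroup.mk n : ↥N ⧸ Zc) ≠ 4 := by
      intro h4
      exact hnc (isCyclic_of_orderOf_eq_card _ (by rw [h4, hQ]))
    have hle : orderOf (QuotientGroup.mk n : ↥N ⧸ Zc) ≤ 4 := Nat.le_of_dvd (by norm_num) hord
    have h2 : orderOf (QuotientGroup.mk n : ↥N ⧸ Zc) ∣ 2 := by
      interval_cases (orderOf (QuotientGroup.mk n : ↥N ⧸ Zc))
      · norm_num at hord
      · norm_num
      · norm_num
      · norm_num at hord
      · exact absurd rfl hne4
    have h3 : (QuotientGroup.mk n : ↥N ⧸ Zc) ^ 2 = 1 := orderOf_dvd_iff_pow_eq_one.1 h2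
    rw [← QuotientGroup.mk_pow, QuotientGroup.eq_one_iff] at h3
    exact h3
  have hcsq : ∀ h ∈ C₁, ∀ n ∈ N, (h * n * h⁻¹ * n⁻¹) ^ 2 = 1 := by
    intro h hh n hn
    set c := h * n * h⁻¹ * n⁻¹ with hc
    have hcc := hcomm h hh n hn
    have h1 : h * n * h⁻¹ = c * n := by rw [hc]; group
    have h2 : h * (n ^ 2) * h⁻¹ = c ^ 2 * n ^ 2 := by
      have : h * (n ^ 2) * h⁻¹ = (h * n * h⁻¹) ^ 2 := by rw [conj_pow]
      rw [this, h1, pow_two, pow_two, pow_two]
      have e := hcc n
      calc c * n * (c * n) = c * (n * c) * n := by group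
        _ = c * (c * n) * n := by rw [← e]
        _ = c * c * (n * n) := by group
    have h3 : h * (n ^ 2) * h⁻¹ = n ^ 2 := by
      have := hZG (⟨n, hn⟩ ^ 2) (hsq ⟨n, hn⟩) h
      have e : (((⟨n, hn⟩ : ↥N) ^ 2 : ↥N) : G) = n ^ 2 := rfl
      rw [e] at this
      rw [← this]; group
    rw [h3] at h2
    have : c ^ 2 * n ^ 2 = 1 * n ^ 2 := by rw [one_mul]; exact h2.symm
    exact mul_right_cancel this
  -- the group of central elements of order ≤ 2
  let E : Subgroup G :=
    { carrier := {c | (∀ k : G, c * k = k * c) ∧ c ^ 2 = 1}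
      one_mem' := ⟨fun k => by rw [one_mul, mul_one], one_pow 2⟩
      mul_mem' := by
        rintro a b ⟨ha1, ha2⟩ ⟨hb1, hb2⟩
        refine ⟨fun k => by rw [mul_assoc, hb1 k, ← mul_assoc, ha1 k, mul_assoc], ?_⟩
        rw [(show Commute a b from ha1 b).mul_pow, ha2, hb2, one_mul]
      inv_mem' := by
        rintro a ⟨ha1, ha2⟩
        refine ⟨fun k => ?_, by rw [inv_pow, ha2, inv_one]⟩
        have := ha1 k
        calc a⁻¹ * k = a⁻¹ * (k * a) * a⁻¹ := by group
          _ = a⁻¹ * (a * k) * a⁻¹ := by rw [this]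
          _ = k * a⁻¹ := by group }
  have hEmem : ∀ c : G, c ∈ E ↔ (∀ k : G, c * k = k * c) ∧ c ^ 2 = 1 := fun c => Iff.rfl
  have hEcard : Nat.card E ∣ 2 := by
    classical
    have hle : Nat.card E ≤ 2 := by
      have hinj : Function.Injective (fun c : E => decide ((c : G) = 1)) := by
        intro a b hab
        have hab' : ((a : G) = 1) ↔ ((b : G) = 1) := by
          have := congrArg (fun t : Bool => t = true) hab
          simpa using this
        apply Subtype.ext
        by_cases ha : (a : G) = 1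
        · rw [ha, hab'.1 ha]
        · have hb : (b : G) ≠ 1 := fun hb => ha (hab'.2 hb)
          exact hinv a b ((hEmem a).1 a.2).1 ((hEmem b).1 b.2).1 ((hEmem a).1 a.2).2
            ((hEmem b).1 b.2).2 ha hb
      have := Nat.card_le_card_of_injective _ hinj
      simpa using this
    have hpos : 0 < Nat.card E := Nat.card_pos
    interval_cases (Nat.card E) <;> norm_num
  -- choose x, y
  have : Finite (↥N ⧸ Zc) := Nat.finite_of_card_ne_zero (by rw [hQ]; norm_num)
  obtain ⟨q₁, q₂, hq₁, hq₂, hq₁₂⟩ : ∃ q₁ q₂ : ↥N ⧸ Zc, q₁ ≠ 1 ∧ q₂ ≠ 1 ∧ q₁ ≠ q₂ := by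
    classical
    have := Fintype.ofFinite (↥N ⧸ Zc)
    have h2 : 2 < Fintype.card (↥N ⧸ Zc) := by rw [← Nat.card_eq_fintype_card, hQ]; norm_num
    obtain ⟨a, b, c, hab, hac, hbc⟩ := Fintype.two_lt_card_iff.1 h2
    by_cases ha : a = 1
    · exact ⟨b, c, fun h => hab (ha.trans h.symm), fun h => hac (ha.trans h.symm), hbc⟩
    · by_cases hb : b = 1
      · exact ⟨a, c, ha, fun h => hbc (hb.trans h.symm), hac⟩
      · exact ⟨a, b, ha, hb, hab⟩
  obtain ⟨x, rfl⟩ := QuotientGroup.mk_surjective q₁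
  obtain ⟨y, rfl⟩ := QuotientGroup.mk_surjective q₂
  -- the hom δ
  have hmul : ∀ a ∈ C₁, ∀ b ∈ C₁, ∀ n ∈ N,
      (a * b) * n * (a * b)⁻¹ * n⁻¹ = (a * n * a⁻¹ * n⁻¹) * (b * n * b⁻¹ * n⁻¹) := by
    intro a _ b hb n hn
    have e := hcomm b hb n hn
    calc (a * b) * n * (a * b)⁻¹ * n⁻¹ = a * ((b * n * b⁻¹ * n⁻¹) * n) * a⁻¹ * n⁻¹ := by group
      _ = a * (b * n * b⁻¹ * n⁻¹) * (n * a⁻¹ * n⁻¹) := by group
      _ = (b * n * b⁻¹ * n⁻¹) * a * (n * a⁻¹ * n⁻¹) := by rw [← e a]
      _ = (b * n * b⁻¹ * n⁻¹) * (a * n * a⁻¹ * n⁻¹) := by group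
      _ = (a * n * a⁻¹ * n⁻¹) * (b * n * b⁻¹ * n⁻¹) := (e _)
  let δ : ↥C₁ →* ↥E × ↥E := MonoidHom.mk'
    (fun h => (⟨(h : G) * x * (h : G)⁻¹ * (x : G)⁻¹,
        (hEmem _).2 ⟨hcomm h h.2 x x.2, hcsq h h.2 x x.2⟩⟩,
      ⟨(h : G) * y * (h : G)⁻¹ * (y : G)⁻¹,
        (hEmem _).2 ⟨hcomm h h.2 y y.2, hcsq h h.2 y y.2⟩⟩)) (by
    intro a b
    apply Prod.ext
    · apply Subtype.ext
      exact hmul a a.2 b b.2 x x.2
    · apply Subtype.ext
      exact hmul a a.2 b b.2 y y.2)
  have hδ : ∀ h : ↥C₁, δ h = 1 → (h : G) ∈ centralizer (N : Set G) := by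
    intro h hh
    have h1 : (h : G) * x * (h : G)⁻¹ * (x : G)⁻¹ = 1 := by
      have := congrArg (fun p : ↥E × ↥E => (p.1 : G)) hh
      exact this
    have h2 : (h : G) * y * (h : G)⁻¹ * (y : G)⁻¹ = 1 := by
      have := congrArg (fun p : ↥E × ↥E => (p.2 : G)) hh
      exact this
    -- T := elements of N commuting with h
    let T : Subgroup ↥N :=
      { carrier := {n | (h : G) * n = n * (h : G)}
        one_mem' := by show (h : G) * ((1 : ↥N) : G) = ((1 : ↥N) : G) * h; simp
        mul_mem' := by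
          intro a b ha hb
          show (h : G) * ((a * b : ↥N) : G) = ((a * b : ↥N) : G) * h
          rw [Subgroup.coe_mul, ← mul_assoc, show (h : G) * a = a * h from ha, mul_assoc,
            show (h : G) * b = b * h from hb, mul_assoc]
        inv_mem' := by
          intro a ha
          show (h : G) * ((a⁻¹ : ↥N) : G) = ((a⁻¹ : ↥N) : G) * h
          rw [Subgroup.coe_inv]
          have ha' : (h : G) * a = a * h := ha
          calc (h : G) * (a : G)⁻¹ = (a : G)⁻¹ * (a * h) * (a : G)⁻¹ := by group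
            _ = (a : G)⁻¹ * (h * a) * (a : G)⁻¹ := by rw [ha']
            _ = (a : G)⁻¹ * h := by group }
    have hxT : x ∈ T := by
      show (h : G) * x = x * (h : G)
      have : (h : G) * x * (h : G)⁻¹ * (x : G)⁻¹ * (x * h) = x * h := by rw [h1, one_mul]
      rw [← this]; group
    have hyT : y ∈ T := by
      show (h : G) * y = y * (h : G)
      have : (h : G) * y * (h : G)⁻¹ * (y : G)⁻¹ * (y * h) = y * h := by rw [h2, one_mul]
      rw [← this]; group
    have hZT : Zc ≤ T := by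
      intro n hn
      show (h : G) * n = n * (h : G)
      exact (hZG n hn h).symm
    have hmap : T.map (QuotientGroup.mk' Zc) = ⊤ :=
      eq_top_of_three hQ _ (QuotientGroup.mk x) (QuotientGroup.mk y)
        (Subgroup.mem_map_of_mem _ hxT) (Subgroup.mem_map_of_mem _ hyT) hq₁ hq₂ hq₁₂
    have hT : T = ⊤ := by
      rw [eq_top_iff]
      intro n _
      have hn : (QuotientGroup.mk' Zc) n ∈ T.map (QuotientGroup.mk' Zc) := by
        rw [hmap]; trivial
      obtain ⟨t, ht, htn⟩ := hn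
      have h3 : t⁻¹ * n ∈ Zc := QuotientGroup.eq.1 htn
      have h4 : t * (t⁻¹ * n) ∈ T := T.mul_mem ht (hZT h3)
      rwa [mul_inv_cancel_left] at h4
    rw [mem_centralizer_iff]
    intro n hn
    have : (⟨n, hn⟩ : ↥N) ∈ T := by rw [hT]; trivial
    exact (show (h : G) * n = n * (h : G) from this).symm
  -- C ≤ C₁
  have hCC₁ : centralizer (N : Set G) ≤ C₁ := by
    intro h hh
    rw [hC₁, MonoidHom.mem_ker]
    apply MulEquiv.ext
    intro q
    induction q using QuotientGroup.induction_on with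
    | H n =>
      rw [hρ]
      show _ = QuotientGroup.mk n
      congr 1
      apply Subtype.ext
      rw [MulAut.conjNormal_apply]
      have := (mem_centralizer_iff.1 hh) n n.2
      rw [← this]; group
  -- (b)
  have hb : (centralizer (N : Set G)).relIndex C₁ ∣ 4 := by
    have hker : δ.ker = (centralizer (N : Set G)).subgroupOf C₁ := by
      ext h
      rw [MonoidHom.mem_ker, Subgroup.mem_subgroupOf]
      constructor
      · exact hδ h
      · intro hh
        have hc : ∀ n ∈ N, (h : G) * n * (h : G)⁻¹ * n⁻¹ = 1 := by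
          intro n hn
          have := (mem_centralizer_iff.1 hh) n hn
          rw [← this]; group
        apply Prod.ext
        · apply Subtype.ext
          exact hc x x.2
        · apply Subtype.ext
          exact hc y y.2
    have h1 : (centralizer (N : Set G)).relIndex C₁ = Nat.card δ.range := by
      rw [Subgroup.relIndex, ← hker, Subgroup.index_ker]
    rw [h1]
    have h2 : Nat.card δ.range ∣ Nat.card (↥E × ↥E) := Subgroup.card_subgroup_dvd_card _
    have h3 : Nat.card (↥E × ↥E) ∣ 4 := by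
      rw [Nat.card_prod]
      exact Nat.mul_dvd_mul hEcard hEcard
    exact h2.trans h3
  have hfin := Subgroup.relIndex_mul_index hCC₁
  rw [← hfin]
  exact Nat.mul_dvd_mul hb ha

end Cfsg.Agent.Lib.Helper19.S3360FO
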