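import Mathlib

/-!
An abelian group of prime exponent acting fixed-point-freely on an abelian group without
`q`-torsion is cyclic.
-/

set_option autoImplicit false

namespace Cfsg.Agent.Lib.Helper19

section
variable {T V : Type*} [Group T] [CommGroup V] (φ : T →* MulAut V) (q : ℕ) [hq : Fact q.Prime]

/-- the "norm" of `v` along the cyclic group generated by `c` -/
noncomputable def normAlong (c : T) (v : V) : V := ∏ j : ZMod q, φ (c ^ j.val) v

theorem pow_val_add_one {c : T} (hc : c ^ q = 1) (j : ZMod q) : c ^ (j + 1).val = c * c ^ j.val := by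
  rw [ZMod.val_add, pow_eq_pow_mod _ hc, Nat.mod_mod, ← pow_eq_pow_mod _ hc]
  have : (1 : ZMod q).val = 1 := ZMod.val_one q
  rw [this, pow_succ']

theorem pow_val_mul {c : T} (hc : c ^ q = 1) (i j : ZMod q) :
    c ^ (i * j).val = c ^ (i.val * j.val) := by
  rw [ZMod.val_mul, ← pow_eq_pow_mod _ hc]

theorem normAlong_fixed {c : T} (hc : c ^ q = 1) (v : V) :
    φ c (normAlong φ q c v) = normAlong φ q c v := by
  unfold normAlong
  rw [map_prod]
  rw [← Fintype.prod_equiv (Equiv.addRight (1 : ZMod q)) (fun j => φ c (φ (c ^ j.val) v))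
    (fun j => φ (c ^ j.val) v)]
  intro j
  simp only [Equiv.coe_addRight]
  rw [pow_val_add_one q hc, map_mul]
  rfl

theorem normAlong_eq_one (hfpf : ∀ t : T, ∀ v : V, φ t v = v → t = 1 ∨ v = 1)
    {c : T} (hc : c ^ q = 1) (hc1 : c ≠ 1) (v : V) : normAlong φ q c v = 1 := by
  rcases hfpf c _ (normAlong_fixed φ q hc v) with h | h
  · exact (hc1 h).elim
  · exact h

theorem fpf_abelian_cyclic (hfpf : ∀ t : T, ∀ v : V, φ t v = v → t = 1 ∨ v = 1)
    (hVq : ∀ v : V, v ^ q = 1 → v = 1) [Nontrivial V]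
    (a b : T) (hab : a * b = b * a) (haq : a ^ q = 1) (hbq : b ^ q = 1) (ha : a ≠ 1) :
    b ∈ Subgroup.zpowers a := by
  by_contra hb
  have hb1 : b ≠ 1 := by
    rintro rfl
    exact hb (one_mem _)
  have hcomm : Commute a b := hab
  -- the elements `a * b^j` are nontrivial of order dividing `q`
  have hne : ∀ j : ZMod q, a * b ^ j.val ≠ 1 := by
    intro j hj
    have h1 : b ^ j.val = a⁻¹ := by
      rw [eq_inv_iff_mul_eq_one, ← (hcomm.pow_right _).eq]
      exact hj
    have hjq : j.val < q := ZMod.val_lt j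
    have hcop : Nat.Coprime j.val q := by
      rw [Nat.coprime_comm]
      apply (Nat.Prime.coprime_iff_not_dvd hq.out).mpr
      intro hd
      rcases Nat.eq_zero_or_pos j.val with h0 | hpos
      · rw [h0, pow_zero] at h1
        apply ha
        rw [← inv_inv a, ← h1, inv_one]
      · exact absurd (Nat.le_of_dvd hpos hd) (by omega)
    have hbez := Int.gcd_eq_gcd_ab (j.val : ℤ) (q : ℤ)
    rw [Int.gcd_natCast_natCast, hcop.gcd_eq_one] at hbez
    apply hb
    have h2 : b = (b ^ j.val) ^ (Int.gcdA j.val q) * (b ^ q) ^ (Int.gcdB j.val q) := by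
      rw [← zpow_natCast, ← zpow_natCast, ← zpow_mul, ← zpow_mul, ← zpow_add, ← hbez]
      simp
    rw [h2, hbq, one_zpow, mul_one, h1, inv_zpow']
    exact Subgroup.zpow_mem_zpowers a _
  have hpowq : ∀ j : ZMod q, (a * b ^ j.val) ^ q = 1 := by
    intro j
    rw [(hcomm.pow_right _).mul_pow, haq, ← pow_mul, mul_comm, pow_mul, hbq, one_pow, one_mul]
  obtain ⟨v, hv⟩ := exists_ne (1 : V)
  apply hv
  apply hVq
  -- double product
  have h1 : ∏ j : ZMod q, normAlong φ q (a * b ^ j.val) v = 1 := by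
    apply Finset.prod_eq_one
    intro j _
    exact normAlong_eq_one φ q hfpf (hpowq j) (hne j) v
  unfold normAlong at h1
  rw [Finset.prod_comm] at h1
  rw [← h1]
  symm
  rw [Fintype.prod_eq_single (0 : ZMod q)]
  · simp [ZMod.val_zero]
  · intro i hi
    have h2 : ∀ j : ZMod q, φ ((a * b ^ j.val) ^ i.val) v =
        φ (a ^ i.val) (φ (b ^ (j * i).val) v) := by
      intro j
      rw [(hcomm.pow_right _).mul_pow, ← pow_mul, pow_val_mul q hbq, map_mul]
      rfl
    rw [Finset.prod_congr rfl (fun j _ => h2 j), ← map_prod]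
    have hiu : IsUnit i := by
      haveI : Fact q.Prime := hq
      exact IsUnit.mk0 i hi
    have h3 : ∏ j : ZMod q, φ (b ^ (j * i).val) v = normAlong φ q b v := by
      unfold normAlong
      exact Fintype.prod_equiv (Equiv.mulRight₀ i hi) _ _ (fun j => rfl)
    rw [h3, normAlong_eq_one φ q hfpf hbq hb1 v, map_one]

end

end Cfsg.Agent.Lib.Helper19
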