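import Mathlib
import Cfsg.Agent.Lib.Helper19.FpfAbelian

/-!
A finite abelian group whose `q`-torsion is cyclic for every prime `q` is cyclic; an abelian
group of linear maps acting semiregularly on the non-zero vectors of an `𝔽_p`-space is cyclic.
-/

set_option autoImplicit false

namespace Cfsg.Agent.Lib.Helper19

open Finset in
theorem isCyclic_of_prime_torsion {A : Type*} [CommGroup A] [Finite A]
    (h : ∀ q : ℕ, q.Prime → ∀ a b : A, a ^ q = 1 → b ^ q = 1 → a ≠ 1 → b ∈ Subgroup.zpowers a) :
    IsCyclic A := by
  classical
  haveI := Fintype.ofFinite A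
  apply isCyclic_of_card_pow_eq_one_le
  have hq : ∀ q : ℕ, q.Prime → #{a : A | a ^ q = 1} ≤ q := by
    intro q hq
    by_cases hex : ∃ a : A, a ^ q = 1 ∧ a ≠ 1
    · obtain ⟨a, ha, ha1⟩ := hex
      haveI : Fact q.Prime := ⟨hq⟩
      have hsub : ({b : A | b ^ q = 1} : Finset A) ⊆ (Subgroup.zpowers a : Set A).toFinset := by
        intro b hb
        rw [Set.mem_toFinset]
        exact h q hq a b ha (Finset.mem_filter.mp hb).2 ha1
      calc #{b : A | b ^ q = 1} ≤ (Subgroup.zpowers a : Set A).toFinset.card :=
            Finset.card_le_card hsub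
        _ = Nat.card (Subgroup.zpowers a) := by
            rw [Set.toFinset_card, Nat.card_eq_fintype_card]; rfl
        _ = orderOf a := Nat.card_zpowers a
        _ = q := orderOf_eq_prime ha ha1
    · push Not at hex
      have hsub : ({a : A | a ^ q = 1} : Finset A) ⊆ {1} := by
        intro a ha
        rw [Finset.mem_singleton]
        exact hex a (Finset.mem_filter.mp ha).2
      calc #{a : A | a ^ q = 1} ≤ ({1} : Finset A).card := Finset.card_le_card hsub
        _ = 1 := Finset.card_singleton _
        _ ≤ q := hq.one_lt.le
  intro n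
  induction n using Nat.strong_induction_on with
  | _ n ih =>
    intro hn
    by_cases hn1 : n = 1
    · subst hn1
      simp only [pow_one]
      rw [Finset.filter_eq' Finset.univ (1 : A), if_pos (Finset.mem_univ _), Finset.card_singleton]
    · have hqp : n.minFac.Prime := Nat.minFac_prime hn1
      obtain ⟨m, hm⟩ : ∃ m, n = n.minFac * m := Nat.minFac_dvd n
      set q := n.minFac with hqdef
      have hm0 : 0 < m := by
        rcases Nat.eq_zero_or_pos m with h0 | h0
        · rw [h0, mul_zero] at hm; omega
        · exact h0
      have hmn : m < n := by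
        have := hqp.two_le
        nlinarith
      have him : ({a : A | a ^ n = 1} : Finset A).image (· ^ q) ⊆ ({b : A | b ^ m = 1} : Finset A) := by
        intro b hb
        obtain ⟨a, ha, rfl⟩ := Finset.mem_image.mp hb
        simp only [Finset.mem_filter, Finset.mem_univ, true_and] at ha ⊢
        rw [← pow_mul, ← hm]
        exact ha
      have hfib : ∀ b ∈ ({a : A | a ^ n = 1} : Finset A).image (· ^ q),
          #{a ∈ ({a : A | a ^ n = 1} : Finset A) | a ^ q = b} ≤ q := by
        intro b hb
        obtain ⟨a₀, -, rfl⟩ := Finset.mem_image.mp hb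
        calc #{a ∈ ({a : A | a ^ n = 1} : Finset A) | a ^ q = a₀ ^ q}
            ≤ #{c : A | c ^ q = 1} := by
              apply Finset.card_le_card_of_injOn (fun a => a * a₀⁻¹)
              · intro a ha
                simp only [Finset.coe_filter, Finset.mem_filter, Finset.mem_univ, true_and,
                  Set.mem_ofPred_eq] at ha ⊢
                rw [mul_pow, inv_pow, ha.2, mul_inv_cancel]
              · intro a _ a' _ h'
                exact mul_right_cancel h'
          _ ≤ q := hq q hqp
      calc #{a : A | a ^ n = 1}
          ≤ q * (({a : A | a ^ n = 1} : Finset A).image (· ^ q)).card :=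
            Finset.card_le_mul_card_image _ q hfib
        _ ≤ q * #{b : A | b ^ m = 1} := Nat.mul_le_mul_left _ (Finset.card_le_card him)
        _ ≤ q * m := Nat.mul_le_mul_left _ (ih m hmn hm0)
        _ = n := hm.symm

end Cfsg.Agent.Lib.Helper19
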