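import Mathlib

/-!
# The subgroup generated by the derangements of a transitive group

Shared lemmas for S3546, S3547, S3548, S3549.
-/

set_option autoImplicit false

namespace Cfsg.Agent.Lib.Helper19

open MulAction

/-- Burnside's lemma in `Nat.card` form. -/
theorem burnside_natCard (H X : Type*) [Group H] [Fintype H] [MulAction H X] [Finite X] :
    ∑ h : H, Nat.card (fixedBy X h) = Nat.card (orbitRel.Quotient H X) * Nat.card H := by
  classical
  have := Fintype.ofFinite X
  have : Fintype (orbitRel.Quotient H X) := Fintype.ofFinite _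
  have := MulAction.sum_card_fixedBy_eq_card_orbits_mul_card_group H X
  simp only [Nat.card_eq_fintype_card]
  convert this using 2

/-- The number of orbits of a transitive action on a nonempty type is one. -/
theorem card_orbits_of_pretransitive (H X : Type*) [Group H] [MulAction H X] [Nonempty X]
    [IsPretransitive H X] : Nat.card (orbitRel.Quotient H X) = 1 := by
  have : Subsingleton (orbitRel.Quotient H X) := (pretransitive_iff_subsingleton_quotient H X).mp inferInstance
  have : Nonempty (orbitRel.Quotient H X) := ⟨Quotient.mk'' (Classical.arbitrary X)⟩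
  exact Nat.card_unique

/-- the subgroup generated by the derangements -/
def derSubgroup (G Ω : Type*) [Group G] [MulAction G Ω] : Subgroup G :=
  Subgroup.closure {g : G | ∀ ω : Ω, g • ω ≠ ω}

theorem derSubgroup_def (G Ω : Type*) [Group G] [MulAction G Ω] :
    derSubgroup G Ω = Subgroup.closure {g : G | ∀ ω : Ω, g • ω ≠ ω} := rfl

theorem derSubgroup_normal (G Ω : Type*) [Group G] [MulAction G Ω] : (derSubgroup G Ω).Normal := by
  constructor
  intro n hn g
  unfold derSubgroup at hn ⊢
  induction hn using Subgroup.closure_induction with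
  | mem x hx =>
    apply Subgroup.subset_closure
    intro ω hω
    apply hx (g⁻¹ • ω)
    have : (g * x * g⁻¹) • ω = g • x • g⁻¹ • ω := by simp [mul_smul]
    rw [this] at hω
    calc x • g⁻¹ • ω = g⁻¹ • (g • x • g⁻¹ • ω) := by simp
      _ = g⁻¹ • ω := by rw [hω]
  | one => simp
  | mul x y _ _ hx hy =>
    have : g * (x * y) * g⁻¹ = (g * x * g⁻¹) * (g * y * g⁻¹) := by group
    rw [this]; exact Subgroup.mul_mem _ hx hy
  | inv x _ hx =>
    have : g * x⁻¹ * g⁻¹ = (g * x * g⁻¹)⁻¹ := by group
    rw [this]; exact Subgroup.inv_mem _ hx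

section main

variable {G Ω : Type*} [Group G] [Finite G] [MulAction G Ω] [Finite Ω]

omit [Finite G] in
/-- an element outside the derangement subgroup has a fixed point -/
theorem one_le_card_fixedBy_of_not_mem {g : G} (hg : g ∉ derSubgroup G Ω) :
    1 ≤ Nat.card (fixedBy Ω g) := by
  have : ¬ ∀ ω : Ω, g • ω ≠ ω := fun h => hg (Subgroup.subset_closure h)
  push Not at this
  obtain ⟨ω, hω⟩ := this
  have : Nonempty (fixedBy Ω g) := ⟨⟨ω, hω⟩⟩
  exact Nat.card_pos

/-- Main counting lemma: for a function `F` on `G` with `F g = Nat.card (fixedBy Ω g)`. -/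
theorem derangement_main [Nonempty Ω] [IsPretransitive G Ω] :
    Nat.card (orbitRel.Quotient (derSubgroup G Ω) Ω) = 1 ∧
      ∀ g : G, g ∉ derSubgroup G Ω → Nat.card (fixedBy Ω g) = 1 := by
  classical
  have := Fintype.ofFinite G
  set D := derSubgroup G Ω with hD
  set F : G → ℕ := fun g => Nat.card (fixedBy Ω g) with hF
  set m := Nat.card (orbitRel.Quotient D Ω) with hm
  have hmpos : 1 ≤ m := by
    have : Nonempty (orbitRel.Quotient D Ω) := ⟨Quotient.mk'' (Classical.arbitrary Ω)⟩
    exact Nat.card_pos
  -- Burnside for G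
  have hG : ∑ g : G, F g = Nat.card G := by
    rw [burnside_natCard G Ω, card_orbits_of_pretransitive G Ω, one_mul]
  -- Burnside for D
  have hDsum : ∑ d : D, F d = m * Nat.card D := by
    have := burnside_natCard D Ω
    rw [← this]
    rfl
  -- splitting the sum
  have hsplit : ∑ g : G, F g = ∑ d : D, F d + ∑ g ∈ Finset.univ.filter (fun g : G => g ∉ D), F g := by
    rw [← Finset.sum_filter_add_sum_filter_not Finset.univ (fun g : G => g ∈ D) F]
    congr 1
    rw [← Finset.sum_subtype (Finset.univ.filter (fun g : G => g ∈ D)) (by simp) F]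
  have hcard : Nat.card G = Nat.card D + (Finset.univ.filter (fun g : G => g ∉ D)).card := by
    have h1 : (Finset.univ.filter (fun g : G => g ∈ D)).card = Nat.card D := by
      rw [Nat.card_eq_fintype_card, Fintype.card_subtype]
    rw [← h1, Finset.card_filter_add_card_filter_not, Nat.card_eq_fintype_card, Finset.card_univ]
  have hge : (Finset.univ.filter (fun g : G => g ∉ D)).card ≤ ∑ g ∈ Finset.univ.filter (fun g : G => g ∉ D), F g := by
    rw [Finset.card_eq_sum_ones]
    apply Finset.sum_le_sum
    intro g hg
    rw [Finset.mem_filter] at hg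
    exact one_le_card_fixedBy_of_not_mem hg.2
  have hDpos : 0 < Nat.card D := Nat.card_pos
  have hm1 : m = 1 := by
    have : m * Nat.card D ≤ 1 * Nat.card D := by
      rw [one_mul]
      omega
    have := Nat.le_of_mul_le_mul_right this hDpos
    omega
  refine ⟨hm1, ?_⟩
  have heq : ∑ g ∈ Finset.univ.filter (fun g : G => g ∉ D), F g = ∑ g ∈ Finset.univ.filter (fun g : G => g ∉ D), 1 := by
    rw [← Finset.card_eq_sum_ones]
    rw [hm1, one_mul] at hDsum
    omega
  intro g hg
  have hiff := (Finset.sum_eq_sum_iff_of_le (s := Finset.univ.filter (fun g : G => g ∉ D)) (f := fun _ => 1) (g := F)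
    (fun i hi => by
      rw [Finset.mem_filter] at hi
      exact one_le_card_fixedBy_of_not_mem hi.2)).mp heq.symm
  exact (hiff g (by simp [hg])).symm

theorem derSubgroup_pretransitive [IsPretransitive G Ω] : IsPretransitive (derSubgroup G Ω) Ω := by
  rcases isEmpty_or_nonempty Ω with h | h
  · exact ⟨fun x => (h.false x).elim⟩
  · rw [pretransitive_iff_subsingleton_quotient]
    have := (derangement_main (G := G) (Ω := Ω)).1
    exact (Nat.card_eq_one_iff_unique.mp this).1

theorem mem_derSubgroup_of_card_fixedBy_ne_one [IsPretransitive G Ω] {g : G}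
    (hg : Nat.card (fixedBy Ω g) ≠ 1) : g ∈ derSubgroup G Ω := by
  rcases isEmpty_or_nonempty Ω with h | h
  · apply Subgroup.subset_closure
    intro ω
    exact (h.false ω).elim
  · by_contra hgD
    exact hg ((derangement_main (G := G) (Ω := Ω)).2 g hgD)

omit [Finite G] [Finite Ω] in
theorem card_fixedBy_prod (g : G) :
    Nat.card (fixedBy (Ω × Ω) g) = Nat.card (fixedBy Ω g) * Nat.card (fixedBy Ω g) := by
  rw [← Nat.card_prod]
  apply Nat.card_congr
  refine
    { toFun := fun p => (⟨p.1.1, congrArg Prod.fst p.2⟩, ⟨p.1.2, congrArg Prod.snd p.2⟩)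
      invFun := fun q => ⟨(q.1.1, q.2.1), Prod.ext q.1.2 q.2.2⟩
      left_inv := fun p => rfl
      right_inv := fun q => rfl }

omit [Finite G] in
theorem sum_split [Fintype G] (D : Subgroup G) [DecidablePred (fun g : G => g ∈ D)] (f : G → ℕ) :
    ∑ g : G, f g = ∑ d : D, f d + ∑ g ∈ Finset.univ.filter (fun g : G => g ∉ D), f g := by
  rw [← Finset.sum_filter_add_sum_filter_not Finset.univ (fun g : G => g ∈ D) f]
  congr 1
  rw [← Finset.sum_subtype (Finset.univ.filter (fun g : G => g ∈ D)) (by simp) f]

omit [Finite G] in
theorem card_split [Fintype G] (D : Subgroup G) [DecidablePred (fun g : G => g ∈ D)] :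
    Nat.card G = Nat.card D + (Finset.univ.filter (fun g : G => g ∉ D)).card := by
  have h1 : (Finset.univ.filter (fun g : G => g ∈ D)).card = Nat.card D := by
    rw [Nat.card_eq_fintype_card, Fintype.card_subtype]
  rw [← h1, Finset.card_filter_add_card_filter_not, Nat.card_eq_fintype_card, Finset.card_univ]

theorem rank_formula [IsPretransitive G Ω] :
    Nat.card (orbitRel.Quotient (derSubgroup G Ω) (Ω × Ω)) - 1 =
      (Nat.card (orbitRel.Quotient G (Ω × Ω)) - 1) * (derSubgroup G Ω).index := by
  classical
  rcases isEmpty_or_nonempty Ω with h | h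
  · have h1 : IsEmpty (orbitRel.Quotient (derSubgroup G Ω) (Ω × Ω)) := by
      constructor
      intro q
      induction q using Quotient.inductionOn' with
      | h a => exact h.false a.1
    have h2 : IsEmpty (orbitRel.Quotient G (Ω × Ω)) := by
      constructor
      intro q
      induction q using Quotient.inductionOn' with
      | h a => exact h.false a.1
    rw [Nat.card_of_isEmpty, Nat.card_of_isEmpty]
    simp
  · have := Fintype.ofFinite G
    set D := derSubgroup G Ω with hD
    set F : G → ℕ := fun g => Nat.card (fixedBy (Ω × Ω) g) with hF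
    set rG := Nat.card (orbitRel.Quotient G (Ω × Ω)) with hrG
    set rD := Nat.card (orbitRel.Quotient D (Ω × Ω)) with hrD
    have hrGpos : 1 ≤ rG := by
      have : Nonempty (orbitRel.Quotient G (Ω × Ω)) :=
        ⟨Quotient.mk'' (Classical.arbitrary Ω, Classical.arbitrary Ω)⟩
      exact Nat.card_pos
    have hrDpos : 1 ≤ rD := by
      have : Nonempty (orbitRel.Quotient D (Ω × Ω)) :=
        ⟨Quotient.mk'' (Classical.arbitrary Ω, Classical.arbitrary Ω)⟩
      exact Nat.card_pos
    have hG : ∑ g : G, F g = rG * Nat.card G := burnside_natCard G (Ω × Ω)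
    have hDsum : ∑ d : D, F d = rD * Nat.card D := by
      have := burnside_natCard D (Ω × Ω)
      rw [← this]
      rfl
    have hsplit := sum_split D F
    have hcard := card_split D
    have hone : ∑ g ∈ Finset.univ.filter (fun g : G => g ∉ D), F g =
        (Finset.univ.filter (fun g : G => g ∉ D)).card := by
      rw [Finset.card_eq_sum_ones]
      apply Finset.sum_congr rfl
      intro g hg
      rw [Finset.mem_filter] at hg
      show Nat.card (fixedBy (Ω × Ω) g) = 1
      rw [card_fixedBy_prod, (derangement_main (G := G) (Ω := Ω)).2 g hg.2]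
    have hidx : Nat.card D * D.index = Nat.card G := D.card_mul_index
    have hDpos : 0 < Nat.card D := Nat.card_pos
    set u := (Finset.univ.filter (fun g : G => g ∉ D)).card with hu
    set k := D.index with hk
    set c := Nat.card D with hc
    obtain ⟨a, ha⟩ := Nat.exists_eq_add_of_le' hrGpos
    obtain ⟨b, hb⟩ := Nat.exists_eq_add_of_le' hrDpos
    rw [ha, hb]
    simp only [Nat.add_sub_cancel]
    -- (a+1) * (c * k) = (b+1) * c + u, c * k = c + u
    have e1 : (a + 1) * Nat.card G = (b + 1) * c + u := by
      rw [← ha, ← hb, ← hG, hsplit, hDsum, hone]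
    have e2 : Nat.card G = c + u := hcard
    have e3 : c * k = Nat.card G := hidx
    apply Nat.eq_of_mul_eq_mul_left hDpos
    -- c * b = c * (a * k)
    have : a * (c * k) = b * c := by
      rw [e3]
      have h1 : (a + 1) * Nat.card G = a * Nat.card G + Nat.card G := by ring
      have h2 : (b + 1) * c + u = b * c + (c + u) := by ring
      rw [h1, h2, ← e2] at e1
      exact Nat.add_right_cancel e1
    calc c * b = b * c := by ring
      _ = a * (c * k) := this.symm
      _ = c * (a * k) := by ring

end main

end Cfsg.Agent.Lib.Helper19
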