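import Mathlib

set_option autoImplicit false
open scoped Pointwise

namespace Cfsg.Agent.Lib.Helper19.NilCover

/-! Nilpotent minimal covers: shared lemmas for S3890 / S3891. -/

section Basic

variable {G : Type*} [Group G]

/-- Replacement lemma: a proper subgroup contains at most one member of a minimal cover. -/
theorem cover_unique_of_le (𝓐 : Finset (Subgroup G))
    (hprop : ∀ A ∈ 𝓐, A ≠ ⊤) (hcov : ∀ g : G, ∃ A ∈ 𝓐, g ∈ A)
    (hmin : ∀ 𝓑 : Finset (Subgroup G),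
      (∀ A ∈ 𝓑, A ≠ ⊤) ∧ (∀ g : G, ∃ A ∈ 𝓑, g ∈ A) → 𝓐.card ≤ 𝓑.card)
    (H : Subgroup G) (hH : H ≠ ⊤) (A B : Subgroup G) (hA : A ∈ 𝓐) (hB : B ∈ 𝓐)
    (hAH : A ≤ H) (hBH : B ≤ H) : A = B := by
  classical
  by_contra hne
  have hB' : B ∈ 𝓐.erase A := Finset.mem_erase.mpr ⟨fun h => hne h.symm, hB⟩
  have h3 := Finset.card_erase_lt_of_mem hB'
  have h4 := Finset.card_erase_lt_of_mem hA
  have h2 : (insert H ((𝓐.erase A).erase B)).card ≤ ((𝓐.erase A).erase B).card + 1 :=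
    Finset.card_insert_le _ _
  have h1 : 𝓐.card ≤ (insert H ((𝓐.erase A).erase B)).card := by
    apply hmin
    constructor
    · intro C hC
      rcases Finset.mem_insert.mp hC with hCH | hC
      · rw [hCH]; exact hH
      · exact hprop C (Finset.mem_of_mem_erase (Finset.mem_of_mem_erase hC))
    · intro g
      obtain ⟨C, hC, hgC⟩ := hcov g
      by_cases hCA : C = A
      · exact ⟨H, Finset.mem_insert_self _ _, hAH (hCA ▸ hgC)⟩
      by_cases hCB : C = B
      · exact ⟨H, Finset.mem_insert_self _ _, hBH (hCB ▸ hgC)⟩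
      exact ⟨C, Finset.mem_insert_of_mem
        (Finset.mem_erase.mpr ⟨hCB, Finset.mem_erase.mpr ⟨hCA, hC⟩⟩), hgC⟩
  omega

theorem isPGroup_zpowers_of_pow_eq_one {p : ℕ} (y : G) (k : ℕ) (h : y ^ (p ^ k) = 1) :
    IsPGroup p (Subgroup.zpowers y) :=
  IsPGroup.of_card_dvd_pow (n := k)
    (by rw [Nat.card_zpowers]; exact orderOf_dvd_of_pow_eq_one h)

theorem pow_eq_one_of_mem_sylow {q : ℕ} (S : Sylow q G) (s : G) (hs : s ∈ (S : Subgroup G)) :
    ∃ k, s ^ (q ^ k) = 1 := by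
  obtain ⟨k, hk⟩ := S.isPGroup' ⟨s, hs⟩
  refine ⟨k, ?_⟩
  have := congrArg Subtype.val hk
  simpa using this

theorem mem_smul_sylow_iff {p : ℕ} (P : Sylow p G) (g x : G) :
    x ∈ ((g • P : Sylow p G) : Subgroup G) ↔ ∃ s ∈ (P : Subgroup G), g * s * g⁻¹ = x := by
  show x ∈ MulAut.conj g • (P : Subgroup G) ↔ _
  rw [Subgroup.mem_smul_pointwise_iff_exists]
  simp only [MulAut.smul_def, MulAut.conj_apply]

theorem mem_sylow_of_mem_normalizer {p : ℕ} [Fact p.Prime] (P : Sylow p G) (z : G) (k : ℕ)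
    (hz : z ^ (p ^ k) = 1) (hzN : z ∈ Subgroup.normalizer ((P : Subgroup G) : Set G)) :
    z ∈ (P : Subgroup G) := by
  have hpg := isPGroup_zpowers_of_pow_eq_one (p := p) z k hz
  have h1 := hpg.inf_normalizer_sylow P
  have h2 : z ∈ Subgroup.zpowers z ⊓ Subgroup.normalizer ((P : Subgroup G) : Set G) :=
    ⟨Subgroup.mem_zpowers z, hzN⟩
  exact (h1.le h2).2

/-- The elementwise hypotheses on the Sylow subgroup. -/
def Hyp {p : ℕ} (P : Sylow p G) : Prop :=
  (∀ a ∈ (P : Subgroup G), ∀ b ∈ (P : Subgroup G), a * b = b * a) ∧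
  ((∃ x₀ ∈ (P : Subgroup G), ∀ y ∈ (P : Subgroup G), y ∈ Subgroup.zpowers x₀) ∨
    (∃ x ∈ (P : Subgroup G), x ^ p ≠ 1)) ∧
  (∃ y ∈ (P : Subgroup G), y ≠ 1)

theorem comm_smul {p : ℕ} (P : Sylow p G)
    (hab : ∀ a ∈ (P : Subgroup G), ∀ b ∈ (P : Subgroup G), a * b = b * a) (g : G) :
    ∀ a ∈ ((g • P : Sylow p G) : Subgroup G), ∀ b ∈ ((g • P : Sylow p G) : Subgroup G),
      a * b = b * a := by
  intro a ha b hb
  obtain ⟨s, hs, rfl⟩ := (mem_smul_sylow_iff P g a).mp ha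
  obtain ⟨t, ht, rfl⟩ := (mem_smul_sylow_iff P g b).mp hb
  have h := hab s hs t ht
  calc g * s * g⁻¹ * (g * t * g⁻¹) = g * (s * t) * g⁻¹ := by group
    _ = g * (t * s) * g⁻¹ := by rw [h]
    _ = g * t * g⁻¹ * (g * s * g⁻¹) := by group

theorem Hyp.smul {p : ℕ} {P : Sylow p G} (h : Hyp P) (g : G) : Hyp (g • P) := by
  obtain ⟨hab, hcase, y, hy, hy1⟩ := h
  refine ⟨comm_smul P hab g, ?_, ?_⟩
  · rcases hcase with ⟨x₀, hx₀, hgen⟩ | ⟨x, hx, hxp⟩
    · left
      refine ⟨g * x₀ * g⁻¹, (mem_smul_sylow_iff P g _).mpr ⟨x₀, hx₀, rfl⟩, ?_⟩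
      intro y' hy'
      obtain ⟨s, hs, rfl⟩ := (mem_smul_sylow_iff P g y').mp hy'
      obtain ⟨i, rfl⟩ := Subgroup.mem_zpowers_iff.mp (hgen s hs)
      exact Subgroup.mem_zpowers_iff.mpr ⟨i, conj_zpow⟩
    · right
      refine ⟨g * x * g⁻¹, (mem_smul_sylow_iff P g _).mpr ⟨x, hx, rfl⟩, ?_⟩
      rw [conj_pow]
      intro h
      exact hxp (conj_eq_one_iff.mp h)
  · refine ⟨g * y * g⁻¹, (mem_smul_sylow_iff P g _).mpr ⟨y, hy, rfl⟩, ?_⟩
    intro h
    exact hy1 (conj_eq_one_iff.mp h)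

theorem exists_ne_one_of_not_normal (K : Subgroup G) (hnn : ¬ K.Normal) :
    ∃ y ∈ K, y ≠ 1 := by
  by_contra hcon
  apply hnn
  have hK : K = ⊥ := (Subgroup.eq_bot_iff_forall K).mpr (fun y hy => by
    by_contra hy1
    exact hcon ⟨y, hy, hy1⟩)
  rw [hK]
  infer_instance

theorem hyp_of_cyclic {p : ℕ} (P : Sylow p G) (hcyc : IsCyclic ↥(P : Subgroup G))
    (hnn : ¬ (P : Subgroup G).Normal) : Hyp P := by
  haveI := hcyc
  obtain ⟨⟨x₀, hx₀⟩, hgen⟩ := IsCyclic.exists_generator (α := ↥(P : Subgroup G))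
  have hgen' : ∀ y ∈ (P : Subgroup G), y ∈ Subgroup.zpowers x₀ := by
    intro y hy
    obtain ⟨i, hi⟩ := Subgroup.mem_zpowers_iff.mp (hgen ⟨y, hy⟩)
    refine Subgroup.mem_zpowers_iff.mpr ⟨i, ?_⟩
    have := congrArg Subtype.val hi
    simpa using this
  refine ⟨?_, Or.inl ⟨x₀, hx₀, hgen'⟩, exists_ne_one_of_not_normal _ hnn⟩
  intro a ha b hb
  obtain ⟨i, rfl⟩ := Subgroup.mem_zpowers_iff.mp (hgen' a ha)
  obtain ⟨j, rfl⟩ := Subgroup.mem_zpowers_iff.mp (hgen' b hb)
  exact ((Commute.refl x₀).zpow_zpow i j).eq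

theorem hyp_of_nonelem {p : ℕ} (P : Sylow p G) (hab : IsMulCommutative ↥(P : Subgroup G))
    (hne : ∃ x ∈ (P : Subgroup G), x ^ p ≠ 1) (hnn : ¬ (P : Subgroup G).Normal) : Hyp P := by
  haveI := hab
  refine ⟨?_, Or.inr hne, exists_ne_one_of_not_normal _ hnn⟩
  intro a ha b hb
  exact congrArg Subtype.val (mul_comm' (⟨a, ha⟩ : ↥(P : Subgroup G)) ⟨b, hb⟩)

end Basic

section Gen

theorem eq_top_of_sylow_le {B : Type*} [Group B] [Finite B] (K : Subgroup B)
    (h : ∀ q : ℕ, q.Prime → ∃ S : Sylow q B, (S : Subgroup B) ≤ K) : K = ⊤ := by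
  have hB0 : Nat.card B ≠ 0 := Nat.card_pos.ne'
  have hK0 : Nat.card K ≠ 0 := Nat.card_pos.ne'
  have h1 : Nat.card B ∣ Nat.card K := by
    rw [← Nat.factorization_prime_le_iff_dvd hB0 hK0]
    intro q hq
    obtain ⟨S, hS⟩ := h q hq
    haveI : Fact q.Prime := ⟨hq⟩
    have h2 : q ^ (Nat.card B).factorization q ∣ Nat.card K := by
      rw [← S.card_eq_multiplicity]
      exact Subgroup.card_dvd_of_le hS
    exact (hq.pow_dvd_iff_le_factorization hK0).mp h2
  have h3 : Nat.card K ∣ Nat.card B := Subgroup.card_subgroup_dvd_card K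
  exact Subgroup.eq_top_of_card_eq K (Nat.dvd_antisymm h3 h1)

theorem eq_top_of_sylow_le' {B : Type*} [Group B] [Finite B] (K : Subgroup B) (p : ℕ)
    (hp : ∃ S : Sylow p B, (S : Subgroup B) ≤ K)
    (h : ∀ q : ℕ, q.Prime → q ≠ p → ∃ S : Sylow q B, (S : Subgroup B) ≤ K) : K = ⊤ := by
  apply eq_top_of_sylow_le
  intro q hq
  by_cases hqp : q = p
  · rw [hqp]; exact hp
  · exact h q hq hqp

theorem sylow_normal_of_nilpotent {B : Type*} [Group B] [Finite B] (hB : Group.IsNilpotent B)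
    (q : ℕ) [hq : Fact q.Prime] (S : Sylow q B) : (S : Subgroup B).Normal := by
  have h := (Group.isNilpotent_of_finite_tfae (G := B)).out 0 3 rfl rfl
  exact h.mp hB q hq S

end Gen

section Cover

variable {G : Type*} [Group G] [Finite G] {p : ℕ} [Fact p.Prime]

/-- In a nilpotent subgroup, a `p`-element is central when the Sylow `p`-subgroups of `G` are
abelian. -/
theorem nilpotent_commute (P : Sylow p G)
    (hab : ∀ a ∈ (P : Subgroup G), ∀ b ∈ (P : Subgroup G), a * b = b * a)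
    (B : Subgroup G) (hB : Group.IsNilpotent ↥B) (y : G) (hyB : y ∈ B) (k : ℕ)
    (hyk : y ^ (p ^ k) = 1) (b : G) (hb : b ∈ B) : b * y = y * b := by
  obtain ⟨y', hy'⟩ : ∃ y' : ↥B, (y' : G) = y := ⟨⟨y, hyB⟩, rfl⟩
  have hy'k : y' ^ (p ^ k) = 1 := by
    apply Subtype.ext
    simp [hy', hyk]
  have hpg : IsPGroup p (Subgroup.zpowers y') := isPGroup_zpowers_of_pow_eq_one y' k hy'k
  obtain ⟨Q, hQ⟩ := hpg.exists_le_sylow
  have hyQ : y' ∈ (Q : Subgroup ↥B) := hQ (Subgroup.mem_zpowers y')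
  have hQc : ∀ a ∈ (Q : Subgroup ↥B), ∀ c ∈ (Q : Subgroup ↥B), a * c = c * a := by
    have hmap : IsPGroup p ((Q : Subgroup ↥B).map B.subtype) := Q.isPGroup'.map _
    obtain ⟨P', hP'⟩ := hmap.exists_le_sylow
    obtain ⟨g, rfl⟩ := MulAction.exists_smul_eq G P P'
    have hc := comm_smul P hab g
    intro a ha c hc'
    have h1 : (a : G) ∈ ((g • P : Sylow p G) : Subgroup G) :=
      hP' (Subgroup.mem_map_of_mem _ ha)
    have h2 : (c : G) ∈ ((g • P : Sylow p G) : Subgroup G) :=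
      hP' (Subgroup.mem_map_of_mem _ hc')
    exact Subtype.ext (hc _ h1 _ h2)
  have htop : Subgroup.centralizer ({y'} : Set ↥B) = ⊤ := by
    apply eq_top_of_sylow_le' _ p
    · refine ⟨Q, fun a ha => ?_⟩
      rw [Subgroup.mem_centralizer_iff]
      intro h hh
      rw [Set.mem_singleton_iff] at hh
      rw [hh]
      exact hQc _ hyQ _ ha
    · intro q hq hqp
      haveI : Fact q.Prime := ⟨hq⟩
      obtain ⟨S⟩ := (inferInstance : Nonempty (Sylow q ↥B))
      refine ⟨S, fun a ha => ?_⟩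
      rw [Subgroup.mem_centralizer_iff]
      intro h hh
      rw [Set.mem_singleton_iff] at hh
      rw [hh]
      have hdis : Disjoint (Q : Subgroup ↥B) (S : Subgroup ↥B) :=
        IsPGroup.disjoint_of_ne p q (Ne.symm hqp) _ _ Q.isPGroup' S.isPGroup'
      exact (Subgroup.commute_of_normal_of_disjoint _ _
        (sylow_normal_of_nilpotent hB p Q) (sylow_normal_of_nilpotent hB q S) hdis
        y' a hyQ ha).eq
  have hmem : (⟨b, hb⟩ : ↥B) ∈ Subgroup.centralizer ({y'} : Set ↥B) := by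
    rw [htop]; exact Subgroup.mem_top _
  have h2 := congrArg Subtype.val
    (Subgroup.mem_centralizer_iff.mp hmem y' (Set.mem_singleton _))
  have h3 : y * b = b * y := by simpa [hy'] using h2
  exact h3.symm

/-- The cover hypotheses, bundled. -/
def Cov (𝓐 : Finset (Subgroup G)) : Prop :=
  Subgroup.center G = ⊥ ∧ (∀ A ∈ 𝓐, A ≠ ⊤) ∧ (∀ g : G, ∃ A ∈ 𝓐, g ∈ A) ∧
  (∀ 𝓑 : Finset (Subgroup G),
    (∀ A ∈ 𝓑, A ≠ ⊤) ∧ (∀ g : G, ∃ A ∈ 𝓑, g ∈ A) → 𝓐.card ≤ 𝓑.card) ∧
  (∀ A ∈ 𝓐, Group.IsNilpotent ↥A)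

theorem unique_member {𝓐 : Finset (Subgroup G)} (hc : Cov 𝓐) (P : Sylow p G)
    (hab : ∀ a ∈ (P : Subgroup G), ∀ b ∈ (P : Subgroup G), a * b = b * a)
    (y : G) (hy1 : y ≠ 1) (k : ℕ) (hyk : y ^ (p ^ k) = 1)
    (A B : Subgroup G) (hA : A ∈ 𝓐) (hB : B ∈ 𝓐) (hyA : y ∈ A) (hyB : y ∈ B) : A = B := by
  obtain ⟨hZ, hprop, hcov, hmin, hnil⟩ := hc
  have hC : Subgroup.centralizer ({y} : Set G) ≠ ⊤ := by
    intro htop
    apply hy1
    have hyc : y ∈ Subgroup.center G := by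
      rw [Subgroup.mem_center_iff]
      intro g
      have hg : g ∈ Subgroup.centralizer ({y} : Set G) := by
        rw [htop]; exact Subgroup.mem_top g
      exact (Subgroup.mem_centralizer_iff.mp hg y (Set.mem_singleton y)).symm
    rw [hZ] at hyc
    exact Subgroup.mem_bot.mp hyc
  refine cover_unique_of_le 𝓐 hprop hcov hmin _ hC A B hA hB ?_ ?_
  · intro b hb
    rw [Subgroup.mem_centralizer_iff]
    intro h hh
    rw [Set.mem_singleton_iff] at hh
    rw [hh]
    exact (nilpotent_commute P hab A (hnil A hA) y hyA k hyk b hb).symm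
  · intro b hb
    rw [Subgroup.mem_centralizer_iff]
    intro h hh
    rw [Set.mem_singleton_iff] at hh
    rw [hh]
    exact (nilpotent_commute P hab B (hnil B hB) y hyB k hyk b hb).symm

theorem exists_member_ge {𝓐 : Finset (Subgroup G)} (hc : Cov 𝓐) (P : Sylow p G) (hH : Hyp P) :
    ∃ A ∈ 𝓐, (P : Subgroup G) ≤ A := by
  have hcov : ∀ g : G, ∃ A ∈ 𝓐, g ∈ A := by
    obtain ⟨-, -, h, -, -⟩ := hc
    exact h
  obtain ⟨hab, hcase, -⟩ := hH
  rcases hcase with ⟨x₀, hx₀, hgen⟩ | ⟨x, hx, hxp⟩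
  · obtain ⟨A, hA, hxA⟩ := hcov x₀
    refine ⟨A, hA, fun y hy => ?_⟩
    obtain ⟨i, rfl⟩ := Subgroup.mem_zpowers_iff.mp (hgen y hy)
    exact A.zpow_mem hxA i
  · obtain ⟨A, hA, huA⟩ := hcov (x ^ p)
    obtain ⟨kx, hkx⟩ := pow_eq_one_of_mem_sylow P x hx
    have huk : (x ^ p) ^ (p ^ kx) = 1 := by
      rw [← pow_mul, mul_comm, pow_mul, hkx, one_pow]
    have hroot : ∀ w : G, w ^ p = x ^ p → w ∈ A := by
      intro w hw
      obtain ⟨B, hB, hwB⟩ := hcov w
      have huB : x ^ p ∈ B := by rw [← hw]; exact B.pow_mem hwB p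
      have hBA : B = A := unique_member hc P hab (x ^ p) hxp kx huk B A hB hA huB huA
      rw [← hBA]; exact hwB
    have hxA : x ∈ A := hroot x rfl
    have hom : ∀ z ∈ (P : Subgroup G), z ^ p = 1 → z ∈ A := by
      intro z hz hzp
      have hcm : Commute x z := hab x hx z hz
      have h1 : (x * z) ^ p = x ^ p := by rw [hcm.mul_pow, hzp, mul_one]
      have h2 := hroot (x * z) h1
      have h3 : z = x⁻¹ * (x * z) := by group
      rw [h3]
      exact A.mul_mem (A.inv_mem hxA) h2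
    refine ⟨A, hA, fun z hz => ?_⟩
    by_cases hz1 : z = 1
    · rw [hz1]; exact A.one_mem
    classical
    have hex : ∃ k, z ^ (p ^ k) = 1 := pow_eq_one_of_mem_sylow P z hz
    have hjspec : z ^ (p ^ Nat.find hex) = 1 := Nat.find_spec hex
    have hj0 : Nat.find hex ≠ 0 := by
      intro h0
      rw [h0, pow_zero, pow_one] at hjspec
      exact hz1 hjspec
    obtain ⟨i, hi⟩ : ∃ i, Nat.find hex = i + 1 := ⟨Nat.find hex - 1, by omega⟩
    have hz'1 : z ^ (p ^ i) ≠ 1 := Nat.find_min hex (by omega)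
    have hz'p : (z ^ (p ^ i)) ^ p = 1 := by
      rw [← pow_mul, ← pow_succ, ← hi]; exact hjspec
    have hz'P : z ^ (p ^ i) ∈ (P : Subgroup G) := (P : Subgroup G).pow_mem hz _
    have hz'A : z ^ (p ^ i) ∈ A := hom _ hz'P hz'p
    obtain ⟨B, hB, hzB⟩ := hcov z
    have hz'B : z ^ (p ^ i) ∈ B := B.pow_mem hzB _
    have hBA : B = A := unique_member hc P hab (z ^ (p ^ i)) hz'1 1
      (by rw [pow_one]; exact hz'p) B A hB hA hz'B hz'A
    rw [← hBA]; exact hzB

theorem centralizer_eq_member {𝓐 : Finset (Subgroup G)} (hc : Cov 𝓐) (P : Sylow p G)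
    (hH : Hyp P) (A : Subgroup G) (hA : A ∈ 𝓐) (hPA : (P : Subgroup G) ≤ A) :
    Subgroup.centralizer ((P : Subgroup G) : Set G) = A := by
  have hcov : ∀ g : G, ∃ A ∈ 𝓐, g ∈ A := by
    obtain ⟨-, -, h, -, -⟩ := hc
    exact h
  have hnil : ∀ A ∈ 𝓐, Group.IsNilpotent ↥A := by
    obtain ⟨-, -, -, -, h⟩ := hc
    exact h
  obtain ⟨hab, -, y, hy, hy1⟩ := hH
  apply le_antisymm
  · obtain ⟨C, hC⟩ : ∃ C : Subgroup G, C = Subgroup.centralizer ((P : Subgroup G) : Set G) :=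
      ⟨_, rfl⟩
    rw [← hC]
    have hPC : (P : Subgroup G) ≤ C := by
      intro a ha
      rw [hC, Subgroup.mem_centralizer_iff]
      intro h hh
      exact hab h hh a ha
    have hCc : ∀ c ∈ C, ∀ h ∈ (P : Subgroup G), h * c = c * h := by
      intro c hc' h hh
      rw [hC] at hc'
      exact Subgroup.mem_centralizer_iff.mp hc' h hh
    have htop : A.subgroupOf C = ⊤ := by
      apply eq_top_of_sylow_le' _ p
      · refine ⟨P.subtype hPC, fun s hs => ?_⟩
        have hs' : s ∈ (P : Subgroup G).subgroupOf C := hs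
        rw [Subgroup.mem_subgroupOf] at hs' ⊢
        exact hPA hs'
      · intro q hq hqp
        haveI : Fact q.Prime := ⟨hq⟩
        obtain ⟨S⟩ := (inferInstance : Nonempty (Sylow q ↥C))
        refine ⟨S, fun s hs => ?_⟩
        rw [Subgroup.mem_subgroupOf]
        obtain ⟨k, hk⟩ := pow_eq_one_of_mem_sylow S s hs
        have hgk : (s : G) ^ (q ^ k) = 1 := by
          have := congrArg Subtype.val hk
          simpa using this
        have hcomm : Commute y (s : G) := hCc (s : G) s.2 y hy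
        obtain ⟨B, hB, hygB⟩ := hcov (y * (s : G))
        have h1 : (y * (s : G)) ^ (q ^ k) = y ^ (q ^ k) := by
          rw [hcomm.mul_pow, hgk, mul_one]
        have h2 : y ^ (q ^ k) ∈ B := by rw [← h1]; exact B.pow_mem hygB _
        obtain ⟨ky, hky⟩ := pow_eq_one_of_mem_sylow P y hy
        have hcop : (q ^ k).Coprime (orderOf y) := by
          have hdvd : orderOf y ∣ p ^ ky := orderOf_dvd_of_pow_eq_one hky
          have hqp' : (q ^ k).Coprime (p ^ ky) :=
            Nat.Coprime.pow _ _ ((Nat.coprime_primes hq (Fact.out : p.Prime)).mpr hqp)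
          exact Nat.Coprime.coprime_dvd_right hdvd hqp'
        obtain ⟨m, hm⟩ := exists_pow_eq_self_of_coprime hcop
        have hyB : y ∈ B := by
          have h3 := B.pow_mem h2 m
          rwa [hm] at h3
        have hBA : B = A := unique_member hc P hab y hy1 ky hky B A hB hA hyB (hPA hy)
        have h4 : (s : G) = y⁻¹ * (y * (s : G)) := by group
        rw [h4]
        exact A.mul_mem (A.inv_mem (hPA hy)) (by rw [← hBA]; exact hygB)
    exact Subgroup.subgroupOf_eq_top.mp htop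
  · intro a ha
    rw [Subgroup.mem_centralizer_iff]
    intro h hh
    obtain ⟨k, hk⟩ := pow_eq_one_of_mem_sylow P h hh
    exact (nilpotent_commute P hab A (hnil A hA) h (hPA hh) k hk a ha).symm

omit [Finite G] in
theorem mem_normalizer_of_centralizer_eq (P : Sylow p G)
    (hab : ∀ a ∈ (P : Subgroup G), ∀ b ∈ (P : Subgroup G), a * b = b * a) (g : G)
    (h : Subgroup.centralizer (((g • P : Sylow p G) : Subgroup G) : Set G) =
      Subgroup.centralizer ((P : Subgroup G) : Set G)) :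
    g ∈ Subgroup.normalizer ((P : Subgroup G) : Set G) := by
  have habg := comm_smul P hab g
  have h1 : ((g • P : Sylow p G) : Subgroup G) ≤
      Subgroup.normalizer ((P : Subgroup G) : Set G) := by
    intro a ha
    have hac : a ∈ Subgroup.centralizer ((P : Subgroup G) : Set G) := by
      rw [← h, Subgroup.mem_centralizer_iff]
      intro b hb
      exact habg b hb a ha
    exact Subgroup.centralizer_le_normalizer _ hac
  have h2 : ((g • P : Sylow p G) : Subgroup G) ≤ (P : Subgroup G) := by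
    intro a ha
    obtain ⟨k, hk⟩ := pow_eq_one_of_mem_sylow (g • P) a ha
    exact mem_sylow_of_mem_normalizer P a k hk (h1 ha)
  have h3 : (g • P : Sylow p G) = P :=
    Sylow.ext ((g • P).is_maximal' P.isPGroup' h2).symm
  exact Sylow.smul_eq_iff_mem_normalizer.mp h3

theorem le_normalizer_of_centralizer_le {𝓐 : Finset (Subgroup G)} (hc : Cov 𝓐) (P : Sylow p G)
    (hH : Hyp P) (M : Subgroup G) (hM : M ≠ ⊤)
    (hCM : Subgroup.centralizer ((P : Subgroup G) : Set G) ≤ M) :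
    M ≤ Subgroup.normalizer ((P : Subgroup G) : Set G) := by
  intro m hm
  obtain ⟨A, hA, hPA⟩ := exists_member_ge hc P hH
  have hCA := centralizer_eq_member hc P hH A hA hPA
  have hH' := hH.smul m
  obtain ⟨A', hA', hPA'⟩ := exists_member_ge hc (m • P) hH'
  have hCA' := centralizer_eq_member hc (m • P) hH' A' hA' hPA'
  have hA'M : A' ≤ M := by
    rw [← hCA']
    intro c hc'
    have h1 : m⁻¹ * c * m ∈ Subgroup.centralizer ((P : Subgroup G) : Set G) := by
      rw [Subgroup.mem_centralizer_iff]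
      intro h hh
      have h2 : m * h * m⁻¹ ∈ ((m • P : Sylow p G) : Subgroup G) :=
        (mem_smul_sylow_iff P m _).mpr ⟨h, hh, rfl⟩
      have h3 := Subgroup.mem_centralizer_iff.mp hc' _ h2
      calc h * (m⁻¹ * c * m) = m⁻¹ * ((m * h * m⁻¹) * c) * m := by group
        _ = m⁻¹ * (c * (m * h * m⁻¹)) * m := by rw [h3]
        _ = m⁻¹ * c * m * h := by group
    have h4 := hCM h1
    have h5 : c = m * (m⁻¹ * c * m) * m⁻¹ := by group
    rw [h5]
    exact M.mul_mem (M.mul_mem hm h4) (M.inv_mem hm)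
  have hAM : A ≤ M := by rw [← hCA]; exact hCM
  have hprop : ∀ A ∈ 𝓐, A ≠ ⊤ := by
    obtain ⟨-, h, -, -, -⟩ := hc
    exact h
  have hcov : ∀ g : G, ∃ A ∈ 𝓐, g ∈ A := by
    obtain ⟨-, -, h, -, -⟩ := hc
    exact h
  have hmin : ∀ 𝓑 : Finset (Subgroup G),
      (∀ A ∈ 𝓑, A ≠ ⊤) ∧ (∀ g : G, ∃ A ∈ 𝓑, g ∈ A) → 𝓐.card ≤ 𝓑.card := by
    obtain ⟨-, -, -, h, -⟩ := hc
    exact h
  have hEq : A' = A := cover_unique_of_le 𝓐 hprop hcov hmin M hM A' A hA' hA hA'M hAM
  have hab := hH.1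
  exact mem_normalizer_of_centralizer_eq P hab m (by rw [hCA', hCA, hEq])

theorem not_dvd_card_inf_conj {𝓐 : Finset (Subgroup G)} (hc : Cov 𝓐) (P : Sylow p G)
    (hH : Hyp P) (g : G) (hg : g ∉ Subgroup.normalizer ((P : Subgroup G) : Set G)) :
    ¬ p ∣ Nat.card ↥(Subgroup.normalizer ((P : Subgroup G) : Set G) ⊓
      (Subgroup.normalizer ((P : Subgroup G) : Set G)).map (MulAut.conj g).toMonoidHom) := by
  intro hdvd
  obtain ⟨y, hy⟩ := exists_prime_orderOf_dvd_card' p hdvd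
  have hyo : orderOf (y : G) = p := by rw [Subgroup.orderOf_coe]; exact hy
  have hyp : (y : G) ^ (p ^ 1) = 1 := by
    rw [pow_one]
    have := pow_orderOf_eq_one (y : G)
    rwa [hyo] at this
  have hy1 : (y : G) ≠ 1 := by
    intro h
    rw [h, orderOf_one] at hyo
    exact (Fact.out : p.Prime).one_lt.ne hyo
  obtain ⟨hyN, hyM⟩ := Subgroup.mem_inf.mp y.2
  obtain ⟨n, hnN, hn⟩ := Subgroup.mem_map.mp hyM
  have hn' : g * n * g⁻¹ = (y : G) := hn
  have hnp : n ^ (p ^ 1) = 1 := by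
    have h1 : (g * n * g⁻¹) ^ (p ^ 1) = 1 := by rw [hn']; exact hyp
    rw [conj_pow] at h1
    exact conj_eq_one_iff.mp h1
  have hyP : (y : G) ∈ (P : Subgroup G) := mem_sylow_of_mem_normalizer P _ 1 hyp hyN
  have hnP : n ∈ (P : Subgroup G) := mem_sylow_of_mem_normalizer P n 1 hnp hnN
  have hyP' : (y : G) ∈ ((g • P : Sylow p G) : Subgroup G) :=
    (mem_smul_sylow_iff P g _).mpr ⟨n, hnP, hn'⟩
  obtain ⟨A, hA, hPA⟩ := exists_member_ge hc P hH
  have hCA := centralizer_eq_member hc P hH A hA hPA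
  have hH' := hH.smul g
  obtain ⟨A', hA', hPA'⟩ := exists_member_ge hc (g • P) hH'
  have hCA' := centralizer_eq_member hc (g • P) hH' A' hA' hPA'
  have hab := hH.1
  have hEq : A' = A :=
    unique_member hc P hab (y : G) hy1 1 hyp A' A hA' hA (hPA' hyP') (hPA hyP)
  exact hg (mem_normalizer_of_centralizer_eq P hab g (by rw [hCA', hCA, hEq]))

theorem main_normalizer {𝓐 : Finset (Subgroup G)} (hc : Cov 𝓐) (P : Sylow p G) (hH : Hyp P)
    (hnn : ¬ (P : Subgroup G).Normal) :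
    (∃ A ∈ 𝓐, (P : Subgroup G) ≤ A ∧
      Subgroup.centralizer ((P : Subgroup G) : Set G) = A) ∧
    IsCoatom (Subgroup.normalizer ((P : Subgroup G) : Set G)) ∧
    (∀ M : Subgroup G, IsCoatom M → Subgroup.centralizer ((P : Subgroup G) : Set G) ≤ M →
        M = Subgroup.normalizer ((P : Subgroup G) : Set G)) ∧
    (∀ g : G, g ∉ Subgroup.normalizer ((P : Subgroup G) : Set G) →
        ¬ p ∣ Nat.card ↥(Subgroup.normalizer ((P : Subgroup G) : Set G) ⊓
          (Subgroup.normalizer ((P : Subgroup G) : Set G)).map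
            (MulAut.conj g).toMonoidHom)) := by
  obtain ⟨A, hA, hPA⟩ := exists_member_ge hc P hH
  have hCA := centralizer_eq_member hc P hH A hA hPA
  have hN : Subgroup.normalizer ((P : Subgroup G) : Set G) ≠ ⊤ :=
    fun h => hnn (Subgroup.normalizer_eq_top_iff.mp h)
  have hkey := le_normalizer_of_centralizer_le hc P hH
  have hcoat : IsCoatom (Subgroup.normalizer ((P : Subgroup G) : Set G)) := by
    rcases eq_top_or_exists_le_coatom (Subgroup.normalizer ((P : Subgroup G) : Set G)) with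
      h | ⟨M, hM, hNM⟩
    · exact absurd h hN
    · have h1 : M ≤ Subgroup.normalizer ((P : Subgroup G) : Set G) :=
        hkey M hM.1 (le_trans (Subgroup.centralizer_le_normalizer _) hNM)
      have h2 : M = Subgroup.normalizer ((P : Subgroup G) : Set G) := le_antisymm h1 hNM
      rw [← h2]; exact hM
  refine ⟨⟨A, hA, hPA, hCA⟩, hcoat, ?_, ?_⟩
  · intro M hM hCM
    have h1 := hkey M hM.1 hCM
    rcases hM.le_iff.mp h1 with h | h
    · exact absurd h hN
    · exact h.symm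
  · intro g hg
    exact not_dvd_card_inf_conj hc P hH g hg

end Cover

end Cfsg.Agent.Lib.Helper19.NilCover
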