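import Mathlib
import Cfsg.Agent.Lib.Helper9.BGExc3
import Cfsg.Agent.Lib.Helper10.BGEleven
import Cfsg.Agent.Lib.Helper10.BGTwelve
import Cfsg.Agent.Lib.Helper10.FittingHall
import Cfsg.Agent.Lib.Helper1.Hall

/-!
Complements `E` of `M_σ` in a maximal subgroup `M` of a minimal simple group of odd order:
cardinalities, conjugates, dominance (Hall), Sylow subgroups.
-/

set_option autoImplicit false
open Cfsg

namespace Cfsg.Agent.Lib.Helper19.BGCompl

open Cfsg.Agent.Lib.Helper10.BG Cfsg.Agent.Lib.Helper10 Cfsg.Agent.Lib.Helper9.BGExc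
open scoped Pointwise

variable {G : Type*} [Group G]

section Basic

variable {M E : Subgroup G}

theorem compl_le (hE : IsComplIn E (sigmaCore M) M) : E ≤ M := hE.1

theorem compl_inf (hE : IsComplIn E (sigmaCore M) M) : E ⊓ sigmaCore M = ⊥ := hE.2.2.1

theorem compl_card (hE : IsComplIn E (sigmaCore M) M) :
    Nat.card M = Nat.card E * Nat.card (sigmaCore M) :=
  Cfsg.Agent.Lib.Helper10.IsComplIn.card_eq hE

variable [Finite G]

theorem compl_relIndex (hE : IsComplIn E (sigmaCore M) M) :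
    (sigmaCore M).relIndex M = Nat.card E := by
  have h1 := Cfsg.Agent.Lib.Helper12.card_mul_relIndex_eq (sigmaCore_le M)
  rw [compl_card hE, mul_comm] at h1
  exact Nat.eq_of_mul_eq_mul_right Nat.card_pos h1

theorem compl_relIndex' (hE : IsComplIn E (sigmaCore M) M) :
    E.relIndex M = Nat.card (sigmaCore M) := by
  have h1 := Cfsg.Agent.Lib.Helper12.card_mul_relIndex_eq hE.1
  rw [compl_card hE] at h1
  exact Nat.eq_of_mul_eq_mul_left Nat.card_pos h1

theorem compl_not_mem_sigma (hG : IsMinSimpleOddOrder G) (hM : IsCoatom M)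
    (hE : IsComplIn E (sigmaCore M) M) {q : ℕ} (hq : q.Prime) (hd : q ∣ Nat.card E) :
    q ∉ sigma M := by
  intro hqσ
  apply not_dvd_relIndex_sigmaCore hG hM hq hqσ
  rw [compl_relIndex hE]
  exact hd

theorem compl_coprime (hG : IsMinSimpleOddOrder G) (hM : IsCoatom M)
    (hE : IsComplIn E (sigmaCore M) M) : (Nat.card E).Coprime (Nat.card (sigmaCore M)) := by
  apply Nat.Coprime.symm
  apply Nat.coprime_of_dvd
  intro q hq hd1 hd2
  exact compl_not_mem_sigma hG hM hE hq hd2 (mem_sigma_of_dvd_card_sigmaCore hG hM hq hd1)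

/-- a subgroup of `M` none of whose prime divisors lies in `σ(M)` has order coprime to `|M_σ|`. -/
theorem coprime_card_sigmaCore_of (hG : IsMinSimpleOddOrder G) (hM : IsCoatom M)
    {K : Subgroup G} (hK : ∀ q : ℕ, q.Prime → q ∣ Nat.card K → q ∉ sigma M) :
    (Nat.card K).Coprime (Nat.card (sigmaCore M)) := by
  apply Nat.Coprime.symm
  apply Nat.coprime_of_dvd
  intro q hq hd1 hd2
  exact hK q hq hd2 (mem_sigma_of_dvd_card_sigmaCore hG hM hq hd1)

theorem compl_conj (hE : IsComplIn E (sigmaCore M) M) {m : G} (hm : m ∈ M) :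
    IsComplIn (cj m E) (sigmaCore M) M := by
  have hσ : cj m (sigmaCore M) = sigmaCore M :=
    cj_eq_self_of_mem_normalizer (le_normalizer_sigmaCore M hm)
  refine ⟨cj_le_of_mem hm hE.1, sigmaCore_le M, ?_, ?_⟩
  · rw [← hσ, ← cj_inf, hE.2.2.1, cj_bot]
  · intro x hx
    have h1 : m⁻¹ * x * m ∈ M := M.mul_mem (M.mul_mem (M.inv_mem hm) hx) hm
    obtain ⟨a, ha, b, hb, hab⟩ := hE.2.2.2 _ h1
    refine ⟨m * a * m⁻¹, conj_mem_cj ha, m * b * m⁻¹, ?_, ?_⟩
    · rw [← hσ]
      exact conj_mem_cj hb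
    · calc x = m * (m⁻¹ * x * m) * m⁻¹ := by group
        _ = m * (a * b) * m⁻¹ := by rw [hab]
        _ = m * a * m⁻¹ * (m * b * m⁻¹) := by group

/-- **Hall dominance** for the complements of `M_σ`: a `σ(M)'`-subgroup of `M` lies in an
`M`-conjugate of `E`. -/
theorem compl_dominance (hG : IsMinSimpleOddOrder G) (hM : IsCoatom M)
    (hE : IsComplIn E (sigmaCore M) M) {K : Subgroup G} (hKM : K ≤ M)
    (hK : ∀ q : ℕ, q.Prime → q ∣ Nat.card K → q ∉ sigma M) :
    ∃ m ∈ M, K ≤ cj m E := by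
  have hsolv : Group.IsSolvable ↥M := isSolvable_of_ne_top hG hM.1
  have hcard : Nat.card ↥M = Nat.card E * Nat.card (sigmaCore M) := compl_card hE
  have hcop := compl_coprime hG hM hE
  have hH : Nat.card (E.subgroupOf M) = Nat.card E := card_subgroupOf_of_le hE.1
  have hK' : (Nat.card (K.subgroupOf M)).Coprime (Nat.card (sigmaCore M)) := by
    rw [card_subgroupOf_of_le hKM]
    exact coprime_card_sigmaCore_of hG hM hK
  obtain ⟨g, hg⟩ := Cfsg.Agent.Lib.Helper1.hall_le_conj (G := ↥M) _ _ hcard hcop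
    (E.subgroupOf M) (K.subgroupOf M) hH hK'
  refine ⟨(g : G), g.2, ?_⟩
  intro k hk
  have h1 : (⟨k, hKM hk⟩ : ↥M) ∈ MulAut.conj g • E.subgroupOf M :=
    hg (Subgroup.mem_subgroupOf.mpr hk)
  rw [Subgroup.mem_pointwise_smul_iff_inv_smul_mem] at h1
  rw [mem_cj]
  have h2 := Subgroup.mem_subgroupOf.mp h1
  simpa [MulAut.smul_def, MulAut.conj_inv_apply, mul_assoc] using h2

theorem compl_isSylowIn (hG : IsMinSimpleOddOrder G) (hM : IsCoatom M)
    (hE : IsComplIn E (sigmaCore M) M) {q : ℕ} [Fact q.Prime] (hq : q ∉ sigma M)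
    {Q : Subgroup G} (hQ : IsSylowIn q Q E) : IsSylowIn q Q M := by
  apply hQ.of_not_dvd_relIndex hE.1
  rw [compl_relIndex' hE]
  intro hd
  exact hq (mem_sigma_of_dvd_card_sigmaCore hG hM Fact.out hd)

end Basic

end Cfsg.Agent.Lib.Helper19.BGCompl
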