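import Mathlib
import Cfsg.Agent.Lib.Helper19.BGCompl
import Cfsg.Agent.Lib.Helper9.BGTenB
import Cfsg.Agent.S1408
import Cfsg.Agent.S1414
import Cfsg.Agent.S1416
import Cfsg.Agent.S1417
import Cfsg.Agent.S1418

/-!
Consequences of B&G Theorem 12.5 / Corollary 12.6 (statements S1417, S1418) in convenient form:
primes of `τ₂(M)`.
-/

set_option autoImplicit false
open Cfsg

namespace Cfsg.Agent.Lib.Helper19.BG12

open Cfsg.Agent.Lib.Helper10.BG Cfsg.Agent.Lib.Helper10 Cfsg.Agent.Lib.Helper9.BGExc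
open Cfsg.Agent.Lib.Helper19.BGCompl

variable {G : Type*} [Group G] [Finite G]

section Tau2

variable {M : Subgroup G} {p : ℕ} [Fact p.Prime]

theorem tau2_elem_sq (hp : p ∈ tau2 M) :
    ∃ A : Subgroup G, A ≤ M ∧ IsElementaryAbelian p A ∧ Nat.card A = p ^ 2 :=
  Cfsg.Agent.Lib.Helper9.BG10.exists_elementary_sq hp.2.2.1 hp.2.2.2

theorem tau2_not_ideal (hG : IsMinSimpleOddOrder G) (hM : IsCoatom M) (hp : p ∈ tau2 M) :
    ¬ IsIdealPrime p G :=
  (Cfsg.Agent.S1408.result hG M hM p hp.2.1 hp.2.2.1 hp.2.2.2).1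

theorem tau2_maxEA (hG : IsMinSimpleOddOrder G) (hM : IsCoatom M) (hp : p ∈ tau2 M)
    {A : Subgroup G} (hAM : A ≤ M) (hAe : IsElementaryAbelian p A) (hAc : Nat.card A = p ^ 2) :
    MaxEA p A :=
  ⟨hAe, (Cfsg.Agent.S1408.result hG M hM p hp.2.1 hp.2.2.1 hp.2.2.2).2 A hAM hAe hAc⟩

theorem isPGroup_of_elem {A : Subgroup G} (hAe : IsElementaryAbelian p A) : IsPGroup p A :=
  Cfsg.Agent.Lib.Lead.BGTrans.isPGroup_of_pow_eq_one hAe.2

theorem ne_bot_of_card_sq {A : Subgroup G} (hAc : Nat.card A = p ^ 2) : A ≠ ⊥ := by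
  intro hb
  rw [hb, Subgroup.card_bot] at hAc
  have : 1 < p ^ 2 := Nat.one_lt_pow (by norm_num) (Fact.out : p.Prime).one_lt
  omega

theorem comm_of_elem {A : Subgroup G} (hAe : IsElementaryAbelian p A) {a b : G} (ha : a ∈ A)
    (hb : b ∈ A) : a * b = b * a :=
  congrArg Subtype.val (hAe.1.is_comm.comm ⟨a, ha⟩ ⟨b, hb⟩)

theorem elem_le_centralizer {A : Subgroup G} (hAe : IsElementaryAbelian p A) :
    A ≤ Subgroup.centralizer (A : Set G) :=
  le_centralizer_of_commute (fun _ ha _ hb => comm_of_elem hAe ha hb)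

theorem tau2_elem_sq_compl (hG : IsMinSimpleOddOrder G) (hM : IsCoatom M) {E : Subgroup G}
    (hE : IsComplIn E (sigmaCore M) M) (hp : p ∈ tau2 M) :
    ∃ A : Subgroup G, A ≤ E ∧ IsElementaryAbelian p A ∧ Nat.card A = p ^ 2 := by
  obtain ⟨A', hA'M, hA'e, hA'c⟩ := tau2_elem_sq hp
  have hK : ∀ q : ℕ, q.Prime → q ∣ Nat.card A' → q ∉ sigma M := by
    intro q hq hd
    rw [hA'c] at hd
    have : q = p := (Nat.prime_dvd_prime_iff_eq hq Fact.out).mp (hq.dvd_of_dvd_pow hd)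
    rw [this]
    exact hp.2.1
  obtain ⟨m, hm, hle⟩ := compl_dominance hG hM hE hA'M hK
  refine ⟨cj m⁻¹ A', cj_le_iff.mpr (by rwa [inv_inv]), isElementaryAbelian_map _ hA'e, ?_⟩
  rw [card_cj, hA'c]

/-- every `p`-subgroup of `M` is abelian, for `p ∈ τ₂(M)`. -/
theorem tau2_pgroup_comm (hG : IsMinSimpleOddOrder G) (hM : IsCoatom M) (hp : p ∈ tau2 M)
    {Q : Subgroup G} (hQ : IsPGroup p Q) (hQM : Q ≤ M) : ∀ u ∈ Q, ∀ v ∈ Q, u * v = v * u := by
  obtain ⟨A, hAM, hAe, hAc⟩ := tau2_elem_sq hp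
  obtain ⟨-, hb, -⟩ := Cfsg.Agent.S1417.result hG M hM p hp A ⟨hAM, hAe, hAc⟩
  have hQ' : IsPGroup p (Q.subgroupOf M) := hQ.comap_subtype
  obtain ⟨P, hP⟩ := hQ'.exists_le_sylow
  intro u hu v hv
  have h1 := (hb P).1
  have := h1.is_comm.comm ⟨⟨u, hQM hu⟩, hP (Subgroup.mem_subgroupOf.mpr hu)⟩
    ⟨⟨v, hQM hv⟩, hP (Subgroup.mem_subgroupOf.mpr hv)⟩
  exact congrArg (fun z : (P : Subgroup ↥M) => ((z : ↥M) : G)) this

/-- `Ω₁` of a `p`-subgroup of `M` containing `A` is `A`. -/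
theorem tau2_omega (hG : IsMinSimpleOddOrder G) (hM : IsCoatom M) (hp : p ∈ tau2 M)
    {A : Subgroup G} (hAM : A ≤ M) (hAe : IsElementaryAbelian p A) (hAc : Nat.card A = p ^ 2)
    {Q : Subgroup G} (hQ : IsPGroup p Q) (hQM : Q ≤ M) (hAQ : A ≤ Q) {x : G} (hx : x ∈ Q)
    (hxp : x ^ p = 1) : x ∈ A := by
  obtain ⟨-, hb, -⟩ := Cfsg.Agent.S1417.result hG M hM p hp A ⟨hAM, hAe, hAc⟩
  have hQ' : IsPGroup p (Q.subgroupOf M) := hQ.comap_subtype
  obtain ⟨P, hP⟩ := hQ'.exists_le_sylow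
  have hQP : Q ≤ (P : Subgroup ↥M).map M.subtype := by
    intro y hy
    exact ⟨⟨y, hQM hy⟩, hP (Subgroup.mem_subgroupOf.mpr hy), rfl⟩
  exact (((hb P).2 (hAQ.trans hQP)).1 x (hQP hx)).mp hxp

/-- a subgroup `X` of order `p` of `A` centralizing a nonidentity element of `M_σ` has
`ℳ(C_G(X)) = {M}`. -/
theorem tau2_singular (hG : IsMinSimpleOddOrder G) (hM : IsCoatom M) (hp : p ∈ tau2 M)
    {A : Subgroup G} (hAM : A ≤ M) (hAe : IsElementaryAbelian p A) (hAc : Nat.card A = p ^ 2)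
    {X : Subgroup G} (hXA : X ≤ A) (hX1 : X ≠ ⊥)
    (hs : sigmaCore M ⊓ Subgroup.centralizer (X : Set G) ≠ ⊥) :
    Subgroup.centralizer (X : Set G) ≤ M ∧
      ∀ L : Subgroup G, IsCoatom L → Subgroup.centralizer (X : Set G) ≤ L → L = M := by
  obtain ⟨-, -, -, -, he, -⟩ := Cfsg.Agent.S1417.result hG M hM p hp A ⟨hAM, hAe, hAc⟩
  have hAC : A ≤ Subgroup.centralizer (X : Set G) :=
    (elem_le_centralizer hAe).trans (Subgroup.centralizer_le hXA)
  have huniq : ∀ L : Subgroup G, IsCoatom L → Subgroup.centralizer (X : Set G) ≤ L → L = M := by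
    intro L hL hCL
    by_contra hne
    apply hs
    have h1 := he L hL hne (hAC.trans hCL)
    exact le_bot_iff.mp (h1 ▸ inf_le_inf_left _ hCL)
  have hXtop : X ≠ ⊤ := ne_top_of_le_isCoatom hM (hXA.trans hAM)
  have hCtop : Subgroup.centralizer (X : Set G) ≠ ⊤ := by
    intro h
    apply Cfsg.Agent.Lib.Lead.BGTrans.normalizer_ne_top hG.2 hX1 hXtop
    exact top_le_iff.mp (h ▸ Subgroup.centralizer_le_normalizer _)
  obtain ⟨L, hL, hCL⟩ := exists_isCoatom_ge hCtop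
  have := huniq L hL hCL
  exact ⟨this ▸ hCL, huniq⟩

/-- if `M` is the unique maximal subgroup over `C_G(X)` then `N_G(X) ≤ M`. -/
theorem normalizer_le_of_unique (hG : IsMinSimpleOddOrder G) (hM : IsCoatom M) {X : Subgroup G}
    (hC : Subgroup.centralizer (X : Set G) ≤ M)
    (hu : ∀ L : Subgroup G, IsCoatom L → Subgroup.centralizer (X : Set G) ≤ L → L = M) :
    Subgroup.normalizer (X : Set G) ≤ M := by
  intro n hn
  have h1 : cj n X = X := cj_eq_self_of_mem_normalizer hn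
  have h2 : Subgroup.centralizer (X : Set G) ≤ cj n M := by
    have h3 := cj_mono n hC
    rwa [← centralizer_cj, h1] at h3
  have h4 := hu _ (isCoatom_map_conj n hM) h2
  exact mem_of_map_conj_eq_self hG hM h4

end Tau2

end Cfsg.Agent.Lib.Helper19.BG12
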