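import Mathlib
import Cfsg.Agent.Lib.Helper19.BG12A

/-!
The maximal subgroups over `N_G(A)` for `A` elementary abelian of order `p ^ 2`, `p ∈ τ₂(M)`:
the engine behind B&G Theorem 12.7 (a) and Corollary 12.10.
-/

set_option autoImplicit false
open Cfsg

namespace Cfsg.Agent.Lib.Helper19.BG12

open Cfsg.Agent.Lib.Helper10.BG Cfsg.Agent.Lib.Helper10 Cfsg.Agent.Lib.Helper9.BGExc
open Cfsg.Agent.Lib.Helper19.BGCompl

variable {G : Type*} [Group G] [Finite G]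

section Engine

/-- if `N_G(A) ≤ M₁` for an elementary abelian `A` of order `p ^ 2` then `p ∈ σ(M₁)`. -/
theorem mem_sigma_of_normalizer_elem_le (hG : IsMinSimpleOddOrder G) {M₁ : Subgroup G}
    (hM₁ : IsCoatom M₁) {p : ℕ} [Fact p.Prime] {A : Subgroup G} (hAe : IsElementaryAbelian p A)
    (hAc : Nat.card A = p ^ 2) (hN : Subgroup.normalizer (A : Set G) ≤ M₁) : p ∈ sigma M₁ := by
  have hAp : IsPGroup p A := isPGroup_of_elem hAe
  rcases mem_sigma_or_tau2_of_normalizer_le hG hM₁ hAp (ne_bot_of_card_sq hAc) hN with h | h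
  · exact h
  exfalso
  have hAM : A ≤ M₁ := Subgroup.le_normalizer.trans hN
  obtain ⟨-, hb, -⟩ := Cfsg.Agent.S1417.result hG M₁ hM₁ p h A ⟨hAM, hAe, hAc⟩
  have hA' : IsPGroup p (A.subgroupOf M₁) := hAp.comap_subtype
  obtain ⟨P, hP⟩ := hA'.exists_le_sylow
  have hAP : A ≤ (P : Subgroup ↥M₁).map M₁.subtype := by
    intro y hy
    exact ⟨⟨y, hAM hy⟩, hP (Subgroup.mem_subgroupOf.mpr hy), rfl⟩
  obtain ⟨hΩ, hnot⟩ := (hb P).2 hAP
  apply hnot
  refine le_trans ?_ hN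
  apply Cfsg.Agent.Lib.Helper10.BG.le_normalizer_of_conj_mem
  intro n hn a ha
  have h1 : n * a * n⁻¹ ∈ (P : Subgroup ↥M₁).map M₁.subtype :=
    conj_mem_of_mem_normalizer hn (hAP ha)
  apply (hΩ _ h1).mp
  rw [conj_pow, hAe.2 a ha]
  group

/-- `M₁_σ` has a normal `p`-complement when `p` is not ideal. -/
theorem hasNormalPComplement_sigmaCore (hG : IsMinSimpleOddOrder G) {M₁ : Subgroup G}
    (hM₁ : IsCoatom M₁) {p : ℕ} (hp : p.Prime) (hpd : p ∣ Nat.card M₁)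
    (hni : ¬ IsIdealPrime p G) : HasNormalPComplement p ↥(sigmaCore M₁) :=
  ((Cfsg.Agent.S1414.result hG M₁ hM₁).2.2.2.2 p hp hpd (fun h => hni h.2)).2.1

/-- a `p`-element `x` of `K` normalizing a `q`-subgroup `B` (`q ≠ p`) centralizes `B`, when `K`
has a normal `q`-complement and `B` normalizes `K`. -/
theorem commute_of_hasNormalPComplement {p q : ℕ} [Fact p.Prime] [Fact q.Prime] (hpq : p ≠ q)
    {K B : Subgroup G} {x : G} (h : HasNormalPComplement q ↥K) (hxK : x ∈ K)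
    (hx : IsPGroup p (Subgroup.zpowers x)) (hBK : B ≤ Subgroup.normalizer (K : Set G))
    (hB : IsPGroup q B) (hxB : x ∈ Subgroup.normalizer (B : Set G)) {b : G} (hb : b ∈ B) :
    x * b = b * x := by
  have h1 : Subgroup.zpowers x ≤ ppCoreOf q K :=
    pgroup_le_ppCoreOf_of_hasNormalPComplement hpq h (Subgroup.zpowers_le.mpr hxK) hx
  have hxK' : x ∈ ppCoreOf q K := h1 (Subgroup.mem_zpowers x)
  have hBK' : B ≤ Subgroup.normalizer (ppCoreOf q K : Set G) := le_normalizer_ppCoreOf_of_le hBK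
  have h2 : b * x * b⁻¹ * x⁻¹ ∈ ppCoreOf q K :=
    (ppCoreOf q K).mul_mem (conj_mem_of_mem_normalizer (hBK' hb) hxK') ((ppCoreOf q K).inv_mem hxK')
  have h3 : b * x * b⁻¹ * x⁻¹ ∈ B := by
    have h4 : x * b⁻¹ * x⁻¹ ∈ B := conj_mem_of_mem_normalizer hxB (B.inv_mem hb)
    have h5 : b * x * b⁻¹ * x⁻¹ = b * (x * b⁻¹ * x⁻¹) := by group
    rw [h5]
    exact B.mul_mem hb h4
  have hcop : (Nat.card (ppCoreOf q K)).Coprime (Nat.card B) := by
    obtain ⟨n, hn⟩ := hB.exists_card_eq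
    rw [hn]
    exact Nat.Coprime.pow_right n (coprime_card_ppCoreOf q K)
  have h6 : b * x * b⁻¹ * x⁻¹ ∈ ppCoreOf q K ⊓ B := ⟨h2, h3⟩
  rw [inf_eq_bot_of_coprime hcop, Subgroup.mem_bot] at h6
  calc x * b = (b * x * b⁻¹ * x⁻¹)⁻¹ * (b * x) := by group
    _ = b * x := by rw [h6, inv_one, one_mul]

end Engine

section Cross

variable {M E : Subgroup G} {p q : ℕ} [Fact p.Prime] [Fact q.Prime]

/-- for `p, q ∈ τ₂(M)` and `A, B ≤ E` elementary abelian of orders `p ^ 2`, `q ^ 2`: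
`N_G(B) ≤ N_G(A)`. -/
theorem tau2_normalizer_le (hG : IsMinSimpleOddOrder G) (hM : IsCoatom M)
    (hE : IsComplIn E (sigmaCore M) M) (hp : p ∈ tau2 M) (hq : q ∈ tau2 M) (hpq : p ≠ q)
    {A B : Subgroup G} (hAE : A ≤ E) (hAe : IsElementaryAbelian p A) (hAc : Nat.card A = p ^ 2)
    (hBE : B ≤ E) (hBe : IsElementaryAbelian q B) (hBc : Nat.card B = q ^ 2) :
    Subgroup.normalizer (B : Set G) ≤ Subgroup.normalizer (A : Set G) := by
  obtain ⟨⟨hEA, hXA⟩, -, -⟩ := Cfsg.Agent.S1418.result hG M hM E hE p hp A ⟨hAE, hAe, hAc⟩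
  obtain ⟨⟨hEB, -⟩, ⟨hCB, hMB, -⟩, -⟩ :=
    Cfsg.Agent.S1418.result hG M hM E hE q hq B ⟨hBE, hBe, hBc⟩
  have hcop : (Nat.card A).Coprime (Nat.card B) := by
    rw [hAc, hBc]
    exact Nat.Coprime.pow 2 2 ((Nat.coprime_primes Fact.out Fact.out).mpr hpq)
  have hAB : A ≤ Subgroup.centralizer (B : Set G) :=
    le_centralizer_of_commute (fun a ha b hb =>
      commute_of_normalize_of_inf_eq_bot (hAE.trans hEB) (hBE.trans hEA)
        (inf_eq_bot_of_coprime hcop) ha hb)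
  apply Cfsg.Agent.Lib.Helper10.BG.le_normalizer_of_conj_mem
  intro n hn a ha
  have h1 : n * a * n⁻¹ ∈ Subgroup.centralizer (B : Set G) :=
    conj_mem_of_mem_normalizer (le_normalizer_centralizer le_rfl hn) (hAB ha)
  have h2 : n * a * n⁻¹ ∈ E := by
    rw [← hMB]
    exact hCB h1
  have h3 : (n * a * n⁻¹) ^ p = 1 := by
    rw [conj_pow, hAe.2 a ha]
    group
  by_cases h4 : n * a * n⁻¹ = 1
  · rw [h4]; exact A.one_mem
  · have h5 : Nat.card (Subgroup.zpowers (n * a * n⁻¹)) = p := by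
      rw [Nat.card_zpowers]
      exact orderOf_eq_prime h3 h4
    exact hXA _ (Subgroup.zpowers_le.mpr h2) h5 (Subgroup.mem_zpowers _)

/-- **cross centralizing**: for distinct `p, q ∈ τ₂(M)`, every `q`-element of `E` centralizes the
elementary abelian subgroup `A` of order `p ^ 2` of `E`. -/
theorem tau2_cross_centralize (hG : IsMinSimpleOddOrder G) (hM : IsCoatom M)
    (hE : IsComplIn E (sigmaCore M) M) (hp : p ∈ tau2 M) (hq : q ∈ tau2 M) (hpq : p ≠ q)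
    {A : Subgroup G} (hAE : A ≤ E) (hAe : IsElementaryAbelian p A) (hAc : Nat.card A = p ^ 2)
    {u : G} (huE : u ∈ E) (hu : IsPGroup q (Subgroup.zpowers u)) :
    u ∈ Subgroup.centralizer (A : Set G) := by
  obtain ⟨B, hBE, hBe, hBc⟩ := tau2_elem_sq_compl hG hM hE hq
  obtain ⟨⟨hEA, -⟩, -, -⟩ := Cfsg.Agent.S1418.result hG M hM E hE p hp A ⟨hAE, hAe, hAc⟩
  have hNBA := tau2_normalizer_le hG hM hE hp hq hpq hAE hAe hAc hBE hBe hBc
  have hA1 : A ≠ ⊥ := ne_bot_of_card_sq hAc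
  have hAM : A ≤ M := hAE.trans hE.1
  have hNtop : Subgroup.normalizer (A : Set G) ≠ ⊤ :=
    Cfsg.Agent.Lib.Lead.BGTrans.normalizer_ne_top hG.2 hA1 (ne_top_of_le_isCoatom hM hAM)
  obtain ⟨M₁, hM₁, hNM₁⟩ := exists_isCoatom_ge hNtop
  have hqσ : q ∈ sigma M₁ := mem_sigma_of_normalizer_elem_le hG hM₁ hBe hBc (hNBA.trans hNM₁)
  have huM₁ : u ∈ M₁ := hNM₁ (hEA huE)
  have huσ : u ∈ sigmaCore M₁ :=
    pgroup_le_sigmaCore hG hM₁ hqσ hu (Subgroup.zpowers_le.mpr huM₁) (Subgroup.mem_zpowers u)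
  have hAM₁ : A ≤ M₁ := Subgroup.le_normalizer.trans hNM₁
  have hpd : p ∣ Nat.card M₁ := by
    have : p ∣ Nat.card A := by rw [hAc]; exact dvd_pow_self p (by norm_num)
    exact this.trans (Subgroup.card_dvd_of_le hAM₁)
  have hnpc := hasNormalPComplement_sigmaCore hG hM₁ (Fact.out : p.Prime) hpd
    (tau2_not_ideal hG hM hp)
  rw [Subgroup.mem_centralizer_iff]
  intro a ha
  exact (commute_of_hasNormalPComplement (Ne.symm hpq) hnpc huσ hu
    (hAM₁.trans (le_normalizer_sigmaCore M₁)) (isPGroup_of_elem hAe) (hEA huE) ha).symm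

end Cross

end Cfsg.Agent.Lib.Helper19.BG12
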