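import Mathlib
import Cfsg.Agent.Lib.Helper19.BG12B
import Cfsg.Agent.Lib.Helper10.PGroup

/-!
A `p`-element `x` normalizing but not centralizing an elementary abelian group `A` of order `p ^ 2`
acts as a transvection: `C_A(x)` has order `p`, `[A, x] ≤ C_A(x)`, and `⟨x⟩` is transitive on the
`p` subgroups of order `p` of `A` other than `C_A(x)`.
-/

set_option autoImplicit false
open Cfsg

namespace Cfsg.Agent.Lib.Helper19.BG12

open Cfsg.Agent.Lib.Helper10.BG Cfsg.Agent.Lib.Helper10 Cfsg.Agent.Lib.Helper9.BGExc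
open Cfsg.Agent.Lib.Helper19.BGCompl

variable {G : Type*} [Group G] [Finite G] {p : ℕ} [Fact p.Prime]

section PElement

/-- in a `p`-group `P₁ = W ⊔ ⟨x⟩` with `W` normalized by `x`, a nontrivial `W` contains a
nonidentity element commuting with `x` and with `W`. -/
theorem exists_central_of_normalized {W : Subgroup G} {x : G} (hWp : IsPGroup p W) (hW1 : W ≠ ⊥)
    (hx : IsPGroup p (Subgroup.zpowers x)) (hxW : x ∈ Subgroup.normalizer (W : Set G)) :
    ∃ c ∈ W, c ≠ 1 ∧ c * x = x * c ∧ ∀ w ∈ W, c * w = w * c := by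
  set P₁ : Subgroup G := W ⊔ Subgroup.zpowers x with hP₁
  have hxN : Subgroup.zpowers x ≤ Subgroup.normalizer (W : Set G) := Subgroup.zpowers_le.mpr hxW
  have hP₁p : IsPGroup p P₁ := by
    rw [hP₁, sup_comm]
    exact IsPGroup.to_sup_of_normal_right' hx hWp hxN
  have hnorm : P₁ ≤ Subgroup.normalizer (W : Set G) := sup_le Subgroup.le_normalizer hxN
  haveI : (W.subgroupOf P₁).Normal := Subgroup.normal_subgroupOf_of_le_normalizer hnorm
  obtain ⟨w₀, hw₀, hw₀1⟩ := exists_ne_one_of_ne_bot hW1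
  have hWP : W ≤ P₁ := le_sup_left
  have hne : W.subgroupOf P₁ ≠ ⊥ := by
    intro h
    have : (⟨w₀, hWP hw₀⟩ : ↥P₁) ∈ W.subgroupOf P₁ := Subgroup.mem_subgroupOf.mpr hw₀
    rw [h, Subgroup.mem_bot] at this
    exact hw₀1 (congrArg Subtype.val this)
  have h1 := Cfsg.Agent.Lib.Helper10.normal_inf_center_ne_bot hP₁p (W.subgroupOf P₁) hne
  obtain ⟨c, hc, hc1⟩ := exists_ne_one_of_ne_bot h1
  have hcW : (c : G) ∈ W := Subgroup.mem_subgroupOf.mp hc.1
  have hcZ := Subgroup.mem_center_iff.mp hc.2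
  refine ⟨(c : G), hcW, fun h => hc1 (Subtype.ext h), ?_, ?_⟩
  · have := hcZ ⟨x, Subgroup.mem_sup_right (Subgroup.mem_zpowers x)⟩
    exact (congrArg Subtype.val this).symm
  · intro w hw
    have := hcZ ⟨w, hWP hw⟩
    exact (congrArg Subtype.val this).symm

/-- a `p`-element normalizing a group of order `p` centralizes it. -/
theorem pelement_centralizes_of_card_prime {W : Subgroup G} {x : G} (hW : Nat.card W = p)
    (hx : IsPGroup p (Subgroup.zpowers x)) (hxW : x ∈ Subgroup.normalizer (W : Set G)) :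
    x ∈ Subgroup.centralizer (W : Set G) := by
  have hWp : IsPGroup p W := IsPGroup.of_card (n := 1) (by rw [hW, pow_one])
  obtain ⟨c, hcW, hc1, hcx, -⟩ :=
    exists_central_of_normalized hWp (ne_bot_of_card_prime hW) hx hxW
  rw [eq_zpowers_of_card_prime hW hcW hc1, centralizer_zpowers, Subgroup.mem_centralizer_iff]
  intro z hz
  rw [Set.mem_singleton_iff] at hz
  rw [hz]
  exact hcx

end PElement

section Shear

variable {A : Subgroup G} {x : G}

/-- `C_A(x)` -/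
def fixA (A : Subgroup G) (x : G) : Subgroup G := A ⊓ Subgroup.centralizer ({x} : Set G)

omit [Finite G] [Fact p.Prime] in
theorem mem_fixA {a : G} : a ∈ fixA A x ↔ a ∈ A ∧ x * a = a * x := by
  unfold fixA
  rw [Subgroup.mem_inf, Subgroup.mem_centralizer_iff]
  constructor
  · rintro ⟨h1, h2⟩
    exact ⟨h1, h2 x rfl⟩
  · rintro ⟨h1, h2⟩
    refine ⟨h1, fun z hz => ?_⟩
    rw [Set.mem_singleton_iff] at hz
    rw [hz]; exact h2

omit [Finite G] [Fact p.Prime] in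
theorem fixA_le : fixA A x ≤ A := inf_le_left

theorem card_fixA (hAe : IsElementaryAbelian p A) (hAc : Nat.card A = p ^ 2)
    (hx : IsPGroup p (Subgroup.zpowers x)) (hxN : x ∈ Subgroup.normalizer (A : Set G))
    (hxC : x ∉ Subgroup.centralizer (A : Set G)) : Nat.card (fixA A x) = p := by
  have hp : p.Prime := Fact.out
  obtain ⟨c, hcA, hc1, hcx, -⟩ :=
    exists_central_of_normalized (isPGroup_of_elem hAe) (ne_bot_of_card_sq hAc) hx hxN
  have hcF : c ∈ fixA A x := mem_fixA.mpr ⟨hcA, hcx.symm⟩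
  have hdvd : Nat.card (fixA A x) ∣ p ^ 2 := hAc ▸ Subgroup.card_dvd_of_le fixA_le
  obtain ⟨k, hk2, hk⟩ := (Nat.dvd_prime_pow hp).mp hdvd
  have hk0 : k ≠ 0 := by
    rintro rfl
    rw [pow_zero] at hk
    have hb := Subgroup.card_eq_one.mp hk
    rw [hb, Subgroup.mem_bot] at hcF
    exact hc1 hcF
  have hk2' : k ≠ 2 := by
    rintro rfl
    have heq : fixA A x = A := Subgroup.eq_of_le_of_card_ge fixA_le (by rw [hk, hAc])
    apply hxC
    rw [Subgroup.mem_centralizer_iff]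
    intro a ha
    rw [← heq] at ha
    exact (mem_fixA.mp ha).2.symm
  have hk1 : k = 1 := by omega
  rw [hk, hk1, pow_one]

/-- two distinct subgroups of order `p` of `A` generate `A`. -/
theorem sup_eq_of_card_prime (hAc : Nat.card A = p ^ 2) {X Y : Subgroup G} (hXA : X ≤ A)
    (hYA : Y ≤ A) (hX : Nat.card X = p) (hY : Nat.card Y = p) (hXY : X ≠ Y) : X ⊔ Y = A := by
  have hp : p.Prime := Fact.out
  have hle : X ⊔ Y ≤ A := sup_le hXA hYA
  have hdvd : Nat.card (X ⊔ Y : Subgroup G) ∣ p ^ 2 := hAc ▸ Subgroup.card_dvd_of_le hle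
  obtain ⟨k, hk2, hk⟩ := (Nat.dvd_prime_pow hp).mp hdvd
  have hXd : p ∣ Nat.card (X ⊔ Y : Subgroup G) := hX ▸ Subgroup.card_dvd_of_le le_sup_left
  have hk0 : k ≠ 0 := by
    rintro rfl
    rw [hk, pow_zero] at hXd
    exact hp.one_lt.ne' (Nat.dvd_one.mp hXd)
  have hk1 : k ≠ 1 := by
    rintro rfl
    rw [pow_one] at hk
    have h1 : X = X ⊔ Y := Subgroup.eq_of_le_of_card_ge le_sup_left (by rw [hk, hX])
    have h2 : Y = X ⊔ Y := Subgroup.eq_of_le_of_card_ge le_sup_right (by rw [hk, hY])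
    exact hXY (h1.trans h2.symm)
  have hk2' : k = 2 := by omega
  exact Subgroup.eq_of_le_of_card_ge hle (by rw [hk, hk2', hAc])

/-- `[A, x] ≤ C_A(x)`. -/
theorem comm_mem_fixA (hAe : IsElementaryAbelian p A) (hAc : Nat.card A = p ^ 2)
    (hx : IsPGroup p (Subgroup.zpowers x)) (hxN : x ∈ Subgroup.normalizer (A : Set G))
    (hxC : x ∉ Subgroup.centralizer (A : Set G)) {a : G} (ha : a ∈ A) :
    x * a * x⁻¹ * a⁻¹ ∈ fixA A x := by
  have hp : p.Prime := Fact.out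
  have hZc := card_fixA hAe hAc hx hxN hxC
  have hcomm : ∀ u ∈ A, ∀ v ∈ A, u * v = v * u := fun u hu v hv => comm_of_elem hAe hu hv
  have hxa : x * a * x⁻¹ ∈ A := conj_mem_of_mem_normalizer hxN ha
  have hwA : x * a * x⁻¹ * a⁻¹ ∈ A := A.mul_mem hxa (A.inv_mem ha)
  by_cases haF : a ∈ fixA A x
  · have h1 : x * a * x⁻¹ * a⁻¹ = 1 := by
      rw [(mem_fixA.mp haF).2]; group
    rw [h1]; exact Subgroup.one_mem _
  have ha1 : a ≠ 1 := fun h => haF (h ▸ Subgroup.one_mem _)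
  set w := x * a * x⁻¹ * a⁻¹ with hw
  by_cases hw1 : w = 1
  · rw [hw1]; exact Subgroup.one_mem _
  have hXc : Nat.card (Subgroup.zpowers a) = p := by
    rw [Nat.card_zpowers]
    exact orderOf_eq_prime (hAe.2 a ha) ha1
  have hXA : Subgroup.zpowers a ≤ A := Subgroup.zpowers_le.mpr ha
  have hXZ : Subgroup.zpowers a ≠ fixA A x := by
    intro h
    exact haF (h ▸ Subgroup.mem_zpowers a)
  have hsup := sup_eq_of_card_prime hAc hXA fixA_le hXc hZc hXZ
  have hxa' : x * a * x⁻¹ ∈ Subgroup.zpowers a ⊔ fixA A x := by rw [hsup]; exact hxa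
  obtain ⟨a', ha', z', hz', hdec⟩ := mem_sup_of_commute'
    (fun u hu v hv => hcomm u (hXA hu) v (fixA_le hv)) hxa'
  obtain ⟨i, rfl⟩ := Subgroup.mem_zpowers_iff.mp ha'
  have hz'x : x * z' * x⁻¹ = z' := by
    rw [(mem_fixA.mp hz').2]; group
  have hz'A : z' ∈ A := fixA_le hz'
  -- `x w x⁻¹ = w ^ i`
  have hconj : x * w * x⁻¹ = w ^ i := by
    have hc1 : Commute (x * a * x⁻¹) a⁻¹ := hcomm _ hxa _ (A.inv_mem ha)
    have h2 : x * (a ^ i * z') * x⁻¹ = (x * a * x⁻¹) ^ i * z' := by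
      calc x * (a ^ i * z') * x⁻¹ = (x * a ^ i * x⁻¹) * (x * z' * x⁻¹) := by group
        _ = (x * a * x⁻¹) ^ i * z' := by rw [hz'x, conj_zpow]
    calc x * w * x⁻¹ = (x * (x * a * x⁻¹) * x⁻¹) * (x * a * x⁻¹)⁻¹ := by rw [hw]; group
      _ = (x * (a ^ i * z') * x⁻¹) * (a ^ i * z')⁻¹ := by rw [← hdec]
      _ = (x * a * x⁻¹) ^ i * z' * (a ^ i * z')⁻¹ := by rw [h2]
      _ = (x * a * x⁻¹) ^ i * (a⁻¹) ^ i := by rw [inv_zpow]; group
      _ = (x * a * x⁻¹ * a⁻¹) ^ i := (hc1.mul_zpow i).symm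
  -- `x` normalizes `⟨w⟩`
  have hIc : Nat.card (Subgroup.zpowers w) = p := by
    rw [Nat.card_zpowers]
    exact orderOf_eq_prime (hAe.2 w hwA) hw1
  have hle : cj x (Subgroup.zpowers w) ≤ Subgroup.zpowers w := by
    rintro _ ⟨u, hu, rfl⟩
    obtain ⟨j, rfl⟩ := Subgroup.mem_zpowers_iff.mp hu
    show x * w ^ j * x⁻¹ ∈ Subgroup.zpowers w
    rw [← conj_zpow, hconj]
    exact Subgroup.zpow_mem _ (Subgroup.zpow_mem _ (Subgroup.mem_zpowers w) i) j
  have heq : cj x (Subgroup.zpowers w) = Subgroup.zpowers w :=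
    Subgroup.eq_of_le_of_card_ge hle (by rw [card_cj])
  have hxI : x ∈ Subgroup.normalizer ((Subgroup.zpowers w : Subgroup G) : Set G) :=
    mem_normalizer_of_map_conj_eq heq
  have hxc := pelement_centralizes_of_card_prime hIc hx hxI
  rw [centralizer_zpowers, Subgroup.mem_centralizer_iff] at hxc
  exact mem_fixA.mpr ⟨hwA, (hxc w rfl).symm⟩

/-- the conjugation formula `x ^ k a x ^ (-k) = a w ^ k`, `w = [x, a]`. -/
theorem conj_zpow_formula (hAe : IsElementaryAbelian p A) (hAc : Nat.card A = p ^ 2)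
    (hx : IsPGroup p (Subgroup.zpowers x)) (hxN : x ∈ Subgroup.normalizer (A : Set G))
    (hxC : x ∉ Subgroup.centralizer (A : Set G)) {a : G} (ha : a ∈ A) (k : ℤ) :
    x ^ k * a * (x ^ k)⁻¹ = a * (x * a * x⁻¹ * a⁻¹) ^ k := by
  have hcomm : ∀ u ∈ A, ∀ v ∈ A, u * v = v * u := fun u hu v hv => comm_of_elem hAe hu hv
  have hwF := comm_mem_fixA hAe hAc hx hxN hxC ha
  set w := x * a * x⁻¹ * a⁻¹ with hw
  have hwA : w ∈ A := fixA_le hwF
  have hxw : x * w = w * x := (mem_fixA.mp hwF).2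
  have hxa : x * a * x⁻¹ = a * w := by
    have h1 : x * a * x⁻¹ = w * a := by rw [hw]; group
    rw [h1, hcomm w hwA a ha]
  have hxa' : x⁻¹ * a * x = a * w⁻¹ := by
    have h1 : x * (a * w⁻¹) * x⁻¹ = a := by
      calc x * (a * w⁻¹) * x⁻¹ = (x * a * x⁻¹) * (x * w * x⁻¹)⁻¹ := by group
        _ = a * w * (w * x * x⁻¹)⁻¹ := by rw [hxa, hxw]
        _ = a := by group
    calc x⁻¹ * a * x = x⁻¹ * (x * (a * w⁻¹) * x⁻¹) * x := by rw [h1]
      _ = a * w⁻¹ := by group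
  have hxwk : ∀ j : ℤ, x * w ^ j = w ^ j * x := fun j =>
    ((show Commute x w from hxw).zpow_right j).eq
  have hxkw : ∀ j : ℤ, x ^ j * w * (x ^ j)⁻¹ = w := by
    intro j
    have hc : Commute (x ^ j) w := (show Commute x w from hxw).zpow_left j
    rw [hc.eq]; group
  induction k using Int.induction_on with
  | zero => simp
  | succ n ih =>
    calc x ^ ((n : ℤ) + 1) * a * (x ^ ((n : ℤ) + 1))⁻¹
        = x ^ (n : ℤ) * (x * a * x⁻¹) * (x ^ (n : ℤ))⁻¹ := by rw [zpow_add_one]; group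
      _ = (x ^ (n : ℤ) * a * (x ^ (n : ℤ))⁻¹) * (x ^ (n : ℤ) * w * (x ^ (n : ℤ))⁻¹) := by
        rw [hxa]; group
      _ = a * w ^ (n : ℤ) * w := by rw [ih, hxkw]
      _ = a * w ^ ((n : ℤ) + 1) := by rw [zpow_add_one, mul_assoc]
  | pred n ih =>
    calc x ^ (-(n : ℤ) - 1) * a * (x ^ (-(n : ℤ) - 1))⁻¹
        = x ^ (-(n : ℤ)) * (x⁻¹ * a * x) * (x ^ (-(n : ℤ)))⁻¹ := by rw [zpow_sub_one]; group
      _ = (x ^ (-(n : ℤ)) * a * (x ^ (-(n : ℤ)))⁻¹) *
            (x ^ (-(n : ℤ)) * w * (x ^ (-(n : ℤ)))⁻¹)⁻¹ := by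
        rw [hxa']; group
      _ = a * w ^ (-(n : ℤ)) * w⁻¹ := by rw [ih, hxkw]
      _ = a * w ^ (-(n : ℤ) - 1) := by rw [zpow_sub_one, mul_assoc]

/-- `⟨x⟩` is transitive on the subgroups of order `p` of `A` other than `C_A(x)`. -/
theorem exists_zpow_conj (hAe : IsElementaryAbelian p A) (hAc : Nat.card A = p ^ 2)
    (hx : IsPGroup p (Subgroup.zpowers x)) (hxN : x ∈ Subgroup.normalizer (A : Set G))
    (hxC : x ∉ Subgroup.centralizer (A : Set G)) {X Y : Subgroup G} (hXA : X ≤ A) (hYA : Y ≤ A)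
    (hX : Nat.card X = p) (hY : Nat.card Y = p) (hXZ : X ≠ fixA A x) (hYZ : Y ≠ fixA A x) :
    ∃ k : ℤ, Y = cj (x ^ k) X := by
  have hZc := card_fixA hAe hAc hx hxN hxC
  obtain ⟨a, haX, ha1⟩ := exists_ne_one_of_ne_bot (ne_bot_of_card_prime hX)
  have haA : a ∈ A := hXA haX
  have haF : a ∉ fixA A x := by
    intro h
    apply hXZ
    rw [eq_zpowers_of_card_prime hX haX ha1, eq_zpowers_of_card_prime hZc h ha1]
  have hwF := comm_mem_fixA hAe hAc hx hxN hxC haA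
  set w := x * a * x⁻¹ * a⁻¹ with hw
  have hw1 : w ≠ 1 := by
    intro h
    apply haF
    refine mem_fixA.mpr ⟨haA, ?_⟩
    calc x * a = (x * a * x⁻¹ * a⁻¹) * a * x := by group
      _ = a * x := by rw [← hw, h, one_mul]
  have hZeq : fixA A x = Subgroup.zpowers w := eq_zpowers_of_card_prime hZc hwF hw1
  have hsup := sup_eq_of_card_prime hAc hYA fixA_le hY hZc hYZ
  have haS : a ∈ Y ⊔ fixA A x := by rw [hsup]; exact haA
  obtain ⟨y, hy, z, hz, hdec⟩ := mem_sup_of_commute'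
    (fun u hu v hv => comm_of_elem hAe (hYA hu) (fixA_le hv)) haS
  rw [hZeq] at hz
  obtain ⟨j, rfl⟩ := Subgroup.mem_zpowers_iff.mp hz
  have hy_eq : y = a * w ^ (-j) := by
    rw [hdec, zpow_neg]; group
  have hy1 : y ≠ 1 := by
    intro h
    apply haF
    rw [hdec, h, one_mul, hZeq]
    exact Subgroup.zpow_mem _ (Subgroup.mem_zpowers w) j
  have hform := conj_zpow_formula hAe hAc hx hxN hxC haA (-j)
  refine ⟨-j, ?_⟩
  have hform' : x ^ (-j) * a * (x ^ (-j))⁻¹ = a * w ^ (-j) := hform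
  have hyc : y ∈ cj (x ^ (-j)) X := by
    rw [hy_eq, ← hform']
    exact conj_mem_cj haX
  have hcc : Nat.card (cj (x ^ (-j)) X) = p := by rw [card_cj, hX]
  rw [eq_zpowers_of_card_prime hY hy hy1, eq_zpowers_of_card_prime hcc hyc hy1]

end Shear

end Cfsg.Agent.Lib.Helper19.BG12
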