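import Mathlib
import Cfsg.Agent.Lib.Helper19.BG12C
import Cfsg.Agent.Lib.Helper29.BGExcPG2
import Cfsg.Agent.Lib.Helper23.WardBasic

/-!
Bender–Glauberman Theorem 12.7: `p ∈ τ₂(M)` with nonabelian Sylow `p`-subgroups of `G`.
-/

set_option autoImplicit false
open Cfsg

namespace Cfsg.Agent.Lib.Helper19.BG12

open Cfsg.Agent.Lib.Helper10.BG Cfsg.Agent.Lib.Helper10 Cfsg.Agent.Lib.Helper9.BGExc
open Cfsg.Agent.Lib.Helper19.BGCompl

variable {G : Type*} [Group G] [Finite G] {M E A : Subgroup G} {p : ℕ} [Fact p.Prime]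

/-- a `p`-element of `M` normalizing `A` centralizes it (`p ∈ τ₂(M)`). -/
theorem tau2_pelement_centralizes (hG : IsMinSimpleOddOrder G) (hM : IsCoatom M)
    (hp : p ∈ tau2 M) (hAM : A ≤ M) (hAe : IsElementaryAbelian p A) {g : G} (hgM : g ∈ M)
    (hg : IsPGroup p (Subgroup.zpowers g)) (hgN : g ∈ Subgroup.normalizer (A : Set G)) :
    g ∈ Subgroup.centralizer (A : Set G) := by
  have hQ : IsPGroup p (A ⊔ Subgroup.zpowers g : Subgroup G) := by
    rw [sup_comm]
    exact IsPGroup.to_sup_of_normal_right' hg (isPGroup_of_elem hAe) (Subgroup.zpowers_le.mpr hgN)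
  have hQM : A ⊔ Subgroup.zpowers g ≤ M := sup_le hAM (Subgroup.zpowers_le.mpr hgM)
  have hc := tau2_pgroup_comm hG hM hp hQ hQM
  rw [Subgroup.mem_centralizer_iff]
  intro a ha
  exact hc a (Subgroup.mem_sup_left ha) g (Subgroup.mem_sup_right (Subgroup.mem_zpowers g))

omit [Finite G] [Fact p.Prime] in
theorem cj_eq_of_mem_centralizer [Finite G] {X : Subgroup G} {g : G}
    (hg : g ∈ Subgroup.centralizer (A : Set G)) (hXA : X ≤ A) : cj g X = X := by
  have hle : cj g X ≤ X := by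
    rintro _ ⟨u, hu, rfl⟩
    have h1 := (Subgroup.mem_centralizer_iff.mp hg) u (hXA hu)
    show g * u * g⁻¹ ∈ X
    rw [← h1, mul_inv_cancel_right]
    exact hu
  exact Subgroup.eq_of_le_of_card_ge hle (by rw [card_cj])

/-- the configuration of Theorem 12.7 with a chosen `p`-element `x ∈ N(A) ∖ M`. -/
structure Cfg27 (M E A : Subgroup G) (p : ℕ) (P S : Subgroup G) (x : G) : Prop where
  coatom : IsCoatom M
  compl : IsComplIn E (sigmaCore M) M
  tau : p ∈ tau2 M
  leE : A ≤ E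
  elem : IsElementaryAbelian p A
  card : Nat.card A = p ^ 2
  sylM : IsSylowIn p P M
  leP : A ≤ P
  sylG : IsSylowIn p S ⊤
  leS : P ≤ S
  xS : x ∈ S
  xN : x ∈ Subgroup.normalizer (A : Set G)
  xM : x ∉ M
  nonab : ¬ (∀ u ∈ S, ∀ v ∈ S, u * v = v * u)

theorem exists_cfg27 (hG : IsMinSimpleOddOrder G) (hM : IsCoatom M)
    (hE : IsComplIn E (sigmaCore M) M) (hp : p ∈ tau2 M)
    (hS : ∀ S : Sylow p G, ¬ IsMulCommutative (S : Subgroup G)) (hAE : A ≤ E)
    (hAe : IsElementaryAbelian p A) (hAc : Nat.card A = p ^ 2) :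
    ∃ (P S : Subgroup G) (x : G), Cfg27 M E A p P S x := by
  have hAM : A ≤ M := hAE.trans hE.1
  have hAp : IsPGroup p A := isPGroup_of_elem hAe
  obtain ⟨P, hP, hAP⟩ := exists_isSylowIn_ge hAM hAp
  have hPc := tau2_pgroup_comm hG hM hp hP.isPGroup hP.le
  have hnab : ∀ T : Subgroup G, IsSylowIn p T ⊤ → ¬ (∀ u ∈ T, ∀ v ∈ T, u * v = v * u) := by
    intro T hT hc
    apply hS hT.toSylowTop
    show IsMulCommutative ↥T
    exact ⟨⟨fun a b => Subtype.ext (hc a a.2 b b.2)⟩⟩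
  have hns : ¬ IsSylowIn p P ⊤ := fun h => hnab P h hPc
  obtain ⟨x, -, hxN, hxP, hxp⟩ := exists_normalizer_gt le_top hP.isPGroup hns
  obtain ⟨S, hSyl, hPS⟩ := exists_isSylowIn_ge (le_top : P ⊔ Subgroup.zpowers x ≤ ⊤) hxp
  have hxM : x ∉ M := by
    intro hxM
    have h1 : P ⊔ Subgroup.zpowers x = P :=
      hP.eq_of_le (sup_le hP.le (Subgroup.zpowers_le.mpr hxM)) hxp le_sup_left
    apply hxP
    rw [← h1]
    exact Subgroup.mem_sup_right (Subgroup.mem_zpowers x)
  have hxA : x ∈ Subgroup.normalizer (A : Set G) := by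
    have hle : cj x A ≤ A := by
      rintro _ ⟨a, ha, rfl⟩
      show x * a * x⁻¹ ∈ A
      apply tau2_omega hG hM hp hAM hAe hAc hP.isPGroup hP.le hAP
        (conj_mem_of_mem_normalizer hxN (hAP ha))
      rw [conj_pow, hAe.2 a ha]
      group
    exact mem_normalizer_of_map_conj_eq (Subgroup.eq_of_le_of_card_ge hle (by rw [card_cj]))
  exact ⟨P, S, x, hM, hE, hp, hAE, hAe, hAc, hP, hAP, hSyl, le_sup_left.trans hPS,
    hPS (Subgroup.mem_sup_right (Subgroup.mem_zpowers x)), hxA, hxM, hnab S hSyl⟩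

namespace Cfg27

variable {P S : Subgroup G} {x : G}

theorem leM (h : Cfg27 M E A p P S x) : A ≤ M := h.leE.trans h.compl.1

theorem xp (h : Cfg27 M E A p P S x) : IsPGroup p (Subgroup.zpowers x) :=
  h.sylG.isPGroup.to_le (Subgroup.zpowers_le.mpr h.xS)

theorem centA_le (hG : IsMinSimpleOddOrder G) (h : Cfg27 M E A p P S x) :
    Subgroup.centralizer (A : Set G) ≤ M :=
  (Cfsg.Agent.S1416.result hG M h.coatom p A ⟨h.leM, h.elem, h.card⟩).1

theorem xC (hG : IsMinSimpleOddOrder G) (h : Cfg27 M E A p P S x) :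
    x ∉ Subgroup.centralizer (A : Set G) := fun hx => h.xM (h.centA_le hG hx)

theorem card_Z (hG : IsMinSimpleOddOrder G) (h : Cfg27 M E A p P S x) :
    Nat.card (fixA A x) = p := card_fixA h.elem h.card h.xp h.xN (h.xC hG)

theorem Z_regular (hG : IsMinSimpleOddOrder G) (h : Cfg27 M E A p P S x) :
    sigmaCore M ⊓ Subgroup.centralizer ((fixA A x : Subgroup G) : Set G) = ⊥ := by
  by_contra hs
  have h1 := (tau2_singular hG h.coatom h.tau h.leM h.elem h.card fixA_le
    (ne_bot_of_card_prime (h.card_Z hG)) hs).1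
  apply h.xM
  apply h1
  rw [Subgroup.mem_centralizer_iff]
  intro z hz
  exact ((mem_fixA.mp hz).2).symm

theorem zpow_pgroup (h : Cfg27 M E A p P S x) (k : ℤ) :
    IsPGroup p (Subgroup.zpowers (x ^ k)) :=
  h.xp.to_le (Subgroup.zpowers_le.mpr (Subgroup.zpow_mem _ (Subgroup.mem_zpowers x) k))

theorem zpow_normalizer (h : Cfg27 M E A p P S x) (k : ℤ) :
    x ^ k ∈ Subgroup.normalizer (A : Set G) := Subgroup.zpow_mem _ h.xN k

/-- if `X` and `X ^ g` are both singular (`g ∈ N(A)`) then `g ∈ M`. -/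
theorem mem_of_conj_singular (hG : IsMinSimpleOddOrder G) (h : Cfg27 M E A p P S x)
    {X : Subgroup G} (hXA : X ≤ A) (hX : Nat.card X = p) {g : G}
    (hgN : g ∈ Subgroup.normalizer (A : Set G))
    (hs : sigmaCore M ⊓ Subgroup.centralizer (X : Set G) ≠ ⊥)
    (hs' : sigmaCore M ⊓ Subgroup.centralizer ((cj g X : Subgroup G) : Set G) ≠ ⊥) : g ∈ M := by
  have hX1 : X ≠ ⊥ := ne_bot_of_card_prime hX
  have hcA : cj g X ≤ A := by
    have := cj_mono g hXA
    rwa [cj_eq_self_of_mem_normalizer hgN] at this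
  have hc1 : cj g X ≠ ⊥ := ne_bot_of_card_prime (p := p) (by rw [card_cj, hX])
  have h1 := (tau2_singular hG h.coatom h.tau h.leM h.elem h.card hXA hX1 hs).1
  have h2 := (tau2_singular hG h.coatom h.tau h.leM h.elem h.card hcA hc1 hs').2
  have h3 : cj g M = M := by
    apply h2 (cj g M) (isCoatom_map_conj g h.coatom)
    rw [centralizer_cj]
    exact cj_mono g h1
  exact mem_of_map_conj_eq_self hG h.coatom h3

theorem cj_eq_of_pelement_mem (hG : IsMinSimpleOddOrder G) (h : Cfg27 M E A p P S x)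
    {X : Subgroup G} (hXA : X ≤ A) {g : G} (hgM : g ∈ M)
    (hg : IsPGroup p (Subgroup.zpowers g)) (hgN : g ∈ Subgroup.normalizer (A : Set G)) :
    cj g X = X :=
  cj_eq_of_mem_centralizer
    (tau2_pelement_centralizes hG h.coatom h.tau h.leM h.elem hgM hg hgN) hXA

/-- at most one subgroup of order `p` of `A` is singular. -/
theorem singular_unique (hG : IsMinSimpleOddOrder G) (h : Cfg27 M E A p P S x)
    {X Y : Subgroup G} (hXA : X ≤ A) (hYA : Y ≤ A) (hX : Nat.card X = p) (hY : Nat.card Y = p)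
    (hsX : sigmaCore M ⊓ Subgroup.centralizer (X : Set G) ≠ ⊥)
    (hsY : sigmaCore M ⊓ Subgroup.centralizer (Y : Set G) ≠ ⊥) : X = Y := by
  have hXZ : X ≠ fixA A x := by
    intro e
    rw [e] at hsX
    exact hsX (h.Z_regular hG)
  have hYZ : Y ≠ fixA A x := by
    intro e
    rw [e] at hsY
    exact hsY (h.Z_regular hG)
  obtain ⟨k, hk⟩ := exists_zpow_conj h.elem h.card h.xp h.xN (h.xC hG) hXA hYA hX hY hXZ hYZ
  rw [hk] at hsY
  have hgM : x ^ k ∈ M := h.mem_of_conj_singular hG hXA hX (h.zpow_normalizer k) hsX hsY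
  rw [hk]
  exact (h.cj_eq_of_pelement_mem hG hXA hgM (h.zpow_pgroup k) (h.zpow_normalizer k)).symm

/-- coprime generation for the action of `A` on `M_σ`. -/
theorem sigmaCore_le_of_forall (hG : IsMinSimpleOddOrder G) (h : Cfg27 M E A p P S x)
    {L : Subgroup G}
    (hL : ∀ a ∈ A, a ≠ 1 → sigmaCore M ⊓ Subgroup.centralizer ({a} : Set G) ≤ L) :
    sigmaCore M ≤ L := by
  have hpK : ¬ p ∣ Nat.card (sigmaCore M) := fun hd =>
    h.tau.2.1 (mem_sigma_of_dvd_card_sigmaCore hG h.coatom h.tau.1 hd)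
  have eq := Cfsg.Agent.Lib.Helper23.Ward.eq_iSup_centralizer (K := sigmaCore M) h.tau.1
    (fun u hu v hv => comm_of_elem h.elem hu hv) h.elem.2 h.card
    (h.leM.trans (le_normalizer_sigmaCore M)) hpK
  exact eq.le.trans (iSup_le (fun a => hL a a.2.1 a.2.2))

theorem card_zpowers_of_mem (h : Cfg27 M E A p P S x) {a : G} (ha : a ∈ A) (ha1 : a ≠ 1) :
    Nat.card (Subgroup.zpowers a) = p := by
  rw [Nat.card_zpowers]
  exact orderOf_eq_prime (h.elem.2 a ha) ha1

theorem exists_singular (hG : IsMinSimpleOddOrder G) (h : Cfg27 M E A p P S x) :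
    ∃ X : Subgroup G, X ≤ A ∧ Nat.card X = p ∧
      sigmaCore M ⊓ Subgroup.centralizer (X : Set G) ≠ ⊥ := by
  by_contra hcon
  push Not at hcon
  apply sigmaCore_ne_bot hG h.coatom
  rw [eq_bot_iff]
  apply h.sigmaCore_le_of_forall hG
  intro a ha ha1
  have h1 := hcon (Subgroup.zpowers a) (Subgroup.zpowers_le.mpr ha) (h.card_zpowers_of_mem ha ha1)
  rw [centralizer_zpowers] at h1
  exact h1.le

theorem sigmaCore_inf_centralizer (hG : IsMinSimpleOddOrder G) (h : Cfg27 M E A p P S x) :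
    sigmaCore M ⊓ Subgroup.centralizer (A : Set G) = ⊥ :=
  (Cfsg.Agent.S1417.result hG M h.coatom p h.tau A ⟨h.leM, h.elem, h.card⟩).2.2.2.1

/-- `A₀ = C_A(M_σ)` has order `p`, is singular, and is the only singular subgroup of order `p`
of `A`. -/
theorem main_A0 (hG : IsMinSimpleOddOrder G) (h : Cfg27 M E A p P S x) :
    Nat.card (A ⊓ Subgroup.centralizer (sigmaCore M : Set G) : Subgroup G) = p ∧
    sigmaCore M ⊓ Subgroup.centralizer
      ((A ⊓ Subgroup.centralizer (sigmaCore M : Set G) : Subgroup G) : Set G) ≠ ⊥ ∧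
    ∀ X : Subgroup G, X ≤ A → Nat.card X = p →
      X ≠ A ⊓ Subgroup.centralizer (sigmaCore M : Set G) →
      sigmaCore M ⊓ Subgroup.centralizer (X : Set G) = ⊥ := by
  have hp : p.Prime := Fact.out
  obtain ⟨X₀, hX₀A, hX₀c, hX₀s⟩ := h.exists_singular hG
  have hreg : ∀ X : Subgroup G, X ≤ A → Nat.card X = p → X ≠ X₀ →
      sigmaCore M ⊓ Subgroup.centralizer (X : Set G) = ⊥ := by
    intro X hXA hX hne
    by_contra hs
    exact hne (h.singular_unique hG hXA hX₀A hX hX₀c hs hX₀s)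
  have hle : sigmaCore M ≤ Subgroup.centralizer (X₀ : Set G) := by
    apply h.sigmaCore_le_of_forall hG
    intro a ha ha1
    by_cases hax : Subgroup.zpowers a = X₀
    · rw [← hax, centralizer_zpowers]
      exact inf_le_right
    · have h1 := hreg (Subgroup.zpowers a) (Subgroup.zpowers_le.mpr ha)
        (h.card_zpowers_of_mem ha ha1) hax
      rw [centralizer_zpowers] at h1
      rw [h1]
      exact bot_le
  have hX₀le : X₀ ≤ A ⊓ Subgroup.centralizer (sigmaCore M : Set G) :=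
    le_inf hX₀A (Subgroup.le_centralizer_iff.mp hle)
  have hne : A ⊓ Subgroup.centralizer (sigmaCore M : Set G) ≠ A := by
    intro e
    have hA_le : A ≤ Subgroup.centralizer (sigmaCore M : Set G) := inf_eq_left.mp e
    have h1 : sigmaCore M ≤ sigmaCore M ⊓ Subgroup.centralizer (A : Set G) :=
      le_inf le_rfl (Subgroup.le_centralizer_iff.mp hA_le)
    rw [h.sigmaCore_inf_centralizer hG] at h1
    exact sigmaCore_ne_bot hG h.coatom (eq_bot_iff.mpr h1)
  have hcard : Nat.card (A ⊓ Subgroup.centralizer (sigmaCore M : Set G) : Subgroup G) = p := by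
    have hdvd : Nat.card (A ⊓ Subgroup.centralizer (sigmaCore M : Set G) : Subgroup G) ∣ p ^ 2 :=
      h.card ▸ Subgroup.card_dvd_of_le inf_le_left
    obtain ⟨k, hk2, hk⟩ := (Nat.dvd_prime_pow hp).mp hdvd
    have hXd : p ∣ Nat.card (A ⊓ Subgroup.centralizer (sigmaCore M : Set G) : Subgroup G) :=
      hX₀c ▸ Subgroup.card_dvd_of_le hX₀le
    have hk0 : k ≠ 0 := by
      rintro rfl
      rw [hk, pow_zero] at hXd
      exact hp.one_lt.ne' (Nat.dvd_one.mp hXd)
    have hk2' : k ≠ 2 := by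
      rintro rfl
      exact hne (Subgroup.eq_of_le_of_card_ge inf_le_left (by rw [hk, h.card]))
    have hk1 : k = 1 := by omega
    rw [hk, hk1, pow_one]
  have hX₀eq : X₀ = A ⊓ Subgroup.centralizer (sigmaCore M : Set G) :=
    Subgroup.eq_of_le_of_card_ge hX₀le (by rw [hcard, hX₀c])
  rw [← hX₀eq]
  exact ⟨hX₀c, hX₀s, hreg⟩

/-- Theorem 12.7(c). -/
theorem part_c (hG : IsMinSimpleOddOrder G) (h : Cfg27 M E A p P S x) {X : Subgroup G}
    (hXE : X ≤ E) (hX : Nat.card X = p)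
    (hne : X ≠ A ⊓ Subgroup.centralizer (sigmaCore M : Set G)) :
    sigmaCore M ⊓ Subgroup.centralizer (X : Set G) = ⊥ ∧
      ¬ Subgroup.centralizer (X : Set G) ≤ M := by
  have hXA : X ≤ A :=
    (Cfsg.Agent.S1418.result hG M h.coatom E h.compl p h.tau A ⟨h.leE, h.elem, h.card⟩).1.2 X hXE hX
  obtain ⟨hc, hs, hreg⟩ := h.main_A0 hG
  refine ⟨hreg X hXA hX hne, ?_⟩
  intro hCM
  by_cases hXZ : X = fixA A x
  · apply h.xM
    apply hCM
    rw [hXZ, Subgroup.mem_centralizer_iff]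
    intro z hz
    exact ((mem_fixA.mp hz).2).symm
  · have hA₀Z : A ⊓ Subgroup.centralizer (sigmaCore M : Set G) ≠ fixA A x := by
      intro e
      apply hs
      rw [e]
      exact h.Z_regular hG
    obtain ⟨k, hk⟩ := exists_zpow_conj h.elem h.card h.xp h.xN (h.xC hG)
      (inf_le_left : A ⊓ Subgroup.centralizer (sigmaCore M : Set G) ≤ A) hXA hc hX hA₀Z hXZ
    have hgN := h.zpow_normalizer k
    have hgp := h.zpow_pgroup k
    have h1 : cj (x ^ k) (sigmaCore M) ≤ M := by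
      have hσ : sigmaCore M ≤ Subgroup.centralizer
          ((A ⊓ Subgroup.centralizer (sigmaCore M : Set G) : Subgroup G) : Set G) :=
        Subgroup.le_centralizer_iff.mp inf_le_right
      have h2 := cj_mono (x ^ k) hσ
      rw [← centralizer_cj, ← hk] at h2
      exact h2.trans hCM
    have h2 : sigmaCore M ≤ cj (x ^ k)⁻¹ M := cj_le_iff.mp h1
    have h3 : cj (x ^ k)⁻¹ M = M := by
      by_contra hne'
      have hA : A ≤ cj (x ^ k)⁻¹ M := by
        have h4 := cj_mono (x ^ k)⁻¹ h.leM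
        rwa [cj_eq_self_of_mem_normalizer (Subgroup.inv_mem _ hgN)] at h4
      have h5 := (Cfsg.Agent.S1417.result hG M h.coatom p h.tau A
        ⟨h.leM, h.elem, h.card⟩).2.2.2.2.1 (cj (x ^ k)⁻¹ M)
        (isCoatom_map_conj (x ^ k)⁻¹ h.coatom) hne' hA
      apply sigmaCore_ne_bot hG h.coatom
      rw [eq_bot_iff, ← h5]
      exact le_inf le_rfl h2
    have h4 : (x ^ k)⁻¹ ∈ M := mem_of_map_conj_eq_self hG h.coatom h3
    have h5 : x ^ k ∈ M := by
      have := M.inv_mem h4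
      rwa [inv_inv] at this
    have h6 := h.cj_eq_of_pelement_mem hG
      (inf_le_left : A ⊓ Subgroup.centralizer (sigmaCore M : Set G) ≤ A) h5 hgp hgN
    exact hne (hk.trans h6)

/-- Theorem 12.7(a). -/
theorem part_a (hG : IsMinSimpleOddOrder G) (h : Cfg27 M E A p P S x) : tau2 M = {p} := by
  ext q
  simp only [Set.mem_singleton_iff]
  constructor
  · intro hq
    by_contra hqp
    haveI : Fact q.Prime := ⟨hq.1⟩
    obtain ⟨B, hBE, hBe, hBc⟩ := tau2_elem_sq_compl hG h.coatom h.compl hq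
    have hNAB : Subgroup.normalizer (A : Set G) ≤ Subgroup.normalizer (B : Set G) :=
      tau2_normalizer_le hG h.coatom h.compl hq h.tau hqp hBE hBe hBc h.leE h.elem h.card
    have hxB : x ∈ Subgroup.normalizer (B : Set G) := hNAB h.xN
    have hA1 : A ≠ ⊥ := ne_bot_of_card_sq h.card
    have hNtop : Subgroup.normalizer (A : Set G) ≠ ⊤ :=
      Cfsg.Agent.Lib.Lead.BGTrans.normalizer_ne_top hG.2 hA1 (ne_top_of_le_isCoatom h.coatom h.leM)
    obtain ⟨M₁, hM₁, hNM₁⟩ := exists_isCoatom_ge hNtop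
    have hpσ : p ∈ sigma M₁ := mem_sigma_of_normalizer_elem_le hG hM₁ h.elem h.card hNM₁
    have hxM₁ : x ∈ M₁ := hNM₁ h.xN
    have hxσ : x ∈ sigmaCore M₁ :=
      pgroup_le_sigmaCore hG hM₁ hpσ h.xp (Subgroup.zpowers_le.mpr hxM₁) (Subgroup.mem_zpowers x)
    have hEN : E ≤ Subgroup.normalizer (A : Set G) :=
      (Cfsg.Agent.S1418.result hG M h.coatom E h.compl p h.tau A ⟨h.leE, h.elem, h.card⟩).1.1
    have hBM₁ : B ≤ M₁ := hBE.trans (hEN.trans hNM₁)
    have hqd : q ∣ Nat.card M₁ := by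
      have h1 : Nat.card B ∣ Nat.card M₁ := Subgroup.card_dvd_of_le hBM₁
      rw [hBc] at h1
      exact (dvd_pow_self q (by norm_num)).trans h1
    have hnc := hasNormalPComplement_sigmaCore hG hM₁ hq.1 hqd (tau2_not_ideal hG h.coatom hq)
    have hxc : x ∈ Subgroup.centralizer (B : Set G) := by
      rw [Subgroup.mem_centralizer_iff]
      intro b hb
      exact (commute_of_hasNormalPComplement (Ne.symm hqp) hnc hxσ h.xp
        (hBM₁.trans (le_normalizer_sigmaCore M₁)) (isPGroup_of_elem hBe) hxB hb).symm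
    have hCB : Subgroup.centralizer (B : Set G) ≤ M :=
      (Cfsg.Agent.S1416.result hG M h.coatom q B ⟨hBE.trans h.compl.1, hBe, hBc⟩).1
    exact h.xM (hCB hxc)
  · rintro rfl
    exact h.tau

end Cfg27

end Cfsg.Agent.Lib.Helper19.BG12
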