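import Mathlib
import Cfsg.Agent.Lib.Helper19.BG12D

/-!
Bender–Glauberman Theorem 12.7(b): `F(M) = M_σ × A₀`.
-/

set_option autoImplicit false
open Cfsg

namespace Cfsg.Agent.Lib.Helper19.BG12

open Cfsg.Agent.Lib.Helper10.BG Cfsg.Agent.Lib.Helper10 Cfsg.Agent.Lib.Helper9.BGExc
open Cfsg.Agent.Lib.Helper19.BGCompl

variable {G : Type*} [Group G] [Finite G] {M E A : Subgroup G} {p : ℕ} [Fact p.Prime]

namespace Cfg27

variable {P S : Subgroup G} {x : G}

/-- `O_p(M) ≤ A₀`. -/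
theorem pCoreOf_le_A0 (hG : IsMinSimpleOddOrder G) (h : Cfg27 M E A p P S x) :
    pCoreOf p M ≤ A ⊓ Subgroup.centralizer (sigmaCore M : Set G) := by
  obtain ⟨hc, hs, -⟩ := h.main_A0 hG
  have hRp : IsPGroup p (pCoreOf p M) := isPGroup_pCoreOf p M
  have hRM : pCoreOf p M ≤ M := Cfsg.Agent.Lib.Helper10.BG.pCoreOf_le p M
  have hRP : pCoreOf p M ≤ P := h.sylM.pCoreOf_le
  have hRn : M ≤ Subgroup.normalizer (pCoreOf p M : Set G) :=
    Cfsg.Agent.Lib.Helper10.BG.le_normalizer_pCoreOf p M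
  have hPc := tau2_pgroup_comm hG h.coatom h.tau h.sylM.isPGroup h.sylM.le
  have hinf : pCoreOf p M ⊓ sigmaCore M = ⊥ := by
    apply Subgroup.inf_eq_bot_of_coprime
    obtain ⟨k, hk⟩ := hRp.exists_card_eq
    rw [hk]
    apply Nat.Coprime.pow_left
    rw [Nat.Prime.coprime_iff_not_dvd h.tau.1]
    exact fun hd => h.tau.2.1 (mem_sigma_of_dvd_card_sigmaCore hG h.coatom h.tau.1 hd)
  have hRC : pCoreOf p M ≤ Subgroup.centralizer (sigmaCore M : Set G) := by
    intro r hr
    rw [Subgroup.mem_centralizer_iff]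
    intro s hs'
    have hcomm : r * s * r⁻¹ * s⁻¹ ∈ pCoreOf p M ⊓ sigmaCore M := by
      refine Subgroup.mem_inf.mpr ⟨?_, ?_⟩
      · have h1 : s * r⁻¹ * s⁻¹ ∈ pCoreOf p M :=
          conj_mem_of_mem_normalizer (hRn (sigmaCore_le M hs')) (Subgroup.inv_mem _ hr)
        have e : r * s * r⁻¹ * s⁻¹ = r * (s * r⁻¹ * s⁻¹) := by group
        rw [e]
        exact Subgroup.mul_mem _ hr h1
      · have h1 : r * s * r⁻¹ ∈ sigmaCore M :=
          conj_mem_of_mem_normalizer (le_normalizer_sigmaCore M (hRM hr)) hs'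
        exact Subgroup.mul_mem _ h1 (Subgroup.inv_mem _ hs')
    rw [hinf, Subgroup.mem_bot] at hcomm
    calc s * r = (r * s * r⁻¹ * s⁻¹)⁻¹ * (r * s) := by group
      _ = r * s := by rw [hcomm, inv_one, one_mul]
  have hMax : MaxEA p A := tau2_maxEA hG h.coatom h.tau h.leM h.elem h.card
  have hkey : ∀ v ∈ pCoreOf p M, (v ^ p) ^ p = 1 → v ^ p = 1 := by
    intro v hv hvpp
    by_contra hw1
    have hvS : v ∈ S := h.leS (hRP hv)
    have hvC : v ∈ Subgroup.centralizer (A : Set G) := by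
      rw [Subgroup.mem_centralizer_iff]
      intro a ha
      exact hPc a (h.leP ha) v (hRP hv)
    have hwZ := Cfsg.Agent.Lib.Helper29.BGExc.PG2 hG h.sylG hMax h.card (h.leP.trans h.leS)
      h.nonab v (Subgroup.mem_inf.mpr ⟨hvS, hvC⟩) hvpp
    have hwx : x * v ^ p = v ^ p * x :=
      (Cfsg.Agent.Lib.Helper29.BGExc.mem_omegaZ.mp hwZ).2.1 x h.xS
    have hwR : v ^ p ∈ pCoreOf p M := Subgroup.pow_mem _ hv p
    have hwA : v ^ p ∈ A :=
      tau2_omega hG h.coatom h.tau h.leM h.elem h.card h.sylM.isPGroup h.sylM.le h.leP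
        (hRP hwR) hvpp
    have hwF : v ^ p ∈ fixA A x := mem_fixA.mpr ⟨hwA, hwx⟩
    have hwA₀ : v ^ p ∈ A ⊓ Subgroup.centralizer (sigmaCore M : Set G) :=
      Subgroup.mem_inf.mpr ⟨hwA, hRC hwR⟩
    have e1 : fixA A x = Subgroup.zpowers (v ^ p) :=
      eq_zpowers_of_card_prime (h.card_Z hG) hwF hw1
    have e2 : A ⊓ Subgroup.centralizer (sigmaCore M : Set G) = Subgroup.zpowers (v ^ p) :=
      eq_zpowers_of_card_prime hc hwA₀ hw1
    apply hs
    rw [e2, ← e1]
    exact h.Z_regular hG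
  have hexp : ∀ k : ℕ, ∀ v ∈ pCoreOf p M, v ^ (p ^ k) = 1 → v ^ p = 1 := by
    intro k
    induction k with
    | zero =>
      intro v _ hv1
      rw [pow_zero, pow_one] at hv1
      rw [hv1, one_pow]
    | succ n ih =>
      intro v hv hvn
      apply hkey v hv
      apply ih (v ^ p) (Subgroup.pow_mem _ hv p)
      rw [← pow_mul, ← pow_succ']
      exact hvn
  intro v hv
  refine Subgroup.mem_inf.mpr ⟨?_, hRC hv⟩
  obtain ⟨k, hk⟩ := hRp ⟨v, hv⟩
  have hvk : v ^ (p ^ k) = 1 := by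
    have := congrArg Subtype.val hk
    simpa using this
  exact tau2_omega hG h.coatom h.tau h.leM h.elem h.card h.sylM.isPGroup h.sylM.le h.leP
    (hRP hv) (hexp k v hv hvk)

/-- `M` normalizes `A₀`. -/
theorem le_normalizer_A0 (hG : IsMinSimpleOddOrder G) (h : Cfg27 M E A p P S x) :
    M ≤ Subgroup.normalizer
      ((A ⊓ Subgroup.centralizer (sigmaCore M : Set G) : Subgroup G) : Set G) := by
  have hEN : E ≤ Subgroup.normalizer (A : Set G) :=
    (Cfsg.Agent.S1418.result hG M h.coatom E h.compl p h.tau A ⟨h.leE, h.elem, h.card⟩).1.1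
  intro m hm
  obtain ⟨e, he, s, hs, rfl⟩ := h.compl.2.2.2 m hm
  apply Subgroup.mul_mem
  · apply mem_normalizer_of_map_conj_eq
    show cj e (A ⊓ Subgroup.centralizer (sigmaCore M : Set G)) =
      A ⊓ Subgroup.centralizer (sigmaCore M : Set G)
    rw [cj_inf, cj_eq_self_of_mem_normalizer (hEN he), ← centralizer_cj,
      cj_eq_self_of_mem_normalizer (le_normalizer_sigmaCore M (h.compl.1 he))]
  · apply mem_normalizer_of_map_conj_eq
    have hsC : s ∈ Subgroup.centralizer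
        ((A ⊓ Subgroup.centralizer (sigmaCore M : Set G) : Subgroup G) : Set G) :=
      Subgroup.le_centralizer_iff.mp
        (inf_le_right : A ⊓ Subgroup.centralizer (sigmaCore M : Set G) ≤ _) hs
    exact cj_eq_of_mem_centralizer hsC le_rfl

/-- Theorem 12.7(b). -/
theorem part_b (hG : IsMinSimpleOddOrder G) (h : Cfg27 M E A p P S x) :
    fittingOf M = sigmaCore M ⊔ (A ⊓ Subgroup.centralizer (sigmaCore M : Set G)) := by
  have hnil : Group.IsNilpotent (sigmaCore M) :=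
    (Cfsg.Agent.S1417.result hG M h.coatom p h.tau A ⟨h.leM, h.elem, h.card⟩).1
  apply le_antisymm
  · rw [fittingOf_eq_iSup]
    apply iSup_le
    intro r
    haveI : Fact (r : ℕ).Prime := ⟨r.2⟩
    by_cases hrσ : (r : ℕ) ∈ sigma M
    · exact (pgroup_le_sigmaCore hG h.coatom hrσ (isPGroup_pCoreOf (r : ℕ) M)
        (Cfsg.Agent.Lib.Helper10.BG.pCoreOf_le (r : ℕ) M)).trans le_sup_left
    · by_cases hR1 : pCoreOf (r : ℕ) M = ⊥
      · rw [hR1]
        exact bot_le
      · have hN : Subgroup.normalizer (pCoreOf (r : ℕ) M : Set G) = M :=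
          normalizer_eq_of_isCoatom' hG h.coatom hR1
            (Cfsg.Agent.Lib.Helper10.BG.pCoreOf_le (r : ℕ) M)
            (Cfsg.Agent.Lib.Helper10.BG.le_normalizer_pCoreOf (r : ℕ) M)
        have hrτ : (r : ℕ) ∈ tau2 M :=
          (mem_sigma_or_tau2_of_normalizer_le hG h.coatom (isPGroup_pCoreOf (r : ℕ) M) hR1
            hN.le).resolve_left hrσ
        have hrp : (r : ℕ) = p := by
          rw [h.part_a hG] at hrτ
          exact hrτ
        rw [hrp]
        exact (h.pCoreOf_le_A0 hG).trans le_sup_right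
  · apply sup_le
    · exact le_fittingOf (sigmaCore_le M) (le_normalizer_sigmaCore M) hnil
    · apply le_fittingOf (inf_le_left.trans h.leM) (h.le_normalizer_A0 hG)
      exact ((isPGroup_of_elem h.elem).to_le inf_le_left).isNilpotent

end Cfg27

/-- Bender–Glauberman Theorem 12.7, parts (a), (b), (c). -/
theorem thm_12_7 (hG : IsMinSimpleOddOrder G) (hM : IsCoatom M)
    (hE : IsComplIn E (sigmaCore M) M) (hp : p ∈ tau2 M)
    (hS : ∀ S : Sylow p G, ¬ IsMulCommutative (S : Subgroup G)) (hAE : A ≤ E)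
    (hAe : IsElementaryAbelian p A) (hAc : Nat.card A = p ^ 2) :
    tau2 M = {p} ∧
      (Nat.card ↥(A ⊓ Subgroup.centralizer (sigmaCore M : Set G)) = p ∧
        fittingOf M = sigmaCore M ⊔ (A ⊓ Subgroup.centralizer (sigmaCore M : Set G))) ∧
      ∀ X : Subgroup G, X ≤ E → Nat.card X = p →
        X ≠ A ⊓ Subgroup.centralizer (sigmaCore M : Set G) →
        sigmaCore M ⊓ Subgroup.centralizer (X : Set G) = ⊥ ∧
          ¬ Subgroup.centralizer (X : Set G) ≤ M := by
  obtain ⟨P, S, x, h⟩ := exists_cfg27 hG hM hE hp hS hAE hAe hAc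
  exact ⟨h.part_a hG, ⟨(h.main_A0 hG).1, h.part_b hG⟩,
    fun X hXE hX hne => h.part_c hG hXE hX hne⟩

end Cfsg.Agent.Lib.Helper19.BG12
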