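import Mathlib
import Cfsg.Agent.Lib.Helper19.BG12E

/-!
Bender–Glauberman section 14: the set `Ẑ = K K* ∖ (K ∪ K*)` attached to a Hall `κ(M)`-subgroup `K`
of a maximal subgroup `M` of type `𝒫`.  The results of Lemma 14.2 that are used are packaged in the
structure `KData`.
-/

set_option autoImplicit false
open Cfsg

namespace Cfsg.Agent.Lib.Helper19.BG14

open Cfsg.Agent.Lib.Helper10.BG Cfsg.Agent.Lib.Helper10 Cfsg.Agent.Lib.Helper9.BGExc
open Cfsg.Agent.Lib.Helper19.BGCompl Cfsg.Agent.Lib.Helper19.BG12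

variable {G : Type*} [Group G] [Finite G] {M K : Subgroup G}

/-- `K* = C_{M_σ}(K)`. -/
abbrev kstar (M K : Subgroup G) : Subgroup G :=
  sigmaCore M ⊓ Subgroup.centralizer (K : Set G)

/-- `Ẑ = K K* ∖ (K ∪ K*)`. -/
abbrev zhat (M K : Subgroup G) : Set G :=
  (↑(K ⊔ kstar M K) : Set G) \ ((K : Set G) ∪ ↑(kstar M K))

/-- the facts of Lemma 14.2 used for `Ẑ`. -/
structure KData (M K : Subgroup G) : Prop where
  coatom : IsCoatom M
  hall : IsPiHallOf (kappa M) K M
  ne_bot : K ≠ ⊥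
  prime : ∀ k ∈ K, k ≠ 1 →
    sigmaCore M ⊓ Subgroup.centralizer ({k} : Set G) = kstar M K
  fus1 : ∀ g : G, g ∉ M → kstar M K ⊓ cj g M = ⊥
  fus2 : ∀ g ∈ M, g ∉ K ⊔ kstar M K → K ⊓ cj g K = ⊥

namespace KData

theorem leM (h : KData M K) : K ≤ M := h.hall.1

theorem kstar_le (_h : KData M K) : kstar M K ≤ M := inf_le_left.trans (sigmaCore_le M)

theorem commute (_h : KData M K) {k y : G} (hk : k ∈ K) (hy : y ∈ kstar M K) : k * y = y * k :=
  (Subgroup.mem_centralizer_iff.mp hy.2) k hk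

theorem coprime (hG : IsMinSimpleOddOrder G) (h : KData M K) :
    (Nat.card K).Coprime (Nat.card (kstar M K)) := by
  apply Nat.coprime_of_dvd
  intro q hq hd1 hd2
  have h1 : q ∉ sigma M := (h.hall.2.1 q hq hd1).2.2.1
  have h2 : q ∣ Nat.card (sigmaCore M) := hd2.trans (Subgroup.card_dvd_of_le inf_le_left)
  exact h1 (mem_sigma_of_dvd_card_sigmaCore hG h.coatom hq h2)

theorem inf_eq_bot (hG : IsMinSimpleOddOrder G) (h : KData M K) : K ⊓ kstar M K = ⊥ :=
  Subgroup.inf_eq_bot_of_coprime (h.coprime hG)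

/-- `K* ≠ 1`. -/
theorem kstar_ne_bot (hG : IsMinSimpleOddOrder G) (h : KData M K) : kstar M K ≠ ⊥ := by
  obtain ⟨k, hk, hk1⟩ := exists_ne_one_of_ne_bot h.ne_bot
  have hcard : Nat.card K ≠ 1 := fun h1 => h.ne_bot (Subgroup.card_eq_one.mp h1)
  obtain ⟨p, hp, hpd⟩ := Nat.exists_prime_and_dvd hcard
  haveI : Fact p.Prime := ⟨hp⟩
  have hpκ : p ∈ kappa M := h.hall.2.1 p hp hpd
  obtain ⟨T, hT⟩ := exists_isSylowIn p K
  have hTM : IsSylowIn p T M := hT.of_not_dvd_relIndex h.leM (h.hall.2.2 p hp hpκ)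
  obtain ⟨-, x, hx, hx1, y, hy, hy1, hxy⟩ := hpκ.2.2.2 hTM.toSylow
  have hxK : (x : G) ∈ K := hT.le ((hTM.mem_toSylow x).mp hx)
  have hx1' : (x : G) ≠ 1 := fun e => hx1 (Subtype.ext e)
  have hyK : y ∈ kstar M K := by
    rw [← h.prime (x : G) hxK hx1']
    refine Subgroup.mem_inf.mpr ⟨hy, ?_⟩
    rw [Subgroup.mem_centralizer_iff]
    intro z hz
    rw [Set.mem_singleton_iff] at hz
    rw [hz]
    exact hxy
  intro hb
  rw [hb, Subgroup.mem_bot] at hyK
  exact hy1 hyK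

/-- elements of `Ẑ` are products `k y` with `k ∈ K#`, `y ∈ K*#`. -/
theorem mem_zhat_iff (hG : IsMinSimpleOddOrder G) (h : KData M K) {z : G} :
    z ∈ zhat M K ↔ ∃ k ∈ K, ∃ y ∈ kstar M K, k ≠ 1 ∧ y ≠ 1 ∧ z = k * y := by
  constructor
  · rintro ⟨hzZ, hzn⟩
    obtain ⟨k, hk, y, hy, rfl⟩ := mem_sup_of_commute' (fun a ha b hb => h.commute ha hb) hzZ
    refine ⟨k, hk, y, hy, ?_, ?_, rfl⟩
    · rintro rfl
      apply hzn
      right
      rw [one_mul]
      exact hy
    · rintro rfl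
      apply hzn
      left
      rw [mul_one]
      exact hk
  · rintro ⟨k, hk, y, hy, hk1, hy1, rfl⟩
    refine ⟨Subgroup.mul_mem _ (Subgroup.mem_sup_left hk) (Subgroup.mem_sup_right hy), ?_⟩
    rintro (hz | hz)
    · have hyK : y ∈ K := by
        have := K.mul_mem (K.inv_mem hk) hz
        rwa [inv_mul_cancel_left] at this
      have : y ∈ K ⊓ kstar M K := Subgroup.mem_inf.mpr ⟨hyK, hy⟩
      rw [h.inf_eq_bot hG, Subgroup.mem_bot] at this
      exact hy1 this
    · have hkK : k ∈ kstar M K := by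
        have := (kstar M K).mul_mem hz ((kstar M K).inv_mem hy)
        rwa [mul_inv_cancel_right] at this
      have : k ∈ K ⊓ kstar M K := Subgroup.mem_inf.mpr ⟨hk, hkK⟩
      rw [h.inf_eq_bot hG, Subgroup.mem_bot] at this
      exact hk1 this

theorem zhat_nonempty (hG : IsMinSimpleOddOrder G) (h : KData M K) : (zhat M K).Nonempty := by
  obtain ⟨k, hk, hk1⟩ := exists_ne_one_of_ne_bot h.ne_bot
  obtain ⟨y, hy, hy1⟩ := exists_ne_one_of_ne_bot (h.kstar_ne_bot hG)
  exact ⟨k * y, (h.mem_zhat_iff hG).mpr ⟨k, hk, y, hy, hk1, hy1, rfl⟩⟩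

theorem pow_card_of_mem {H : Subgroup G} {y : G} (hy : y ∈ H) : y ^ Nat.card H = 1 := by
  have hd2 : orderOf y ∣ Nat.card H := by
    have := orderOf_dvd_natCard (⟨y, hy⟩ : H)
    rwa [Subgroup.orderOf_mk] at this
  exact orderOf_dvd_iff_pow_eq_one.mp hd2

/-- a power coprime to the order is nontrivial. -/
theorem pow_ne_one_of_coprime {H : Subgroup G} {y : G} (hy : y ∈ H) (hy1 : y ≠ 1) {n : ℕ}
    (hn : n.Coprime (Nat.card H)) : y ^ n ≠ 1 := by
  intro h1
  have hd1 : orderOf y ∣ n := orderOf_dvd_of_pow_eq_one h1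
  have hd2 : orderOf y ∣ Nat.card H := by
    have := orderOf_dvd_natCard (⟨y, hy⟩ : H)
    rwa [Subgroup.orderOf_mk] at this
  have : orderOf y = 1 := Nat.eq_one_of_dvd_coprimes hn hd1 hd2
  exact hy1 (orderOf_eq_one_iff.mp this)

/-- an element fusing two elements of `Ẑ` lies in `Z = K K*`. -/
theorem mem_of_fuses (hG : IsMinSimpleOddOrder G) (h : KData M K) {g z : G} (hz : z ∈ zhat M K)
    (hgz : g * z * g⁻¹ ∈ zhat M K) : g ∈ K ⊔ kstar M K := by
  obtain ⟨k, hk, y, hy, hk1, hy1, rfl⟩ := (h.mem_zhat_iff hG).mp hz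
  obtain ⟨k', hk', y', hy', -, -, he⟩ := (h.mem_zhat_iff hG).mp hgz
  have hcop := h.coprime hG
  -- the `K*`-parts
  have hpow : ∀ n : ℕ, g * (k ^ n * y ^ n) * g⁻¹ = k' ^ n * y' ^ n := by
    intro n
    rw [← (show Commute k y from h.commute hk hy).mul_pow,
      ← (show Commute k' y' from h.commute hk' hy').mul_pow, ← he, conj_pow]
  have hgM : g ∈ M := by
    by_contra hgM
    have h1 := hpow (Nat.card K)
    have hkn : k ^ Nat.card K = 1 := pow_card_of_mem hk
    have hkn' : k' ^ Nat.card K = 1 := pow_card_of_mem hk'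
    rw [hkn, hkn', one_mul, one_mul] at h1
    have hw1 : y ^ Nat.card K ≠ 1 := pow_ne_one_of_coprime hy hy1 hcop
    have hw : y' ^ Nat.card K ∈ kstar M K ⊓ cj g M := by
      refine Subgroup.mem_inf.mpr ⟨Subgroup.pow_mem _ hy' _, ?_⟩
      rw [← h1]
      exact conj_mem_cj (h.kstar_le (Subgroup.pow_mem _ hy _))
    rw [h.fus1 g hgM, Subgroup.mem_bot] at hw
    apply hw1
    rw [hw] at h1
    have : y ^ Nat.card K = g⁻¹ * (g * y ^ Nat.card K * g⁻¹) * g := by group
    rw [this, h1]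
    group
  by_contra hgZ
  have h1 := hpow (Nat.card (kstar M K))
  have hyn : y ^ Nat.card (kstar M K) = 1 := pow_card_of_mem hy
  have hyn' : y' ^ Nat.card (kstar M K) = 1 := pow_card_of_mem hy'
  rw [hyn, hyn', mul_one, mul_one] at h1
  have hw1 : k ^ Nat.card (kstar M K) ≠ 1 := pow_ne_one_of_coprime hk hk1 hcop.symm
  have hw : k' ^ Nat.card (kstar M K) ∈ K ⊓ cj g K := by
    refine Subgroup.mem_inf.mpr ⟨Subgroup.pow_mem _ hk' _, ?_⟩
    rw [← h1]
    exact conj_mem_cj (Subgroup.pow_mem _ hk _)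
  rw [h.fus2 g hgM hgZ, Subgroup.mem_bot] at hw
  apply hw1
  rw [hw] at h1
  have : k ^ Nat.card (kstar M K) = g⁻¹ * (g * k ^ Nat.card (kstar M K) * g⁻¹) * g := by group
  rw [this, h1]
  group

/-- `Z` normalizes `Ẑ`. -/
theorem le_normalizer_zhat (hG : IsMinSimpleOddOrder G) (h : KData M K) :
    K ⊔ kstar M K ≤ Subgroup.normalizer (zhat M K) := by
  have key : ∀ g ∈ K ⊔ kstar M K, ∀ z ∈ zhat M K, g * z * g⁻¹ ∈ zhat M K := by
    intro g hg z hz
    obtain ⟨a, ha, b, hb, rfl⟩ := mem_sup_of_commute' (fun a ha b hb => h.commute ha hb) hg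
    obtain ⟨k, hk, y, hy, hk1, hy1, rfl⟩ := (h.mem_zhat_iff hG).mp hz
    refine (h.mem_zhat_iff hG).mpr ⟨a * k * a⁻¹, K.mul_mem (K.mul_mem ha hk) (K.inv_mem ha),
      b * y * b⁻¹, (kstar M K).mul_mem ((kstar M K).mul_mem hb hy) ((kstar M K).inv_mem hb),
      ?_, ?_, ?_⟩
    · intro e
      apply hk1
      have : k = a⁻¹ * (a * k * a⁻¹) * a := by group
      rw [this, e]
      group
    · intro e
      apply hy1
      have : y = b⁻¹ * (b * y * b⁻¹) * b := by group
      rw [this, e]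
      group
    · have c1 : b * k = k * b := (h.commute hk hb).symm
      have c2 : a * y = y * a := h.commute ha hy
      have c3 : a * b = b * a := h.commute ha hb
      have c1' : b⁻¹ * k = k * b⁻¹ := by
        have : b⁻¹ * k = b⁻¹ * (k * b) * b⁻¹ := by group
        rw [this, ← c1]
        group
      have c2' : a⁻¹ * y = y * a⁻¹ := by
        have : a⁻¹ * y = a⁻¹ * (y * a) * a⁻¹ := by group
        rw [this, ← c2]
        group
      calc a * b * (k * y) * (a * b)⁻¹ = a * (b * k) * y * b⁻¹ * a⁻¹ := by group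
        _ = a * (k * b) * y * b⁻¹ * a⁻¹ := by rw [c1]
        _ = a * k * (b * y * b⁻¹) * a⁻¹ := by group
        _ = a * k * a⁻¹ * (b * y * b⁻¹) := by
          have hbyb : b * y * b⁻¹ ∈ kstar M K :=
            (kstar M K).mul_mem ((kstar M K).mul_mem hb hy) ((kstar M K).inv_mem hb)
          have c4 : a⁻¹ * (b * y * b⁻¹) = (b * y * b⁻¹) * a⁻¹ := h.commute (K.inv_mem ha) hbyb
          rw [mul_assoc (a * k), ← c4]
          group
  intro g hg
  rw [Subgroup.mem_set_normalizer_iff]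
  intro z
  constructor
  · exact key g hg z
  · intro hz
    have := key g⁻¹ (Subgroup.inv_mem _ hg) _ hz
    have e : g⁻¹ * (g * z * g⁻¹) * g⁻¹⁻¹ = z := by group
    rwa [e] at this

/-- `N_G(Ẑ) = Z`. -/
theorem normalizer_zhat (hG : IsMinSimpleOddOrder G) (h : KData M K) :
    Subgroup.normalizer (zhat M K) = K ⊔ kstar M K := by
  apply le_antisymm
  · intro g hg
    obtain ⟨z, hz⟩ := h.zhat_nonempty hG
    exact h.mem_of_fuses hG hz ((Subgroup.mem_set_normalizer_iff.mp hg z).mp hz)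
  · exact h.le_normalizer_zhat hG

/-- `Ẑ` is a TI-subset. -/
theorem isTISubset_zhat (hG : IsMinSimpleOddOrder G) (h : KData M K) :
    IsTISubset (zhat M K) := by
  intro g hg x hx hgx
  exact absurd (h.le_normalizer_zhat hG (h.mem_of_fuses hG hx hgx)) hg

end KData

end Cfsg.Agent.Lib.Helper19.BG14
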