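import Mathlib
import Cfsg.Agent.Lib.Helper19.BG14A
import Cfsg.Agent.Lib.Helper1.BGSigmaDecomp
import Cfsg.Agent.Lib.Helper10.BGTwelveG
import Cfsg.Agent.Lib.Helper9.BGPrime1

/-!
Bender–Glauberman section 14: the union of the `M`-conjugates of `Ẑ` equals `A₀(M) ∖ A(M)` and is a
TI-subset.
-/

set_option autoImplicit false
open Cfsg

namespace Cfsg.Agent.Lib.Helper19.BG14

open Cfsg.Agent.Lib.Helper10.BG Cfsg.Agent.Lib.Helper10 Cfsg.Agent.Lib.Helper9.BGExc
open Cfsg.Agent.Lib.Helper19.BGCompl Cfsg.Agent.Lib.Helper19.BG12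
open Cfsg.Agent.Lib.Helper1.BGSigmaDecomp

variable {G : Type*} [Group G] [Finite G] {M K U : Subgroup G}

/-- `κ(M)` and `τ₂(M)` are disjoint. -/
theorem not_mem_tau2_of_mem_kappa {q : ℕ} (hqκ : q ∈ kappa M) : q ∉ tau2 M := by
  intro hq2
  haveI : Fact q.Prime := ⟨hqκ.1⟩
  obtain ⟨T, hT⟩ := exists_isSylowIn q M
  have hc : IsCyclic ↥(T.subgroupOf M) := (hqκ.2.2.2 hT.toSylow).1
  have hcT : IsCyclic T := by
    haveI := hc
    exact isCyclic_of_surjective (Subgroup.subgroupOfEquivOfLe hT.le).toMonoidHom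
      (Subgroup.subgroupOfEquivOfLe hT.le).surjective
  exact hq2.2.2.2 (Cfsg.Agent.Lib.Helper9.BGPrime.pRankLE_one_of_cyclic hqκ.1 hT hcT)

/-- `M` normalizes `U M_σ`. -/
theorem le_normalizer_U_sup (hKU : IsSigmaDecomposition M K U) :
    M ≤ Subgroup.normalizer ((U ⊔ sigmaCore M : Subgroup G) : Set G) := by
  intro m hm
  obtain ⟨u, hu, w, hw, rfl⟩ := hKU.compl.2.2.2 m hm
  apply Subgroup.mul_mem
  · exact Subgroup.le_normalizer (Subgroup.mem_sup_left hu)
  · have hKN : K ≤ Subgroup.normalizer ((U ⊔ sigmaCore M : Subgroup G) : Set G) := by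
      intro k hk
      apply mem_normalizer_of_map_conj_eq
      show cj k (U ⊔ sigmaCore M) = U ⊔ sigmaCore M
      rw [cj_sup, cj_eq_self_of_mem_normalizer (hKU.normal hk),
        cj_eq_self_of_mem_normalizer (le_normalizer_sigmaCore M (hKU.hall.1 hk))]
    have hσN : sigmaCore M ≤ Subgroup.normalizer ((U ⊔ sigmaCore M : Subgroup G) : Set G) :=
      le_sup_right.trans Subgroup.le_normalizer
    exact (sup_le hKN hσN) hw

/-- `|U M_σ|` is prime to `|K|`. -/
theorem coprime_card_U_sup (hG : IsMinSimpleOddOrder G) (hM : IsCoatom M)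
    (hKU : IsSigmaDecomposition M K U) :
    (Nat.card (U ⊔ sigmaCore M : Subgroup G)).Coprime (Nat.card K) := by
  apply Nat.coprime_of_dvd
  intro q hq hd1 hd2
  have hqκ : q ∈ kappa M := hKU.hall.2.1 q hq hd2
  have h1 := Cfsg.H5.card_sup_mul_card_inf
    (hKU.compl.1.trans (le_normalizer_sigmaCore M) : U ≤ Subgroup.normalizer (sigmaCore M : Set G))
  have h2 : q ∣ Nat.card U * Nat.card (sigmaCore M) := by
    rw [← h1]
    exact hd1.mul_right _
  rcases (Nat.Prime.dvd_mul hq).mp h2 with h3 | h3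
  · exact not_mem_kappa_of_dvd_card_U hG hM hKU hq h3 hqκ
  · exact hqκ.2.2.1 (mem_sigma_of_dvd_card_sigmaCore hG hM hq h3)

/-- the `σ(M)`-part and `σ(M)'`-part of an element of `M`. -/
theorem exists_sigma_decomp (hG : IsMinSimpleOddOrder G) (hM : IsCoatom M) {a : G} (ha : a ∈ M) :
    ∃ u v : G, a = v * u ∧ u ∈ sigmaCore M ∧ v ∈ Subgroup.zpowers a ∧ u ∈ Subgroup.zpowers a ∧
      v ^ ((sigmaCore M).relIndex M) = 1 := by
  set n₁ := Nat.card (sigmaCore M) with hn₁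
  set n₂ := (sigmaCore M).relIndex M with hn₂
  have hcard : n₁ * n₂ = Nat.card M := Cfsg.Agent.Lib.Helper12.card_mul_relIndex_eq (sigmaCore_le M)
  have hcop : Nat.Coprime n₁ n₂ := by
    apply Nat.coprime_of_dvd
    intro q hq hd1 hd2
    exact not_dvd_relIndex_sigmaCore hG hM hq (mem_sigma_of_dvd_card_sigmaCore hG hM hq hd1) hd2
  have haM : a ^ (n₁ * n₂) = 1 := by
    rw [hcard]
    exact KData.pow_card_of_mem ha
  have hb : (1 : ℤ) = (n₁ : ℤ) * Nat.gcdA n₁ n₂ + (n₂ : ℤ) * Nat.gcdB n₁ n₂ := by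
    have h1 := Nat.gcd_eq_gcd_ab n₁ n₂
    rw [hcop.gcd_eq_one] at h1
    exact_mod_cast h1
  set A := Nat.gcdA n₁ n₂
  set B := Nat.gcdB n₁ n₂
  refine ⟨a ^ ((n₂ : ℤ) * B), a ^ ((n₁ : ℤ) * A), ?_, ?_, ⟨_, rfl⟩, ⟨_, rfl⟩, ?_⟩
  · rw [← zpow_add, ← hb, zpow_one]
  · have hu : (a ^ ((n₂ : ℤ) * B)) ^ n₁ = 1 := by
      rw [← zpow_natCast, ← zpow_mul]
      have e : (n₂ : ℤ) * B * (n₁ : ℤ) = ((n₁ * n₂ : ℕ) : ℤ) * B := by push_cast; ring
      rw [e, zpow_mul, zpow_natCast, haM, one_zpow]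
    have huM : a ^ ((n₂ : ℤ) * B) ∈ M := Subgroup.zpow_mem _ ha _
    have hle : Subgroup.zpowers (a ^ ((n₂ : ℤ) * B)) ≤ sigmaCore M := by
      apply le_sigmaCore_of_sigma_group hG hM (Subgroup.zpowers_le.mpr huM)
      intro q hq hd
      rw [Nat.card_zpowers] at hd
      exact mem_sigma_of_dvd_card_sigmaCore hG hM hq (hd.trans (orderOf_dvd_of_pow_eq_one hu))
    exact hle (Subgroup.mem_zpowers _)
  · rw [← zpow_natCast, ← zpow_mul]
    have e : (n₁ : ℤ) * A * (n₂ : ℤ) = ((n₁ * n₂ : ℕ) : ℤ) * A := by push_cast; ring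
    rw [e, zpow_mul, zpow_natCast, haM, one_zpow]

namespace KData

/-- the union of the `M`-conjugates of `Ẑ` is a TI-subset of `G`. -/
theorem isTISubset_conj_zhat (hG : IsMinSimpleOddOrder G) (h : KData M K) :
    IsTISubset {a : G | ∃ m ∈ M, ∃ z ∈ zhat M K, a = m * z * m⁻¹} := by
  intro g hg x hx hgx
  exfalso
  apply hg
  obtain ⟨m, hm, z, hz, rfl⟩ := hx
  obtain ⟨m', hm', z', hz', he⟩ := hgx
  have h1 : (m'⁻¹ * g * m) * z * (m'⁻¹ * g * m)⁻¹ = z' := by
    have e : (m'⁻¹ * g * m) * z * (m'⁻¹ * g * m)⁻¹ = m'⁻¹ * (g * (m * z * m⁻¹) * g⁻¹) * m' := by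
      group
    rw [e, he]
    group
  have hz'' : (m'⁻¹ * g * m) * z * (m'⁻¹ * g * m)⁻¹ ∈ zhat M K := by rw [h1]; exact hz'
  have h2 : m'⁻¹ * g * m ∈ K ⊔ kstar M K := h.mem_of_fuses hG hz hz''
  have hZM : K ⊔ kstar M K ≤ M := sup_le h.leM h.kstar_le
  have hgM : g ∈ M := by
    have h3 := M.mul_mem (M.mul_mem hm' (hZM h2)) (M.inv_mem hm)
    have e : m' * (m'⁻¹ * g * m) * m⁻¹ = g := by group
    rwa [e] at h3
  rw [Subgroup.mem_set_normalizer_iff]
  intro b
  constructor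
  · rintro ⟨n, hn, w, hw, rfl⟩
    exact ⟨g * n, M.mul_mem hgM hn, w, hw, by group⟩
  · rintro ⟨n, hn, w, hw, he2⟩
    refine ⟨g⁻¹ * n, M.mul_mem (M.inv_mem hgM) hn, w, hw, ?_⟩
    calc b = g⁻¹ * (g * b * g⁻¹) * g := by group
      _ = g⁻¹ * (n * w * n⁻¹) * g := by rw [he2]
      _ = g⁻¹ * n * w * (g⁻¹ * n)⁻¹ := by group

/-- `⋃_{m ∈ M} Ẑ^m ⊆ A₀(M) ∖ A(M)`. -/
theorem conj_zhat_subset (hG : IsMinSimpleOddOrder G) (h : KData M K)
    (hKU : IsSigmaDecomposition M K U) :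
    {a : G | ∃ m ∈ M, ∃ z ∈ zhat M K, a = m * z * m⁻¹} ⊆ sigmaA0 M K \ sigmaA M U := by
  rintro a ⟨m, hm, z, hz, rfl⟩
  obtain ⟨k, hk, y, hy, hk1, hy1, rfl⟩ := (h.mem_zhat_iff hG).mp hz
  have hcop := h.coprime hG
  have c : k * y = y * k := h.commute hk hy
  have hzM : k * y ∈ M := M.mul_mem (h.leM hk) (h.kstar_le hy)
  have hpow : ∀ n : ℕ, (m * (k * y) * m⁻¹) ^ n = m * (k ^ n * y ^ n) * m⁻¹ := by
    intro n
    rw [conj_pow, (show Commute k y from c).mul_pow]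
  have hHat : m * (k * y) * m⁻¹ ∈ sigmaHat M := by
    refine ⟨M.mul_mem (M.mul_mem hm hzM) (M.inv_mem hm), m * y * m⁻¹,
      conj_mem_of_mem_normalizer (le_normalizer_sigmaCore M hm) hy.1, ?_, ?_⟩
    · intro e
      apply hy1
      have : y = m⁻¹ * (m * y * m⁻¹) * m := by group
      rw [this, e]
      group
    · calc m * (k * y) * m⁻¹ * (m * y * m⁻¹) = m * (k * y) * y * m⁻¹ := by group
        _ = m * (y * k) * y * m⁻¹ := by rw [c]
        _ = (m * y * m⁻¹) * (m * (k * y) * m⁻¹) := by group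
  refine ⟨⟨hHat, ?_⟩, ?_⟩
  · rintro ⟨k', hk', -, m', -, he⟩
    have h1 := hpow (Nat.card K)
    rw [he, conj_pow, KData.pow_card_of_mem hk', KData.pow_card_of_mem hk, one_mul] at h1
    apply pow_ne_one_of_coprime hy hy1 hcop
    have h2 : m * y ^ Nat.card K * m⁻¹ = 1 := by
      rw [← h1]
      group
    have : y ^ Nat.card K = m⁻¹ * (m * y ^ Nat.card K * m⁻¹) * m := by group
    rw [this, h2]
    group
  · rintro ⟨-, haN⟩
    have h1 := hpow (Nat.card (U ⊔ sigmaCore M : Subgroup G))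
    rw [KData.pow_card_of_mem haN] at h1
    have h2 : k ^ Nat.card (U ⊔ sigmaCore M : Subgroup G) *
        y ^ Nat.card (U ⊔ sigmaCore M : Subgroup G) = 1 := by
      have : k ^ Nat.card (U ⊔ sigmaCore M : Subgroup G) *
          y ^ Nat.card (U ⊔ sigmaCore M : Subgroup G) =
          m⁻¹ * (m * (k ^ Nat.card (U ⊔ sigmaCore M : Subgroup G) *
            y ^ Nat.card (U ⊔ sigmaCore M : Subgroup G)) * m⁻¹) * m := by group
      rw [this, ← h1]
      group
    have h3 : k ^ Nat.card (U ⊔ sigmaCore M : Subgroup G) ∈ K ⊓ kstar M K := by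
      refine Subgroup.mem_inf.mpr ⟨Subgroup.pow_mem _ hk _, ?_⟩
      rw [eq_inv_of_mul_eq_one_left h2]
      exact Subgroup.inv_mem _ (Subgroup.pow_mem _ hy _)
    rw [h.inf_eq_bot hG, Subgroup.mem_bot] at h3
    exact pow_ne_one_of_coprime hk hk1 (coprime_card_U_sup hG h.coatom hKU) h3

/-- `A₀(M) ∖ A(M) ⊆ ⋃_{m ∈ M} Ẑ^m`, given the dichotomy of Lemma 14.3. -/
theorem subset_conj_zhat (hG : IsMinSimpleOddOrder G) (h : KData M K)
    (hKU : IsSigmaDecomposition M K U)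
    (h32 : ∀ x ∈ sigmaCore M, x ≠ 1 → ∀ x' ∈ M ⊓ Subgroup.centralizer ({x} : Set G), x' ≠ 1 →
      (∀ p : ℕ, p.Prime → p ∣ orderOf x' → p ∉ sigma M) →
      (∀ p : ℕ, p.Prime → p ∣ orderOf x' → p ∈ kappa M) ∨
        (∀ p : ℕ, p.Prime → p ∣ orderOf x' → p ∈ tau2 M)) :
    sigmaA0 M K \ sigmaA M U ⊆ {a : G | ∃ m ∈ M, ∃ z ∈ zhat M K, a = m * z * m⁻¹} := by
  rintro a ⟨⟨⟨haM, y, hy, hy1, hay⟩, hnc⟩, hnA⟩
  have hM := h.coatom
  have hnN : a ∉ U ⊔ sigmaCore M := fun hh => hnA ⟨⟨haM, y, hy, hy1, hay⟩, hh⟩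
  obtain ⟨u, v, hdec, huσ, ⟨i, hvi⟩, ⟨j, huj⟩, hvn⟩ := exists_sigma_decomp hG hM haM
  have hvM : v ∈ M := by rw [← hvi]; exact Subgroup.zpow_mem _ haM _
  have huv : u * v = v * u := by
    rw [← hvi, ← huj, ← zpow_add, ← zpow_add, add_comm]
  have hvy : v * y = y * v := by
    rw [← hvi]
    exact ((show Commute a y from hay).zpow_left i).eq
  have hv1 : v ≠ 1 := by
    intro e
    apply hnN
    rw [hdec, e, one_mul]
    exact Subgroup.mem_sup_right huσ
  have hvC : v ∈ M ⊓ Subgroup.centralizer ({y} : Set G) := by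
    refine Subgroup.mem_inf.mpr ⟨hvM, ?_⟩
    rw [Subgroup.mem_centralizer_iff]
    intro w hw
    rw [Set.mem_singleton_iff] at hw
    rw [hw]
    exact hvy.symm
  have hvσ : ∀ p : ℕ, p.Prime → p ∣ orderOf v → p ∉ sigma M := by
    intro p hp hd hpσ
    exact not_dvd_relIndex_sigmaCore hG hM hp hpσ (hd.trans (orderOf_dvd_of_pow_eq_one hvn))
  have hsolv : Group.IsSolvable ↥M := isSolvable_of_ne_top hG hM.1
  rcases h32 y hy hy1 v hvC hv1 hvσ with hκ | hτ
  · -- `v` is a `κ(M)`-element: conjugate it into `K`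
    have hcopK : (Nat.card K).Coprime (K.relIndex M) := by
      apply Nat.coprime_of_dvd
      intro q hq hd1 hd2
      exact h.hall.2.2 q hq (h.hall.2.1 q hq hd1) hd2
    have hQ : (Nat.card (Subgroup.zpowers v)).Coprime (K.relIndex M) := by
      apply Nat.coprime_of_dvd
      intro q hq hd1 hd2
      rw [Nat.card_zpowers] at hd1
      exact h.hall.2.2 q hq (hκ q hq hd1) hd2
    obtain ⟨g, hgM, hg⟩ := hall_le_conj_in hsolv h.leM (Subgroup.zpowers_le.mpr hvM) hcopK hQ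
    have hkK : g * v * g⁻¹ ∈ K := hg (conj_mem_cj (Subgroup.mem_zpowers v))
    have hk1 : g * v * g⁻¹ ≠ 1 := by
      intro e
      apply hv1
      have : v = g⁻¹ * (g * v * g⁻¹) * g := by group
      rw [this, e]
      group
    have huK : g * u * g⁻¹ ∈ kstar M K := by
      rw [← h.prime _ hkK hk1]
      refine Subgroup.mem_inf.mpr
        ⟨conj_mem_of_mem_normalizer (le_normalizer_sigmaCore M hgM) huσ, ?_⟩
      rw [Subgroup.mem_centralizer_iff]
      intro w hw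
      rw [Set.mem_singleton_iff] at hw
      rw [hw]
      calc g * v * g⁻¹ * (g * u * g⁻¹) = g * (v * u) * g⁻¹ := by group
        _ = g * (u * v) * g⁻¹ := by rw [huv]
        _ = g * u * g⁻¹ * (g * v * g⁻¹) := by group
    have hgi : g⁻¹ ∈ M := M.inv_mem hgM
    have hconj : a = g⁻¹ * ((g * v * g⁻¹) * (g * u * g⁻¹)) * g⁻¹⁻¹ := by
      rw [hdec]
      group
    by_cases hu1 : g * u * g⁻¹ = 1
    · exfalso
      apply hnc
      refine ⟨g * v * g⁻¹, hkK, hk1, g⁻¹, hgi, ?_⟩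
      rw [hconj, hu1, mul_one]
    · exact ⟨g⁻¹, hgi, (g * v * g⁻¹) * (g * u * g⁻¹),
        (h.mem_zhat_iff hG).mpr ⟨_, hkK, _, huK, hk1, hu1, rfl⟩, hconj⟩
  · -- `v` is a `τ₂(M)`-element: then `a ∈ U M_σ`
    exfalso
    apply hnN
    have hN := le_normalizer_U_sup hKU
    have hNM : U ⊔ sigmaCore M ≤ M := sup_le hKU.compl.1 (sigmaCore_le M)
    have hcopN : (Nat.card (U ⊔ sigmaCore M : Subgroup G)).Coprime
        ((U ⊔ sigmaCore M : Subgroup G).relIndex M) := by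
      apply Nat.coprime_of_dvd
      intro q hq hd1 hd2
      have h1 := Cfsg.Agent.Lib.Helper12.card_mul_relIndex_eq hNM
      have h2 := card_eq hG hM hKU
      have h3 := Cfsg.H5.card_sup_mul_card_inf
        (hKU.compl.1.trans (le_normalizer_sigmaCore M) :
          U ≤ Subgroup.normalizer (sigmaCore M : Set G))
      have h4 : U ⊓ sigmaCore M = ⊥ := by
        have := hKU.compl.2.2.1
        rw [eq_bot_iff] at this ⊢
        exact le_trans (inf_le_inf_left U le_sup_right) this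
      rw [h4, Subgroup.card_bot, mul_one] at h3
      have h5 : (U ⊔ sigmaCore M : Subgroup G).relIndex M = Nat.card K := by
        have h6 : Nat.card (U ⊔ sigmaCore M : Subgroup G) *
            (U ⊔ sigmaCore M : Subgroup G).relIndex M =
            Nat.card (U ⊔ sigmaCore M : Subgroup G) * Nat.card K := by
          rw [h1, h2, h3]
          ring
        exact Nat.eq_of_mul_eq_mul_left Nat.card_pos h6
      rw [h5] at hd2
      exact (Nat.Prime.coprime_iff_not_dvd hq).mp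
        ((Nat.Coprime.coprime_dvd_left hd1 (coprime_card_U_sup hG hM hKU))) hd2
    have hrel : (U ⊔ sigmaCore M : Subgroup G).relIndex M = Nat.card K := by
      have h1 := Cfsg.Agent.Lib.Helper12.card_mul_relIndex_eq hNM
      have h2 := card_eq hG hM hKU
      have h3 := Cfsg.H5.card_sup_mul_card_inf
        (hKU.compl.1.trans (le_normalizer_sigmaCore M) :
          U ≤ Subgroup.normalizer (sigmaCore M : Set G))
      have h4 : U ⊓ sigmaCore M = ⊥ := by
        have := hKU.compl.2.2.1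
        rw [eq_bot_iff] at this ⊢
        exact le_trans (inf_le_inf_left U le_sup_right) this
      rw [h4, Subgroup.card_bot, mul_one] at h3
      have h6 : Nat.card (U ⊔ sigmaCore M : Subgroup G) *
          (U ⊔ sigmaCore M : Subgroup G).relIndex M =
          Nat.card (U ⊔ sigmaCore M : Subgroup G) * Nat.card K := by
        rw [h1, h2, h3]
        ring
      exact Nat.eq_of_mul_eq_mul_left Nat.card_pos h6
    have hQ : (Nat.card (Subgroup.zpowers v)).Coprime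
        ((U ⊔ sigmaCore M : Subgroup G).relIndex M) := by
      rw [hrel]
      apply Nat.coprime_of_dvd
      intro q hq hd1 hd2
      rw [Nat.card_zpowers] at hd1
      exact not_mem_tau2_of_mem_kappa (h.hall.2.1 q hq hd2) (hτ q hq hd1)
    obtain ⟨g, hgM, hg⟩ := hall_le_conj_in hsolv hNM (Subgroup.zpowers_le.mpr hvM) hcopN hQ
    have hgv : g * v * g⁻¹ ∈ U ⊔ sigmaCore M := hg (conj_mem_cj (Subgroup.mem_zpowers v))
    have hvN : v ∈ U ⊔ sigmaCore M := by
      have h1 := conj_mem_of_mem_normalizer (hN (M.inv_mem hgM)) hgv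
      have e : g⁻¹ * (g * v * g⁻¹) * g⁻¹⁻¹ = v := by group
      rwa [e] at h1
    rw [hdec]
    exact Subgroup.mul_mem _ hvN (Subgroup.mem_sup_right huσ)

end KData

end Cfsg.Agent.Lib.Helper19.BG14
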