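import Mathlib
import Cfsg.Agent.Lib.Helper10.BGCaseIIb
import Cfsg.Agent.Lib.Helper10.BGTwelveF
import Cfsg.Agent.Lib.Helper12.CharP
import Cfsg.Agent.S1378
import Cfsg.Agent.S1404
import Cfsg.Agent.S1420

/-!
B & G, Section 13/14: general facts in "Case II" of the proof of Corollary 13.7 / Lemma 14.2:
`E₃` (a Hall `τ₃(M)`-subgroup of a complement `E` of `M_σ`) does not act regularly on `M_σ`,
`P ≤ E₃` has prime order `p` and `H` is a maximal subgroup containing `N_G(P)`.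
We write `D = M_σ ∩ C_G(E₃)`.  The facts (a)-(f) of `notes/BG_S1430_C1_and_13_6_helper21.md`,
section C.  The statement `C1` (B & G 13.6/13.7, "`p ∈ σ(M*)`") is taken as a hypothesis.
-/

set_option autoImplicit false
set_option linter.unusedVariables false
set_option linter.unusedSectionVars false
set_option linter.style.longLine false
set_option linter.unusedSimpArgs false

open Cfsg
open scoped commutatorElement
open Cfsg.Agent.Lib.Helper10.BG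
open Cfsg.Agent.Lib.Helper10
open Cfsg.Agent.Lib.Helper9.BGExc
open Cfsg.Agent.Lib.Helper19.BG12
open Cfsg.Agent.Lib.Helper19.BGCompl
open Cfsg.Agent.Lib.Helper29.BG1212
open Cfsg.Agent.Lib.Helper29.BG13K
open Cfsg.Agent.Lib.Helper7.BG13

namespace Cfsg.Agent.Lib.Helper19.BG14C

variable {G : Type*} [Group G] [Finite G]

/-- the statement (C1) of the notes (B & G 13.6/13.7): if `X ≤ M` has prime order
`p ∈ τ₁(M) ∪ τ₃(M)`, does not act regularly on `M_σ`, and `N_G(X) ≤ M*`, then `p ∈ σ(M*)`. -/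
def C1 (G : Type*) [Group G] : Prop :=
  ∀ M Mstar X : Subgroup G, IsCoatom M → IsCoatom Mstar → ∀ p : ℕ, (p ∈ tau1 M ∨ p ∈ tau3 M) →
    X ≤ M → Nat.card X = p → sigmaCore M ⊓ Subgroup.centralizer (X : Set G) ≠ ⊥ →
    Subgroup.normalizer (X : Set G) ≤ Mstar → p ∈ sigma Mstar

section CaseII

variable {M E E₃ P H : Subgroup G}

/-- `E ≤ N_G(P) ≤ H`. -/
theorem compl_le (hG : IsMinSimpleOddOrder G) (hM : IsCoatom M)
    (hE : IsComplIn E (sigmaCore M) M) (hE₃ : IsPiHallOf (tau3 M) E₃ E)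
    (hPE₃ : P ≤ E₃) (hNH : Subgroup.normalizer (P : Set G) ≤ H) : E ≤ H := by
  obtain ⟨-, -, h3⟩ := Cfsg.Agent.S1415.result hG M hM E hE
  obtain ⟨hcyc, -, hEn⟩ := h3 E₃ hE₃
  exact (le_normalizer_of_le_cyclic hEn hcyc hPE₃).trans hNH

/-- `D ≤ C_G(P)`. -/
theorem D_le_centralizer (hPE₃ : P ≤ E₃) :
    sigmaCore M ⊓ Subgroup.centralizer (E₃ : Set G) ≤ Subgroup.centralizer (P : Set G) :=
  inf_le_right.trans (Subgroup.centralizer_le hPE₃)

/-- `D ≤ H`. -/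
theorem D_le (hPE₃ : P ≤ E₃) (hNH : Subgroup.normalizer (P : Set G) ≤ H) :
    sigmaCore M ⊓ Subgroup.centralizer (E₃ : Set G) ≤ H :=
  (D_le_centralizer hPE₃).trans ((Subgroup.centralizer_le_normalizer _).trans hNH)

/-- **(a1)** `M_σ ∩ H = D`. -/
theorem sigmaCore_inf_eq (hG : IsMinSimpleOddOrder G) (hM : IsCoatom M)
    (hE : IsComplIn E (sigmaCore M) M) (hE₃ : IsPiHallOf (tau3 M) E₃ E)
    (hPE₃ : P ≤ E₃) (hP : (Nat.card P).Prime) (hH : IsCoatom H)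
    (hNH : Subgroup.normalizer (P : Set G) ≤ H) :
    sigmaCore M ⊓ H = sigmaCore M ⊓ Subgroup.centralizer (E₃ : Set G) := by
  haveI : Fact (Nat.card P).Prime := ⟨hP⟩
  have hp3 : Nat.card P ∈ tau3 M := hE₃.2.1 _ hP (Subgroup.card_dvd_of_le hPE₃)
  have hPp : IsPGroup (Nat.card P) P := isPGroup_of_card_prime hP
  have hP1 : P ≠ ⊥ := ne_bot_of_card_prime rfl
  obtain ⟨-, ha, -, -⟩ := cor_13_2 hG hM hH (Or.inr hp3) hPp hP1 hNH
  have hPM : P ≤ M := (hPE₃.trans hE₃.1).trans hE.1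
  have hPH : P ≤ H := Subgroup.le_normalizer.trans hNH
  have h1 := ha P (le_inf hPM hPH) hPp
  rw [Subgroup.commutator_eq_bot_iff_le_centralizer] at h1
  apply le_antisymm
  · apply le_inf inf_le_left
    exact (le_inf inf_le_left h1).trans (tau3_prime_action hG hM hE hE₃ hPE₃ hP)
  · exact le_inf inf_le_left (D_le hPE₃ hNH)

/-- **(a2)** `M ∩ H = D E`. -/
theorem inf_eq_sup (hG : IsMinSimpleOddOrder G) (hM : IsCoatom M)
    (hE : IsComplIn E (sigmaCore M) M) (hE₃ : IsPiHallOf (tau3 M) E₃ E)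
    (hPE₃ : P ≤ E₃) (hP : (Nat.card P).Prime) (hH : IsCoatom H)
    (hNH : Subgroup.normalizer (P : Set G) ≤ H) :
    M ⊓ H = (sigmaCore M ⊓ Subgroup.centralizer (E₃ : Set G)) ⊔ E := by
  have hEH : E ≤ H := compl_le hG hM hE hE₃ hPE₃ hNH
  have hD := sigmaCore_inf_eq hG hM hE hE₃ hPE₃ hP hH hNH
  apply le_antisymm
  · intro m hm
    obtain ⟨e, he, s, hs, rfl⟩ := hE.2.2.2 m hm.1
    have hsH : s ∈ H := by
      have h1 : s = e⁻¹ * (e * s) := by group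
      rw [h1]
      exact H.mul_mem (H.inv_mem (hEH he)) hm.2
    have hsD : s ∈ sigmaCore M ⊓ Subgroup.centralizer (E₃ : Set G) := by
      rw [← hD]
      exact ⟨hs, hsH⟩
    exact mul_mem (Subgroup.mem_sup_right he) (Subgroup.mem_sup_left hsD)
  · apply sup_le
    · exact le_inf (inf_le_left.trans hE.2.1) (D_le hPE₃ hNH)
    · exact le_inf hE.1 hEH

/-- **(a3)** `H` is not conjugate to `M`. -/
theorem not_conj (hG : IsMinSimpleOddOrder G) (hM : IsCoatom M)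
    (hE : IsComplIn E (sigmaCore M) M) (hE₃ : IsPiHallOf (tau3 M) E₃ E)
    (hPE₃ : P ≤ E₃) (hP : (Nat.card P).Prime) (hH : IsCoatom H)
    (hNH : Subgroup.normalizer (P : Set G) ≤ H) :
    ∀ g : G, H ≠ M.map (MulAut.conj g).toMonoidHom := by
  haveI : Fact (Nat.card P).Prime := ⟨hP⟩
  have hp3 : Nat.card P ∈ tau3 M := hE₃.2.1 _ hP (Subgroup.card_dvd_of_le hPE₃)
  have hPp : IsPGroup (Nat.card P) P := isPGroup_of_card_prime hP
  have hP1 : P ≠ ⊥ := ne_bot_of_card_prime rfl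
  exact (cor_13_2 hG hM hH (Or.inr hp3) hPp hP1 hNH).1

/-- **(a4)** `p ∈ σ(H)` (this is (C1)). -/
theorem mem_sigma (hG : IsMinSimpleOddOrder G) (hC1 : C1 G) (hM : IsCoatom M)
    (hE : IsComplIn E (sigmaCore M) M) (hE₃ : IsPiHallOf (tau3 M) E₃ E)
    (hD : sigmaCore M ⊓ Subgroup.centralizer (E₃ : Set G) ≠ ⊥)
    (hPE₃ : P ≤ E₃) (hP : (Nat.card P).Prime) (hH : IsCoatom H)
    (hNH : Subgroup.normalizer (P : Set G) ≤ H) : Nat.card P ∈ sigma H := by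
  have hp3 : Nat.card P ∈ tau3 M := hE₃.2.1 _ hP (Subgroup.card_dvd_of_le hPE₃)
  have hPM : P ≤ M := (hPE₃.trans hE₃.1).trans hE.1
  apply hC1 M H P hM hH _ (Or.inr hp3) hPM rfl _ hNH
  intro h
  apply hD
  rw [eq_bot_iff, ← h]
  exact le_inf inf_le_left (D_le_centralizer hPE₃)

/-- `P ≤ H_σ`. -/
theorem le_sigmaCore (hG : IsMinSimpleOddOrder G) (hC1 : C1 G) (hM : IsCoatom M)
    (hE : IsComplIn E (sigmaCore M) M) (hE₃ : IsPiHallOf (tau3 M) E₃ E)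
    (hD : sigmaCore M ⊓ Subgroup.centralizer (E₃ : Set G) ≠ ⊥)
    (hPE₃ : P ≤ E₃) (hP : (Nat.card P).Prime) (hH : IsCoatom H)
    (hNH : Subgroup.normalizer (P : Set G) ≤ H) : P ≤ sigmaCore H := by
  haveI : Fact (Nat.card P).Prime := ⟨hP⟩
  exact pgroup_le_sigmaCore hG hH (mem_sigma hG hC1 hM hE hE₃ hD hPE₃ hP hH hNH)
    (isPGroup_of_card_prime hP) (Subgroup.le_normalizer.trans hNH)

/-- **(a5)** `D` is a `σ(M)`-group and a `σ(H)'`-group. -/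
theorem D_primes (hG : IsMinSimpleOddOrder G) (hM : IsCoatom M)
    (hE : IsComplIn E (sigmaCore M) M) (hE₃ : IsPiHallOf (tau3 M) E₃ E)
    (hPE₃ : P ≤ E₃) (hP : (Nat.card P).Prime) (hH : IsCoatom H)
    (hNH : Subgroup.normalizer (P : Set G) ≤ H) :
    ∀ q : ℕ, q.Prime → q ∣ Nat.card ↥(sigmaCore M ⊓ Subgroup.centralizer (E₃ : Set G)) →
      q ∈ sigma M ∧ q ∉ sigma H := by
  intro q hq hd
  have hqM : q ∈ sigma M := mem_sigma_of_dvd_card_sigmaCore hG hM hq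
    (hd.trans (Subgroup.card_dvd_of_le inf_le_left))
  refine ⟨hqM, ?_⟩
  intro hqH
  obtain ⟨g, hg⟩ := (Cfsg.Agent.S1378.result hG).2 M H hM hH ⟨q, hqM, hqH⟩
  exact not_conj hG hM hE hE₃ hPE₃ hP hH hNH g hg

/-- **(e)** a subgroup `R ≤ E` of prime order `r ∈ τ₁(M)` not centralizing `D` has
`r ∈ τ₁(H)`. -/
theorem mem_tau1_of_not_centralize (hG : IsMinSimpleOddOrder G) (hM : IsCoatom M)
    (hE : IsComplIn E (sigmaCore M) M) (hE₃ : IsPiHallOf (tau3 M) E₃ E)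
    (hPE₃ : P ≤ E₃) (hP : (Nat.card P).Prime) (hH : IsCoatom H)
    (hNH : Subgroup.normalizer (P : Set G) ≤ H)
    {R : Subgroup G} {r : ℕ} (hRE : R ≤ E) (hR : Nat.card R = r) (hr : r ∈ tau1 M)
    (hnc : ¬ R ≤ Subgroup.centralizer
      ((sigmaCore M ⊓ Subgroup.centralizer (E₃ : Set G) : Subgroup G) : Set G)) :
    r ∈ tau1 H := by
  by_contra hcon
  apply hnc
  haveI : Fact (Nat.card P).Prime := ⟨hP⟩
  have hp3 : Nat.card P ∈ tau3 M := hE₃.2.1 _ hP (Subgroup.card_dvd_of_le hPE₃)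
  have hPp : IsPGroup (Nat.card P) P := isPGroup_of_card_prime hP
  have hP1 : P ≠ ⊥ := ne_bot_of_card_prime rfl
  obtain ⟨-, -, hb, -⟩ := cor_13_2 hG hM hH (Or.inr hp3) hPp hP1 hNH
  have hEH : E ≤ H := compl_le hG hM hE hE₃ hPE₃ hNH
  have h1 := hb R (le_inf (hRE.trans hE.1) (hRE.trans hEH)) (by
    intro r' hr' hd
    rw [hR] at hd
    have h2 : r' = r := (Nat.prime_dvd_prime_iff_eq hr' hr.1).mp hd
    rw [h2]
    exact ⟨hr.2.1, hcon⟩)
  rw [sigmaCore_inf_eq hG hM hE hE₃ hPE₃ hP hH hNH, Subgroup.commutator_comm,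
    Subgroup.commutator_eq_bot_iff_le_centralizer] at h1
  exact h1

/-- `D` and `H_σ ∩ M` have coprime orders. -/
theorem coprime_D_Es (hG : IsMinSimpleOddOrder G) (hM : IsCoatom M)
    (hE : IsComplIn E (sigmaCore M) M) (hE₃ : IsPiHallOf (tau3 M) E₃ E)
    (hPE₃ : P ≤ E₃) (hP : (Nat.card P).Prime) (hH : IsCoatom H)
    (hNH : Subgroup.normalizer (P : Set G) ≤ H) :
    (Nat.card ↥(sigmaCore M ⊓ Subgroup.centralizer (E₃ : Set G))).Coprime
      (Nat.card ↥(sigmaCore H ⊓ M)) := by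
  apply Nat.coprime_of_dvd
  intro k hk hd1 hd2
  apply (D_primes hG hM hE hE₃ hPE₃ hP hH hNH k hk hd1).2
  exact mem_sigma_of_dvd_card_sigmaCore hG hH hk (hd2.trans (Subgroup.card_dvd_of_le inf_le_left))

/-- **(d3)** `[D, H_σ ∩ M] = 1`. -/
theorem commutator_D_Es (hG : IsMinSimpleOddOrder G) (hM : IsCoatom M)
    (hE : IsComplIn E (sigmaCore M) M) (hE₃ : IsPiHallOf (tau3 M) E₃ E)
    (hPE₃ : P ≤ E₃) (hP : (Nat.card P).Prime) (hH : IsCoatom H)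
    (hNH : Subgroup.normalizer (P : Set G) ≤ H) :
    ⁅sigmaCore M ⊓ Subgroup.centralizer (E₃ : Set G), sigmaCore H ⊓ M⁆ = ⊥ := by
  have hDeq := sigmaCore_inf_eq hG hM hE hE₃ hPE₃ hP hH hNH
  have hMH1 : M ⊓ H ≤ Subgroup.normalizer ((sigmaCore M ⊓ H : Subgroup G) : Set G) :=
    le_normalizer_inf (inf_le_left.trans (le_normalizer_sigmaCore M))
      (inf_le_right.trans Subgroup.le_normalizer)
  have hMH2 : M ⊓ H ≤ Subgroup.normalizer ((sigmaCore H ⊓ M : Subgroup G) : Set G) :=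
    le_normalizer_inf (inf_le_right.trans (le_normalizer_sigmaCore H))
      (inf_le_left.trans Subgroup.le_normalizer)
  have hDMH : sigmaCore M ⊓ H ≤ M ⊓ H := inf_le_inf_right _ (sigmaCore_le M)
  have hEsMH : sigmaCore H ⊓ M ≤ M ⊓ H := le_inf inf_le_right (inf_le_left.trans (sigmaCore_le H))
  have h1 : ⁅sigmaCore M ⊓ H, sigmaCore H ⊓ M⁆ ≤ sigmaCore M ⊓ H :=
    Cfsg.Agent.Lib.Helper1.commutator_le_of_le_normalizer (hEsMH.trans hMH1)
  have h2 : ⁅sigmaCore M ⊓ H, sigmaCore H ⊓ M⁆ ≤ sigmaCore H ⊓ M := by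
    rw [Subgroup.commutator_comm]
    exact Cfsg.Agent.Lib.Helper1.commutator_le_of_le_normalizer (hDMH.trans hMH2)
  rw [← hDeq, eq_bot_iff]
  refine (le_inf h1 h2).trans ?_
  rw [hDeq, inf_eq_bot_of_coprime (coprime_D_Es hG hM hE hE₃ hPE₃ hP hH hNH)]

/-- **(d1)** `H_σ ∩ M ≤ E`. -/
theorem Es_le (hG : IsMinSimpleOddOrder G) (hM : IsCoatom M)
    (hE : IsComplIn E (sigmaCore M) M) (hE₃ : IsPiHallOf (tau3 M) E₃ E)
    (hPE₃ : P ≤ E₃) (hP : (Nat.card P).Prime) (hH : IsCoatom H)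
    (hNH : Subgroup.normalizer (P : Set G) ≤ H) : sigmaCore H ⊓ M ≤ E := by
  have hEH : E ≤ H := compl_le hG hM hE hE₃ hPE₃ hNH
  have hDeq := sigmaCore_inf_eq hG hM hE hE₃ hPE₃ hP hH hNH
  have hcomm := commutator_D_Es hG hM hE hE₃ hPE₃ hP hH hNH
  rw [Subgroup.commutator_comm, Subgroup.commutator_eq_bot_iff_le_centralizer] at hcomm
  have hcop := coprime_D_Es hG hM hE hE₃ hPE₃ hP hH hNH
  intro x hx
  obtain ⟨e, he, s, hs, hxes⟩ := hE.2.2.2 x hx.2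
  have hxH : x ∈ H := sigmaCore_le H hx.1
  have hsH : s ∈ H := by
    have h1 : s = e⁻¹ * x := by rw [hxes]; group
    rw [h1]
    exact H.mul_mem (H.inv_mem (hEH he)) hxH
  have hsD : s ∈ sigmaCore M ⊓ Subgroup.centralizer (E₃ : Set G) := by
    rw [← hDeq]
    exact ⟨hs, hsH⟩
  -- `x` commutes with `s`
  have hxs : s * x = x * s := Subgroup.mem_centralizer_iff.mp (hcomm hx) s hsD
  have hes : Commute e s := by
    have h1 : e = x * s⁻¹ := by rw [hxes]; group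
    show e * s = s * e
    rw [h1]
    calc x * s⁻¹ * s = x := by group
      _ = s * x * s⁻¹ := by rw [hxs]; group
      _ = s * (x * s⁻¹) := by group
  set n := Nat.card ↥(sigmaCore H ⊓ M) with hn
  have hxn : x ^ n = 1 := by
    have h1 : (⟨x, hx⟩ : ↥(sigmaCore H ⊓ M)) ^ n = 1 := pow_card_eq_one'
    have h2 := congrArg Subtype.val h1
    rwa [Subgroup.coe_pow, Subgroup.coe_one] at h2
  have hsn : s ^ n = 1 := by
    have h1 : e ^ n * s ^ n = 1 := by rw [← hes.mul_pow, ← hxes, hxn]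
    have h2 : s ^ n = (e ^ n)⁻¹ := by
      calc s ^ n = (e ^ n)⁻¹ * (e ^ n * s ^ n) := by group
        _ = (e ^ n)⁻¹ := by rw [h1, mul_one]
    have h3 : s ^ n ∈ E ⊓ sigmaCore M := by
      refine ⟨?_, (sigmaCore M).pow_mem hs n⟩
      rw [h2]
      exact E.inv_mem (E.pow_mem he n)
    rw [hE.2.2.1, Subgroup.mem_bot] at h3
    exact h3
  have hsd : s ^ Nat.card ↥(sigmaCore M ⊓ Subgroup.centralizer (E₃ : Set G)) = 1 := by
    have h1 : (⟨s, hsD⟩ : ↥(sigmaCore M ⊓ Subgroup.centralizer (E₃ : Set G))) ^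
        Nat.card ↥(sigmaCore M ⊓ Subgroup.centralizer (E₃ : Set G)) = 1 := pow_card_eq_one'
    have h2 := congrArg Subtype.val h1
    rwa [Subgroup.coe_pow, Subgroup.coe_one] at h2
  have hs1 : s = 1 := by
    have h1 : orderOf s ∣ n := orderOf_dvd_of_pow_eq_one hsn
    have h2 : orderOf s ∣ Nat.card ↥(sigmaCore M ⊓ Subgroup.centralizer (E₃ : Set G)) :=
      orderOf_dvd_of_pow_eq_one hsd
    have h3 : orderOf s ∣ 1 := by
      have := Nat.dvd_gcd h2 h1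
      rwa [Nat.Coprime.gcd_eq_one hcop] at this
    exact orderOf_eq_one_iff.mp (Nat.dvd_one.mp h3)
  rw [hxes, hs1, mul_one]
  exact he

/-- **(d2)** `E` normalizes `H_σ ∩ M`. -/
theorem le_normalizer_Es (hG : IsMinSimpleOddOrder G) (hM : IsCoatom M)
    (hE : IsComplIn E (sigmaCore M) M) (hE₃ : IsPiHallOf (tau3 M) E₃ E)
    (hPE₃ : P ≤ E₃) (hNH : Subgroup.normalizer (P : Set G) ≤ H) :
    E ≤ Subgroup.normalizer ((sigmaCore H ⊓ M : Subgroup G) : Set G) := by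
  have hEH : E ≤ H := compl_le hG hM hE hE₃ hPE₃ hNH
  exact le_normalizer_inf (hEH.trans (le_normalizer_sigmaCore H))
    (hE.1.trans Subgroup.le_normalizer)

/-- **(b)** no prime divisor of `|D|` lies in `τ₂(H)`. -/
theorem not_mem_tau2 (hG : IsMinSimpleOddOrder G) (hC1 : C1 G) (hM : IsCoatom M)
    (hE : IsComplIn E (sigmaCore M) M) (hE₃ : IsPiHallOf (tau3 M) E₃ E)
    (hD : sigmaCore M ⊓ Subgroup.centralizer (E₃ : Set G) ≠ ⊥)
    (hPE₃ : P ≤ E₃) (hP : (Nat.card P).Prime) (hH : IsCoatom H)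
    (hNH : Subgroup.normalizer (P : Set G) ≤ H) :
    ∀ q : ℕ, q.Prime → q ∣ Nat.card ↥(sigmaCore M ⊓ Subgroup.centralizer (E₃ : Set G)) →
      q ∉ tau2 H := by
  intro q hq hd hq2
  haveI : Fact q.Prime := ⟨hq⟩
  haveI : Fact (Nat.card P).Prime := ⟨hP⟩
  have hP1 : P ≠ ⊥ := ne_bot_of_card_prime rfl
  have hDeq := sigmaCore_inf_eq hG hM hE hE₃ hPE₃ hP hH hNH
  have hqM : q ∈ sigma M := (D_primes hG hM hE hE₃ hPE₃ hP hH hNH q hq hd).1
  obtain ⟨z, hz⟩ := exists_prime_orderOf_dvd_card'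
    (G := ↥(sigmaCore M ⊓ Subgroup.centralizer (E₃ : Set G))) q hd
  obtain ⟨z0, hz0⟩ : ∃ z0 : G, z0 = (z : G) := ⟨_, rfl⟩
  have hzD : z0 ∈ sigmaCore M ⊓ Subgroup.centralizer (E₃ : Set G) := hz0 ▸ z.2
  have hzo : orderOf z0 = q := by rw [hz0, Subgroup.orderOf_coe]; exact hz
  have hzH : z0 ∈ H := D_le hPE₃ hNH hzD
  have hz1 : z0 ≠ 1 := by
    intro h
    rw [h, orderOf_one] at hzo
    exact hq.one_lt.ne hzo
  have hPσ : P ≤ sigmaCore H := le_sigmaCore hG hC1 hM hE hE₃ hD hPE₃ hP hH hNH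
  obtain ⟨y, hy1⟩ := (Subgroup.ne_bot_iff_exists_ne_one).mp hP1
  have hzy : z0 * (y : G) = (y : G) * z0 :=
    (Subgroup.mem_centralizer_iff.mp (D_le_centralizer hPE₃ hzD) y y.2).symm
  obtain ⟨EH, hEH, -⟩ := exists_isComplIn_sigmaCore_ge hG hH (bot_le : (⊥ : Subgroup G) ≤ H)
    (by rw [Subgroup.card_bot]; exact Nat.coprime_one_left _)
  obtain ⟨-, -, -, h4⟩ := Cfsg.Agent.S1420.result hG H hH EH hEH
  obtain ⟨hCH, -⟩ := h4 z0 hzH hz1 (by
    intro p hp hpd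
    rw [hzo] at hpd
    have h1 : p = q := (Nat.prime_dvd_prime_iff_eq hp hq).mp hpd
    rw [h1]
    exact hq2) ⟨hzH, (y : G), hPσ y.2, fun h => hy1 (Subtype.ext h), hzy⟩
  -- a Sylow `q`-subgroup `S` of `M_σ` containing `z0`
  have hzq : IsPGroup q (Subgroup.zpowers z0) := by
    apply IsPGroup.of_card (n := 1)
    rw [Nat.card_zpowers, hzo, pow_one]
  have hzz1 : Subgroup.zpowers z0 ≠ ⊥ := by
    intro h
    apply hz1
    have : z0 ∈ Subgroup.zpowers z0 := Subgroup.mem_zpowers z0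
    rw [h, Subgroup.mem_bot] at this
    exact this
  obtain ⟨S, hS, hzS⟩ := exists_isSylowIn_ge
    (Subgroup.zpowers_le.mpr hzD.1 : Subgroup.zpowers z0 ≤ sigmaCore M) hzq
  have hz0S : z0 ∈ S := hzS (Subgroup.mem_zpowers z0)
  have hS1 : S ≠ ⊥ := fun h => hzz1 (le_bot_iff.mp (h ▸ hzS))
  obtain ⟨C, hC⟩ : ∃ C : Subgroup G, C = S ⊓ Subgroup.centralizer ({z0} : Set G) := ⟨_, rfl⟩
  have hCS : C ≤ S := hC ▸ inf_le_left
  have hCD : C ≤ sigmaCore M ⊓ Subgroup.centralizer (E₃ : Set G) := by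
    rw [← hDeq, hC]
    exact le_inf (inf_le_left.trans hS.le) (inf_le_right.trans hCH)
  have hCq : IsPGroup q C := hS.isPGroup.to_le hCS
  have hq2' : q ≠ 2 := prime_ne_two_of_pgroup hG hzq hzz1
  have hz0C : z0 ∈ C := by
    rw [hC]
    exact Subgroup.mem_inf.mpr ⟨hz0S, Subgroup.mem_centralizer_singleton_iff.mpr rfl⟩
  by_cases hCc : IsCyclic C
  · obtain ⟨w, hwS, hwo, hwc⟩ := Cfsg.Agent.Lib.Helper12.exists_central_orderOf_eq hS.isPGroup hS1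
    have hwC : w ∈ C := by
      rw [hC]
      exact Subgroup.mem_inf.mpr ⟨hwS, Subgroup.mem_centralizer_singleton_iff.mpr
        (hwc z0 hz0S).symm⟩
    have hz0w : z0 ∈ Subgroup.zpowers w :=
      mem_of_pow_eq_one_of_isCyclic hCc (Subgroup.zpowers_le.mpr hwC)
        (by rw [Nat.card_zpowers, hwo]) hz0C (by rw [← hzo]; exact pow_orderOf_eq_one z0)
    have hSC : S ≤ C := by
      intro t ht
      rw [hC]
      refine Subgroup.mem_inf.mpr ⟨ht, Subgroup.mem_centralizer_singleton_iff.mpr ?_⟩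
      obtain ⟨k, hk⟩ := Subgroup.mem_zpowers_iff.mp hz0w
      rw [← hk]
      have h1 : Commute t w := hwc t ht
      exact h1.zpow_right k
    have hSeq : S = C := le_antisymm hSC hCS
    have hSc : IsCyclic S := by rw [hSeq]; exact hCc
    have hStop := (isSylowIn_of_sigmaCore hG hM hqM hS).2
    have h1 : ¬ PRankLE q 1 ↥(⊤ : Subgroup G) := not_pRankLE_mono le_top hq2.2.2.2
    exact not_pRankLE_sylow_of_not_pRankLE hStop h1 (pRankLE_one_of_isCyclic hq hSc)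
  · obtain ⟨A, hAC, hAe, hAc⟩ := exists_elementary_sq_of_not_isCyclic hq2' hCq hCc
    have hAD : A ≤ sigmaCore M ⊓ Subgroup.centralizer (E₃ : Set G) := hAC.trans hCD
    have hAH : A ≤ H := hAD.trans (D_le hPE₃ hNH)
    obtain ⟨-, -, -, hd', -⟩ := Cfsg.Agent.S1417.result hG H hH q hq2 A ⟨hAH, hAe, hAc⟩
    have h1 : P ≤ sigmaCore H ⊓ Subgroup.centralizer (A : Set G) := by
      apply le_inf hPσ
      rw [Subgroup.le_centralizer_iff]
      exact hAD.trans (D_le_centralizer hPE₃)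
    rw [hd'] at h1
    exact hP1 (le_bot_iff.mp h1)

/-- the primes of `D` lie in `τ₁(H) ∪ τ₃(H)`. -/
theorem mem_tau13 (hG : IsMinSimpleOddOrder G) (hC1 : C1 G) (hM : IsCoatom M)
    (hE : IsComplIn E (sigmaCore M) M) (hE₃ : IsPiHallOf (tau3 M) E₃ E)
    (hD : sigmaCore M ⊓ Subgroup.centralizer (E₃ : Set G) ≠ ⊥)
    (hPE₃ : P ≤ E₃) (hP : (Nat.card P).Prime) (hH : IsCoatom H)
    (hNH : Subgroup.normalizer (P : Set G) ≤ H) :
    ∀ q : ℕ, q.Prime → q ∣ Nat.card ↥(sigmaCore M ⊓ Subgroup.centralizer (E₃ : Set G)) →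
      q ∈ tau1 H ∨ q ∈ tau3 H := by
  intro q hq hd
  obtain ⟨-, hqH⟩ := D_primes hG hM hE hE₃ hPE₃ hP hH hNH q hq hd
  have hq2 := not_mem_tau2 hG hC1 hM hE hE₃ hD hPE₃ hP hH hNH q hq hd
  have hqcard : q ∣ Nat.card H := hd.trans (Subgroup.card_dvd_of_le (D_le hPE₃ hNH))
  have hrk2 : PRankLE q 2 ↥H := alpha_rank H q hq (fun h => hqH (alpha_subset_sigma hG hH h))
  by_cases hrk1 : PRankLE q 1 ↥H
  · by_cases hc : q ∣ Nat.card ↥⁅H, H⁆
    · exact Or.inr ⟨hq, hqH, hc, hrk1⟩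
    · exact Or.inl ⟨hq, hqH, hqcard, hc, hrk1⟩
  · exact absurd ⟨hq, hqH, hrk2, hrk1⟩ hq2

/-- **(c)**, subgroup form: `N_G(X) ≤ M` for every subgroup `X` of prime order of `D`. -/
theorem normalizer_le_of_card_prime (hG : IsMinSimpleOddOrder G) (hC1 : C1 G) (hM : IsCoatom M)
    (hE : IsComplIn E (sigmaCore M) M) (hE₃ : IsPiHallOf (tau3 M) E₃ E)
    (hD : sigmaCore M ⊓ Subgroup.centralizer (E₃ : Set G) ≠ ⊥)
    (hPE₃ : P ≤ E₃) (hP : (Nat.card P).Prime) (hH : IsCoatom H)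
    (hNH : Subgroup.normalizer (P : Set G) ≤ H)
    {X : Subgroup G} (hXD : X ≤ sigmaCore M ⊓ Subgroup.centralizer (E₃ : Set G))
    (hX : (Nat.card X).Prime) : Subgroup.normalizer (X : Set G) ≤ M := by
  haveI : Fact (Nat.card X).Prime := ⟨hX⟩
  haveI : Fact (Nat.card P).Prime := ⟨hP⟩
  have hP1 : P ≠ ⊥ := ne_bot_of_card_prime rfl
  have hqd : Nat.card X ∣ Nat.card ↥(sigmaCore M ⊓ Subgroup.centralizer (E₃ : Set G)) :=
    Subgroup.card_dvd_of_le hXD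
  obtain ⟨hqM, hqH⟩ := D_primes hG hM hE hE₃ hPE₃ hP hH hNH _ hX hqd
  have h13 := mem_tau13 hG hC1 hM hE hE₃ hD hPE₃ hP hH hNH _ hX hqd
  have hXH : X ≤ H := hXD.trans (D_le hPE₃ hNH)
  have hXM : X ≤ M := hXD.trans (inf_le_left.trans (sigmaCore_le M))
  have hXp : IsPGroup (Nat.card X) X := isPGroup_of_card_prime hX
  have hX1 : X ≠ ⊥ := ne_bot_of_card_prime rfl
  obtain ⟨M', hM', hNM'⟩ := exists_coatom_normalizer_ge hG hX
  have hPσ : P ≤ sigmaCore H := le_sigmaCore hG hC1 hM hE hE₃ hD hPE₃ hP hH hNH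
  have hne : sigmaCore H ⊓ Subgroup.centralizer (X : Set G) ≠ ⊥ := by
    intro h
    apply hP1
    rw [eq_bot_iff, ← h]
    apply le_inf hPσ
    rw [Subgroup.le_centralizer_iff]
    exact hXD.trans (D_le_centralizer hPE₃)
  have hqM' : Nat.card X ∈ sigma M' := hC1 H M' X hH hM' _ h13 hXH rfl hne hNM'
  obtain ⟨g, hg⟩ := (Cfsg.Agent.S1378.result hG).2 M M' hM hM' ⟨_, hqM, hqM'⟩
  obtain ⟨h1404, -⟩ := Cfsg.Agent.S1404.result hG M hM _ hqM X hXp hX1 hXM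
  have hXM' : X ≤ M' := Subgroup.le_normalizer.trans hNM'
  obtain ⟨m, hm, c, hc, hgmc⟩ := h1404 g⁻¹ (by
    show cj g⁻¹ X ≤ M
    rw [cj_le_iff, inv_inv]
    rw [hg] at hXM'
    exact hXM')
  have hg' : g = c⁻¹ * m⁻¹ := by
    have h1 : g = (g⁻¹)⁻¹ := (inv_inv g).symm
    rw [h1, hgmc]
    group
  have h1 : M' = cj c⁻¹ M := by
    rw [hg, hg']
    show cj (c⁻¹ * m⁻¹) M = cj c⁻¹ M
    rw [← cj_cj, cj_eq_self_of_mem (M.inv_mem hm)]
  have h2 : cj c M' = M := by rw [h1, cj_cj_inv]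
  have h3 : cj c M' = M' :=
    cj_eq_self_of_mem (hNM' (Subgroup.centralizer_le_normalizer _ hc))
  have h4 : M' = M := h3.symm.trans h2
  rw [← h4]
  exact hNM'

/-- **(c)**: `N_G(⟨z⟩) ≤ M` for every element `z` of prime order of `D`. -/
theorem normalizer_zpowers_le (hG : IsMinSimpleOddOrder G) (hC1 : C1 G) (hM : IsCoatom M)
    (hE : IsComplIn E (sigmaCore M) M) (hE₃ : IsPiHallOf (tau3 M) E₃ E)
    (hD : sigmaCore M ⊓ Subgroup.centralizer (E₃ : Set G) ≠ ⊥)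
    (hPE₃ : P ≤ E₃) (hP : (Nat.card P).Prime) (hH : IsCoatom H)
    (hNH : Subgroup.normalizer (P : Set G) ≤ H) :
    ∀ z ∈ sigmaCore M ⊓ Subgroup.centralizer (E₃ : Set G), (orderOf z).Prime →
      Subgroup.normalizer ((Subgroup.zpowers z : Subgroup G) : Set G) ≤ M := by
  intro z hz hzp
  apply normalizer_le_of_card_prime hG hC1 hM hE hE₃ hD hPE₃ hP hH hNH
    (Subgroup.zpowers_le.mpr hz)
  rw [Nat.card_zpowers]
  exact hzp

/-- `C_G(z) ≤ M` for `z ∈ D`, `z ≠ 1`. -/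
theorem centralizer_le_of_mem (hG : IsMinSimpleOddOrder G) (hC1 : C1 G) (hM : IsCoatom M)
    (hE : IsComplIn E (sigmaCore M) M) (hE₃ : IsPiHallOf (tau3 M) E₃ E)
    (hD : sigmaCore M ⊓ Subgroup.centralizer (E₃ : Set G) ≠ ⊥)
    (hPE₃ : P ≤ E₃) (hP : (Nat.card P).Prime) (hH : IsCoatom H)
    (hNH : Subgroup.normalizer (P : Set G) ≤ H) :
    ∀ z ∈ sigmaCore M ⊓ Subgroup.centralizer (E₃ : Set G), z ≠ 1 →
      Subgroup.centralizer ({z} : Set G) ≤ M := by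
  intro z hz hz1
  have hzz1 : Subgroup.zpowers z ≠ ⊥ := by
    intro h
    apply hz1
    have : z ∈ Subgroup.zpowers z := Subgroup.mem_zpowers z
    rw [h, Subgroup.mem_bot] at this
    exact this
  obtain ⟨X, hXz, hX⟩ := exists_le_card_prime hzz1
  have hXD : X ≤ sigmaCore M ⊓ Subgroup.centralizer (E₃ : Set G) :=
    hXz.trans (Subgroup.zpowers_le.mpr hz)
  refine le_trans ?_ (normalizer_le_of_card_prime hG hC1 hM hE hE₃ hD hPE₃ hP hH hNH hXD hX)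
  exact ((centralizer_singleton_le_of_eq_zpowers rfl).trans (Subgroup.centralizer_le hXz)).trans
    (Subgroup.centralizer_le_normalizer _)

/-- **(d4)** `C_{H_σ}(z) = H_σ ∩ M` for `z ∈ D`, `z ≠ 1`. -/
theorem sigmaCore_inf_centralizer_eq (hG : IsMinSimpleOddOrder G) (hC1 : C1 G) (hM : IsCoatom M)
    (hE : IsComplIn E (sigmaCore M) M) (hE₃ : IsPiHallOf (tau3 M) E₃ E)
    (hD : sigmaCore M ⊓ Subgroup.centralizer (E₃ : Set G) ≠ ⊥)
    (hPE₃ : P ≤ E₃) (hP : (Nat.card P).Prime) (hH : IsCoatom H)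
    (hNH : Subgroup.normalizer (P : Set G) ≤ H) :
    ∀ z ∈ sigmaCore M ⊓ Subgroup.centralizer (E₃ : Set G), z ≠ 1 →
      sigmaCore H ⊓ Subgroup.centralizer ({z} : Set G) = sigmaCore H ⊓ M := by
  intro z hz hz1
  apply le_antisymm
  · exact inf_le_inf_left _
      (centralizer_le_of_mem hG hC1 hM hE hE₃ hD hPE₃ hP hH hNH z hz hz1)
  · apply le_inf inf_le_left
    have hcomm := commutator_D_Es hG hM hE hE₃ hPE₃ hP hH hNH
    rw [Subgroup.commutator_comm, Subgroup.commutator_eq_bot_iff_le_centralizer] at hcomm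
    refine hcomm.trans (Subgroup.centralizer_le ?_)
    intro x hx
    rw [Set.mem_singleton_iff] at hx
    rw [hx]
    exact hz

/-- **(f)**: if `X ≤ D` has prime order `q ∈ τ₃(H)` and lies in a complement `E_H` of `H_σ` in `H`,
then `H` is in "Case II" with respect to `X`: `X ≤ E_{H,3}`, `X` is normal in `E_H`,
`E_H ≤ N_G(X) ≤ M`, and `C_{H_σ}(E_{H,3}) ≠ 1` (it contains `P`). -/
theorem caseII_of_tau3 (hG : IsMinSimpleOddOrder G) (hC1 : C1 G) (hM : IsCoatom M)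
    (hE : IsComplIn E (sigmaCore M) M) (hE₃ : IsPiHallOf (tau3 M) E₃ E)
    (hD : sigmaCore M ⊓ Subgroup.centralizer (E₃ : Set G) ≠ ⊥)
    (hPE₃ : P ≤ E₃) (hP : (Nat.card P).Prime) (hH : IsCoatom H)
    (hNH : Subgroup.normalizer (P : Set G) ≤ H)
    {X EH EH₃ : Subgroup G} (hXD : X ≤ sigmaCore M ⊓ Subgroup.centralizer (E₃ : Set G))
    (hX : (Nat.card X).Prime) (hq3 : Nat.card X ∈ tau3 H)
    (hEH : IsComplIn EH (sigmaCore H) H) (hEH₃ : IsPiHallOf (tau3 H) EH₃ EH) (hXEH : X ≤ EH) :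
    X ≤ EH₃ ∧ EH ≤ Subgroup.normalizer (X : Set G) ∧ EH ≤ M ∧
      P ≤ sigmaCore H ⊓ Subgroup.centralizer (EH₃ : Set G) ∧
      sigmaCore H ⊓ Subgroup.centralizer (EH₃ : Set G) ≠ ⊥ := by
  haveI : Fact (Nat.card X).Prime := ⟨hX⟩
  haveI : Fact (Nat.card P).Prime := ⟨hP⟩
  have hP1 : P ≠ ⊥ := ne_bot_of_card_prime rfl
  obtain ⟨-, -, h3⟩ := Cfsg.Agent.S1415.result hG H hH EH hEH
  obtain ⟨hcyc, -, hEn⟩ := h3 EH₃ hEH₃
  have hXEH₃ : X ≤ EH₃ :=
    pgroup_le_of_not_dvd_relIndex hEn (hEH₃.2.2 _ hX hq3) (isPGroup_of_card_prime hX) hXEH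
  have hEHn : EH ≤ Subgroup.normalizer (X : Set G) := le_normalizer_of_le_cyclic hEn hcyc hXEH₃
  have hPσ : P ≤ sigmaCore H := le_sigmaCore hG hC1 hM hE hE₃ hD hPE₃ hP hH hNH
  have hPc : P ≤ sigmaCore H ⊓ Subgroup.centralizer (EH₃ : Set G) := by
    refine le_trans ?_ (le_inf inf_le_left (tau3_prime_action hG hH hEH hEH₃ hXEH₃ hX))
    apply le_inf hPσ
    rw [Subgroup.le_centralizer_iff]
    exact hXD.trans (D_le_centralizer hPE₃)
  refine ⟨hXEH₃, hEHn, ?_, hPc, ?_⟩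
  · exact hEHn.trans (normalizer_le_of_card_prime hG hC1 hM hE hE₃ hD hPE₃ hP hH hNH hXD hX)
  · intro h
    apply hP1
    rw [eq_bot_iff, ← h]
    exact hPc

/-- existence of a complement of `H_σ` in `H` containing a given subgroup of `D`. -/
theorem exists_compl_ge (hG : IsMinSimpleOddOrder G) (hM : IsCoatom M)
    (hE : IsComplIn E (sigmaCore M) M) (hE₃ : IsPiHallOf (tau3 M) E₃ E)
    (hPE₃ : P ≤ E₃) (hP : (Nat.card P).Prime) (hH : IsCoatom H)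
    (hNH : Subgroup.normalizer (P : Set G) ≤ H)
    {X : Subgroup G} (hXD : X ≤ sigmaCore M ⊓ Subgroup.centralizer (E₃ : Set G)) :
    ∃ EH : Subgroup G, IsComplIn EH (sigmaCore H) H ∧ X ≤ EH := by
  apply exists_isComplIn_sigmaCore_ge hG hH (hXD.trans (D_le hPE₃ hNH))
  apply coprime_card_sigmaCore_of hG hH
  intro q hq hd
  exact (D_primes hG hM hE hE₃ hPE₃ hP hH hNH q hq
    (hd.trans (Subgroup.card_dvd_of_le hXD))).2

/-- **Case II facts (a)-(e)**, bundled. -/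
theorem caseII_facts (hG : IsMinSimpleOddOrder G) (hC1 : C1 G) (hM : IsCoatom M)
    (hE : IsComplIn E (sigmaCore M) M) (hE₃ : IsPiHallOf (tau3 M) E₃ E)
    (hD : sigmaCore M ⊓ Subgroup.centralizer (E₃ : Set G) ≠ ⊥)
    (hPE₃ : P ≤ E₃) (hP : (Nat.card P).Prime) (hH : IsCoatom H)
    (hNH : Subgroup.normalizer (P : Set G) ≤ H) :
    (sigmaCore M ⊓ H = sigmaCore M ⊓ Subgroup.centralizer (E₃ : Set G) ∧
      M ⊓ H = (sigmaCore M ⊓ Subgroup.centralizer (E₃ : Set G)) ⊔ E ∧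
      (∀ g : G, H ≠ M.map (MulAut.conj g).toMonoidHom) ∧
      Nat.card P ∈ sigma H ∧
      ∀ q : ℕ, q.Prime → q ∣ Nat.card ↥(sigmaCore M ⊓ Subgroup.centralizer (E₃ : Set G)) →
        q ∉ sigma H) ∧
    (∀ q : ℕ, q.Prime → q ∣ Nat.card ↥(sigmaCore M ⊓ Subgroup.centralizer (E₃ : Set G)) →
      q ∉ tau2 H) ∧
    (∀ z ∈ sigmaCore M ⊓ Subgroup.centralizer (E₃ : Set G), (orderOf z).Prime →
      Subgroup.normalizer ((Subgroup.zpowers z : Subgroup G) : Set G) ≤ M) ∧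
    (sigmaCore H ⊓ M ≤ E ∧
      E ≤ Subgroup.normalizer ((sigmaCore H ⊓ M : Subgroup G) : Set G) ∧
      ⁅sigmaCore M ⊓ Subgroup.centralizer (E₃ : Set G), sigmaCore H ⊓ M⁆ = ⊥ ∧
      ∀ z ∈ sigmaCore M ⊓ Subgroup.centralizer (E₃ : Set G), z ≠ 1 →
        sigmaCore H ⊓ Subgroup.centralizer ({z} : Set G) = sigmaCore H ⊓ M) ∧
    (∀ (R : Subgroup G) (r : ℕ), R ≤ E → Nat.card R = r → r ∈ tau1 M →
      ¬ R ≤ Subgroup.centralizer
        ((sigmaCore M ⊓ Subgroup.centralizer (E₃ : Set G) : Subgroup G) : Set G) →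
      r ∈ tau1 H) :=
  ⟨⟨sigmaCore_inf_eq hG hM hE hE₃ hPE₃ hP hH hNH, inf_eq_sup hG hM hE hE₃ hPE₃ hP hH hNH,
      not_conj hG hM hE hE₃ hPE₃ hP hH hNH, mem_sigma hG hC1 hM hE hE₃ hD hPE₃ hP hH hNH,
      fun q hq hd => (D_primes hG hM hE hE₃ hPE₃ hP hH hNH q hq hd).2⟩,
    not_mem_tau2 hG hC1 hM hE hE₃ hD hPE₃ hP hH hNH,
    normalizer_zpowers_le hG hC1 hM hE hE₃ hD hPE₃ hP hH hNH,
    ⟨Es_le hG hM hE hE₃ hPE₃ hP hH hNH, le_normalizer_Es hG hM hE hE₃ hPE₃ hNH,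
      commutator_D_Es hG hM hE hE₃ hPE₃ hP hH hNH,
      sigmaCore_inf_centralizer_eq hG hC1 hM hE hE₃ hD hPE₃ hP hH hNH⟩,
    fun R r hRE hR hr hnc =>
      mem_tau1_of_not_centralize hG hM hE hE₃ hPE₃ hP hH hNH hRE hR hr hnc⟩

end CaseII

end Cfsg.Agent.Lib.Helper19.BG14C
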