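import Mathlib
import Cfsg.Agent.Lib.Helper19.BG14C
import Cfsg.Agent.Lib.Helper2.BG13FS
import Cfsg.Agent.Lib.Helper10.OmegaCentralize

/-!
B & G, Section 13/14, "Case II" (`E₃` not regular on `M_σ`): towards the exclusion of the
configuration (II-α) (some subgroup of prime order of `E₁` does not centralize `E₃`).

* `not_le_of_not_centralize` (Step 0): if `R ≤ E` of prime order does not centralize `P ≤ E₃` of
  prime order, then `C_{M_σ}(R) ≰ C_G(P)`.
* `le_centralizer_tau3_of_centralize` (dichotomy): `R ≤ E` of prime order `r ∈ τ₁(M)` centralizing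
  some subgroup of prime order of `E₃` centralizes `E₃`.
-/

set_option autoImplicit false
set_option linter.unusedVariables false
set_option linter.unusedSectionVars false
set_option linter.style.longLine false
set_option linter.unusedSimpArgs false
set_option linter.style.haveILetI false

open Cfsg
open scoped commutatorElement
open Cfsg.Agent.Lib.Helper10.BG
open Cfsg.Agent.Lib.Helper10
open Cfsg.Agent.Lib.Helper9.BGExc
open Cfsg.Agent.Lib.Helper19.BG12
open Cfsg.Agent.Lib.Helper19.BGCompl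
open Cfsg.Agent.Lib.Helper29.BG1212
open Cfsg.Agent.Lib.Helper29.BG13K
open Cfsg.Agent.Lib.Helper7.BG13
open Cfsg.Agent.Lib.Helper19.BG14C

namespace Cfsg.Agent.Lib.Helper19.BG14D

variable {G : Type*} [Group G] [Finite G]

section Step0

variable {M E E₃ P R : Subgroup G}

/-- a subgroup of prime order not centralizing a subgroup of prime order which it normalizes acts
on it without fixed points. -/
theorem fpf_of_not_centralize (hP : (Nat.card P).Prime) (hR : (Nat.card R).Prime)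
    (hnc : ¬ R ≤ Subgroup.centralizer (P : Set G)) :
    ∀ r ∈ R, r ≠ 1 → ∀ k ∈ P, r * k = k * r → k = 1 := by
  intro r hr hr1 k hk hrk
  by_contra hk1
  apply hnc
  haveI : Fact (Nat.card R).Prime := ⟨hR⟩
  haveI : Fact (Nat.card P).Prime := ⟨hP⟩
  have h2 : Subgroup.zpowers (⟨r, hr⟩ : R) = ⊤ := by
    apply zpowers_eq_top_of_prime_card (p := Nat.card R) rfl
    intro h
    exact hr1 (congrArg Subtype.val h)
  have h2' : Subgroup.zpowers (⟨k, hk⟩ : P) = ⊤ := by
    apply zpowers_eq_top_of_prime_card (p := Nat.card P) rfl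
    intro h
    exact hk1 (congrArg Subtype.val h)
  intro x hx
  rw [Subgroup.mem_centralizer_iff]
  intro y hy
  have h3 : (⟨x, hx⟩ : R) ∈ Subgroup.zpowers (⟨r, hr⟩ : R) := h2 ▸ Subgroup.mem_top _
  have h3' : (⟨y, hy⟩ : P) ∈ Subgroup.zpowers (⟨k, hk⟩ : P) := h2' ▸ Subgroup.mem_top _
  obtain ⟨n, hn⟩ := Subgroup.mem_zpowers_iff.mp h3
  obtain ⟨n', hn'⟩ := Subgroup.mem_zpowers_iff.mp h3'
  have h4 : x = r ^ n := by
    have := congrArg Subtype.val hn
    simpa using this.symm
  have h4' : y = k ^ n' := by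
    have := congrArg Subtype.val hn'
    simpa using this.symm
  rw [h4, h4']
  have h5 : Commute r k := hrk
  exact ((h5.zpow_left n).zpow_right n').eq.symm

/-- `P ≤ E₃` of prime order does not centralize `M_σ`. -/
theorem not_sigmaCore_le_centralizer (hG : IsMinSimpleOddOrder G) (hM : IsCoatom M)
    (hE : IsComplIn E (sigmaCore M) M) (hE₃ : IsPiHallOf (tau3 M) E₃ E)
    (hPE₃ : P ≤ E₃) (hP : (Nat.card P).Prime) :
    ¬ sigmaCore M ≤ Subgroup.centralizer (P : Set G) := by
  intro hc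
  haveI : Fact (Nat.card P).Prime := ⟨hP⟩
  obtain ⟨-, -, h3⟩ := Cfsg.Agent.S1415.result hG M hM E hE
  obtain ⟨hcyc, -, hEn⟩ := h3 E₃ hE₃
  have hEP : E ≤ Subgroup.normalizer (P : Set G) := le_normalizer_of_le_cyclic hEn hcyc hPE₃
  have hMN : M ≤ Subgroup.normalizer (P : Set G) := by
    intro m hm
    obtain ⟨e, he, s, hs, rfl⟩ := hE.2.2.2 m hm
    exact mul_mem (hEP he) (Subgroup.centralizer_le_normalizer _ (hc hs))
  have hP1 : P ≠ ⊥ := ne_bot_of_card_prime rfl
  have hPM : P ≤ M := (hPE₃.trans hE₃.1).trans hE.1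
  have hNtop : Subgroup.normalizer (P : Set G) ≠ ⊤ :=
    Cfsg.Agent.Lib.Lead.BGTrans.normalizer_ne_top hG.2 hP1 (ne_top_of_le_isCoatom hM hPM)
  have hNM : Subgroup.normalizer (P : Set G) ≤ M := by
    rcases eq_or_lt_of_le hMN with h | h
    · exact h.ge
    · exact absurd (hM.2 _ h) hNtop
  apply not_conj hG hM hE hE₃ hPE₃ hP hM hNM 1
  show M = cj 1 M
  rw [cj_one]

/-- **Step 0**: if `R ≤ E` of prime order does not centralize `P ≤ E₃` of prime order then
`C_{M_σ}(R) ≰ C_G(P)`. -/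
theorem not_le_of_not_centralize (hG : IsMinSimpleOddOrder G) (hM : IsCoatom M)
    (hE : IsComplIn E (sigmaCore M) M) (hE₃ : IsPiHallOf (tau3 M) E₃ E)
    (hPE₃ : P ≤ E₃) (hP : (Nat.card P).Prime) (hRE : R ≤ E) (hR : (Nat.card R).Prime)
    (hnc : ¬ R ≤ Subgroup.centralizer (P : Set G)) :
    ¬ sigmaCore M ⊓ Subgroup.centralizer (R : Set G) ≤ Subgroup.centralizer (P : Set G) := by
  intro hY
  apply not_sigmaCore_le_centralizer hG hM hE hE₃ hPE₃ hP
  obtain ⟨-, -, h3⟩ := Cfsg.Agent.S1415.result hG M hM E hE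
  obtain ⟨hcyc, -, hEn⟩ := h3 E₃ hE₃
  have hEP : E ≤ Subgroup.normalizer (P : Set G) := le_normalizer_of_le_cyclic hEn hcyc hPE₃
  have hRP : R ≤ Subgroup.normalizer (P : Set G) := hRE.trans hEP
  have hPE : P ≤ E := hPE₃.trans hE₃.1
  have hPRE : P ⊔ R ≤ E := sup_le hPE hRE
  have hPRM : P ⊔ R ≤ M := hPRE.trans hE.1
  have hcop : (Nat.card P * Nat.card R).Coprime (Nat.card (sigmaCore M)) := by
    apply Nat.Coprime.mul_left
    · apply coprime_card_sigmaCore_of hG hM
      intro q hq hd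
      exact compl_not_mem_sigma hG hM hE hq (hd.trans (Subgroup.card_dvd_of_le hPE))
    · apply coprime_card_sigmaCore_of hG hM
      intro q hq hd
      exact compl_not_mem_sigma hG hM hE hq (hd.trans (Subgroup.card_dvd_of_le hRE))
  have hact : Cfsg.Agent.Lib.Helper1.CoprimeAct (P ⊔ R) (sigmaCore M) :=
    ⟨hPRM.trans (le_normalizer_sigmaCore M),
      Nat.Coprime.coprime_dvd_left (Cfsg.Agent.Lib.Helper9.card_sup_dvd_of_le_normalizer hRP)
        hcop,
      Or.inl (isSolvable_of_ne_top hG (ne_top_of_le_isCoatom hM hPRM))⟩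
  have hfpf := fpf_of_not_centralize hP hR hnc
  have hPsolv : Group.IsSolvable P := by
    haveI : Fact (Nat.card P).Prime := ⟨hP⟩
    haveI := (isPGroup_of_card_prime hP).isNilpotent
    infer_instance
  apply le_of_forall_sylow_le
  intro s hs
  haveI : Fact s.Prime := ⟨hs⟩
  obtain ⟨Q, hQ, hQn⟩ := coprime_exists_isSylowIn hact s
  refine ⟨Q, hQ, ?_⟩
  have hPQ : P ≤ Subgroup.normalizer (Q : Set G) := le_sup_left.trans hQn
  have hRQ : R ≤ Subgroup.normalizer (Q : Set G) := le_sup_right.trans hQn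
  apply Cfsg.Agent.Lib.Helper2.BG13.le_of_centralizers_le hRP hPsolv hPQ hRQ
    hQ.isPGroup.isNilpotent
    (Nat.Coprime.coprime_dvd_right (Subgroup.card_dvd_of_le hQ.le) hcop) hfpf
  · -- `P` normalizes `C_G(P)`
    exact le_normalizer_centralizer Subgroup.le_normalizer
  · exact le_normalizer_centralizer hRP
  · exact inf_le_right
  · exact (inf_le_inf_right _ hQ.le).trans hY

/-- **Dichotomy**: `R ≤ E` of prime order `r ∈ τ₁(M)` centralizing some subgroup of prime order
of `E₃` centralizes `E₃`. -/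
theorem le_centralizer_tau3_of_centralize (hG : IsMinSimpleOddOrder G) (hM : IsCoatom M)
    (hE : IsComplIn E (sigmaCore M) M) (hE₃ : IsPiHallOf (tau3 M) E₃ E)
    {r : ℕ} (hr : r ∈ tau1 M) (hRE : R ≤ E) (hR : Nat.card R = r)
    (hPE₃ : P ≤ E₃) (hP : (Nat.card P).Prime) (hc : R ≤ Subgroup.centralizer (P : Set G)) :
    R ≤ Subgroup.centralizer (E₃ : Set G) := by
  have hRp : (Nat.card R).Prime := hR ▸ hr.1
  obtain ⟨-, -, h3⟩ := Cfsg.Agent.S1415.result hG M hM E hE
  obtain ⟨hcyc, -, hEn⟩ := h3 E₃ hE₃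
  have hY : sigmaCore M ⊓ Subgroup.centralizer (R : Set G) ≤
      Subgroup.centralizer (E₃ : Set G) := by
    have h1 := Cfsg.Agent.S1428.result hG M hM E hE r hr R hRE hR P
      (le_inf (hPE₃.trans hE₃.1) (by rw [Subgroup.le_centralizer_iff]; exact hc)) hP
    exact h1.trans (tau3_prime_action hG hM hE hE₃ hPE₃ hP)
  rw [Subgroup.le_centralizer_iff]
  apply le_of_forall_isSylowIn_le
  intro s hs
  haveI : Fact s.Prime := ⟨hs⟩
  obtain ⟨T, hT⟩ := exists_isSylowIn s E₃
  refine ⟨T, hT, ?_⟩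
  by_cases hT1 : T = ⊥
  · rw [hT1]
    exact bot_le
  have hs3 : s ∈ tau3 M := by
    apply hE₃.2.1 s hs
    exact (dvd_card_of_pgroup_ne_bot hT.isPGroup hT1).trans (Subgroup.card_dvd_of_le hT.le)
  have hrs : r ≠ s := by
    intro h
    rw [h] at hr
    exact not_mem_tau3_of_mem_tau1 hr hs3
  have hs2 : s ≠ 2 := prime_ne_two_of_pgroup hG hT.isPGroup hT1
  rw [← Subgroup.le_centralizer_iff]
  apply le_centralizer_of_centralizes_order_p s hs2 R T
  · rw [hR]
    exact (Nat.coprime_primes hr.1 hs).mpr hrs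
  · exact hT.isPGroup
  · exact hRE.trans (le_normalizer_of_le_cyclic hEn hcyc hT.le)
  · intro x hx hxo a ha
    have hXE₃ : Subgroup.zpowers x ≤ E₃ := Subgroup.zpowers_le.mpr (hT.le hx)
    have hXp : (Nat.card (Subgroup.zpowers x)).Prime := by
      rw [Nat.card_zpowers, hxo]
      exact hs
    have h1 : R ≤ Subgroup.centralizer ((Subgroup.zpowers x : Subgroup G) : Set G) := by
      by_contra hnc
      apply not_le_of_not_centralize hG hM hE hE₃ hXE₃ hXp hRE hRp hnc
      exact hY.trans (Subgroup.centralizer_le hXE₃)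
    exact (Subgroup.mem_centralizer_iff.mp (h1 ha) x (Subgroup.mem_zpowers x)).symm

/-- the dichotomy in the shape `Dich G` of helper29's `step4`. -/
theorem dich (hG : IsMinSimpleOddOrder G) :
    ∀ M E E₁ E₃ R P₁ : Subgroup G, IsCoatom M → IsComplIn E (sigmaCore M) M →
      IsPiHallOf (tau1 M) E₁ E → IsPiHallOf (tau3 M) E₃ E →
      sigmaCore M ⊓ Subgroup.centralizer (E₃ : Set G) ≠ ⊥ → R ≤ E₁ → (Nat.card R).Prime →
      P₁ ≤ E₃ → (Nat.card P₁).Prime → P₁ ≤ Subgroup.centralizer (R : Set G) →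
      R ≤ Subgroup.centralizer (E₃ : Set G) := by
  intro M E E₁ E₃ R P₁ hM hE hE₁ hE₃ _ hRE₁ hR hP₁E₃ hP₁ hc
  exact le_centralizer_tau3_of_centralize hG hM hE hE₃
    (hE₁.2.1 _ hR (Subgroup.card_dvd_of_le hRE₁)) (hRE₁.trans hE₁.1) rfl hP₁E₃ hP₁
    (by rw [Subgroup.le_centralizer_iff]; exact hc)

end Step0

end Cfsg.Agent.Lib.Helper19.BG14D
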