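import Mathlib
import Cfsg.Agent.Lib.Helper19.BG14D
import Cfsg.Agent.Lib.Helper2.BG13Cfg
import Cfsg.Agent.Lib.Helper22.BG139

/-!
B & G, Section 13/14, "Case II": the last step in the exclusion of configuration (II-α).

`false_of_xi` (helper21's abstract form of the `HZ` trick of B & G 13.8): two non-conjugate
maximal subgroups `M`, `H`, a common subgroup `R` of prime order `r ∈ τ₁(M) ∩ τ₁(H)` with
`C_{M_β}(R) ≠ 1 ≠ C_{H_β}(R)`, such that the primes of `C_M(R)` lie in `σ(M) ∪ τ₁(H)` and the primes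
of `C_H(R)` lie in `σ(H) ∪ τ₁(M)`: impossible.
-/

set_option autoImplicit false
set_option linter.unusedVariables false
set_option linter.unusedSectionVars false
set_option linter.style.longLine false
set_option linter.unusedSimpArgs false
set_option linter.style.haveILetI false

open Cfsg
open scoped commutatorElement
open Cfsg.Agent.Lib.Helper10.BG
open Cfsg.Agent.Lib.Helper10
open Cfsg.Agent.Lib.Helper9.BGExc
open Cfsg.Agent.Lib.Helper2.BG13

namespace Cfsg.Agent.Lib.Helper19.BG14E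

variable {G : Type*} [Group G] [Finite G]

theorem false_of_xi (hG : IsMinSimpleOddOrder G) {M H R : Subgroup G} (hM : IsCoatom M)
    (hH : IsCoatom H) (hnc : ∀ g : G, H ≠ M.map (MulAut.conj g).toMonoidHom)
    {r : ℕ} [Fact r.Prime] (hR : Nat.card R = r) (hRM : R ≤ M) (hRH : R ≤ H)
    (hrM : r ∈ tau1 M) (hrH : r ∈ tau1 H)
    (hYM : piCoreOf (beta M) M ⊓ Subgroup.centralizer (R : Set G) ≠ ⊥)
    (hYH : piCoreOf (beta H) H ⊓ Subgroup.centralizer (R : Set G) ≠ ⊥)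
    (h1 : ∀ X : Subgroup G, X ≤ M ⊓ Subgroup.centralizer (R : Set G) → ∀ t : ℕ, t.Prime →
      t ∣ Nat.card X → t ∈ sigma M ∨ t ∈ tau1 H)
    (h2 : ∀ X : Subgroup G, X ≤ H ⊓ Subgroup.centralizer (R : Set G) → ∀ t : ℕ, t.Prime →
      t ∣ Nat.card X → t ∈ sigma H ∨ t ∈ tau1 M) : False := by
  have hrp : r.Prime := Fact.out
  have hnc' : ∀ g : G, M ≠ cj g H := by
    intro g hg
    apply hnc g⁻¹
    show H = cj g⁻¹ M
    rw [hg, cj_inv_cj]
  have hR1 : R ≠ ⊥ := by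
    intro h
    rw [h, Subgroup.card_bot] at hR
    exact hrp.one_lt.ne hR
  have hNtop : Subgroup.normalizer (R : Set G) ≠ ⊤ :=
    Cfsg.Agent.Lib.Lead.BGTrans.normalizer_ne_top hG.2 hR1 (ne_top_of_le_isCoatom hM hRM)
  obtain ⟨L, hL, hNL⟩ := exists_isCoatom_ge hNtop
  have hCL : Subgroup.centralizer (R : Set G) ≤ L :=
    (Subgroup.centralizer_le_normalizer _).trans hNL
  have hXcard : Nat.card ↥(piCoreOf (beta M) M ⊓ Subgroup.centralizer (R : Set G)) ≠ 1 :=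
    fun h => hYM (Subgroup.card_eq_one.mp h)
  have hX'card : Nat.card ↥(piCoreOf (beta H) H ⊓ Subgroup.centralizer (R : Set G)) ≠ 1 :=
    fun h => hYH (Subgroup.card_eq_one.mp h)
  obtain ⟨s, hs, hsd⟩ := Nat.exists_prime_and_dvd hXcard
  obtain ⟨s', hs', hs'd⟩ := Nat.exists_prime_and_dvd hX'card
  haveI : Fact s.Prime := ⟨hs⟩
  haveI : Fact s'.Prime := ⟨hs'⟩
  obtain ⟨T, hT⟩ := exists_isSylowIn s (piCoreOf (beta M) M ⊓ Subgroup.centralizer (R : Set G))
  obtain ⟨T', hT'⟩ :=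
    exists_isSylowIn s' (piCoreOf (beta H) H ⊓ Subgroup.centralizer (R : Set G))
  have hT1 : T ≠ ⊥ := hT.ne_bot_of_dvd hsd
  have hT'1 : T' ≠ ⊥ := hT'.ne_bot_of_dvd hs'd
  obtain ⟨hsβ, hTL, hTc, -⟩ := isSylowIn_of_centralizer_beta hG hM hL hrM hRM hR hNL hT hT1
  obtain ⟨hs'β, hT'L, hT'c, -⟩ := isSylowIn_of_centralizer_beta hG hH hL hrH hRH hR hNL hT' hT'1
  have hss' : s ≠ s' := by
    intro h
    rw [← h] at hs'β
    exact not_mem_beta_of_not_conj hG hH hM hnc' hs (alpha_subset_sigma hG hH hs'β.1) hsβ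
  have hTC : T ≤ Subgroup.centralizer (R : Set G) := hT.le.trans inf_le_right
  have hT'C : T' ≤ Subgroup.centralizer (R : Set G) := hT'.le.trans inf_le_right
  have hTM : T ≤ M := (hT.le.trans inf_le_left).trans (Cfsg.Agent.S1414.result hG M hM).1.1
  have hT'H : T' ≤ H := (hT'.le.trans inf_le_left).trans (Cfsg.Agent.S1414.result hG H hH).1.1
  obtain ⟨c, hc, hcase⟩ := Cfsg.Agent.Lib.Helper22.BG139.exists_conj_normalizes
    (C := Subgroup.centralizer (R : Set G))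
    (isSolvable_of_ne_top hG (ne_top_of_le_isCoatom hL hCL)) hss' (hTL.of_le hTC hCL)
    (hT'L.of_le hT'C hCL) hTc hT'c
  rcases hcase with h | h
  · -- `cj c T'` normalizes `T`
    have hR₁M : cj c T' ≤ M :=
      h.trans (normalizer_le_of_mem_beta hG hM hsβ hT.isPGroup hT1 hTM)
    have hR₁C : cj c T' ≤ Subgroup.centralizer (R : Set G) := cj_le_of_mem hc hT'C
    have hR₁1 : cj c T' ≠ ⊥ := fun h0 => hT'1 (cj_eq_bot_iff.mp h0)
    have hR₁s : IsPGroup s' (cj c T') := hT'.isPGroup.map _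
    rcases h1 (cj c T') (le_inf hR₁M hR₁C) s' hs' (dvd_card_of_pgroup_ne_bot hR₁s hR₁1) with h' | h'
    · exact not_mem_beta_of_not_conj hG hM hH hnc hs' h' hs'β
    · exact h'.2.1 (alpha_subset_sigma hG hH hs'β.1)
  · -- `T` normalizes `cj c T'`
    have h3 : cj c⁻¹ T ≤ Subgroup.normalizer ((cj c⁻¹ (cj c T') : Subgroup G) : Set G) :=
      le_normalizer_cj h
    rw [cj_inv_cj] at h3
    have hR₁H : cj c⁻¹ T ≤ H :=
      h3.trans (normalizer_le_of_mem_beta hG hH hs'β hT'.isPGroup hT'1 hT'H)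
    have hR₁C : cj c⁻¹ T ≤ Subgroup.centralizer (R : Set G) :=
      cj_le_of_mem ((Subgroup.centralizer (R : Set G)).inv_mem hc) hTC
    have hR₁1 : cj c⁻¹ T ≠ ⊥ := fun h0 => hT1 (cj_eq_bot_iff.mp h0)
    have hR₁s : IsPGroup s (cj c⁻¹ T) := hT.isPGroup.map _
    rcases h2 (cj c⁻¹ T) (le_inf hR₁H hR₁C) s hs (dvd_card_of_pgroup_ne_bot hR₁s hR₁1) with h' | h'
    · exact not_mem_beta_of_not_conj hG hH hM hnc' hs h' hsβ
    · exact h'.2.1 (alpha_subset_sigma hG hM hsβ.1)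

end Cfsg.Agent.Lib.Helper19.BG14E
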