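import Mathlib
import Cfsg.Agent.Lib.Helper19.BG14E
import Cfsg.Agent.Lib.Helper25.BG1431
import Cfsg.Agent.Lib.Helper10.BGCaseIIAsm
import Cfsg.Agent.Lib.Helper25.BG14A1
import Cfsg.Agent.Lib.Helper29.BG1430F
import Cfsg.Agent.Lib.Helper21.BG1430Frob
import Cfsg.Agent.Lib.Helper9.BG1430e

/-!
B & G, Section 13/14, "Case II": the exclusion of configuration (II-α), assembled from the
Steps 1-4 (taken as hypotheses-Props), Step 0 / dichotomy (`BG14D`) and Step 5 (`BG14E`).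
-/

set_option autoImplicit false
set_option linter.unusedVariables false
set_option linter.unusedSectionVars false
set_option linter.style.longLine false
set_option linter.unusedSimpArgs false
set_option linter.style.haveILetI false

open Cfsg
open scoped commutatorElement
open Cfsg.Agent.Lib.Helper10.BG
open Cfsg.Agent.Lib.Helper10
open Cfsg.Agent.Lib.Helper9.BGExc
open Cfsg.Agent.Lib.Helper19.BG12
open Cfsg.Agent.Lib.Helper19.BGCompl
open Cfsg.Agent.Lib.Helper29.BG1212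
open Cfsg.Agent.Lib.Helper29.BG13K
open Cfsg.Agent.Lib.Helper7.BG13
open Cfsg.Agent.Lib.Helper19.BG14C
open Cfsg.Agent.Lib.Helper19.BG14D
open Cfsg.Agent.Lib.Helper2.BG13

namespace Cfsg.Agent.Lib.Helper19.BG14F

variable {G : Type*} [Group G] [Finite G]

section Factor

variable {E N M R : Subgroup G}

/-- uniqueness of the factorisation `m = e s` relative to a complement. -/
theorem compl_unique (hE : IsComplIn E N M) {e₁ e₂ s₁ s₂ : G} (he₁ : e₁ ∈ E) (he₂ : e₂ ∈ E)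
    (hs₁ : s₁ ∈ N) (hs₂ : s₂ ∈ N) (h : e₁ * s₁ = e₂ * s₂) : e₁ = e₂ ∧ s₁ = s₂ := by
  have h1 : e₂⁻¹ * e₁ = s₂ * s₁⁻¹ := by
    calc e₂⁻¹ * e₁ = e₂⁻¹ * (e₁ * s₁) * s₁⁻¹ := by group
      _ = e₂⁻¹ * (e₂ * s₂) * s₁⁻¹ := by rw [h]
      _ = s₂ * s₁⁻¹ := by group
  have h2 : e₂⁻¹ * e₁ ∈ E ⊓ N :=
    ⟨E.mul_mem (E.inv_mem he₂) he₁, h1 ▸ N.mul_mem hs₂ (N.inv_mem hs₁)⟩
  rw [hE.2.2.1, Subgroup.mem_bot] at h2
  have he : e₁ = e₂ := by
    calc e₁ = e₂ * (e₂⁻¹ * e₁) := by group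
      _ = e₂ := by rw [h2, mul_one]
  refine ⟨he, ?_⟩
  rw [he] at h
  exact mul_left_cancel h

/-- an element of `M` centralizing `R ≤ E` factors as `e s` with both factors centralizing `R`. -/
theorem factor_centralizer (hE : IsComplIn E N M) (hMN : M ≤ Subgroup.normalizer (N : Set G))
    (hRE : R ≤ E) {x : G} (hxM : x ∈ M) (hxR : x ∈ Subgroup.centralizer (R : Set G)) :
    ∃ e ∈ E ⊓ Subgroup.centralizer (R : Set G), ∃ s ∈ N ⊓ Subgroup.centralizer (R : Set G),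
      x = e * s := by
  obtain ⟨e, he, s, hs, rfl⟩ := hE.2.2.2 x hxM
  have key : ∀ ρ ∈ R, ρ * e * ρ⁻¹ = e ∧ ρ * s * ρ⁻¹ = s := by
    intro ρ hρ
    have h1 : ρ * (e * s) = (e * s) * ρ := Subgroup.mem_centralizer_iff.mp hxR ρ hρ
    have h2 : (ρ * e * ρ⁻¹) * (ρ * s * ρ⁻¹) = e * s := by
      calc (ρ * e * ρ⁻¹) * (ρ * s * ρ⁻¹) = ρ * (e * s) * ρ⁻¹ := by group
        _ = (e * s) * ρ * ρ⁻¹ := by rw [h1]
        _ = e * s := by group
    have hρE : ρ ∈ E := hRE hρ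
    exact compl_unique hE (E.mul_mem (E.mul_mem hρE he) (E.inv_mem hρE)) he
      (conj_mem_of_mem_normalizer (hMN (hE.1 hρE)) hs) hs h2
  refine ⟨e, Subgroup.mem_inf.mpr ⟨he, ?_⟩, s, Subgroup.mem_inf.mpr ⟨hs, ?_⟩, rfl⟩
  · rw [Subgroup.mem_centralizer_iff]
    intro ρ hρ
    have := (key ρ hρ).1
    calc ρ * e = (ρ * e * ρ⁻¹) * ρ := by group
      _ = e * ρ := by rw [this]
  · rw [Subgroup.mem_centralizer_iff]
    intro ρ hρ
    have := (key ρ hρ).2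
    calc ρ * s = (ρ * s * ρ⁻¹) * ρ := by group
      _ = s * ρ := by rw [this]

/-- if `(e s) ^ n = 1` then `e ^ n = 1`. -/
theorem pow_eq_one_of_mul (hE : IsComplIn E N M) (hMN : M ≤ Subgroup.normalizer (N : Set G))
    {e s : G} (he : e ∈ E) (hs : s ∈ N) {n : ℕ} (h : (e * s) ^ n = 1) : e ^ n = 1 := by
  have key : ∀ k : ℕ, ∃ s' ∈ N, (e * s) ^ k = e ^ k * s' := by
    intro k
    induction k with
    | zero => exact ⟨1, N.one_mem, by simp⟩
    | succ k ih =>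
      obtain ⟨s', hs', hk⟩ := ih
      refine ⟨e⁻¹ * s' * e * s, N.mul_mem ?_ hs, ?_⟩
      · exact conj_mem_of_mem_normalizer' (hMN (hE.1 he)) hs'
      · rw [pow_succ, hk, pow_succ]
        group
  obtain ⟨s', hs', hk⟩ := key n
  rw [h] at hk
  have h1 : e ^ n = s'⁻¹ := by
    calc e ^ n = e ^ n * s' * s'⁻¹ := by group
      _ = s'⁻¹ := by rw [← hk, one_mul]
  have h2 : e ^ n ∈ E ⊓ N := ⟨E.pow_mem he n, h1 ▸ N.inv_mem hs'⟩
  rw [hE.2.2.1, Subgroup.mem_bot] at h2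
  exact h2

end Factor

section Generic

variable {M E E₃ P R : Subgroup G}

/-- a subgroup `T ≤ C_E(R)` of prime order, where `R ≤ E` has prime order in `τ₁(M)` and does not
centralize `P ≤ E₃`: then `|T| ∈ τ₁(M)` and `T` does not centralize `P` either. -/
theorem tau1_of_centralize (hG : IsMinSimpleOddOrder G) (hM : IsCoatom M)
    (hE : IsComplIn E (sigmaCore M) M) (hE₃ : IsPiHallOf (tau3 M) E₃ E) (hE₃1 : E₃ ≠ ⊥)
    (hD : sigmaCore M ⊓ Subgroup.centralizer (E₃ : Set G) ≠ ⊥)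
    (hPE₃ : P ≤ E₃) (hP : (Nat.card P).Prime) (hRE : R ≤ E) (hr : Nat.card R ∈ tau1 M)
    (hRP : ¬ R ≤ Subgroup.centralizer (P : Set G))
    {T : Subgroup G} (hTE : T ≤ E) (hT : (Nat.card T).Prime)
    (hTR : T ≤ Subgroup.centralizer (R : Set G)) :
    Nat.card T ∈ tau1 M ∧ ¬ T ≤ Subgroup.centralizer (P : Set G) := by
  haveI : Fact (Nat.card T).Prime := ⟨hT⟩
  obtain ⟨-, -, h3⟩ := Cfsg.Agent.S1415.result hG M hM E hE
  obtain ⟨hcyc, -, hEn⟩ := h3 E₃ hE₃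
  have hRT : R ≤ Subgroup.centralizer (T : Set G) := by
    rw [Subgroup.le_centralizer_iff]
    exact hTR
  have h1 : Nat.card T ∈ tau1 M := by
    rcases mem_tau_of_dvd_card hG hM hE hT (Subgroup.card_dvd_of_le hTE) with h | h
    · rcases h with h | h
      · exact h
      · exfalso
        have hTE₃ : T ≤ E₃ :=
          pgroup_le_of_not_dvd_relIndex hEn (hE₃.2.2 _ hT h) (isPGroup_of_card_prime hT) hTE
        apply hRP
        exact (le_centralizer_tau3_of_centralize hG hM hE hE₃ hr hRE rfl hTE₃ hT hRT).trans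
          (Subgroup.centralizer_le hPE₃)
    · exact absurd h (not_mem_tau2_of_tau3_nonregular hG hM hE hE₃ hE₃1 hD _)
  refine ⟨h1, ?_⟩
  intro hc
  apply not_le_of_not_centralize hG hM hE hE₃ hPE₃ hP hRE hr.1 hRP
  have h2 := Cfsg.Agent.S1428.result hG M hM E hE _ h1 T hTE rfl P
    (le_inf ((hPE₃.trans hE₃.1)) (by rw [Subgroup.le_centralizer_iff]; exact hc)) hP
  have h4 := tau1_centralizer_eq hG hM hE hTE hRE h1 hr (fun a ha b hb =>
    (Subgroup.mem_centralizer_iff.mp (hTR ha) b hb).symm)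
  rw [← h4]
  exact h2.trans inf_le_right

/-- if `R ≤ E` of prime order does not centralize `P ≤ E₃` and `C_D(R) = 1`, then
`C_{M_β}(R) ≠ 1`. -/
theorem betaCore_inf_centralizer_ne_bot (hG : IsMinSimpleOddOrder G) (hM : IsCoatom M)
    (hE : IsComplIn E (sigmaCore M) M) (hE₃ : IsPiHallOf (tau3 M) E₃ E)
    (hPE₃ : P ≤ E₃) (hP : (Nat.card P).Prime) (hRE : R ≤ E) (hR : (Nat.card R).Prime)
    (hRP : ¬ R ≤ Subgroup.centralizer (P : Set G))
    (hDR : (sigmaCore M ⊓ Subgroup.centralizer (E₃ : Set G)) ⊓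
      Subgroup.centralizer (R : Set G) = ⊥) :
    piCoreOf (beta M) M ⊓ Subgroup.centralizer (R : Set G) ≠ ⊥ := by
  intro hbot
  have hY : ¬ sigmaCore M ⊓ Subgroup.centralizer (R : Set G) ≤
      Subgroup.centralizer (P : Set G) :=
    not_le_of_not_centralize hG hM hE hE₃ hPE₃ hP hRE hR hRP
  have hY1 : sigmaCore M ⊓ Subgroup.centralizer (R : Set G) ≠ ⊥ := by
    intro h
    apply hY
    rw [h]
    exact bot_le
  have hYcard : Nat.card ↥(sigmaCore M ⊓ Subgroup.centralizer (R : Set G)) ≠ 1 :=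
    fun h => hY1 (Subgroup.card_eq_one.mp h)
  obtain ⟨t, ht, htd⟩ := Nat.exists_prime_and_dvd hYcard
  haveI : Fact t.Prime := ⟨ht⟩
  obtain ⟨TY, hTY⟩ := exists_isSylowIn t (sigmaCore M ⊓ Subgroup.centralizer (R : Set G))
  have hTY1 : TY ≠ ⊥ := hTY.ne_bot_of_dvd htd
  have hTYσ : TY ≤ sigmaCore M := hTY.le.trans inf_le_left
  have hTYR : TY ≤ Subgroup.centralizer (R : Set G) := hTY.le.trans inf_le_right
  have htσ : t ∈ sigma M := mem_sigma_of_dvd_card_sigmaCore hG hM ht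
    (htd.trans (Subgroup.card_dvd_of_le inf_le_left))
  obtain ⟨-, -, h3⟩ := Cfsg.Agent.S1415.result hG M hM E hE
  obtain ⟨hcyc, hE₃E', hEn⟩ := h3 E₃ hE₃
  by_cases hβ : t ∈ beta M
  · have h1 : TY ≤ piCoreOf (beta M) M :=
      pgroup_le_betaCore hG hM hβ hTY.isPGroup (hTYσ.trans (sigmaCore_le M))
    apply hTY1
    rw [eq_bot_iff, ← hbot]
    exact le_inf h1 hTYR
  · -- an `E₃ R`-invariant Sylow `t`-subgroup of `M_σ` lies in `D`
    have hAE : E₃ ⊔ R ≤ E := sup_le hE₃.1 hRE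
    have hcopE := compl_coprime hG hM hE
    have hact : Cfsg.Agent.Lib.Helper1.CoprimeAct (E₃ ⊔ R) (sigmaCore M) :=
      ⟨(hAE.trans hE.1).trans (le_normalizer_sigmaCore M),
        Nat.Coprime.coprime_dvd_left (Subgroup.card_dvd_of_le hAE) hcopE,
        Or.inl (isSolvable_of_ne_top hG (ne_top_of_le_isCoatom hM (hAE.trans hE.1)))⟩
    have hactR : Cfsg.Agent.Lib.Helper1.CoprimeAct R (sigmaCore M) :=
      ⟨(hRE.trans hE.1).trans (le_normalizer_sigmaCore M),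
        Nat.Coprime.coprime_dvd_left (Subgroup.card_dvd_of_le hRE) hcopE,
        Or.inl (isSolvable_of_ne_top hG (ne_top_of_le_isCoatom hM (hRE.trans hE.1)))⟩
    obtain ⟨S, hS, hAS⟩ := coprime_exists_isSylowIn hact t
    have hSc := Cfsg.Agent.Lib.Helper25.BG1431.commute_of_not_mem_beta hG hM ht htσ hβ hS.isPGroup hS.le
      (hE₃E'.trans (Subgroup.commutator_mono hE.1 hE.1))
      (fun p hp hd => compl_not_mem_sigma hG hM hE hp (hd.trans (Subgroup.card_dvd_of_le hE₃.1)))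
      (le_sup_left.trans hAS)
    have hSD : S ≤ sigmaCore M ⊓ Subgroup.centralizer (E₃ : Set G) := by
      apply le_inf hS.le
      intro x hx
      rw [Subgroup.mem_centralizer_iff]
      intro u hu
      exact (hSc x hx u hu).symm
    have hRTY : R ≤ Subgroup.normalizer (TY : Set G) := by
      refine le_trans ?_ (Subgroup.centralizer_le_normalizer _)
      rw [Subgroup.le_centralizer_iff]
      exact hTYR
    obtain ⟨S', hS', hTS', hRS'⟩ := coprime_exists_isSylowIn_ge hactR hTYσ hTY.isPGroup hRTY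
    obtain ⟨c, hc, hcS⟩ := coprime_isSylowIn_conj hactR hS hS' (le_sup_right.trans hAS) hRS'
    have h1 : cj c⁻¹ TY ≤ S := by
      rw [cj_le_iff, inv_inv, ← hcS]
      exact hTS'
    have h2 : cj c⁻¹ TY ≤ Subgroup.centralizer (R : Set G) :=
      cj_le_of_mem ((Subgroup.centralizer (R : Set G)).inv_mem hc.2) hTYR
    have h3 : cj c⁻¹ TY = ⊥ := by
      rw [eq_bot_iff, ← hDR]
      exact le_inf (h1.trans hSD) h2
    exact hTY1 (cj_eq_bot_iff.mp h3)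

end Generic

section Main

variable {M E E₁ E₃ P H R : Subgroup G}

/-- Step 3 of the exclusion of (II-α), as a hypothesis (helper9's `step3`). -/
def Step3 (G : Type*) [Group G] : Prop :=
  ∀ M E E₃ P H R : Subgroup G, IsCoatom M → IsComplIn E (sigmaCore M) M →
    IsPiHallOf (tau3 M) E₃ E → sigmaCore M ⊓ Subgroup.centralizer (E₃ : Set G) ≠ ⊥ →
    P ≤ E₃ → (Nat.card P).Prime → IsCoatom H → Subgroup.normalizer (P : Set G) ≤ H →
    R ≤ E → Nat.card R ∈ tau1 M → ¬ R ≤ Subgroup.centralizer (P : Set G) →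
    Nat.card R ∉ sigma H → Nat.card R ∈ tau1 H →
    ∀ q : ℕ, q.Prime → q ∣ Nat.card ↥(sigmaCore M ⊓ Subgroup.centralizer (E₃ : Set G)) →
      q ∈ tau3 H

/-- an element of prime order `t` of `C_E(R)`: `t ∈ τ₁(M)` and `⟨e⟩` does not centralize `P`. -/
theorem tau1_of_mem_centralizer (hG : IsMinSimpleOddOrder G) (hM : IsCoatom M)
    (hE : IsComplIn E (sigmaCore M) M) (hE₃ : IsPiHallOf (tau3 M) E₃ E) (hE₃1 : E₃ ≠ ⊥)
    (hD : sigmaCore M ⊓ Subgroup.centralizer (E₃ : Set G) ≠ ⊥)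
    (hPE₃ : P ≤ E₃) (hP : (Nat.card P).Prime) (hRE : R ≤ E) (hr : Nat.card R ∈ tau1 M)
    (hRP : ¬ R ≤ Subgroup.centralizer (P : Set G))
    {e : G} {t : ℕ} (ht : t.Prime) (he : e ∈ E ⊓ Subgroup.centralizer (R : Set G))
    (he1 : e ≠ 1) (het : e ^ t = 1) :
    t ∈ tau1 M ∧ Subgroup.zpowers e ≤ E ∧ Nat.card (Subgroup.zpowers e) = t ∧
      ¬ Subgroup.zpowers e ≤ Subgroup.centralizer (P : Set G) := by
  have hord : orderOf e = t := by
    rcases (Nat.dvd_prime ht).mp (orderOf_dvd_of_pow_eq_one het) with h | h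
    · exact absurd (orderOf_eq_one_iff.mp h) he1
    · exact h
  have hcard : Nat.card (Subgroup.zpowers e) = t := by rw [Nat.card_zpowers, hord]
  have hTE : Subgroup.zpowers e ≤ E := Subgroup.zpowers_le.mpr he.1
  have hTR : Subgroup.zpowers e ≤ Subgroup.centralizer (R : Set G) :=
    Subgroup.zpowers_le.mpr he.2
  obtain ⟨h1, h2⟩ := tau1_of_centralize hG hM hE hE₃ hE₃1 hD hPE₃ hP hRE hr hRP hTE
    (hcard ▸ ht) hTR
  exact ⟨hcard ▸ h1, hTE, hcard, h2⟩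

/-- **(g1)** the primes of `C_M(R)` lie in `σ(M) ∪ τ₁(H)`. -/
theorem primes_centralizer_left (hG : IsMinSimpleOddOrder G) (hC1 : Cfsg.Agent.Lib.Helper19.BG14C.C1 G) (hM : IsCoatom M)
    (hE : IsComplIn E (sigmaCore M) M) (hE₃ : IsPiHallOf (tau3 M) E₃ E) (hE₃1 : E₃ ≠ ⊥)
    (hD : sigmaCore M ⊓ Subgroup.centralizer (E₃ : Set G) ≠ ⊥)
    (hPE₃ : P ≤ E₃) (hP : (Nat.card P).Prime) (hH : IsCoatom H)
    (hNH : Subgroup.normalizer (P : Set G) ≤ H)
    (hRE : R ≤ E) (hr : Nat.card R ∈ tau1 M)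
    (hRP : ¬ R ≤ Subgroup.centralizer (P : Set G)) :
    ∀ X : Subgroup G, X ≤ M ⊓ Subgroup.centralizer (R : Set G) → ∀ t : ℕ, t.Prime →
      t ∣ Nat.card X → t ∈ sigma M ∨ t ∈ tau1 H := by
  intro X hX t ht htd
  by_cases hσ : t ∈ sigma M
  · exact Or.inl hσ
  right
  haveI : Fact t.Prime := ⟨ht⟩
  obtain ⟨x, hx⟩ := exists_prime_orderOf_dvd_card' (G := ↥X) t htd
  have hxo : orderOf (x : G) = t := by rw [Subgroup.orderOf_coe]; exact hx
  have hxM : (x : G) ∈ M := (hX x.2).1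
  have hxR : (x : G) ∈ Subgroup.centralizer (R : Set G) := (hX x.2).2
  obtain ⟨e, he, s, hs, hxes⟩ :=
    factor_centralizer hE (le_normalizer_sigmaCore M) hRE hxM hxR
  have hxt : (e * s) ^ t = 1 := by rw [← hxes, ← hxo]; exact pow_orderOf_eq_one _
  have het : e ^ t = 1 := pow_eq_one_of_mul hE (le_normalizer_sigmaCore M) he.1 hs.1 hxt
  have he1 : e ≠ 1 := by
    intro h
    apply hσ
    rw [h, one_mul] at hxes
    apply mem_sigma_of_dvd_card_sigmaCore hG hM ht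
    rw [← hxo, hxes]
    exact Subgroup.orderOf_dvd_natCard _ hs.1
  obtain ⟨ht1, hTE, hcard, hTP⟩ :=
    tau1_of_mem_centralizer hG hM hE hE₃ hE₃1 hD hPE₃ hP hRE hr hRP ht he he1 het
  have := Cfsg.Agent.Lib.Helper25.BG14A1.step2 hG hC1 hM hE hE₃ hD hPE₃ hP hH hNH hTE
    (hcard.symm ▸ ht1) hTP
  rwa [hcard] at this

/-- `R ≤ E` normalizes `D`. -/
theorem le_normalizer_D (hG : IsMinSimpleOddOrder G) (hM : IsCoatom M)
    (hE : IsComplIn E (sigmaCore M) M) (hE₃ : IsPiHallOf (tau3 M) E₃ E) :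
    E ≤ Subgroup.normalizer
      ((sigmaCore M ⊓ Subgroup.centralizer (E₃ : Set G) : Subgroup G) : Set G) := by
  obtain ⟨-, -, h3⟩ := Cfsg.Agent.S1415.result hG M hM E hE
  obtain ⟨-, -, hEn⟩ := h3 E₃ hE₃
  exact le_normalizer_inf (hE.1.trans (le_normalizer_sigmaCore M)) (le_normalizer_centralizer hEn)

/-- **(g2)** the primes of `C_H(R)` lie in `σ(H) ∪ τ₁(M)`. -/
theorem primes_centralizer_right (hG : IsMinSimpleOddOrder G) (hC1 : Cfsg.Agent.Lib.Helper19.BG14C.C1 G) (hM : IsCoatom M)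
    (hE : IsComplIn E (sigmaCore M) M) (hE₃ : IsPiHallOf (tau3 M) E₃ E) (hE₃1 : E₃ ≠ ⊥)
    (hD : sigmaCore M ⊓ Subgroup.centralizer (E₃ : Set G) ≠ ⊥)
    (hPE₃ : P ≤ E₃) (hP : (Nat.card P).Prime) (hH : IsCoatom H)
    (hNH : Subgroup.normalizer (P : Set G) ≤ H)
    (hRE : R ≤ E) (hr : Nat.card R ∈ tau1 M)
    (hRP : ¬ R ≤ Subgroup.centralizer (P : Set G))
    (hs1 : Nat.card R ∉ sigma H)
    (hs3 : ∀ q : ℕ, q.Prime →
      q ∣ Nat.card ↥(sigmaCore M ⊓ Subgroup.centralizer (E₃ : Set G)) → q ∈ tau3 H)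
    (hs4 : (sigmaCore M ⊓ Subgroup.centralizer (E₃ : Set G)) ⊓
      Subgroup.centralizer (R : Set G) = ⊥) :
    (∀ X : Subgroup G, X ≤ H ⊓ Subgroup.centralizer (R : Set G) → ∀ t : ℕ, t.Prime →
      t ∣ Nat.card X → t ∈ sigma H ∨ t ∈ tau1 M) ∧
    piCoreOf (beta H) H ⊓ Subgroup.centralizer (R : Set G) ≠ ⊥ := by
  have hEH : E ≤ H := compl_le hG hM hE hE₃ hPE₃ hNH
  have hDH := D_le (M := M) hPE₃ hNH
  have hRD := hRE.trans (le_normalizer_D hG hM hE hE₃)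
  have hDeq := sigmaCore_inf_eq hG hM hE hE₃ hPE₃ hP hH hNH
  -- the complement `E_H ⊇ D R`
  have hcop : (Nat.card ↥((sigmaCore M ⊓ Subgroup.centralizer (E₃ : Set G)) ⊔ R)).Coprime
      (Nat.card (sigmaCore H)) := by
    apply coprime_card_sigmaCore_of hG hH
    intro q hq hd
    have h1 := hd.trans (Cfsg.Agent.Lib.Helper9.card_sup_dvd_of_le_normalizer hRD)
    rcases (Nat.Prime.dvd_mul hq).mp h1 with h | h
    · exact (D_primes hG hM hE hE₃ hPE₃ hP hH hNH q hq h).2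
    · have : q = Nat.card R := (Nat.prime_dvd_prime_iff_eq hq hr.1).mp h
      rw [this]
      exact hs1
  obtain ⟨EH, hEHc, hDREH⟩ := exists_isComplIn_sigmaCore_ge hG hH
    (sup_le hDH (hRE.trans hEH)) hcop
  have hDEH : sigmaCore M ⊓ Subgroup.centralizer (E₃ : Set G) ≤ EH := le_sup_left.trans hDREH
  have hREH : R ≤ EH := le_sup_right.trans hDREH
  obtain ⟨Xz, hXzD, hXz⟩ := exists_le_card_prime hD
  have hq3 : Nat.card Xz ∈ tau3 H := hs3 _ hXz (Subgroup.card_dvd_of_le hXzD)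
  obtain ⟨EH₃, hEH₃⟩ := exists_isPiHallOf hG (ne_top_of_le_isCoatom hH hEHc.1) (tau3 H)
  obtain ⟨hXzEH₃, hEHn, hEHM, hPc, -⟩ := caseII_of_tau3 hG hC1 hM hE hE₃ hD hPE₃ hP hH hNH
    hXzD hXz hq3 hEHc hEH₃ (hXzD.trans hDEH)
  refine ⟨?_, ?_⟩
  · intro X hX t ht htd
    by_cases hσ : t ∈ sigma H
    · exact Or.inl hσ
    right
    haveI : Fact t.Prime := ⟨ht⟩
    obtain ⟨x, hx⟩ := exists_prime_orderOf_dvd_card' (G := ↥X) t htd
    have hxo : orderOf (x : G) = t := by rw [Subgroup.orderOf_coe]; exact hx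
    have hxH : (x : G) ∈ H := (hX x.2).1
    have hxR : (x : G) ∈ Subgroup.centralizer (R : Set G) := (hX x.2).2
    obtain ⟨eH, heH, sH, hsH, hxes⟩ :=
      factor_centralizer hEHc (le_normalizer_sigmaCore H) hREH hxH hxR
    have hxt : (eH * sH) ^ t = 1 := by rw [← hxes, ← hxo]; exact pow_orderOf_eq_one _
    have heHt : eH ^ t = 1 :=
      pow_eq_one_of_mul hEHc (le_normalizer_sigmaCore H) heH.1 hsH.1 hxt
    have heH1 : eH ≠ 1 := by
      intro h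
      apply hσ
      rw [h, one_mul] at hxes
      apply mem_sigma_of_dvd_card_sigmaCore hG hH ht
      rw [← hxo, hxes]
      exact Subgroup.orderOf_dvd_natCard _ hsH.1
    -- factor `eH` in `M`
    obtain ⟨e, he, s, hs, hees⟩ :=
      factor_centralizer hE (le_normalizer_sigmaCore M) hRE (hEHM heH.1) heH.2
    have hsH' : s ∈ H := by
      have h1 : s = e⁻¹ * eH := by rw [hees]; group
      rw [h1]
      exact H.mul_mem (H.inv_mem (hEH he.1)) (hEHc.1 heH.1)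
    have hs1' : s = 1 := by
      have h1 : s ∈ (sigmaCore M ⊓ Subgroup.centralizer (E₃ : Set G)) ⊓
          Subgroup.centralizer (R : Set G) := by
        refine Subgroup.mem_inf.mpr ⟨?_, hs.2⟩
        rw [← hDeq]
        exact Subgroup.mem_inf.mpr ⟨hs.1, hsH'⟩
      rw [hs4, Subgroup.mem_bot] at h1
      exact h1
    rw [hs1', mul_one] at hees
    rw [hees] at heHt heH1
    exact (tau1_of_mem_centralizer hG hM hE hE₃ hE₃1 hD hPE₃ hP hRE hr hRP ht he heH1 heHt).1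
  · -- `C_{H_β}(R) ≠ 1` by `frob_fixed` with `K = Xz`
    haveI : Fact (Nat.card Xz).Prime := ⟨hXz⟩
    haveI : Fact (Nat.card R).Prime := ⟨hr.1⟩
    obtain ⟨-, -, h3⟩ := Cfsg.Agent.S1415.result hG H hH EH hEHc
    obtain ⟨-, hEH₃E', -⟩ := h3 EH₃ hEH₃
    have hXzH' : Xz ≤ ⁅H, H⁆ :=
      (hXzEH₃.trans hEH₃E').trans (Subgroup.commutator_mono hEHc.1 hEHc.1)
    have hfpf : Xz ⊓ Subgroup.centralizer (R : Set G) = ⊥ := by
      rw [eq_bot_iff, ← hs4]
      exact inf_le_inf_right _ hXzD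
    exact (Cfsg.Agent.Lib.Helper21.BG1430.frob_fixed hG hH rfl rfl hXzH' (hRE.trans hEH)
      (D_primes hG hM hE hE₃ hPE₃ hP hH hNH _ hXz (Subgroup.card_dvd_of_le hXzD)).2 hs1
      (hREH.trans hEHn) hfpf
      (not_sigmaCore_le_centralizer hG hH hEHc hEH₃ hXzEH₃ hXz)).1

/-- **(II-α) is impossible**, modulo Step 3. -/
theorem noAlpha_of_step3 (hG : IsMinSimpleOddOrder G) (hS3 : Step3 G) :
    Cfsg.Agent.Lib.Helper10.BG.NoAlpha G := by
  intro M E E₁ E₃ hM hE hE₁ hE₃ hE₃1 hD R hRE₁ hR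
  by_contra hcon
  have hC1 : Cfsg.Agent.Lib.Helper19.BG14C.C1 G := Cfsg.Agent.Lib.Helper25.BG136.c1 hG
  have hRE : R ≤ E := hRE₁.trans hE₁.1
  have hr : Nat.card R ∈ tau1 M := hE₁.2.1 _ hR (Subgroup.card_dvd_of_le hRE₁)
  obtain ⟨P, hPE₃, hP⟩ := exists_le_card_prime hE₃1
  have hRP : ¬ R ≤ Subgroup.centralizer (P : Set G) := fun hc =>
    hcon (le_centralizer_tau3_of_centralize hG hM hE hE₃ hr hRE rfl hPE₃ hP hc)
  obtain ⟨H, hH, hNH⟩ := exists_coatom_normalizer_ge hG hP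
  haveI : Fact (Nat.card R).Prime := ⟨hR⟩
  haveI : Fact (Nat.card P).Prime := ⟨hP⟩
  have hs1 := Cfsg.Agent.Lib.Helper25.BG14A1.step1 hG hC1 hM hE hE₃ hPE₃ hP hH hNH hRE hr hRP
  have hs2 := Cfsg.Agent.Lib.Helper25.BG14A1.step2 hG hC1 hM hE hE₃ hD hPE₃ hP hH hNH hRE hr hRP
  have hs3 := hS3 M E E₃ P H R hM hE hE₃ hD hPE₃ hP hH hNH hRE hr hRP hs1 hs2
  have hs4 := Cfsg.Agent.Lib.Helper29.BG1430Asm.step4' hG hM hE hE₃ hD hPE₃ hP hH hNH hE₁ hRE₁ hR
    hs1 hs2 hs3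
  have hEH : E ≤ H := compl_le hG hM hE hE₃ hPE₃ hNH
  obtain ⟨h2, hYH⟩ := primes_centralizer_right hG hC1 hM hE hE₃ hE₃1 hD hPE₃ hP hH hNH hRE hr hRP
    hs1 hs3 hs4
  have h1 := primes_centralizer_left hG hC1 hM hE hE₃ hE₃1 hD hPE₃ hP hH hNH hRE hr hRP
  obtain ⟨hcyc, hE₃E', hEn⟩ := (Cfsg.Agent.S1415.result hG M hM E hE).2.2 E₃ hE₃
  have hPM' : P ≤ ⁅M, M⁆ :=
    (hPE₃.trans hE₃E').trans (Subgroup.commutator_mono hE.1 hE.1)
  have hp3 : Nat.card P ∈ tau3 M := hE₃.2.1 _ hP (Subgroup.card_dvd_of_le hPE₃)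
  have hfpf : P ⊓ Subgroup.centralizer (R : Set G) = ⊥ := by
    rw [eq_bot_iff]
    intro k hk
    rw [Subgroup.mem_bot]
    by_contra hk1
    obtain ⟨ρ, hρ1⟩ := (Subgroup.ne_bot_iff_exists_ne_one).mp
      (ne_bot_of_card_prime (X := R) rfl)
    apply hk1
    apply fpf_of_not_centralize hP hR hRP (ρ : G) ρ.2 (fun h => hρ1 (Subtype.ext h)) k hk.1
    exact Subgroup.mem_centralizer_iff.mp hk.2 (ρ : G) ρ.2
  have hYM := (Cfsg.Agent.Lib.Helper21.BG1430.frob_fixed hG hM rfl rfl hPM' (hRE.trans hE.1)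
    hp3.2.1 hr.2.1 (hRE.trans (le_normalizer_of_le_cyclic hEn hcyc hPE₃)) hfpf
    (not_sigmaCore_le_centralizer hG hM hE hE₃ hPE₃ hP)).1
  exact Cfsg.Agent.Lib.Helper19.BG14E.false_of_xi hG hM hH
    (not_conj hG hM hE hE₃ hPE₃ hP hH hNH) rfl (hRE.trans hE.1) (hRE.trans hEH) hr hs2 hYM hYH
    h1 h2

/-- **(II-α) is impossible** (B & G 13.7, last case): every subgroup of prime order of `E₁`
centralizes `E₃` when `C_{M_σ}(E₃) ≠ 1`. -/
theorem noAlpha (hG : IsMinSimpleOddOrder G) : Cfsg.Agent.Lib.Helper10.BG.NoAlpha G :=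
  noAlpha_of_step3 hG (fun M E E₃ P H R hM hE hE₃ hD hPE₃ hP hH hNH hRE hr hRP hs1 hs2 =>
    Cfsg.Agent.Lib.Helper9.BG1430a.step3 hG (Cfsg.Agent.Lib.Helper25.BG136.c1 hG) hM hE hE₃ hD
      hPE₃ hP hH hNH hRE hr hRP hs1 hs2)

end Main

end Cfsg.Agent.Lib.Helper19.BG14F
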