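import Cfsg.Agent.Lib.Helper18.HoloDefs
import Cfsg.Agent.Lib.Helper9.StemTwoGen
import Cfsg.Agent.Lib.Helper17.Sz8S1
import Cfsg.Agent.H5.StemLift

/-!
# S2046 piece [T5] (helper19, for the architect helper18)

`not_dvd_card_ker_of_class_two_inverted`: if a subgroup `⟨a, b⟩` of `G` of index prime to the odd prime `p` has
class two (`z = ⁅a, b⁆ ≠ 1` commutes with `a` and `b`), `a ^ p = b ^ p = 1`, and an element `j` inverts both `a`
and `b`, then `p` does not divide the order of the kernel of a finite stem extension of `G`.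
-/

set_option autoImplicit false

namespace Cfsg.Agent.Lib.Helper18.HSMult

open Cfsg
open scoped commutatorElement

namespace Helper19

variable {Γ : Type*} [Group Γ]

/-- central factors drop out of a commutator -/
theorem comm_mul_central (u v k1 k2 : Γ) (h1 : k1 ∈ Subgroup.center Γ)
    (h2 : k2 ∈ Subgroup.center Γ) : ⁅u * k1, v * k2⁆ = ⁅u, v⁆ := by
  have e1 : ∀ g, g * k1 = k1 * g := Subgroup.mem_center_iff.mp h1
  have e2 : ∀ g, g * k2 = k2 * g := Subgroup.mem_center_iff.mp h2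
  rw [commutatorElement_def, commutatorElement_def]
  calc u * k1 * (v * k2) * (u * k1)⁻¹ * (v * k2)⁻¹
      = u * (k1 * (v * k2 * k1⁻¹)) * u⁻¹ * k2⁻¹ * v⁻¹ := by group
    _ = u * ((v * k2 * k1⁻¹) * k1) * u⁻¹ * k2⁻¹ * v⁻¹ := by rw [(e1 (v * k2 * k1⁻¹))]
    _ = u * v * (k2 * u⁻¹) * k2⁻¹ * v⁻¹ := by group
    _ = u * v * (u⁻¹ * k2) * k2⁻¹ * v⁻¹ := by rw [← e2 u⁻¹]
    _ = u * v * u⁻¹ * v⁻¹ := by group

/-- a central commutator is multiplicative in the second argument -/
theorem comm_pow_of_central (u v : Γ) (h : ⁅u, v⁆ ∈ Subgroup.center Γ) (n : ℕ) :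
    ⁅u, v ^ n⁆ = ⁅u, v⁆ ^ n := by
  have h1 : u * v * u⁻¹ = ⁅u, v⁆ * v := by
    rw [commutatorElement_def]; group
  have h2 : u * v ^ n * u⁻¹ = (⁅u, v⁆ * v) ^ n := by
    rw [← h1, conj_pow]
  have hc : Commute ⁅u, v⁆ v := (Subgroup.mem_center_iff.mp h v).symm
  rw [hc.mul_pow] at h2
  rw [commutatorElement_def, h2, mul_inv_cancel_right]

/-- `⁅u, v⁻¹⁆` when `⁅u, v⁆` is central -/
theorem comm_inv_of_central (u v : Γ) (h : ⁅u, v⁆ ∈ Subgroup.center Γ) :
    ⁅u, v⁻¹⁆ = (⁅u, v⁆)⁻¹ := by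
  have h1 : ⁅u, v⁻¹⁆ = v⁻¹ * (⁅u, v⁆)⁻¹ * v := by
    rw [commutatorElement_def, commutatorElement_def]; group
  have h2 := Subgroup.mem_center_iff.mp (Subgroup.inv_mem _ h) v⁻¹
  rw [h1, h2, inv_mul_cancel_right]

/-- in a group generated by `S`, with `c` central and the commutators of the elements of `S` in `⟨c⟩`, all
commutators lie in `⟨c⟩` -/
theorem comm_mem_zpowers_of_gens {Δ : Type*} [Group Δ] (S : Set Δ) (hS : Subgroup.closure S = ⊤)
    (c : Δ) (hc : c ∈ Subgroup.center Δ)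
    (hcomm : ∀ u ∈ S, ∀ v ∈ S, ⁅u, v⁆ ∈ Subgroup.zpowers c) (g h : Δ) :
    ⁅g, h⁆ ∈ Subgroup.zpowers c := by
  have hCle : Subgroup.zpowers c ≤ Subgroup.center Δ := by
    rw [Subgroup.zpowers_le]
    exact hc
  have hCn : (Subgroup.zpowers c).Normal :=
    ⟨fun n hn t => by
      have := Subgroup.mem_center_iff.mp (hCle hn) t
      rw [this, mul_inv_cancel_right]
      exact hn⟩
  let π := QuotientGroup.mk' (Subgroup.zpowers c)
  have hcm : ∀ u ∈ π '' S, ∀ v ∈ π '' S, u * v = v * u := by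
    rintro _ ⟨u, hu, rfl⟩ _ ⟨v, hv, rfl⟩
    have h1 : π ⁅u, v⁆ = 1 := (QuotientGroup.eq_one_iff _).mpr (hcomm u hu v hv)
    rw [commutatorElement_def, map_mul, map_mul, map_mul, map_inv, map_inv] at h1
    calc π u * π v = (π u * π v * (π u)⁻¹ * (π v)⁻¹) * (π v * π u) := by group
      _ = π v * π u := by rw [h1, one_mul]
  have hmc := Subgroup.isMulCommutative_closure hcm
  have hmem : ∀ t : Δ, π t ∈ Subgroup.closure (π '' S) := by
    intro t
    rw [← MonoidHom.map_closure, hS]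
    exact ⟨t, Subgroup.mem_top t, rfl⟩
  have h1 : π g * π h = π h * π g := by
    have := hmc.is_comm.comm ⟨π g, hmem g⟩ ⟨π h, hmem h⟩
    exact congrArg Subtype.val this
  have h2 : π ⁅g, h⁆ = 1 := by
    show π (g * h * g⁻¹ * h⁻¹) = 1
    rw [map_mul, map_mul, map_mul, map_inv, map_inv, h1]
    group
  exact (QuotientGroup.eq_one_iff _).mp h2

end Helper19

/-- [T5] the `p`-part of the kernel is trivial: a Sylow `p`-subgroup `⟨a, b⟩` of class 2 (`z = ⁅a,b⁆` central in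
it) and an element `j` inverting `a` and `b`. -/
theorem not_dvd_card_ker_of_class_two_inverted {Γ G : Type*} [Group Γ] [Group G] [Finite Γ] (σ : Γ →* G)
    (hσ : IsStemExtension σ) (p : ℕ) [Fact p.Prime] (hp2 : p ≠ 2) (a b j : G)
    (ha : a ^ p = 1) (hb : b ^ p = 1) (hza : ⁅a, b⁆ * a = a * ⁅a, b⁆) (hzb : ⁅a, b⁆ * b = b * ⁅a, b⁆)
    (hz : ⁅a, b⁆ ≠ 1) (hja : j * a * j⁻¹ = a⁻¹) (hjb : j * b * j⁻¹ = b⁻¹)
    (hidx : ¬ p ∣ (Subgroup.closure {a, b}).index) : ¬ p ∣ Nat.card σ.ker := by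
  intro hdvd
  have hp : p.Prime := Fact.out
  obtain ⟨x, hx⟩ := hσ.1 a
  obtain ⟨y, hy⟩ := hσ.1 b
  obtain ⟨t, ht⟩ := hσ.1 j
  have hcen := hσ.2.1
  have hker : ∀ g : Γ, σ g = 1 → g ∈ Subgroup.center Γ :=
    fun g hg => hcen (MonoidHom.mem_ker.mpr hg)
  obtain ⟨c, hc⟩ : ∃ c : Γ, c = ⁅x, y⁆ := ⟨_, rfl⟩
  have hσc : σ c = ⁅a, b⁆ := by rw [hc, map_commutatorElement, hx, hy]
  have hinvz : ⁅a⁻¹, b⁻¹⁆ = ⁅a, b⁆ := by
    calc ⁅a⁻¹, b⁻¹⁆ = (b * a)⁻¹ * (⁅a, b⁆ * b * a) := by
          rw [commutatorElement_def, commutatorElement_def]; group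
      _ = (b * a)⁻¹ * (b * a * ⁅a, b⁆) := by rw [hzb, mul_assoc b, hza, ← mul_assoc b]
      _ = ⁅a, b⁆ := by group
  -- the commutators `⁅c, x⁆`, `⁅c, y⁆` are trivial
  have key : ∀ (w : Γ) (e : G), σ w = e → e ^ p = 1 → ⁅a, b⁆ * e = e * ⁅a, b⁆ →
      j * e * j⁻¹ = e⁻¹ → ⁅c, w⁆ = 1 := by
    intro w e hw hep hze hje
    have hdk : ⁅c, w⁆ ∈ Subgroup.center Γ := by
      apply hker
      rw [map_commutatorElement, hσc, hw, commutatorElement_def, hze]
      group
    have hdp : ⁅c, w⁆ ^ p = 1 := by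
      rw [← Helper19.comm_pow_of_central c w hdk p]
      have hwp : w ^ p ∈ Subgroup.center Γ := by
        apply hker
        rw [map_pow, hw, hep]
      rw [commutatorElement_def, Subgroup.mem_center_iff.mp hwp c]
      group
    have hd2 : ⁅c, w⁆ ^ 2 = 1 := by
      have h1 : t * ⁅c, w⁆ * t⁻¹ = ⁅c, w⁆ := by
        rw [Subgroup.mem_center_iff.mp hdk t, mul_inv_cancel_right]
      have hk' : c⁻¹ * (t * c * t⁻¹) ∈ Subgroup.center Γ := by
        apply hker
        rw [map_mul, map_inv, map_mul, map_mul, map_inv, hσc, ht, conjugate_commutatorElement, hja,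
          hjb, hinvz, inv_mul_cancel]
      have hk1 : w * (t * w * t⁻¹) ∈ Subgroup.center Γ := by
        apply hker
        rw [map_mul, map_mul, map_mul, map_inv, hw, ht, hje, mul_inv_cancel]
      have h2 : t * ⁅c, w⁆ * t⁻¹ = ⁅c, w⁻¹⁆ := by
        rw [conjugate_commutatorElement]
        have e1 : t * c * t⁻¹ = c * (c⁻¹ * (t * c * t⁻¹)) := by group
        have e2 : t * w * t⁻¹ = w⁻¹ * (w * (t * w * t⁻¹)) := by group
        rw [e1, e2, Helper19.comm_mul_central _ _ _ _ hk' hk1]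
      rw [Helper19.comm_inv_of_central c w hdk, h1] at h2
      rw [pow_two]
      nth_rewrite 1 [h2]
      exact inv_mul_cancel _
    have hg : Nat.Coprime 2 p := (Nat.coprime_primes Nat.prime_two hp).mpr (Ne.symm hp2)
    have h3 := pow_gcd_eq_one.mpr ⟨hd2, hdp⟩
    rw [hg.gcd_eq_one, pow_one] at h3
    exact h3
  have hcx : c * x = x * c := commutatorElement_eq_one_iff_mul_comm.mp (key x a hx ha hza hja)
  have hcy : c * y = y * c := commutatorElement_eq_one_iff_mul_comm.mp (key y b hy hb hzb hjb)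
  -- `c ^ p = 1`
  have hcp : c ^ p = 1 := by
    have hxp : x ^ p ∈ Subgroup.center Γ := hker _ (by rw [map_pow, hx, ha])
    have h1 : y * x * y⁻¹ = c⁻¹ * x := by
      rw [hc, commutatorElement_def]; group
    have h2 : y * x ^ p * y⁻¹ = (c⁻¹ * x) ^ p := by
      rw [← h1, conj_pow]
    have hcomm : Commute c⁻¹ x := Commute.inv_left hcx
    rw [hcomm.mul_pow] at h2
    have h3 : y * x ^ p * y⁻¹ = x ^ p := by
      rw [Subgroup.mem_center_iff.mp hxp y, mul_inv_cancel_right]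
    rw [h3] at h2
    have h4 : c⁻¹ ^ p = 1 := mul_eq_right.mp h2.symm
    rwa [inv_pow, inv_eq_one] at h4
  -- the group `M` generated by the kernel and the two lifts; `c` is central in it
  obtain ⟨M, hM⟩ : ∃ M : Subgroup Γ, M = Subgroup.closure ((σ.ker : Set Γ) ∪ {x, y}) := ⟨_, rfl⟩
  have hxM : x ∈ M := by rw [hM]; exact Subgroup.subset_closure (Or.inr (Or.inl rfl))
  have hyM : y ∈ M := by rw [hM]; exact Subgroup.subset_closure (Or.inr (Or.inr rfl))
  have hcM : c ∈ M := by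
    rw [hc, commutatorElement_def]
    exact M.mul_mem (M.mul_mem (M.mul_mem hxM hyM) (M.inv_mem hxM)) (M.inv_mem hyM)
  have hMc : ∀ m ∈ M, m * c = c * m := by
    have hle : M ≤ Subgroup.centralizer {c} := by
      rw [hM, Subgroup.closure_le]
      intro g hg
      rw [SetLike.mem_coe, Subgroup.mem_centralizer_iff]
      intro h hh
      rw [Set.mem_singleton_iff] at hh
      rw [hh]
      rcases hg with hg | hg | hg
      · exact Subgroup.mem_center_iff.mp (hcen hg) c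
      · rw [hg]; exact hcx
      · rw [Set.mem_singleton_iff] at hg
        rw [hg]; exact hcy
    intro m hm
    exact (Subgroup.mem_centralizer_iff.mp (hle hm) c (Set.mem_singleton c)).symm
  -- all commutators of `M` lie in `⟨c⟩`
  have hcomm : ∀ g ∈ M, ∀ h ∈ M, ⁅g, h⁆ ∈ Subgroup.zpowers c := by
    intro g hg h hh
    have hzp : ∀ w : M, w ∈ Subgroup.zpowers (⟨c, hcM⟩ : M) ↔ (w : Γ) ∈ Subgroup.zpowers c := by
      intro w
      constructor
      · rintro ⟨n, hn⟩
        refine ⟨n, ?_⟩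
        have := congrArg Subtype.val hn
        simpa using this
      · rintro ⟨n, hn⟩
        refine ⟨n, Subtype.ext ?_⟩
        simpa using hn
    have hS : Subgroup.closure (((↑) : M → Γ) ⁻¹' ((σ.ker : Set Γ) ∪ {x, y})) = ⊤ := by
      subst hM
      exact Subgroup.closure_closure_coe_preimage
    have hc' : (⟨c, hcM⟩ : M) ∈ Subgroup.center M := by
      rw [Subgroup.mem_center_iff]
      intro m
      exact Subtype.ext (hMc m.1 m.2)
    have hgen : ∀ u ∈ (((↑) : M → Γ) ⁻¹' ((σ.ker : Set Γ) ∪ {x, y})),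
        ∀ v ∈ (((↑) : M → Γ) ⁻¹' ((σ.ker : Set Γ) ∪ {x, y})),
        ⁅u, v⁆ ∈ Subgroup.zpowers (⟨c, hcM⟩ : M) := by
      intro u hu v hv
      rw [hzp]
      show ⁅(u : Γ), (v : Γ)⁆ ∈ Subgroup.zpowers c
      have hu' : (u : Γ) ∈ (σ.ker : Set Γ) ∪ {x, y} := hu
      have hv' : (v : Γ) ∈ (σ.ker : Set Γ) ∪ {x, y} := hv
      rcases hu' with hu' | hu'
      · have : ⁅(u : Γ), (v : Γ)⁆ = 1 :=
          commutatorElement_eq_one_iff_mul_comm.mpr
            (Subgroup.mem_center_iff.mp (hcen hu') (v : Γ)).symm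
        rw [this]; exact Subgroup.one_mem _
      · rcases hv' with hv' | hv'
        · have : ⁅(u : Γ), (v : Γ)⁆ = 1 :=
            commutatorElement_eq_one_iff_mul_comm.mpr
              (Subgroup.mem_center_iff.mp (hcen hv') (u : Γ))
          rw [this]; exact Subgroup.one_mem _
        · rcases hu' with hu' | hu' <;> rcases hv' with hv' | hv'
          · rw [hu', hv', commutatorElement_self]; exact Subgroup.one_mem _
          · rw [Set.mem_singleton_iff] at hv'
            rw [hu', hv', ← hc]; exact Subgroup.mem_zpowers c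
          · rw [Set.mem_singleton_iff] at hu'
            rw [hu', hv', ← commutatorElement_inv, ← hc]
            exact Subgroup.inv_mem _ (Subgroup.mem_zpowers c)
          · rw [Set.mem_singleton_iff] at hu' hv'
            rw [hu', hv', commutatorElement_self]; exact Subgroup.one_mem _
    have h1 := Helper19.comm_mem_zpowers_of_gens _ hS _ hc' hgen ⟨g, hg⟩ ⟨h, hh⟩
    rw [hzp] at h1
    exact h1
  -- transfer
  obtain ⟨H, hH⟩ : ∃ H : Subgroup Γ, H = (Subgroup.closure {a, b}).comap σ := ⟨_, rfl⟩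
  have hHM : H ≤ M := by
    rw [hH, hM]
    exact Cfsg.Agent.Lib.Helper9.StemTwoGen.comap_le_closure σ a b x y hx hy
  have hHidx : H.index = (Subgroup.closure {a, b}).index := by
    rw [hH]
    exact Subgroup.index_comap_of_surjective _ hσ.1
  have hzp : ⁅a, b⁆ ^ p = 1 := by
    rw [← hσc, ← map_pow, hcp, map_one]
  have ho : orderOf ⁅a, b⁆ = p := by
    rcases (Nat.dvd_prime hp).mp (orderOf_dvd_of_pow_eq_one hzp) with h | h
    · exact absurd (orderOf_eq_one_iff.mp h) hz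
    · exact h
  have hpow : ∀ k ∈ σ.ker, k ^ H.index = 1 := by
    intro k hk
    obtain ⟨hkH, hkc⟩ := Cfsg.Agent.Lib.Helper12.Schur.pow_index_mem_commutator H (hcen hk)
      (hσ.2.2 hk)
    have hle : commutator H ≤ (Subgroup.zpowers c).comap H.subtype := by
      rw [commutator_def, Subgroup.commutator_le]
      intro g _ h _
      rw [Subgroup.mem_comap]
      exact hcomm g.1 (hHM g.2) h.1 (hHM h.2)
    have h1 : k ^ H.index ∈ Subgroup.zpowers c := hle hkc
    obtain ⟨n, hn⟩ := h1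
    have hn' : c ^ n = k ^ H.index := hn
    have h2 : ⁅a, b⁆ ^ n = 1 := by
      have := congrArg σ hn'
      rw [map_zpow, hσc, map_pow, MonoidHom.mem_ker.mp hk, one_pow] at this
      exact this
    have h3 : (p : ℤ) ∣ n := by
      rw [← ho]
      exact orderOf_dvd_iff_zpow_eq_one.mpr h2
    obtain ⟨m, rfl⟩ := h3
    rw [← hn', zpow_mul, zpow_natCast, hcp, one_zpow]
  obtain ⟨k, hk⟩ := exists_prime_orderOf_dvd_card' p hdvd
  have h1 : orderOf ((k : σ.ker) : Γ) = p := by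
    rw [Subgroup.orderOf_coe]; exact hk
  have h2 : orderOf ((k : σ.ker) : Γ) ∣ H.index := orderOf_dvd_of_pow_eq_one (hpow _ k.2)
  rw [h1, hHidx] at h2
  exact hidx h2

end Cfsg.Agent.Lib.Helper18.HSMult
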