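import Mathlib
import Cfsg.Agent.Lib.Helper16.UnitaryCount4
import Cfsg.Prelude.Def_GeometricClasses

/-!
# Pairs of complementary totally singular subspaces of a unitary space: basic facts

`TSPair q D0 D1`: both subspaces are totally singular for the standard Hermitian form and they span.
We prove: they are disjoint, the form pairs them perfectly, unitary elements of order prime to the
characteristic fixing both have even-dimensional eigenspaces (for eigenvalues of norm one), and
elements interchanging them have eigenspaces meeting `D0` trivially.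
-/

set_option autoImplicit false
set_option linter.unusedSectionVars false
set_option linter.unusedVariables false

namespace Cfsg.Agent.Lib.Helper19.PSU

open Matrix Module Cfsg Cfsg.Agent.S0779 Cfsg.Agent.Lib.Helper6

section basic
variable {F : Type*} [Field F] [Fintype F] {q n : ℕ}

local notation "hh" => Cfsg.hermForm n F q

theorem herm_sub_left (x y z : Fin n → F) : hh (x - y) z = hh x z - hh y z := by
  have h := herm_add_left (q := q) (x - y) y z
  rw [sub_add_cancel] at h
  rw [h, add_sub_cancel_right]

theorem herm_sub_right (hF : Fintype.card F = q ^ 2) (x y z : Fin n → F) :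
    hh x (y - z) = hh x y - hh x z := by
  have h := herm_add_right hF x (y - z) z
  rw [sub_add_cancel] at h
  rw [h, add_sub_cancel_right]

theorem herm_sum_left {ι : Type*} (s : Finset ι) (f : ι → (Fin n → F)) (z : Fin n → F) :
    hh (∑ i ∈ s, f i) z = ∑ i ∈ s, hh (f i) z := by
  classical
  induction s using Finset.induction_on with
  | empty => simp [herm_zero_left]
  | insert a s ha ih => rw [Finset.sum_insert ha, Finset.sum_insert ha, herm_add_left, ih]

/-- the right perpendicular space of a vector, `{u | h(w, u) = 0}` -/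
def perpR (hF : Fintype.card F = q ^ 2) (w : Fin n → F) : Submodule F (Fin n → F) where
  carrier := {u | hh w u = 0}
  add_mem' := by
    intro a b ha hb
    change hh w (a + b) = 0
    rw [herm_add_right hF, ha, hb, add_zero]
  zero_mem' := herm_zero_right hF w
  smul_mem' := by
    intro c a ha
    change hh w (c • a) = 0
    rw [herm_smul_right, ha, mul_zero]

theorem mem_perpR (hF : Fintype.card F = q ^ 2) (w u : Fin n → F) :
    u ∈ perpR hF w ↔ hh w u = 0 := Iff.rfl

/-- the left perpendicular space of a vector, `{u | h(u, w) = 0}` -/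
def perpL (w : Fin n → F) : Submodule F (Fin n → F) where
  carrier := {u | hh u w = 0}
  add_mem' := by
    intro a b ha hb
    change hh (a + b) w = 0
    rw [herm_add_left, ha, hb, add_zero]
  zero_mem' := herm_zero_left w
  smul_mem' := by
    intro c a ha
    change hh (c • a) w = 0
    rw [herm_smul_left, ha, mul_zero]

theorem mem_perpL (w u : Fin n → F) : u ∈ perpL (q := q) w ↔ hh u w = 0 := Iff.rfl

/-- if the form pairs `B` into `A` injectively then `dim B ≤ dim A` -/
theorem finrank_le_of_pairing (hF : Fintype.card F = q ^ 2) (A B : Submodule F (Fin n → F))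
    (hinj : ∀ w ∈ B, (∀ u ∈ A, hh w u = 0) → w = 0) : finrank F B ≤ finrank F A := by
  classical
  let b := Module.finBasis F A
  let φ : B →ₗ[F] (Fin (finrank F A) → F) :=
    { toFun := fun w i => hh (w : Fin n → F) (b i : Fin n → F)
      map_add' := by
        intro x y
        funext i
        simp only [Submodule.coe_add, Pi.add_apply]
        exact herm_add_left _ _ _
      map_smul' := by
        intro c x
        funext i
        simp only [Submodule.coe_smul, Pi.smul_apply, RingHom.id_apply, smul_eq_mul]
        exact herm_smul_left _ _ _ }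
  have hφ : Function.Injective φ := by
    rw [← LinearMap.ker_eq_bot, LinearMap.ker_eq_bot']
    intro w hw
    apply Subtype.ext
    apply hinj w.1 w.2
    intro u hu
    have hle : A ≤ perpR hF (w : Fin n → F) := by
      intro x hx
      have hx' := b.sum_repr ⟨x, hx⟩
      have hx2 : x = ∑ i, (b.repr ⟨x, hx⟩ i) • (b i : Fin n → F) := by
        have h3 := congrArg Subtype.val hx'
        rw [Submodule.coe_sum] at h3
        simp only [Submodule.coe_smul] at h3
        exact h3.symm
      rw [hx2]
      exact Submodule.sum_mem _ (fun i _ => Submodule.smul_mem _ _ (congrFun hw i))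
    exact hle hu
  have h := LinearMap.finrank_le_finrank_of_injective hφ
  rwa [Module.finrank_fin_fun] at h

end basic

section pair
variable {F : Type*} [Field F] [Fintype F] {q n : ℕ}

local notation "hh" => Cfsg.hermForm n F q

/-- a pair of totally singular subspaces spanning the space -/
structure TSPair (q : ℕ) (D0 D1 : Submodule F (Fin n → F)) : Prop where
  ts0 : ∀ u ∈ D0, ∀ v ∈ D0, Cfsg.hermForm n F q u v = 0
  ts1 : ∀ u ∈ D1, ∀ v ∈ D1, Cfsg.hermForm n F q u v = 0
  sup : D0 ⊔ D1 = ⊤

variable {D0 D1 : Submodule F (Fin n → F)}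

theorem TSPair.symm (h : TSPair q D0 D1) : TSPair q D1 D0 :=
  ⟨h.ts1, h.ts0, by rw [sup_comm]; exact h.sup⟩

theorem TSPair.dec (h : TSPair q D0 D1) (x : Fin n → F) : ∃ a ∈ D0, ∃ b ∈ D1, a + b = x := by
  have hx : x ∈ D0 ⊔ D1 := by rw [h.sup]; exact Submodule.mem_top
  exact Submodule.mem_sup.mp hx

/-- the pairing between `D1` and `D0` is non-degenerate -/
theorem TSPair.inj (hF : Fintype.card F = q ^ 2) (h : TSPair q D0 D1) (w : Fin n → F) (hw : w ∈ D1)
    (hz : ∀ u ∈ D0, hh w u = 0) : w = 0 := by
  apply herm_nondeg hF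
  intro y
  obtain ⟨a, ha, b, hb, rfl⟩ := h.dec y
  rw [herm_add_right hF, hz a ha, h.ts1 w hw b hb, add_zero]

theorem TSPair.inj' (hF : Fintype.card F = q ^ 2) (h : TSPair q D0 D1) (w : Fin n → F)
    (hw : w ∈ D1) (hz : ∀ u ∈ D0, hh u w = 0) : w = 0 :=
  h.inj hF w hw (fun u hu => herm_swap_zero hF (hz u hu))

theorem TSPair.disjoint (hF : Fintype.card F = q ^ 2) (h : TSPair q D0 D1) : D0 ⊓ D1 = ⊥ := by
  rw [Submodule.eq_bot_iff]
  rintro x ⟨hx0, hx1⟩
  exact h.inj hF x hx1 (fun u hu => h.ts0 x hx0 u hu)

theorem TSPair.finrank_eq (hF : Fintype.card F = q ^ 2) (h : TSPair q D0 D1) :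
    finrank F D0 = finrank F D1 :=
  le_antisymm (finrank_le_of_pairing hF D1 D0 (fun w hw hz => h.symm.inj hF w hw hz))
    (finrank_le_of_pairing hF D0 D1 (fun w hw hz => h.inj hF w hw hz))

theorem TSPair.finrank_add (hF : Fintype.card F = q ^ 2) (h : TSPair q D0 D1) :
    finrank F D0 + finrank F D1 = n := by
  have h1 := Submodule.finrank_sup_add_finrank_inf_eq D0 D1
  rw [h.sup, h.disjoint hF, finrank_bot, finrank_top, add_zero, Module.finrank_fin_fun] at h1
  exact h1.symm

theorem TSPair.finrank_left (hF : Fintype.card F = q ^ 2) (h : TSPair q D0 D1) :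
    2 * finrank F D0 = n := by
  have h1 := h.finrank_add hF
  have h2 := h.finrank_eq hF
  omega

/-- uniqueness of the decomposition -/
theorem TSPair.eq_of_add_eq (hF : Fintype.card F = q ^ 2) (h : TSPair q D0 D1)
    {a a' b b' : Fin n → F} (ha : a ∈ D0) (ha' : a' ∈ D0) (hb : b ∈ D1) (hb' : b' ∈ D1)
    (hab : a + b = a' + b') : a = a' ∧ b = b' := by
  have h1 : a - a' = b' - b := by
    rw [sub_eq_sub_iff_add_eq_add, hab, add_comm]
  have h2 : a - a' ∈ D0 ⊓ D1 := ⟨D0.sub_mem ha ha', by rw [h1]; exact D1.sub_mem hb' hb⟩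
  rw [h.disjoint hF, Submodule.mem_bot] at h2
  refine ⟨sub_eq_zero.mp h2, ?_⟩
  rw [h2] at h1
  exact (sub_eq_zero.mp h1.symm).symm

end pair

end Cfsg.Agent.Lib.Helper19.PSU
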