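import Mathlib
import Cfsg.Agent.Lib.Helper19.PSUa

/-!
# Eigenspaces of unitary elements stabilising a pair of complementary totally singular subspaces
-/

set_option autoImplicit false
set_option linter.unusedSectionVars false
set_option linter.unusedVariables false

namespace Cfsg.Agent.Lib.Helper19.PSU

open Matrix Module Cfsg Cfsg.Agent.S0779 Cfsg.Agent.Lib.Helper6

section eig
variable {F : Type*} [Field F] [Fintype F] {q n : ℕ}

local notation "hh" => Cfsg.hermForm n F q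

/-- the eigenspace of a matrix -/
def eig (y : Matrix (Fin n) (Fin n) F) (c : F) : Submodule F (Fin n → F) :=
  LinearMap.ker (Matrix.toLin' (y - c • (1 : Matrix (Fin n) (Fin n) F)))

theorem mem_eig (y : Matrix (Fin n) (Fin n) F) (c : F) (v : Fin n → F) :
    v ∈ eig y c ↔ y *ᵥ v = c • v := by
  unfold eig
  rw [LinearMap.mem_ker, Matrix.toLin'_apply, Matrix.sub_mulVec, Matrix.smul_mulVec,
    Matrix.one_mulVec, sub_eq_zero]

/-- eigenspaces of conjugate matrices have the same dimension -/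
theorem finrank_eig_conj (y g g' : Matrix (Fin n) (Fin n) F) (h1 : g' * g = 1) (h2 : g * g' = 1)
    (c : F) : finrank F (eig (g' * y * g) c) = finrank F (eig y c) := by
  let e : (Fin n → F) ≃ₗ[F] (Fin n → F) :=
    { Matrix.toLin' g with
      invFun := Matrix.toLin' g'
      left_inv := by
        intro v
        change Matrix.toLin' g' (Matrix.toLin' g v) = v
        rw [Matrix.toLin'_apply, Matrix.toLin'_apply, Matrix.mulVec_mulVec, h1, Matrix.one_mulVec]
      right_inv := by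
        intro v
        change Matrix.toLin' g (Matrix.toLin' g' v) = v
        rw [Matrix.toLin'_apply, Matrix.toLin'_apply, Matrix.mulVec_mulVec, h2, Matrix.one_mulVec] }
  have he : ∀ v, e v = g *ᵥ v := fun v => Matrix.toLin'_apply g v
  have hmap : (eig (g' * y * g) c).map (e : (Fin n → F) →ₗ[F] (Fin n → F)) = eig y c := by
    ext v
    rw [Submodule.mem_map, mem_eig]
    constructor
    · rintro ⟨u, hu, rfl⟩
      rw [mem_eig] at hu
      change y *ᵥ (e u) = c • e u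
      rw [he]
      have h3 : g *ᵥ ((g' * y * g) *ᵥ u) = g *ᵥ (c • u) := by rw [hu]
      rw [Matrix.mulVec_mulVec, ← Matrix.mul_assoc, ← Matrix.mul_assoc, h2, Matrix.one_mul,
        ← Matrix.mulVec_mulVec, Matrix.mulVec_smul] at h3
      exact h3
    · intro hv
      refine ⟨g' *ᵥ v, ?_, ?_⟩
      · rw [mem_eig, Matrix.mulVec_mulVec, Matrix.mul_assoc, Matrix.mul_assoc, h2, Matrix.mul_one,
          ← Matrix.mulVec_mulVec, hv, Matrix.mulVec_smul]
      · change e (g' *ᵥ v) = v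
        rw [he, Matrix.mulVec_mulVec, h2, Matrix.one_mulVec]
  rw [← hmap]
  exact (LinearEquiv.finrank_map_eq e _).symm

variable {D0 D1 : Submodule F (Fin n → F)}

/-- an eigenspace of an element fixing both members of the pair splits -/
theorem finrank_eig_split (hF : Fintype.card F = q ^ 2) (h : TSPair q D0 D1)
    (y : Matrix (Fin n) (Fin n) F) (h0 : ∀ u ∈ D0, y *ᵥ u ∈ D0) (h1 : ∀ u ∈ D1, y *ᵥ u ∈ D1)
    (c : F) :
    finrank F (eig y c) = finrank F (eig y c ⊓ D0 : Submodule F (Fin n → F)) +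
      finrank F (eig y c ⊓ D1 : Submodule F (Fin n → F)) := by
  have hsup : (eig y c ⊓ D0) ⊔ (eig y c ⊓ D1) = eig y c := by
    apply le_antisymm
    · exact sup_le inf_le_left inf_le_left
    · intro v hv
      obtain ⟨a, ha, b, hb, rfl⟩ := h.dec v
      rw [mem_eig, Matrix.mulVec_add, smul_add] at hv
      obtain ⟨e1, e2⟩ := h.eq_of_add_eq hF (h0 a ha) (D0.smul_mem c ha) (h1 b hb)
        (D1.smul_mem c hb) hv
      apply Submodule.add_mem_sup
      · exact ⟨(mem_eig y c a).mpr e1, ha⟩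
      · exact ⟨(mem_eig y c b).mpr e2, hb⟩
  have hinf : (eig y c ⊓ D0) ⊓ (eig y c ⊓ D1) = ⊥ := by
    rw [Submodule.eq_bot_iff]
    rintro x ⟨⟨-, hx0⟩, ⟨-, hx1⟩⟩
    have : x ∈ D0 ⊓ D1 := ⟨hx0, hx1⟩
    rwa [h.disjoint hF, Submodule.mem_bot] at this
  have h3 := Submodule.finrank_sup_add_finrank_inf_eq (eig y c ⊓ D0) (eig y c ⊓ D1)
  rw [hsup, hinf, finrank_bot, add_zero] at h3
  exact h3

/-- the sum of the first `s` powers of `y` applied to `v` -/
def avg (y : Matrix (Fin n) (Fin n) F) (s : ℕ) (v : Fin n → F) : Fin n → F :=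
  ∑ i ∈ Finset.range s, (y ^ i) *ᵥ v

theorem avg_fixed (y : Matrix (Fin n) (Fin n) F) (s : ℕ) (hs : y ^ s = 1) (v : Fin n → F) :
    y *ᵥ avg y s v = avg y s v := by
  unfold avg
  rw [Matrix.mulVec_sum]
  have h1 : ∀ i ∈ Finset.range s, y *ᵥ ((y ^ i) *ᵥ v) = (y ^ (i + 1)) *ᵥ v := by
    intro i _
    rw [Matrix.mulVec_mulVec, ← pow_succ']
  rw [Finset.sum_congr rfl h1]
  rcases Nat.eq_zero_or_pos s with h0 | hpos
  · subst h0
    simp
  · obtain ⟨t, rfl⟩ : ∃ t, s = t + 1 := ⟨s - 1, by omega⟩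
    rw [Finset.sum_range_succ, Finset.sum_range_succ', hs, pow_zero]

theorem herm_pow_left (y : Matrix (Fin n) (Fin n) F)
    (hy : ∀ u v, hh (y *ᵥ u) (y *ᵥ v) = hh u v) (i : ℕ) (u v : Fin n → F) :
    hh ((y ^ i) *ᵥ u) ((y ^ i) *ᵥ v) = hh u v := by
  induction i with
  | zero => simp
  | succ k ih => rw [pow_succ', ← Matrix.mulVec_mulVec, ← Matrix.mulVec_mulVec, hy, ih]

theorem pow_mulVec_fixed (y : Matrix (Fin n) (Fin n) F) (w : Fin n → F) (hw : y *ᵥ w = w) (i : ℕ) :
    (y ^ i) *ᵥ w = w := by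
  induction i with
  | zero => simp
  | succ k ih => rw [pow_succ, ← Matrix.mulVec_mulVec, hw, ih]

/-- the fixed space of a semisimple unitary element fixing both members of the pair meets them in
subspaces paired non-degenerately -/
theorem fixed_pairing (hF : Fintype.card F = q ^ 2) (h : TSPair q D0 D1)
    (y : Matrix (Fin n) (Fin n) F) (hy : ∀ u v, hh (y *ᵥ u) (y *ᵥ v) = hh u v)
    (h0 : ∀ u ∈ D0, y *ᵥ u ∈ D0) (h1 : ∀ u ∈ D1, y *ᵥ u ∈ D1)
    (s : ℕ) (hsF : (s : F) ≠ 0) (hys : y ^ s = 1)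
    (w : Fin n → F) (hw : w ∈ eig y 1 ⊓ D1)
    (hz : ∀ u ∈ eig y 1 ⊓ D0, hh w u = 0) : w = 0 := by
  have hwfix : y *ᵥ w = w := by
    have := (mem_eig y 1 w).mp hw.1
    rwa [one_smul] at this
  apply herm_nondeg hF
  intro v
  apply herm_swap_zero hF
  -- `s * h(v, w) = h(avg v, w)`
  have h2 : (s : F) * hh v w = hh (avg y s v) w := by
    unfold avg
    rw [herm_sum_left]
    have h3 : ∀ i ∈ Finset.range s, hh ((y ^ i) *ᵥ v) w = hh v w := by
      intro i _
      have h4 := herm_pow_left y hy i v w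
      rwa [pow_mulVec_fixed y w hwfix i] at h4
    rw [Finset.sum_congr rfl h3, Finset.sum_const, Finset.card_range, nsmul_eq_mul]
  have h5 : avg y s v ∈ eig y 1 := by
    rw [mem_eig, one_smul]
    exact avg_fixed y s hys v
  obtain ⟨a, ha, b, hb, hab⟩ := h.dec (avg y s v)
  have h6 := h5
  rw [← hab, mem_eig, one_smul, Matrix.mulVec_add] at h6
  obtain ⟨e1, e2⟩ := h.eq_of_add_eq hF (h0 a ha) ha (h1 b hb) hb h6
  have ha' : a ∈ eig y 1 ⊓ D0 := ⟨(mem_eig y 1 a).mpr (by rw [one_smul]; exact e1), ha⟩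
  have h7 : hh (avg y s v) w = 0 := by
    rw [← hab, herm_add_left, herm_swap_zero hF (hz a ha'), h.ts1 b hb w hw.2, add_zero]
  rw [h7] at h2
  exact (mul_eq_zero.mp h2).resolve_left hsF

/-- **Parity.** A unitary element of order prime to the characteristic fixing both members of a pair
of complementary totally singular subspaces has an even-dimensional fixed space. -/
theorem even_finrank_fixed (hF : Fintype.card F = q ^ 2) (h : TSPair q D0 D1)
    (y : Matrix (Fin n) (Fin n) F) (hy : ∀ u v, hh (y *ᵥ u) (y *ᵥ v) = hh u v)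
    (h0 : ∀ u ∈ D0, y *ᵥ u ∈ D0) (h1 : ∀ u ∈ D1, y *ᵥ u ∈ D1)
    (s : ℕ) (hsF : (s : F) ≠ 0) (hys : y ^ s = 1) : Even (finrank F (eig y 1)) := by
  have e1 : finrank F (eig y 1 ⊓ D1 : Submodule F (Fin n → F)) ≤
      finrank F (eig y 1 ⊓ D0 : Submodule F (Fin n → F)) :=
    finrank_le_of_pairing hF _ _ (fun w hw hz => fixed_pairing hF h y hy h0 h1 s hsF hys w hw hz)
  have e2 : finrank F (eig y 1 ⊓ D0 : Submodule F (Fin n → F)) ≤
      finrank F (eig y 1 ⊓ D1 : Submodule F (Fin n → F)) :=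
    finrank_le_of_pairing hF _ _
      (fun w hw hz => fixed_pairing hF h.symm y hy h1 h0 s hsF hys w hw hz)
  rw [finrank_eig_split hF h y h0 h1 1, le_antisymm e1 e2]
  exact ⟨_, rfl⟩

/-- the same for an eigenvalue of norm one -/
theorem even_finrank_eig (hF : Fintype.card F = q ^ 2) (h : TSPair q D0 D1)
    (y : Matrix (Fin n) (Fin n) F) (hy : ∀ u v, hh (y *ᵥ u) (y *ᵥ v) = hh u v)
    (h0 : ∀ u ∈ D0, y *ᵥ u ∈ D0) (h1 : ∀ u ∈ D1, y *ᵥ u ∈ D1)
    (c : F) (hc : c ^ (q + 1) = 1)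
    (s : ℕ) (hsF : (s : F) ≠ 0) (hys : y ^ s = (c ^ s) • (1 : Matrix (Fin n) (Fin n) F)) :
    Even (finrank F (eig y c)) := by
  have hc0 : c ≠ 0 := by
    rintro rfl
    rw [zero_pow (Nat.succ_ne_zero q)] at hc
    exact zero_ne_one hc
  have hci : (c⁻¹) ^ (q + 1) = 1 := by rw [inv_pow, hc, inv_one]
  let y' : Matrix (Fin n) (Fin n) F := c⁻¹ • y
  have hy'v : ∀ v, y' *ᵥ v = c⁻¹ • (y *ᵥ v) := fun v => Matrix.smul_mulVec _ _ _
  have hy' : ∀ u v, hh (y' *ᵥ u) (y' *ᵥ v) = hh u v := by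
    intro u v
    rw [hy'v, hy'v, herm_smul_left, herm_smul_right, hy]
    have : c⁻¹ * (c⁻¹ ^ q * hh u v) = c⁻¹ ^ (q + 1) * hh u v := by ring
    rw [this, hci, one_mul]
  have h0' : ∀ u ∈ D0, y' *ᵥ u ∈ D0 := fun u hu => by
    rw [hy'v]; exact D0.smul_mem _ (h0 u hu)
  have h1' : ∀ u ∈ D1, y' *ᵥ u ∈ D1 := fun u hu => by
    rw [hy'v]; exact D1.smul_mem _ (h1 u hu)
  have hys' : y' ^ s = 1 := by
    change (c⁻¹ • y) ^ s = 1
    rw [smul_pow, hys, smul_smul, inv_pow, inv_mul_cancel₀ (pow_ne_zero s hc0), one_smul]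
  have heq : eig y' 1 = eig y c := by
    ext v
    rw [mem_eig, mem_eig, hy'v, one_smul]
    constructor
    · intro hv
      have := congrArg (fun z => c • z) hv
      simp only [smul_smul, mul_inv_cancel₀ hc0, one_smul] at this
      exact this
    · intro hv
      rw [hv, smul_smul, inv_mul_cancel₀ hc0, one_smul]
  rw [← heq]
  exact even_finrank_fixed hF h y' hy' h0' h1' s hsF hys'

/-- a unitary element fixing both members and trivial on `D1` is trivial on `D0` -/
theorem trivial_of_trivial (hF : Fintype.card F = q ^ 2) (h : TSPair q D0 D1)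
    (y : Matrix (Fin n) (Fin n) F) (hy : ∀ u v, hh (y *ᵥ u) (y *ᵥ v) = hh u v)
    (h0 : ∀ u ∈ D0, y *ᵥ u ∈ D0) (ht : ∀ w ∈ D1, y *ᵥ w = w) (u : Fin n → F) (hu : u ∈ D0) :
    y *ᵥ u = u := by
  have h2 : y *ᵥ u - u = 0 := by
    apply h.symm.inj' hF _ (D0.sub_mem (h0 u hu) hu)
    intro w hw
    rw [herm_sub_right hF]
    have h3 := hy w u
    rw [ht w hw] at h3
    rw [h3, sub_self]
  exact sub_eq_zero.mp h2

/-- a unitary element fixing both members cannot have a fixed space of codimension one -/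
theorem not_fix_of_codim_one (hF : Fintype.card F = q ^ 2) (h : TSPair q D0 D1)
    (y : Matrix (Fin n) (Fin n) F) (hy : ∀ u v, hh (y *ᵥ u) (y *ᵥ v) = hh u v)
    (h0 : ∀ u ∈ D0, y *ᵥ u ∈ D0) (h1 : ∀ u ∈ D1, y *ᵥ u ∈ D1)
    (hn : 1 ≤ n) (hcod : finrank F (eig y 1) = n - 1) : False := by
  have hsplit := finrank_eig_split hF h y h0 h1 1
  have hle0 : finrank F (eig y 1 ⊓ D0 : Submodule F (Fin n → F)) ≤ finrank F D0 :=
    Submodule.finrank_mono inf_le_right
  have hle1 : finrank F (eig y 1 ⊓ D1 : Submodule F (Fin n → F)) ≤ finrank F D1 :=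
    Submodule.finrank_mono inf_le_right
  have hadd := h.finrank_add hF
  have key : ∀ (E0 E1 : Submodule F (Fin n → F)) (hp : TSPair q E0 E1),
      (∀ u ∈ E0, y *ᵥ u ∈ E0) → (∀ u ∈ E1, y *ᵥ u ∈ E1) →
      finrank F (eig y 1 ⊓ E1 : Submodule F (Fin n → F)) = finrank F E1 →
      finrank F (eig y 1 ⊓ E0 : Submodule F (Fin n → F)) = finrank F E0 := by
    intro E0 E1 hp g0 g1 heq
    have h2 : (eig y 1 ⊓ E1 : Submodule F (Fin n → F)) = E1 :=
      Submodule.eq_of_le_of_finrank_eq inf_le_right heq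
    have ht : ∀ w ∈ E1, y *ᵥ w = w := by
      intro w hw
      have : w ∈ eig y 1 ⊓ E1 := by rw [h2]; exact hw
      have h3 := (mem_eig y 1 w).mp this.1
      rwa [one_smul] at h3
    have h4 : (eig y 1 ⊓ E0 : Submodule F (Fin n → F)) = E0 := by
      apply le_antisymm inf_le_right
      intro u hu
      refine ⟨(mem_eig y 1 u).mpr ?_, hu⟩
      rw [one_smul]
      exact trivial_of_trivial hF hp y hy g0 ht u hu
    rw [h4]
  by_cases hc1 : finrank F (eig y 1 ⊓ D1 : Submodule F (Fin n → F)) = finrank F D1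
  · have := key D0 D1 h h0 h1 hc1
    omega
  · by_cases hc0 : finrank F (eig y 1 ⊓ D0 : Submodule F (Fin n → F)) = finrank F D0
    · have := key D1 D0 h.symm h1 h0 hc0
      omega
    · omega

/-- an element interchanging the two members has eigenspaces meeting `D0` trivially -/
theorem finrank_eig_swap (hF : Fintype.card F = q ^ 2) (h : TSPair q D0 D1)
    (y : Matrix (Fin n) (Fin n) F) (hsw : ∀ u ∈ D0, y *ᵥ u ∈ D1) (c : F) (hc : c ≠ 0) :
    finrank F (eig y c) + finrank F D0 ≤ n := by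
  have hinf : eig y c ⊓ D0 = ⊥ := by
    rw [Submodule.eq_bot_iff]
    rintro u ⟨hu, hu0⟩
    have hu := (mem_eig y c u).mp hu
    have h1 : c • u ∈ D0 ⊓ D1 := ⟨D0.smul_mem c hu0, by rw [← hu]; exact hsw u hu0⟩
    rw [h.disjoint hF, Submodule.mem_bot] at h1
    exact (smul_eq_zero.mp h1).resolve_left hc
  have h3 := Submodule.finrank_sup_add_finrank_inf_eq (eig y c) D0
  rw [hinf, finrank_bot, add_zero] at h3
  rw [← h3]
  have := Submodule.finrank_le (eig y c ⊔ D0)
  rwa [Module.finrank_fin_fun] at this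

end eig

end Cfsg.Agent.Lib.Helper19.PSU
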