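import Mathlib
import Cfsg.Agent.Lib.Helper19.PSUb

/-!
# Hyperbolic frames adapted to a pair of complementary totally singular subspaces
-/

set_option autoImplicit false
set_option linter.unusedSectionVars false
set_option linter.unusedVariables false

namespace Cfsg.Agent.Lib.Helper19.PSU

open Matrix Module Cfsg Cfsg.Agent.S0779 Cfsg.Agent.Lib.Helper6

section frame
variable {F : Type*} [Field F] [Fintype F] {q n : ℕ}

local notation "hh" => Cfsg.hermForm n F q

/-- the Gram matrix of the hyperbolic form on `F^k ⊕ F^k` -/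
def JJ (k : ℕ) (F : Type*) [Field F] : Matrix (Fin k ⊕ Fin k) (Fin k ⊕ Fin k) F :=
  Matrix.fromBlocks 0 1 1 0

theorem JJ_mul_self (k : ℕ) : JJ k F * JJ k F = 1 := by
  unfold JJ
  rw [Matrix.fromBlocks_multiply]
  simp [Matrix.fromBlocks_one]

theorem JJ_transpose (k : ℕ) : (JJ k F)ᵀ = JJ k F := by
  unfold JJ
  rw [Matrix.fromBlocks_transpose]
  simp

theorem JJ_map (k : ℕ) (f : F →+* F) : (JJ k F).map f = JJ k F := by
  unfold JJ
  rw [Matrix.fromBlocks_map]
  congr 1
  · ext i j; simp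
  · ext i j; simp [Matrix.one_apply]
  · ext i j; simp [Matrix.one_apply]
  · ext i j; simp

theorem JJ_mulVec (k : ℕ) (x : Fin k ⊕ Fin k → F) :
    JJ k F *ᵥ x = Sum.elim (fun i => x (Sum.inr i)) (fun i => x (Sum.inl i)) := by
  funext c
  unfold JJ
  rcases c with i | i
  · simp [Matrix.mulVec, dotProduct, Matrix.fromBlocks, Matrix.one_apply, Fintype.sum_sum_type]
  · simp [Matrix.mulVec, dotProduct, Matrix.fromBlocks, Matrix.one_apply, Fintype.sum_sum_type]

theorem map_map_conjQ (hF : Fintype.card F = q ^ 2) {α β : Type*} (M : Matrix α β F) :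
    (M.map (conjQ hF)).map (conjQ hF) = M := by
  ext i j
  simp only [Matrix.map_apply]
  exact conjQ_conjQ hF _

theorem herm_eq_dot (hF : Fintype.card F = q ^ 2) (u v : Fin n → F) :
    hh u v = u ⬝ᵥ (fun i => conjQ hF (v i)) := rfl

/-- a matrix `A` with `Aᵀ * A^σ = 1` preserves the Hermitian form -/
theorem pres_of_mul_eq_one (hF : Fintype.card F = q ^ 2) (A : Matrix (Fin n) (Fin n) F)
    (hA : Aᵀ * A.map (conjQ hF) = 1) (u v : Fin n → F) : hh (A *ᵥ u) (A *ᵥ v) = hh u v := by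
  rw [herm_eq_dot hF, herm_eq_dot hF]
  have h1 : (fun i => conjQ hF ((A *ᵥ v) i)) = A.map (conjQ hF) *ᵥ (fun i => conjQ hF (v i)) := by
    funext i
    exact RingHom.map_mulVec (conjQ hF) A v i
  rw [h1, ← Matrix.vecMul_transpose, ← Matrix.dotProduct_mulVec, Matrix.mulVec_mulVec, hA,
    Matrix.one_mulVec]

/-- a hyperbolic frame adapted to `(D0, D1)`: the columns `inl i` lie in `D0`, the columns `inr j`
lie in `D1`, and the Gram matrix is the hyperbolic one -/
structure Frame (hF : Fintype.card F = q ^ 2) (k : ℕ) (D0 D1 : Submodule F (Fin n → F)) where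
  P : Matrix (Fin n) (Fin k ⊕ Fin k) F
  hJ : Pᵀ * P.map (conjQ hF) = JJ k F
  h0 : ∀ i, (fun a => P a (Sum.inl i)) ∈ D0
  h1 : ∀ j, (fun a => P a (Sum.inr j)) ∈ D1

variable {hF : Fintype.card F = q ^ 2} {k : ℕ} {D0 D1 : Submodule F (Fin n → F)}

/-- the inverse of the frame matrix -/
noncomputable def Frame.P' (fr : Frame hF k D0 D1) : Matrix (Fin k ⊕ Fin k) (Fin n) F :=
  JJ k F * (fr.P.map (conjQ hF))ᵀ

theorem Frame.P'_mul_P (fr : Frame hF k D0 D1) : fr.P' * fr.P = 1 := by
  unfold Frame.P'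
  have h1 : (fr.P.map (conjQ hF))ᵀ * fr.P = JJ k F := by
    have := congrArg Matrix.transpose fr.hJ
    rw [Matrix.transpose_mul, Matrix.transpose_transpose, JJ_transpose] at this
    exact this
  rw [Matrix.mul_assoc, h1, JJ_mul_self]

theorem Frame.P_mul_P' (hn : n = k + k) (fr : Frame hF k D0 D1) : fr.P * fr.P' = 1 := by
  have e : Fin k ⊕ Fin k ≃ Fin n := finSumFinEquiv.trans (finCongr hn.symm)
  exact (Matrix.mul_eq_one_comm_of_equiv e).mp fr.P'_mul_P

theorem Frame.P'_transpose (fr : Frame hF k D0 D1) : fr.P'ᵀ = fr.P.map (conjQ hF) * JJ k F := by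
  unfold Frame.P'
  rw [Matrix.transpose_mul, Matrix.transpose_transpose, JJ_transpose]

theorem Frame.P'_map (fr : Frame hF k D0 D1) : fr.P'.map (conjQ hF) = JJ k F * fr.Pᵀ := by
  unfold Frame.P'
  rw [Matrix.map_mul, JJ_map, ← Matrix.transpose_map, map_map_conjQ]

/-- conjugating a hyperbolic isometry by two frames gives a unitary matrix -/
theorem Frame.pres (hn : n = k + k) {E0 E1 : Submodule F (Fin n → F)} (fr : Frame hF k D0 D1)
    (fr' : Frame hF k E0 E1)
    (M : Matrix (Fin k ⊕ Fin k) (Fin k ⊕ Fin k) F)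
    (hM : Mᵀ * JJ k F * M.map (conjQ hF) = JJ k F) (u v : Fin n → F) :
    hh ((fr'.P * M * fr.P') *ᵥ u) ((fr'.P * M * fr.P') *ᵥ v) = hh u v := by
  apply pres_of_mul_eq_one hF
  rw [Matrix.transpose_mul, Matrix.transpose_mul, Matrix.map_mul, Matrix.map_mul, fr.P'_transpose,
    fr.P'_map]
  have h1 : fr.P.map (conjQ hF) * JJ k F * (Mᵀ * fr'.Pᵀ) *
      (fr'.P.map (conjQ hF) * M.map (conjQ hF) * (JJ k F * fr.Pᵀ)) =
      fr.P.map (conjQ hF) * JJ k F * (Mᵀ * (fr'.Pᵀ * fr'.P.map (conjQ hF)) * M.map (conjQ hF)) *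
        (JJ k F * fr.Pᵀ) := by
    simp only [Matrix.mul_assoc]
  rw [h1, fr'.hJ, hM]
  have h2 : fr.P.map (conjQ hF) * JJ k F * JJ k F * (JJ k F * fr.Pᵀ) =
      fr.P.map (conjQ hF) * (JJ k F * JJ k F) * (JJ k F * fr.Pᵀ) := by
    simp only [Matrix.mul_assoc]
  rw [h2, JJ_mul_self, Matrix.mul_one]
  have h3 : fr.P.map (conjQ hF) * (JJ k F * fr.Pᵀ) = (fr.P * fr.P').map (conjQ hF) := by
    rw [Matrix.map_mul, fr.P'_map]
  rw [h3, fr.P_mul_P' hn]
  ext i j
  simp [Matrix.one_apply]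

theorem Frame.mulVec_eq (fr : Frame hF k D0 D1) (x : Fin k ⊕ Fin k → F) :
    fr.P *ᵥ x = ∑ i, x (Sum.inl i) • (fun a => fr.P a (Sum.inl i)) +
      ∑ j, x (Sum.inr j) • (fun a => fr.P a (Sum.inr j)) := by
  funext a
  simp only [Matrix.mulVec, dotProduct, Fintype.sum_sum_type, Pi.add_apply, Finset.sum_apply,
    Pi.smul_apply, smul_eq_mul]
  congr 1 <;> exact Finset.sum_congr rfl (fun i _ => mul_comm _ _)

theorem Frame.mulVec_mem0 (fr : Frame hF k D0 D1) (x : Fin k ⊕ Fin k → F)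
    (hx : ∀ j, x (Sum.inr j) = 0) : fr.P *ᵥ x ∈ D0 := by
  rw [fr.mulVec_eq]
  have h2 : ∑ j, x (Sum.inr j) • (fun a => fr.P a (Sum.inr j)) = 0 := by
    apply Finset.sum_eq_zero
    intro j _
    rw [hx j, zero_smul]
  rw [h2, add_zero]
  exact Submodule.sum_mem _ (fun i _ => Submodule.smul_mem _ _ (fr.h0 i))

theorem Frame.mulVec_mem1 (fr : Frame hF k D0 D1) (x : Fin k ⊕ Fin k → F)
    (hx : ∀ i, x (Sum.inl i) = 0) : fr.P *ᵥ x ∈ D1 := by
  rw [fr.mulVec_eq]
  have h2 : ∑ i, x (Sum.inl i) • (fun a => fr.P a (Sum.inl i)) = 0 := by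
    apply Finset.sum_eq_zero
    intro j _
    rw [hx j, zero_smul]
  rw [h2, zero_add]
  exact Submodule.sum_mem _ (fun i _ => Submodule.smul_mem _ _ (fr.h1 i))

theorem Frame.P'_mulVec_inl (fr : Frame hF k D0 D1) (v : Fin n → F) (i : Fin k) :
    (fr.P' *ᵥ v) (Sum.inl i) = hh v (fun a => fr.P a (Sum.inr i)) := by
  unfold Frame.P'
  rw [← Matrix.mulVec_mulVec, JJ_mulVec]
  simp only [Sum.elim_inl, Matrix.mulVec, dotProduct, Matrix.transpose_apply, Matrix.map_apply,
    hermForm, conjQ_apply]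
  exact Finset.sum_congr rfl (fun a _ => mul_comm _ _)

theorem Frame.P'_mulVec_inr (fr : Frame hF k D0 D1) (v : Fin n → F) (j : Fin k) :
    (fr.P' *ᵥ v) (Sum.inr j) = hh v (fun a => fr.P a (Sum.inl j)) := by
  unfold Frame.P'
  rw [← Matrix.mulVec_mulVec, JJ_mulVec]
  simp only [Sum.elim_inr, Matrix.mulVec, dotProduct, Matrix.transpose_apply, Matrix.map_apply,
    hermForm, conjQ_apply]
  exact Finset.sum_congr rfl (fun a _ => mul_comm _ _)

theorem Frame.P'_inr_of_mem0 (hp : TSPair q D0 D1) (fr : Frame hF k D0 D1) (v : Fin n → F)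
    (hv : v ∈ D0) (j : Fin k) : (fr.P' *ᵥ v) (Sum.inr j) = 0 := by
  rw [fr.P'_mulVec_inr]
  exact hp.ts0 v hv _ (fr.h0 j)

theorem Frame.P'_inl_of_mem1 (hp : TSPair q D0 D1) (fr : Frame hF k D0 D1) (v : Fin n → F)
    (hv : v ∈ D1) (i : Fin k) : (fr.P' *ᵥ v) (Sum.inl i) = 0 := by
  rw [fr.P'_mulVec_inl]
  exact hp.ts1 v hv _ (fr.h1 i)

end frame

section exists_frame
variable {F : Type*} [Field F] [Fintype F] {q n : ℕ}

local notation "hh" => Cfsg.hermForm n F q

variable {D0 D1 : Submodule F (Fin n → F)}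

/-- every pair of complementary totally singular subspaces has an adapted hyperbolic frame -/
theorem exists_frame (hF : Fintype.card F = q ^ 2) (hp : TSPair q D0 D1) (k : ℕ)
    (hk : finrank F D0 = k) : Nonempty (Frame hF k D0 D1) := by
  classical
  have hk1 : finrank F D1 = k := by rw [← hp.finrank_eq hF, hk]
  let b0 : Basis (Fin k) F D0 := Module.finBasisOfFinrankEq F D0 hk
  let φ : D1 →ₗ[F] (Fin k → F) :=
    { toFun := fun w i => hh (w : Fin n → F) (b0 i : Fin n → F)
      map_add' := by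
        intro x y
        funext i
        simp only [Submodule.coe_add, Pi.add_apply]
        exact herm_add_left _ _ _
      map_smul' := by
        intro c x
        funext i
        simp only [Submodule.coe_smul, Pi.smul_apply, RingHom.id_apply, smul_eq_mul]
        exact herm_smul_left _ _ _ }
  have hφ : Function.Injective φ := by
    rw [← LinearMap.ker_eq_bot, LinearMap.ker_eq_bot']
    intro w hw
    apply Subtype.ext
    apply hp.inj hF w.1 w.2
    intro u hu
    have hu' := b0.sum_repr ⟨u, hu⟩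
    have hu2 : u = ∑ i, (b0.repr ⟨u, hu⟩ i) • (b0 i : Fin n → F) := by
      have h3 := congrArg Subtype.val hu'
      rw [Submodule.coe_sum] at h3
      simp only [Submodule.coe_smul] at h3
      exact h3.symm
    have hmem : u ∈ perpR hF (w : Fin n → F) := by
      rw [hu2]
      exact Submodule.sum_mem _ (fun i _ => Submodule.smul_mem _ _ (congrFun hw i))
    exact hmem
  let φe : D1 ≃ₗ[F] (Fin k → F) :=
    LinearMap.linearEquivOfInjective φ hφ (by rw [hk1, Module.finrank_fin_fun])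
  have hφe : ∀ w, φe w = φ w := fun w => rfl
  let f : Fin k → D1 := fun j => φe.symm (Pi.single j 1)
  have hf : ∀ i j, hh (f j : Fin n → F) (b0 i : Fin n → F) = if i = j then 1 else 0 := by
    intro i j
    have h1 : φe (f j) = Pi.single j 1 := φe.apply_symm_apply _
    have h2 := congrFun h1 i
    rw [hφe] at h2
    change hh (f j : Fin n → F) (b0 i : Fin n → F) = _ at h2
    rw [h2, Pi.single_apply]
  have hf' : ∀ i j, hh (b0 i : Fin n → F) (f j : Fin n → F) = if i = j then 1 else 0 := by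
    intro i j
    rw [← herm_conj hF, hf]
    split_ifs
    · exact one_pow q
    · exact zero_pow (q_pos hF).ne'
  let P : Matrix (Fin n) (Fin k ⊕ Fin k) F :=
    Matrix.of fun a c => Sum.elim (fun i => (b0 i : Fin n → F) a) (fun j => (f j : Fin n → F) a) c
  have hentry : ∀ c c', (Pᵀ * P.map (conjQ hF)) c c' =
      hh (fun a => P a c) (fun a => P a c') := by
    intro c c'
    simp only [Matrix.mul_apply, Matrix.transpose_apply, Matrix.map_apply, hermForm, conjQ_apply]
  refine ⟨⟨P, ?_, ?_, ?_⟩⟩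
  · ext c c'
    rw [hentry]
    rcases c with i | i <;> rcases c' with j | j
    · change hh (b0 i : Fin n → F) (b0 j : Fin n → F) = _
      rw [hp.ts0 _ (b0 i).2 _ (b0 j).2]
      simp [JJ]
    · change hh (b0 i : Fin n → F) (f j : Fin n → F) = _
      rw [hf']
      simp [JJ, Matrix.one_apply]
    · change hh (f i : Fin n → F) (b0 j : Fin n → F) = _
      rw [hf]
      simp [JJ, Matrix.one_apply, eq_comm]
    · change hh (f i : Fin n → F) (f j : Fin n → F) = _
      rw [hp.ts1 _ (f i).2 _ (f j).2]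
      simp [JJ]
  · intro i
    exact (b0 i).2
  · intro j
    exact (f j).2

end exists_frame

end Cfsg.Agent.Lib.Helper19.PSU
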