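import Mathlib
import Cfsg.Agent.Lib.Helper19.PSUc

/-!
# The Levi-type subgroup `{diag(A, A^{-σT})}` attached to a hyperbolic frame
-/

set_option autoImplicit false
set_option linter.unusedSectionVars false
set_option linter.unusedVariables false

namespace Cfsg.Agent.Lib.Helper19.PSU

open Matrix Module Cfsg Cfsg.Agent.S0779 Cfsg.Agent.Lib.Helper6

section levi
variable {F : Type*} [Field F] [Fintype F] {q n : ℕ}

local notation "hh" => Cfsg.hermForm n F q

/-- the inverse conjugate transpose -/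
noncomputable def hat (hF : Fintype.card F = q ^ 2) {k : ℕ} (A : GL (Fin k) F) :
    Matrix (Fin k) (Fin k) F :=
  (((A⁻¹ : GL (Fin k) F) : Matrix (Fin k) (Fin k) F)ᵀ).map (conjQ hF)

theorem hat_one (hF : Fintype.card F = q ^ 2) {k : ℕ} : hat hF (1 : GL (Fin k) F) = 1 := by
  unfold hat
  rw [inv_one, Units.val_one, Matrix.transpose_one]
  ext i j
  simp [Matrix.one_apply]

theorem hat_mul (hF : Fintype.card F = q ^ 2) {k : ℕ} (A B : GL (Fin k) F) :
    hat hF (A * B) = hat hF A * hat hF B := by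
  unfold hat
  rw [_root_.mul_inv_rev, Units.val_mul, Matrix.transpose_mul, Matrix.map_mul]

theorem transpose_mul_hat_map (hF : Fintype.card F = q ^ 2) {k : ℕ} (A : GL (Fin k) F) :
    (A : Matrix (Fin k) (Fin k) F)ᵀ * (hat hF A).map (conjQ hF) = 1 := by
  unfold hat
  rw [map_map_conjQ, ← Matrix.transpose_mul, ← Units.val_mul, inv_mul_cancel, Units.val_one,
    Matrix.transpose_one]

theorem hat_transpose_mul_map (hF : Fintype.card F = q ^ 2) {k : ℕ} (A : GL (Fin k) F) :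
    (hat hF A)ᵀ * (A : Matrix (Fin k) (Fin k) F).map (conjQ hF) = 1 := by
  unfold hat
  rw [Matrix.transpose_map, Matrix.transpose_transpose, ← Matrix.map_mul, ← Units.val_mul,
    inv_mul_cancel, Units.val_one]
  ext i j
  simp [Matrix.one_apply]

theorem det_hat (hF : Fintype.card F = q ^ 2) {k : ℕ} (A : GL (Fin k) F) :
    (hat hF A).det = (conjQ hF (A : Matrix (Fin k) (Fin k) F).det)⁻¹ := by
  unfold hat
  have h1 : ((((A⁻¹ : GL (Fin k) F) : Matrix (Fin k) (Fin k) F)ᵀ).map (conjQ hF)).det =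
      conjQ hF (((A⁻¹ : GL (Fin k) F) : Matrix (Fin k) (Fin k) F)ᵀ).det :=
    (RingHom.map_det _ _).symm
  rw [h1, Matrix.det_transpose, ← map_inv₀]
  congr 1
  have h2 : ((A⁻¹ : GL (Fin k) F) : Matrix (Fin k) (Fin k) F).det *
      (A : Matrix (Fin k) (Fin k) F).det = 1 := by
    rw [← Matrix.det_mul, ← Units.val_mul, inv_mul_cancel, Units.val_one, Matrix.det_one]
  exact eq_inv_of_mul_eq_one_left h2

/-- block diagonal matrices -/
def blk {k : ℕ} (A B : Matrix (Fin k) (Fin k) F) : Matrix (Fin k ⊕ Fin k) (Fin k ⊕ Fin k) F :=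
  Matrix.fromBlocks A 0 0 B

theorem blk_cond (hF : Fintype.card F = q ^ 2) {k : ℕ} (A B : Matrix (Fin k) (Fin k) F)
    (h1 : Aᵀ * B.map (conjQ hF) = 1) (h2 : Bᵀ * A.map (conjQ hF) = 1) :
    (blk A B)ᵀ * JJ k F * (blk A B).map (conjQ hF) = JJ k F := by
  unfold blk JJ
  rw [Matrix.fromBlocks_transpose, Matrix.fromBlocks_map, Matrix.fromBlocks_multiply,
    Matrix.fromBlocks_multiply]
  simp only [Matrix.transpose_zero, Matrix.mul_zero, Matrix.zero_mul, Matrix.mul_one, add_zero,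
    zero_add, Matrix.map_zero _ (map_zero (conjQ hF)), h1, h2]

theorem blk_mul {k : ℕ} (A B A' B' : Matrix (Fin k) (Fin k) F) :
    blk A B * blk A' B' = blk (A * A') (B * B') := by
  unfold blk
  rw [Matrix.fromBlocks_multiply]
  simp

theorem blk_one {k : ℕ} : blk (1 : Matrix (Fin k) (Fin k) F) 1 = 1 := by
  unfold blk
  exact Matrix.fromBlocks_one

theorem blk_mulVec_inl {k : ℕ} (A B : Matrix (Fin k) (Fin k) F) (x : Fin k ⊕ Fin k → F) (i : Fin k) :
    (blk A B *ᵥ x) (Sum.inl i) = (A *ᵥ (fun j => x (Sum.inl j))) i := by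
  unfold blk
  simp [Matrix.mulVec, dotProduct, Matrix.fromBlocks, Fintype.sum_sum_type]

theorem blk_mulVec_inr {k : ℕ} (A B : Matrix (Fin k) (Fin k) F) (x : Fin k ⊕ Fin k → F) (i : Fin k) :
    (blk A B *ᵥ x) (Sum.inr i) = (B *ᵥ (fun j => x (Sum.inr j))) i := by
  unfold blk
  simp [Matrix.mulVec, dotProduct, Matrix.fromBlocks, Fintype.sum_sum_type]

variable {hF : Fintype.card F = q ^ 2} {k : ℕ} {D0 D1 : Submodule F (Fin n → F)}

/-- the element `P · diag(A, Â) · P⁻¹` -/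
noncomputable def Frame.lev (fr : Frame hF k D0 D1) (A : GL (Fin k) F) : Matrix (Fin n) (Fin n) F :=
  fr.P * blk (A : Matrix (Fin k) (Fin k) F) (hat hF A) * fr.P'

theorem Frame.lev_one (hn : n = k + k) (fr : Frame hF k D0 D1) : fr.lev 1 = 1 := by
  unfold Frame.lev
  rw [hat_one, Units.val_one, blk_one, Matrix.mul_one, fr.P_mul_P' hn]

theorem Frame.lev_mul (fr : Frame hF k D0 D1) (A B : GL (Fin k) F) :
    fr.lev (A * B) = fr.lev A * fr.lev B := by
  unfold Frame.lev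
  rw [hat_mul, Units.val_mul, ← blk_mul]
  have : fr.P * blk ↑A (hat hF A) * fr.P' * (fr.P * blk ↑B (hat hF B) * fr.P') =
      fr.P * blk ↑A (hat hF A) * (fr.P' * fr.P) * blk ↑B (hat hF B) * fr.P' := by
    simp only [Matrix.mul_assoc]
  rw [this, fr.P'_mul_P, Matrix.mul_one]
  simp only [Matrix.mul_assoc]

theorem Frame.lev_pres (hn : n = k + k) (fr : Frame hF k D0 D1) (A : GL (Fin k) F)
    (u v : Fin n → F) : hh (fr.lev A *ᵥ u) (fr.lev A *ᵥ v) = hh u v :=
  fr.pres hn fr _ (blk_cond hF _ _ (transpose_mul_hat_map hF A) (hat_transpose_mul_map hF A)) u v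

theorem Frame.lev_det (hn : n = k + k) (fr : Frame hF k D0 D1) (A : GL (Fin k) F) :
    (fr.lev A).det = (A : Matrix (Fin k) (Fin k) F).det *
      (conjQ hF (A : Matrix (Fin k) (Fin k) F).det)⁻¹ := by
  unfold Frame.lev
  rw [Matrix.det_conj_of_mul_eq_one (fr.P_mul_P' hn) fr.P'_mul_P]
  unfold blk
  rw [Matrix.det_fromBlocks_zero₂₁, det_hat]

theorem Frame.lev_mem0 (hp : TSPair q D0 D1) (fr : Frame hF k D0 D1) (A : GL (Fin k) F)
    (u : Fin n → F) (hu : u ∈ D0) : fr.lev A *ᵥ u ∈ D0 := by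
  unfold Frame.lev
  rw [← Matrix.mulVec_mulVec, ← Matrix.mulVec_mulVec]
  apply fr.mulVec_mem0
  intro j
  rw [blk_mulVec_inr]
  have : (fun j => (fr.P' *ᵥ u) (Sum.inr j)) = 0 := by
    funext j
    exact fr.P'_inr_of_mem0 hp u hu j
  rw [this, Matrix.mulVec_zero]
  rfl

theorem Frame.lev_mem1 (hp : TSPair q D0 D1) (fr : Frame hF k D0 D1) (A : GL (Fin k) F)
    (u : Fin n → F) (hu : u ∈ D1) : fr.lev A *ᵥ u ∈ D1 := by
  unfold Frame.lev
  rw [← Matrix.mulVec_mulVec, ← Matrix.mulVec_mulVec]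
  apply fr.mulVec_mem1
  intro j
  rw [blk_mulVec_inl]
  have : (fun j => (fr.P' *ᵥ u) (Sum.inl j)) = 0 := by
    funext j
    exact fr.P'_inl_of_mem1 hp u hu j
  rw [this, Matrix.mulVec_zero]
  rfl

theorem Frame.lev_injective (hn : n = k + k) (fr : Frame hF k D0 D1) (A B : GL (Fin k) F)
    (h : fr.lev A = fr.lev B) : A = B := by
  unfold Frame.lev at h
  have h2 : fr.P' * (fr.P * blk ↑A (hat hF A) * fr.P') * fr.P =
      fr.P' * (fr.P * blk ↑B (hat hF B) * fr.P') * fr.P := by rw [h]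
  have e : ∀ M : Matrix (Fin k ⊕ Fin k) (Fin k ⊕ Fin k) F,
      fr.P' * (fr.P * M * fr.P') * fr.P = M := by
    intro M
    have : fr.P' * (fr.P * M * fr.P') * fr.P = (fr.P' * fr.P) * M * (fr.P' * fr.P) := by
      simp only [Matrix.mul_assoc]
    rw [this, fr.P'_mul_P, Matrix.one_mul, Matrix.mul_one]
  rw [e, e] at h2
  unfold blk at h2
  have h3 := (Matrix.fromBlocks_inj.mp h2).1
  exact Units.ext h3

end levi

end Cfsg.Agent.Lib.Helper19.PSU
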