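import Mathlib
import Cfsg.Agent.Lib.Helper19.PSUd

/-!
# The stabilizer of a pair of complementary totally singular subspaces: membership and index
-/

set_option autoImplicit false
set_option linter.unusedSectionVars false
set_option linter.unusedVariables false

namespace Cfsg.Agent.Lib.Helper19.PSU

open Matrix Module Cfsg Cfsg.Agent.S0779 Cfsg.Agent.Lib.Helper6
open scoped MatrixGroups

section stab
variable {F : Type*} [Field F] [Fintype F] {q n : ℕ}

theorem tspair_of_decomp (D : Fin 2 → Submodule F (Fin n → F)) (m : ℕ)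
    (hD : Cfsg.Geo.IsMDecomposition m D)
    (hDs : ∀ i, Cfsg.Geo.IsTotallySingularFor (Cfsg.hermForm n F q) (D i)) :
    TSPair q (D 0) (D 1) := by
  refine ⟨hDs 0, hDs 1, ?_⟩
  rw [← hD.iSup_eq_top]
  apply le_antisymm
  · exact sup_le (le_iSup D 0) (le_iSup D 1)
  · apply iSup_le
    intro i
    fin_cases i
    · exact le_sup_left
    · exact le_sup_right

theorem toLin'_injective_of_GL (g : GL (Fin n) F) :
    Function.Injective (Matrix.toLin' (g : Matrix (Fin n) (Fin n) F)) := by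
  apply Function.LeftInverse.injective
    (g := Matrix.toLin' ((g⁻¹ : GL (Fin n) F) : Matrix (Fin n) (Fin n) F))
  intro v
  rw [Matrix.toLin'_apply, Matrix.toLin'_apply, Matrix.mulVec_mulVec, ← Units.val_mul,
    inv_mul_cancel, Units.val_one, Matrix.one_mulVec]

theorem map_eq_of_forall_mem (g : GL (Fin n) F) (W W' : Submodule F (Fin n → F))
    (hfin : finrank F W = finrank F W')
    (h : ∀ u ∈ W, (g : Matrix (Fin n) (Fin n) F) *ᵥ u ∈ W') :
    W.map (Matrix.toLin' (g : Matrix (Fin n) (Fin n) F)) = W' := by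
  apply Submodule.eq_of_le_of_finrank_eq
  · rintro _ ⟨u, hu, rfl⟩
    rw [Matrix.toLin'_apply]
    exact h u hu
  · rw [← hfin]
    exact (LinearEquiv.finrank_eq
      (Submodule.equivMapOfInjective _ (toLin'_injective_of_GL g) W)).symm

theorem mem_stab_of_fix (D : Fin 2 → Submodule F (Fin n → F)) (g : GL (Fin n) F)
    (h0 : ∀ u ∈ D 0, (g : Matrix (Fin n) (Fin n) F) *ᵥ u ∈ D 0)
    (h1 : ∀ u ∈ D 1, (g : Matrix (Fin n) (Fin n) F) *ᵥ u ∈ D 1) :
    g ∈ Cfsg.Geo.decompositionStabilizer D := by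
  refine ⟨1, fun i => ?_⟩
  fin_cases i
  · exact map_eq_of_forall_mem g _ _ rfl h0
  · exact map_eq_of_forall_mem g _ _ rfl h1

theorem stab_cases (D : Fin 2 → Submodule F (Fin n → F)) (g : GL (Fin n) F)
    (hg : g ∈ Cfsg.Geo.decompositionStabilizer D) :
    ((∀ u ∈ D 0, (g : Matrix (Fin n) (Fin n) F) *ᵥ u ∈ D 0) ∧
      (∀ u ∈ D 1, (g : Matrix (Fin n) (Fin n) F) *ᵥ u ∈ D 1)) ∨
    ((∀ u ∈ D 0, (g : Matrix (Fin n) (Fin n) F) *ᵥ u ∈ D 1) ∧
      (∀ u ∈ D 1, (g : Matrix (Fin n) (Fin n) F) *ᵥ u ∈ D 0)) := by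
  obtain ⟨σ, hσ⟩ := hg
  have key : ∀ i, ∀ u ∈ D i, (g : Matrix (Fin n) (Fin n) F) *ᵥ u ∈ D (σ i) := by
    intro i u hu
    rw [← hσ i, ← Matrix.toLin'_apply]
    exact Submodule.mem_map_of_mem hu
  have e1 : ∀ a : Fin 2, a = 0 ∨ a = 1 := by decide
  have e2 : ∀ a b : Fin 2, a ≠ b → a = 0 → b = 1 := by decide
  have e3 : ∀ a b : Fin 2, a ≠ b → a = 1 → b = 0 := by decide
  have hne : σ 0 ≠ σ 1 := fun e => by
    have := σ.injective e
    exact absurd this (by decide)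
  rcases e1 (σ 0) with h | h
  · left
    have h1 := e2 _ _ hne h
    refine ⟨fun u hu => ?_, fun u hu => ?_⟩
    · have := key 0 u hu
      rwa [h] at this
    · have := key 1 u hu
      rwa [h1] at this
  · right
    have h1 := e3 _ _ hne h
    refine ⟨fun u hu => ?_, fun u hu => ?_⟩
    · have := key 0 u hu
      rwa [h] at this
    · have := key 1 u hu
      rwa [h1] at this

end stab

section count
variable {F : Type*} [Field F] [Fintype F] {q n : ℕ}

theorem card_inf_mul_relIndex {G : Type*} [Group G] (A B : Subgroup G) :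
    Nat.card (A ⊓ B : Subgroup G) * A.relIndex B = Nat.card B := by
  have := Subgroup.relIndex_mul_relIndex ⊥ (A ⊓ B) B bot_le inf_le_right
  rw [Subgroup.relIndex_bot_left, Subgroup.relIndex_bot_left, Subgroup.inf_relIndex_right] at this
  exact this

theorem card_map_det_GU (hF : Fintype.card F = q ^ 2) (hn : 1 ≤ n) :
    Nat.card ((Cfsg.GU n F q).map (Matrix.GeneralLinearGroup.det : GL (Fin n) F →* Fˣ)) = q + 1 := by
  rw [← Cfsg.Agent.Lib.Helper16.card_range_guDet hF n hn]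
  unfold Cfsg.Agent.Lib.Helper16.guDet
  rw [← MonoidHom.map_range, Subgroup.range_subtype]

/-- the counting identity: the index of the stabilizer times the order of `GL_k(q²)` divides the
order of `GU_n(q)` -/
theorem card_identity (hF : Fintype.card F = q ^ 2) (hn : 1 ≤ n) (L : Subgroup (GL (Fin n) F))
    (k : ℕ) (Φ : GL (Fin k) F →* GL (Fin n) F) (hΦ : Function.Injective Φ)
    (hΦL : ∀ A, Φ A ∈ Cfsg.GU n F q ⊓ L) :
    ∃ m, L.relIndex (Cfsg.GU n F q ⊓ Cfsg.Geo.specialLinear (Fin n) F) * m *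
      Nat.card (GL (Fin k) F) = Nat.card (Cfsg.GU n F q) := by
  classical
  set dt : GL (Fin n) F →* Fˣ := Matrix.GeneralLinearGroup.det with hdt
  have hSL : Cfsg.Geo.specialLinear (Fin n) F = dt.ker := rfl
  rw [hSL]
  -- (1)
  have h1 := card_inf_mul_relIndex dt.ker (Cfsg.GU n F q)
  rw [Subgroup.relIndex_ker, card_map_det_GU hF hn] at h1
  -- (2)
  have h2 := card_inf_mul_relIndex L (Cfsg.GU n F q ⊓ dt.ker)
  -- (3)
  have h3 := card_inf_mul_relIndex dt.ker (Cfsg.GU n F q ⊓ L)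
  rw [Subgroup.relIndex_ker] at h3
  have h3' : Nat.card ((Cfsg.GU n F q ⊓ L).map dt) ∣ q + 1 := by
    rw [← card_map_det_GU hF hn]
    exact Subgroup.card_dvd_of_le (Subgroup.map_mono inf_le_left)
  -- (4)
  have h4 : Nat.card (GL (Fin k) F) ∣ Nat.card (Cfsg.GU n F q ⊓ L : Subgroup (GL (Fin n) F)) :=
    Subgroup.card_dvd_of_injective (Φ.codRestrict _ hΦL)
      (MonoidHom.injective_codRestrict _ _ _ |>.mpr hΦ)
  have h5 : (L ⊓ (Cfsg.GU n F q ⊓ dt.ker) : Subgroup (GL (Fin n) F)) =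
      dt.ker ⊓ (Cfsg.GU n F q ⊓ L) := by
    ext x
    simp only [Subgroup.mem_inf]
    tauto
  rw [h5] at h2
  have h6 : (dt.ker ⊓ Cfsg.GU n F q : Subgroup (GL (Fin n) F)) = Cfsg.GU n F q ⊓ dt.ker :=
    inf_comm _ _
  rw [h6] at h1
  obtain ⟨c'', hc''⟩ := h3'
  obtain ⟨e, he⟩ := h4
  refine ⟨c'' * e, ?_⟩
  rw [← h1, ← h2, hc'']
  set a := Nat.card (dt.ker ⊓ (Cfsg.GU n F q ⊓ L) : Subgroup (GL (Fin n) F)) with ha
  set c' := Nat.card ((Cfsg.GU n F q ⊓ L).map dt) with hc'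
  set idx := L.relIndex (Cfsg.GU n F q ⊓ dt.ker) with hidx
  have : idx * (c'' * e) * Nat.card (GL (Fin k) F) = idx * c'' * (Nat.card (GL (Fin k) F) * e) := by
    ring
  rw [this, ← he, ← h3]
  ring

end count

section arith

theorem prod_GL_eq (q : ℕ) (hq : 1 ≤ q) (k : ℕ) :
    ∃ e, ∏ i ∈ Finset.range k, ((q ^ 2) ^ k - (q ^ 2) ^ i) =
      q ^ e * ∏ l ∈ Finset.range k, (q ^ (2 * l + 2) - 1) := by
  induction k with
  | zero => exact ⟨0, by simp⟩
  | succ k ih =>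
    obtain ⟨e, he⟩ := ih
    refine ⟨2 * k + e, ?_⟩
    rw [Finset.prod_range_succ', Finset.prod_range_succ _ k]
    have h1 : ∀ i ∈ Finset.range k, (q ^ 2) ^ (k + 1) - (q ^ 2) ^ (i + 1) =
        q ^ 2 * ((q ^ 2) ^ k - (q ^ 2) ^ i) := by
      intro i _
      rw [pow_succ' (q ^ 2) k, pow_succ' (q ^ 2) i, Nat.mul_sub]
    rw [Finset.prod_congr rfl h1, Finset.prod_mul_distrib, he, Finset.prod_const,
      Finset.card_range, pow_zero]
    have h2 : (q ^ 2) ^ (k + 1) = q ^ (2 * k + 2) := by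
      rw [← pow_mul]
      congr 1
    rw [h2, ← pow_mul, pow_add]
    ring

theorem prod_GU_eq (q : ℕ) (k : ℕ) :
    ∏ i ∈ Finset.range (k + k), (if Even i then q ^ (i + 1) + 1 else q ^ (i + 1) - 1) =
      (∏ l ∈ Finset.range k, (q ^ (2 * l + 1) + 1)) *
        ∏ l ∈ Finset.range k, (q ^ (2 * l + 2) - 1) := by
  induction k with
  | zero => simp
  | succ k ih =>
    have : k + 1 + (k + 1) = (k + k) + 1 + 1 := by ring
    rw [this, Finset.prod_range_succ, Finset.prod_range_succ, ih, Finset.prod_range_succ,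
      Finset.prod_range_succ]
    have h1 : Even (k + k) := ⟨k, rfl⟩
    have h2 : ¬ Even (k + k + 1) := by
      rw [Nat.not_even_iff_odd]
      exact ⟨k, by ring⟩
    rw [if_pos h1, if_neg h2]
    have h3 : k + k + 1 = 2 * k + 1 := by ring
    have h4 : 2 * k + 1 + 1 = 2 * k + 2 := by ring
    rw [h3, h4]
    ring

theorem exists_odd_exponent (q k r m idx : ℕ) (hq : 2 ≤ q) (hr : r.Prime) (hrq : ¬ r ∣ q)
    (hdvd : r ∣ idx)
    (h : idx * m * ∏ i : Fin k, ((q ^ 2) ^ k - (q ^ 2) ^ (i : ℕ)) =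
      q ^ ((k + k) * (k + k - 1) / 2) *
        ∏ i ∈ Finset.range (k + k), (if Even i then q ^ (i + 1) + 1 else q ^ (i + 1) - 1)) :
    ∃ l < k, r ∣ q ^ (2 * l + 1) + 1 := by
  rw [Fin.prod_univ_eq_prod_range (fun i => (q ^ 2) ^ k - (q ^ 2) ^ i) k] at h
  obtain ⟨e, he⟩ := prod_GL_eq q (by omega) k
  rw [he, prod_GU_eq] at h
  set P2 := ∏ l ∈ Finset.range k, (q ^ (2 * l + 2) - 1) with hP2
  set P1 := ∏ l ∈ Finset.range k, (q ^ (2 * l + 1) + 1) with hP1
  have hP2pos : 0 < P2 := by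
    apply Finset.prod_pos
    intro l _
    have : 2 ≤ q ^ (2 * l + 2) := by
      calc 2 ≤ q := hq
        _ = q ^ 1 := (pow_one q).symm
        _ ≤ q ^ (2 * l + 2) := Nat.pow_le_pow_right (by omega) (by omega)
    omega
  have h' : (idx * m * q ^ e) * P2 = (q ^ ((k + k) * (k + k - 1) / 2) * P1) * P2 := by
    rw [mul_assoc (q ^ ((k + k) * (k + k - 1) / 2)) P1 P2, ← h]
    ring
  have h'' := Nat.eq_of_mul_eq_mul_right hP2pos h'
  have h3 : r ∣ q ^ ((k + k) * (k + k - 1) / 2) * P1 := by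
    rw [← h'']
    exact Dvd.dvd.mul_right (Dvd.dvd.mul_right hdvd m) _
  rcases (Nat.Prime.dvd_mul hr).mp h3 with h4 | h4
  · exact absurd (hr.dvd_of_dvd_pow h4) hrq
  · rw [hP1] at h4
    obtain ⟨l, hl, hl2⟩ := (Prime.dvd_finset_prod_iff hr.prime _).mp h4
    exact ⟨l, Finset.mem_range.mp hl, hl2⟩

end arith

end Cfsg.Agent.Lib.Helper19.PSU
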