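import Mathlib
import Cfsg.Agent.Lib.Helper19.PSUe

/-!
# Membership in `GU ⊓ SL`, the Levi embedding and the primes dividing the index
-/

set_option autoImplicit false
set_option linter.unusedSectionVars false
set_option linter.unusedVariables false

namespace Cfsg.Agent.Lib.Helper19.PSU

open Matrix Module Cfsg Cfsg.Agent.S0779 Cfsg.Agent.Lib.Helper6
open scoped MatrixGroups

section mem
variable {F : Type*} [Field F] [Fintype F] {q n : ℕ}

local notation "hh" => Cfsg.hermForm n F q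

theorem mem_GU_iff (g : GL (Fin n) F) :
    g ∈ Cfsg.GU n F q ↔ ∀ u v, hh ((g : Matrix (Fin n) (Fin n) F) *ᵥ u)
      ((g : Matrix (Fin n) (Fin n) F) *ᵥ v) = hh u v := Iff.rfl

theorem mem_SL_iff (g : GL (Fin n) F) :
    g ∈ Cfsg.Geo.specialLinear (Fin n) F ↔ (g : Matrix (Fin n) (Fin n) F).det = 1 := by
  unfold Cfsg.Geo.specialLinear
  rw [MonoidHom.mem_ker, Units.ext_iff]
  rfl

theorem exists_mem_of_pres (hF : Fintype.card F = q ^ 2) (M : Matrix (Fin n) (Fin n) F)
    (hM : ∀ u v, hh (M *ᵥ u) (M *ᵥ v) = hh u v) (hdet : M.det = 1) :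
    ∃ x : GL (Fin n) F, x ∈ Cfsg.GU n F q ⊓ Cfsg.Geo.specialLinear (Fin n) F ∧
      (x : Matrix (Fin n) (Fin n) F) = M := by
  obtain ⟨g, hg⟩ := exists_GU_of_pres hF M hM
  refine ⟨g.1, Subgroup.mem_inf.mpr ⟨g.2, ?_⟩, hg⟩
  rw [mem_SL_iff, hg, hdet]

end mem

section levi
variable {F : Type*} [Field F] [Fintype F] {q n : ℕ}

local notation "hh" => Cfsg.hermForm n F q

variable {hF : Fintype.card F = q ^ 2} {k : ℕ} {D0 D1 : Submodule F (Fin n → F)}

/-- the Levi embedding `GL_k(q²) → GL_n(q²)` -/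
noncomputable def Frame.levHom (hn : n = k + k) (fr : Frame hF k D0 D1) :
    GL (Fin k) F →* GL (Fin n) F :=
  MonoidHom.toHomUnits
    { toFun := fr.lev
      map_one' := fr.lev_one hn
      map_mul' := fr.lev_mul }

theorem Frame.levHom_val (hn : n = k + k) (fr : Frame hF k D0 D1) (A : GL (Fin k) F) :
    ((fr.levHom hn A : GL (Fin n) F) : Matrix (Fin n) (Fin n) F) = fr.lev A := rfl

end levi

section index
variable {F : Type*} [Field F] [Fintype F] {q n : ℕ}

theorem not_dvd_q (hF : Fintype.card F = q ^ 2) (p : ℕ) [hp : Fact p.Prime] [CharP F p]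
    (r : ℕ) (hr : r.Prime) (hrp : r ≠ p) : ¬ r ∣ q := by
  intro h
  obtain ⟨f, _, hf⟩ := FiniteField.card F p
  have h1 : r ∣ p ^ (f : ℕ) := by
    rw [← hf, hF]
    exact Dvd.dvd.pow h (by norm_num)
  exact hrp ((Nat.prime_dvd_prime_iff_eq hr hp.out).mp (hr.dvd_of_dvd_pow h1))

theorem exists_odd_of_dvd (hF : Fintype.card F = q ^ 2) (p : ℕ) [hp : Fact p.Prime] [CharP F p]
    (D : Fin 2 → Submodule F (Fin n → F)) (k : ℕ) (hn : n = k + k) (hk1 : 1 ≤ k)
    (hpair : TSPair q (D 0) (D 1)) (hk : finrank F (D 0) = k)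
    (r : ℕ) (hr : r.Prime) (hrp : r ≠ p)
    (hdvd : r ∣ (Cfsg.Geo.decompositionStabilizer D).relIndex
      (Cfsg.GU n F q ⊓ Cfsg.Geo.specialLinear (Fin n) F)) :
    ∃ l < k, r ∣ q ^ (2 * l + 1) + 1 := by
  classical
  obtain ⟨fr⟩ := exists_frame hF hpair k hk
  have hΦ : Function.Injective (fr.levHom hn) := by
    intro A B hAB
    apply fr.lev_injective hn
    have := congrArg (fun g : GL (Fin n) F => (g : Matrix (Fin n) (Fin n) F)) hAB
    simpa only [Frame.levHom_val] using this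
  have hΦL : ∀ A, fr.levHom hn A ∈ Cfsg.GU n F q ⊓ Cfsg.Geo.decompositionStabilizer D := by
    intro A
    refine Subgroup.mem_inf.mpr ⟨?_, ?_⟩
    · rw [mem_GU_iff]
      intro u v
      rw [Frame.levHom_val]
      exact fr.lev_pres hn A u v
    · apply mem_stab_of_fix
      · intro u hu
        rw [Frame.levHom_val]
        exact fr.lev_mem0 hpair A u hu
      · intro u hu
        rw [Frame.levHom_val]
        exact fr.lev_mem1 hpair A u hu
  obtain ⟨m, hm⟩ := card_identity hF (by omega) (Cfsg.Geo.decompositionStabilizer D) k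
    (fr.levHom hn) hΦ hΦL
  have hcGL : Nat.card (GL (Fin k) F) = ∏ i : Fin k, ((q ^ 2) ^ k - (q ^ 2) ^ (i : ℕ)) := by
    rw [Matrix.card_GL_field, hF]
  have hcGU := Cfsg.Agent.Lib.Helper16.card_GU hF n
  rw [hcGL, hcGU] at hm
  subst hn
  exact exists_odd_exponent q k r m _ (two_le_q hF) hr (not_dvd_q hF p r hr hrp) hdvd hm

end index

end Cfsg.Agent.Lib.Helper19.PSU
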