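import Mathlib
import Cfsg.Agent.Lib.Helper19.PSUf
import Cfsg.Agent.Lib.Helper6.SUGen1

/-!
# Conjugates in the stabilizer: criteria, and the derangements of unipotent and diagonal type
-/

set_option autoImplicit false
set_option linter.unusedSectionVars false
set_option linter.unusedVariables false

namespace Cfsg.Agent.Lib.Helper19.PSU

open Matrix Module Cfsg Cfsg.Agent.S0779 Cfsg.Agent.Lib.Helper6
open scoped MatrixGroups

section conj
variable {F : Type*} [Field F] [Fintype F] {q n : ℕ}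

local notation "hh" => Cfsg.hermForm n F q

theorem conj_val (x g : GL (Fin n) F) :
    ((g⁻¹ * x * g : GL (Fin n) F) : Matrix (Fin n) (Fin n) F) =
      ((g⁻¹ : GL (Fin n) F) : Matrix (Fin n) (Fin n) F) * (x : Matrix (Fin n) (Fin n) F) *
        (g : Matrix (Fin n) (Fin n) F) := by
  rw [Units.val_mul, Units.val_mul]

theorem inv_mul_val (g : GL (Fin n) F) :
    ((g⁻¹ : GL (Fin n) F) : Matrix (Fin n) (Fin n) F) * (g : Matrix (Fin n) (Fin n) F) = 1 := by
  rw [← Units.val_mul, inv_mul_cancel, Units.val_one]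

theorem mul_inv_val (g : GL (Fin n) F) :
    (g : Matrix (Fin n) (Fin n) F) * ((g⁻¹ : GL (Fin n) F) : Matrix (Fin n) (Fin n) F) = 1 := by
  rw [← Units.val_mul, mul_inv_cancel, Units.val_one]

theorem finrank_eig_conj' (x g : GL (Fin n) F) (c : F) :
    finrank F (eig ((g⁻¹ * x * g : GL (Fin n) F) : Matrix (Fin n) (Fin n) F) c) =
      finrank F (eig (x : Matrix (Fin n) (Fin n) F) c) := by
  rw [conj_val]
  exact finrank_eig_conj _ _ _ (inv_mul_val g) (mul_inv_val g) c

theorem conj_pres (x g : GL (Fin n) F) (hx : x ∈ Cfsg.GU n F q) (hg : g ∈ Cfsg.GU n F q)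
    (u v : Fin n → F) :
    hh (((g⁻¹ * x * g : GL (Fin n) F) : Matrix (Fin n) (Fin n) F) *ᵥ u)
      (((g⁻¹ * x * g : GL (Fin n) F) : Matrix (Fin n) (Fin n) F) *ᵥ v) = hh u v :=
  (mem_GU_iff _).mp (Subgroup.mul_mem _ (Subgroup.mul_mem _ (Subgroup.inv_mem _ hg) hx) hg) u v

theorem conj_pow_val (x g : GL (Fin n) F) (s : ℕ) (z : F)
    (h : (x : Matrix (Fin n) (Fin n) F) ^ s = z • (1 : Matrix (Fin n) (Fin n) F)) :
    ((g⁻¹ * x * g : GL (Fin n) F) : Matrix (Fin n) (Fin n) F) ^ s =
      z • (1 : Matrix (Fin n) (Fin n) F) := by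
  have h1 : g⁻¹ * x * g = g⁻¹ * x * g⁻¹⁻¹ := by rw [inv_inv]
  rw [← Units.val_pow_eq_pow_val, h1, conj_pow, inv_inv, Units.val_mul, Units.val_mul,
    Units.val_pow_eq_pow_val, h, Matrix.mul_smul, Matrix.smul_mul, Matrix.mul_one, inv_mul_val]

variable {D0 D1 : Submodule F (Fin n → F)}

/-- fixing case: eigenspaces for norm-one eigenvalues are even-dimensional -/
theorem even_eig_of_fix (hF : Fintype.card F = q ^ 2) (hp : TSPair q D0 D1) (x g : GL (Fin n) F)
    (hx : x ∈ Cfsg.GU n F q) (hg : g ∈ Cfsg.GU n F q)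
    (h0 : ∀ u ∈ D0, ((g⁻¹ * x * g : GL (Fin n) F) : Matrix (Fin n) (Fin n) F) *ᵥ u ∈ D0)
    (h1 : ∀ u ∈ D1, ((g⁻¹ * x * g : GL (Fin n) F) : Matrix (Fin n) (Fin n) F) *ᵥ u ∈ D1)
    (c : F) (hc : c ^ (q + 1) = 1) (s : ℕ) (hsF : (s : F) ≠ 0)
    (hxs : (x : Matrix (Fin n) (Fin n) F) ^ s = (c ^ s) • (1 : Matrix (Fin n) (Fin n) F)) :
    Even (finrank F (eig (x : Matrix (Fin n) (Fin n) F) c)) := by
  rw [← finrank_eig_conj' x g c]
  exact even_finrank_eig hF hp _ (conj_pres x g hx hg) h0 h1 c hc s hsF (conj_pow_val x g s _ hxs)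

/-- swapping case: a bound for the eigenspaces -/
theorem eig_le_of_swap (hF : Fintype.card F = q ^ 2) (hp : TSPair q D0 D1) (x g : GL (Fin n) F)
    (hsw : ∀ u ∈ D0, ((g⁻¹ * x * g : GL (Fin n) F) : Matrix (Fin n) (Fin n) F) *ᵥ u ∈ D1)
    (c : F) (hc : c ≠ 0) :
    finrank F (eig (x : Matrix (Fin n) (Fin n) F) c) + finrank F D0 ≤ n := by
  rw [← finrank_eig_conj' x g c]
  exact finrank_eig_swap hF hp _ hsw c hc

/-- swapping case: impossible for elements of odd order modulo scalars -/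
theorem false_of_swap_odd (hF : Fintype.card F = q ^ 2) (hp : TSPair q D0 D1)
    (y : Matrix (Fin n) (Fin n) F) (hsw0 : ∀ u ∈ D0, y *ᵥ u ∈ D1) (hsw1 : ∀ u ∈ D1, y *ᵥ u ∈ D0)
    (s : ℕ) (hs : Odd s) (z : F) (hz : z ≠ 0)
    (hys : y ^ s = z • (1 : Matrix (Fin n) (Fin n) F)) (hD0 : 0 < finrank F D0) : False := by
  have key : ∀ m : ℕ, ∀ u ∈ D0, (y ^ (2 * m + 1)) *ᵥ u ∈ D1 := by
    intro m
    induction m with
    | zero =>
      intro u hu
      rw [Nat.mul_zero, Nat.zero_add, pow_one]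
      exact hsw0 u hu
    | succ m ih =>
      intro u hu
      have e : 2 * (m + 1) + 1 = (2 * m + 1) + 2 := by ring
      rw [e, pow_add, pow_two, ← Matrix.mulVec_mulVec, ← Matrix.mulVec_mulVec]
      exact ih _ (hsw1 _ (hsw0 u hu))
  obtain ⟨m, rfl⟩ := hs
  have hbot : D0 = ⊥ := by
    rw [Submodule.eq_bot_iff]
    intro u hu
    have h1 := key m u hu
    rw [hys, Matrix.smul_mulVec, Matrix.one_mulVec] at h1
    have h2 : u ∈ D1 := (Submodule.smul_mem_iff _ hz).mp h1
    have h3 : u ∈ D0 ⊓ D1 := ⟨hu, h2⟩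
    rw [hp.disjoint hF] at h3
    exact (Submodule.mem_bot F).mp h3
  rw [hbot, finrank_bot] at hD0
  exact lt_irrefl 0 hD0

theorem eq_of_mulVec_eq (A B : Matrix (Fin n) (Fin n) F) (h : ∀ u, A *ᵥ u = B *ᵥ u) : A = B := by
  apply Matrix.toLin'.injective
  apply LinearMap.ext
  intro u
  rw [Matrix.toLin'_apply, Matrix.toLin'_apply, h]

end conj

section unipotent
variable {F : Type*} [Field F] [Fintype F] {q n : ℕ}

local notation "hh" => Cfsg.hermForm n F q

theorem finrank_perpL (hF : Fintype.card F = q ^ 2) (v : Fin n → F) (hv : v ≠ 0) :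
    finrank F (perpL (q := q) v) + 1 = n := by
  let ℓ : Module.Dual F (Fin n → F) :=
    { toFun := fun u => hh u v
      map_add' := fun a b => herm_add_left a b v
      map_smul' := fun c a => by
        rw [herm_smul_left]
        rfl }
  have hℓ : ℓ ≠ 0 := by
    intro h
    apply hv
    apply herm_nondeg hF
    intro y
    apply herm_swap_zero hF
    have := LinearMap.congr_fun h y
    exact this
  have hker : LinearMap.ker ℓ = perpL (q := q) v := by
    ext u
    rfl
  have := Module.Dual.finrank_ker_add_one_of_ne_zero hℓ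
  rw [hker, Module.finrank_fin_fun] at this
  exact this

/-- unitary transvections are derangements -/
theorem exists_unipotent_derangement (hF : Fintype.card F = q ^ 2) (p : ℕ) [hp : Fact p.Prime]
    [CharP F p] (hn4 : 4 ≤ n) (D : Fin 2 → Submodule F (Fin n → F))
    (hpair : TSPair q (D 0) (D 1)) :
    ∃ x : GL (Fin n) F, x ∈ Cfsg.GU n F q ⊓ Cfsg.Geo.specialLinear (Fin n) F ∧
      (x : Matrix (Fin n) (Fin n) F) ^ p = 1 ∧
      (∀ z : F, (x : Matrix (Fin n) (Fin n) F) ≠ z • (1 : Matrix (Fin n) (Fin n) F)) ∧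
      ¬ ∃ g ∈ Cfsg.GU n F q ⊓ Cfsg.Geo.specialLinear (Fin n) F,
        g⁻¹ * x * g ∈ Cfsg.Geo.decompositionStabilizer D := by
  classical
  obtain ⟨v, hv0, hvv⟩ := Cfsg.Agent.S0781.exists_iso_vec hF (k := n) (by omega)
  obtain ⟨c, hc0, hc⟩ := Cfsg.Agent.Lib.Helper6.SUG.exists_trace_zero hF
  set M := Cfsg.unitaryTransvection n q v c with hM
  have hMv : ∀ u, M *ᵥ u = u + (c * hh u v) • v := fun u => transvection_mulVec v c u
  have hpres := Cfsg.Agent.S0781.T_pres hF v c hvv hc
  have hdet := Cfsg.Agent.S0781.T_det (q := q) v c hvv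
  obtain ⟨x, hx, hxM⟩ := exists_mem_of_pres hF M hpres hdet
  have hpow : ∀ (i : ℕ) (u : Fin n → F), (M ^ i) *ᵥ u = u + ((i : F) * (c * hh u v)) • v := by
    intro i
    induction i with
    | zero =>
      intro u
      simp
    | succ i ih =>
      intro u
      rw [pow_succ', ← Matrix.mulVec_mulVec, ih, hMv, herm_add_left, herm_smul_left, hvv]
      rw [Nat.cast_succ]
      have : c * (hh u v + (i : F) * (c * hh u v) * 0) = c * hh u v := by ring
      rw [this]
      module
  have hnonperp : ∃ u, hh u v ≠ 0 := by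
    by_contra hcon
    push Not at hcon
    apply hv0
    apply herm_nondeg hF
    intro y
    exact herm_swap_zero hF (hcon y)
  refine ⟨x, hx, ?_, ?_, ?_⟩
  · rw [hxM]
    apply eq_of_mulVec_eq
    intro u
    rw [hpow, CharP.cast_eq_zero F p, zero_mul, zero_smul, add_zero, Matrix.one_mulVec]
  · intro z hz
    rw [hxM] at hz
    have h1 := hMv v
    rw [hvv, mul_zero, zero_smul, add_zero, hz, Matrix.smul_mulVec, Matrix.one_mulVec] at h1
    have hz1 : z = 1 := by
      by_contra hne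
      have : (z - 1) • v = 0 := by rw [sub_smul, h1, one_smul, sub_self]
      rcases smul_eq_zero.mp this with h | h
      · exact hne (sub_eq_zero.mp h)
      · exact hv0 h
    obtain ⟨u, hu⟩ := hnonperp
    have h2 := hMv u
    rw [hz, hz1, one_smul, Matrix.one_mulVec] at h2
    have h3 : (c * hh u v) • v = 0 := by
      have := h2.symm
      rwa [add_eq_left] at this
    rcases smul_eq_zero.mp h3 with h | h
    · rcases mul_eq_zero.mp h with h | h
      · exact hc0 h
      · exact hu h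
    · exact hv0 h
  · have heig : eig M 1 = perpL (q := q) v := by
      ext u
      rw [mem_eig, hMv, one_smul, mem_perpL, add_eq_left]
      constructor
      · intro h
        rcases smul_eq_zero.mp h with h | h
        · rcases mul_eq_zero.mp h with h | h
          · exact absurd h hc0
          · exact h
        · exact absurd h hv0
      · intro h
        rw [h, mul_zero, zero_smul]
    have hfin : finrank F (eig (x : Matrix (Fin n) (Fin n) F) 1) = n - 1 := by
      rw [hxM, heig]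
      have := finrank_perpL hF v hv0
      omega
    rintro ⟨g, hg, hy⟩
    have hxGU : x ∈ Cfsg.GU n F q := (Subgroup.mem_inf.mp hx).1
    have hgGU : g ∈ Cfsg.GU n F q := (Subgroup.mem_inf.mp hg).1
    rcases stab_cases D _ hy with ⟨h0, h1⟩ | ⟨h0, h1⟩
    · exact not_fix_of_codim_one hF hpair _ (conj_pres x g hxGU hgGU) h0 h1 (by omega)
        (by rw [finrank_eig_conj', hfin])
    · have h2 := eig_le_of_swap hF hpair x g h0 1 one_ne_zero
      have h3 := hpair.finrank_left hF
      omega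

end unipotent

end Cfsg.Agent.Lib.Helper19.PSU
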