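import Mathlib
import Cfsg.Agent.Lib.Helper19.PSUg

/-!
# Diagonal derangements
-/

set_option autoImplicit false
set_option linter.unusedSectionVars false
set_option linter.unusedVariables false

namespace Cfsg.Agent.Lib.Helper19.PSU

open Matrix Module Cfsg Cfsg.Agent.S0779 Cfsg.Agent.Lib.Helper6
open scoped MatrixGroups

section diag
variable {F : Type*} [Field F] [Fintype F] {q n : ℕ}

local notation "hh" => Cfsg.hermForm n F q

theorem finrank_eig_diagonal [DecidableEq F] (d : Fin n → F) (c : F) :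
    finrank F (eig (Matrix.diagonal d) c) = Fintype.card {i // d i = c} := by
  have h1 : Matrix.diagonal d - c • (1 : Matrix (Fin n) (Fin n) F) =
      Matrix.diagonal (fun i => d i - c) := by
    ext i j
    by_cases hij : i = j
    · subst hij
      simp
    · simp [hij]
  unfold eig
  rw [h1]
  have h2 := LinearMap.finrank_range_add_finrank_ker
    (Matrix.toLin' (Matrix.diagonal (fun i => d i - c)))
  rw [Module.finrank_fin_fun] at h2
  have h3 : finrank F (LinearMap.range (Matrix.toLin' (Matrix.diagonal (fun i => d i - c)))) =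
      Fintype.card {i // d i - c ≠ 0} := by
    rw [← Matrix.rank_diagonal, Matrix.rank, Matrix.toLin'_apply']
  have h4 : Fintype.card {i // d i - c ≠ 0} = Fintype.card {i // ¬ d i = c} :=
    Fintype.card_congr (Equiv.subtypeEquivRight (fun i => by rw [Ne, sub_eq_zero]))
  rw [h3, h4, Fintype.card_subtype_compl, Fintype.card_fin] at h2
  have h5 : Fintype.card {i // d i = c} ≤ n := by
    simpa using Fintype.card_subtype_le (fun i => d i = c)
  omega

theorem cast_ne_zero_of_ne (p : ℕ) [hp : Fact p.Prime] [CharP F p] (r : ℕ) (hr : r.Prime)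
    (hrp : r ≠ p) : (r : F) ≠ 0 := by
  intro h
  have h1 := (CharP.cast_eq_zero_iff F p r).mp h
  exact hrp ((Nat.prime_dvd_prime_iff_eq hp.out hr).mp h1).symm

/-- derangements of odd prime order dividing `q + 1` -/
theorem exists_diag_derangement_odd (hF : Fintype.card F = q ^ 2) (p : ℕ) [hp : Fact p.Prime]
    [CharP F p] (hn4 : 4 ≤ n) (D : Fin 2 → Submodule F (Fin n → F))
    (hpair : TSPair q (D 0) (D 1)) (r : ℕ) (hr : r.Prime) (hrp : r ≠ p) (hodd : Odd r)
    (hdvd : r ∣ q + 1) :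
    ∃ x : GL (Fin n) F, x ∈ Cfsg.GU n F q ⊓ Cfsg.Geo.specialLinear (Fin n) F ∧
      (x : Matrix (Fin n) (Fin n) F) ^ r = 1 ∧
      (∀ z : F, (x : Matrix (Fin n) (Fin n) F) ≠ z • (1 : Matrix (Fin n) (Fin n) F)) ∧
      ¬ ∃ g ∈ Cfsg.GU n F q ⊓ Cfsg.Geo.specialLinear (Fin n) F,
        g⁻¹ * x * g ∈ Cfsg.Geo.decompositionStabilizer D := by
  classical
  obtain ⟨ζ, hζ⟩ := exists_prim_root hF
  obtain ⟨t, ht⟩ := hdvd
  have hr2 : 2 ≤ r := hr.two_le
  have ht0 : t ≠ 0 := by
    rintro rfl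
    omega
  have htlt : t < q + 1 := by
    rw [ht]
    nlinarith [Nat.pos_of_ne_zero ht0]
  set lam : F := (ζ : F) ^ t with hlam
  have hζ1 : (ζ : F) ^ (q + 1) = 1 := by
    rw [← Units.val_pow_eq_pow_val, hζ.pow_eq_one, Units.val_one]
  have hlr : lam ^ r = 1 := by
    rw [hlam, ← pow_mul, mul_comm, ← ht, hζ1]
  have hl1 : lam ≠ 1 := by
    intro h
    have h1 := hζ.pow_ne_one_of_pos_of_lt ht0 htlt
    apply h1
    apply Units.ext
    rw [Units.val_pow_eq_pow_val, Units.val_one]
    exact h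
  have hlq : lam ^ (q + 1) = 1 := by
    rw [hlam, ← pow_mul, mul_comm, pow_mul, hζ1, one_pow]
  have hl0 : lam ≠ 0 := by
    intro h
    rw [h, zero_pow (by omega)] at hlr
    exact zero_ne_one hlr
  have hl2 : lam ^ 2 ≠ 1 := by
    intro h
    obtain ⟨m, hm⟩ := hodd
    rw [hm, pow_add, pow_mul, h, one_pow, one_mul, pow_one] at hlr
    exact hl1 hlr
  have hlinv : lam⁻¹ ≠ lam := by
    intro h
    apply hl2
    rw [pow_two]
    nth_rewrite 1 [← h]
    exact inv_mul_cancel₀ hl0
  set i0 : Fin n := ⟨0, by omega⟩ with hi0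
  set i1 : Fin n := ⟨1, by omega⟩ with hi1
  have h01 : i1 ≠ i0 := by
    intro h
    have := congrArg Fin.val h
    simp [hi0, hi1] at this
  set d : Fin n → F := Function.update (Function.update (fun _ => (1 : F)) i1 lam⁻¹) i0 lam with hd
  have hd0 : d i0 = lam := by rw [hd, Function.update_self]
  have hd1 : d i1 = lam⁻¹ := by
    rw [hd, Function.update_of_ne h01, Function.update_self]
  have hdo : ∀ i, i ≠ i0 → i ≠ i1 → d i = 1 := by
    intro i h0 h1
    rw [hd, Function.update_of_ne h0, Function.update_of_ne h1]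
  have hdq : ∀ i, d i ^ (q + 1) = 1 := by
    intro i
    by_cases h0 : i = i0
    · rw [h0, hd0, hlq]
    · by_cases h1 : i = i1
      · rw [h1, hd1, inv_pow, hlq, inv_one]
      · rw [hdo i h0 h1, one_pow]
  have hdr : ∀ i, d i ^ r = 1 := by
    intro i
    by_cases h0 : i = i0
    · rw [h0, hd0, hlr]
    · by_cases h1 : i = i1
      · rw [h1, hd1, inv_pow, hlr, inv_one]
      · rw [hdo i h0 h1, one_pow]
  have hdet : (Matrix.diagonal d).det = 1 := by
    rw [Matrix.det_diagonal, Finset.prod_eq_mul i0 i1 h01.symm]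
    · rw [hd0, hd1, mul_inv_cancel₀ hl0]
    · intro i _ hi
      exact hdo i hi.1 hi.2
    · intro h
      exact absurd (Finset.mem_univ _) h
    · intro h
      exact absurd (Finset.mem_univ _) h
  obtain ⟨x, hx, hxM⟩ := exists_mem_of_pres hF (Matrix.diagonal d) (diag_pres d hdq) hdet
  have hxr : (x : Matrix (Fin n) (Fin n) F) ^ r = 1 := by
    rw [hxM, Matrix.diagonal_pow]
    have : d ^ r = fun _ => (1 : F) := by
      funext i
      exact hdr i
    rw [this]
    exact Matrix.diagonal_one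
  have hfin : finrank F (eig (x : Matrix (Fin n) (Fin n) F) lam) = 1 := by
    rw [hxM, finrank_eig_diagonal, Fintype.card_eq_one_iff]
    refine ⟨⟨i0, hd0⟩, ?_⟩
    rintro ⟨i, hi⟩
    apply Subtype.ext
    change i = i0
    by_contra h0
    by_cases h1 : i = i1
    · rw [h1, hd1] at hi
      exact hlinv hi
    · rw [hdo i h0 h1] at hi
      exact hl1 hi.symm
  refine ⟨x, hx, hxr, ?_, ?_⟩
  · intro z hz
    rw [hxM] at hz
    have e0 := congrFun (congrFun hz i0) i0
    have e1 := congrFun (congrFun hz i1) i1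
    rw [Matrix.diagonal_apply_eq, Matrix.smul_apply, Matrix.one_apply_eq, smul_eq_mul, mul_one]
      at e0 e1
    rw [hd0] at e0
    rw [hd1] at e1
    exact hlinv (e1.trans e0.symm)
  · rintro ⟨g, hg, hy⟩
    have hxGU : x ∈ Cfsg.GU n F q := (Subgroup.mem_inf.mp hx).1
    have hgGU : g ∈ Cfsg.GU n F q := (Subgroup.mem_inf.mp hg).1
    rcases stab_cases D _ hy with ⟨h0, h1⟩ | ⟨h0, h1⟩
    · have := even_eig_of_fix hF hpair x g hxGU hgGU h0 h1 lam hlq r
        (cast_ne_zero_of_ne p r hr hrp) (by rw [hxr, hlr, one_smul])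
      rw [hfin] at this
      exact absurd this (by decide)
    · have h3 := hpair.finrank_left hF
      exact false_of_swap_odd hF hpair _ h0 h1 r hodd 1 one_ne_zero
        (conj_pow_val x g r 1 (by rw [hxr, one_smul])) (by omega)

theorem two_adic_decomp (n : ℕ) (hn : n ≠ 0) :
    ∃ n', Odd n' ∧ n = 2 ^ (padicValNat 2 n) * n' := by
  refine ⟨n / 2 ^ (n.factorization 2), ?_, ?_⟩
  · rw [← Nat.not_even_iff_odd, even_iff_two_dvd]
    exact Nat.not_dvd_ordCompl Nat.prime_two hn
  · rw [← Nat.factorization_def n Nat.prime_two]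
    exact (Nat.ordProj_mul_ordCompl_eq_self n 2).symm

/-- derangements of order two modulo scalars when `(q + 1)_2 > n_2` -/
theorem exists_diag_derangement_two (hF : Fintype.card F = q ^ 2) (p : ℕ) [hp : Fact p.Prime]
    [CharP F p] (hp2 : p ≠ 2) (hn4 : 4 ≤ n) (hne : Even n)
    (D : Fin 2 → Submodule F (Fin n → F)) (hpair : TSPair q (D 0) (D 1))
    (hlt : padicValNat 2 n < padicValNat 2 (q + 1)) :
    ∃ x : GL (Fin n) F, x ∈ Cfsg.GU n F q ⊓ Cfsg.Geo.specialLinear (Fin n) F ∧
      (∃ z : F, (x : Matrix (Fin n) (Fin n) F) ^ 2 = z • (1 : Matrix (Fin n) (Fin n) F)) ∧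
      (∀ z : F, (x : Matrix (Fin n) (Fin n) F) ≠ z • (1 : Matrix (Fin n) (Fin n) F)) ∧
      ¬ ∃ g ∈ Cfsg.GU n F q ⊓ Cfsg.Geo.specialLinear (Fin n) F,
        g⁻¹ * x * g ∈ Cfsg.Geo.decompositionStabilizer D := by
  classical
  obtain ⟨ζ, hζ⟩ := exists_prim_root hF
  have h2F : ((2 : ℕ) : F) ≠ 0 := cast_ne_zero_of_ne p 2 Nat.prime_two (Ne.symm hp2)
  have h2F' : (2 : F) ≠ 0 := by exact_mod_cast h2F
  set b := padicValNat 2 n with hb
  obtain ⟨n', hn'odd, hn'⟩ := two_adic_decomp n (by omega)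
  have hdvd : 2 ^ (b + 1) ∣ q + 1 :=
    dvd_trans (pow_dvd_pow 2 (by omega)) (pow_padicValNat_dvd (p := 2) (n := q + 1))
  obtain ⟨t, ht⟩ := hdvd
  have ht0 : t ≠ 0 := by
    rintro rfl
    omega
  have hζ1 : (ζ : F) ^ (q + 1) = 1 := by
    rw [← Units.val_pow_eq_pow_val, hζ.pow_eq_one, Units.val_one]
  set mu : F := (ζ : F) ^ t with hmu
  have hmq : mu ^ (q + 1) = 1 := by
    rw [hmu, ← pow_mul, mul_comm, pow_mul, hζ1, one_pow]
  have hm0 : mu ≠ 0 := by
    intro h
    rw [h, zero_pow (by omega)] at hmq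
    exact zero_ne_one hmq
  have hw : mu ^ (2 ^ b) = -1 := by
    have hw2 : (mu ^ (2 ^ b)) ^ 2 = 1 := by
      rw [← pow_mul, ← pow_succ, hmu, ← pow_mul, mul_comm, ← ht, hζ1]
    have hw1 : mu ^ (2 ^ b) ≠ 1 := by
      intro h
      have hpos : t * 2 ^ b ≠ 0 := Nat.mul_ne_zero ht0 (by positivity)
      have hlt' : t * 2 ^ b < q + 1 := by
        rw [ht, pow_succ]
        have : 0 < t * 2 ^ b := Nat.pos_of_ne_zero hpos
        nlinarith
      have h1 := hζ.pow_ne_one_of_pos_of_lt hpos hlt'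
      apply h1
      apply Units.ext
      rw [Units.val_pow_eq_pow_val, Units.val_one, pow_mul]
      exact h
    have h3 : (mu ^ (2 ^ b) - 1) * (mu ^ (2 ^ b) + 1) = 0 := by
      have : (mu ^ (2 ^ b) - 1) * (mu ^ (2 ^ b) + 1) = (mu ^ (2 ^ b)) ^ 2 - 1 := by ring
      rw [this, hw2, sub_self]
    rcases mul_eq_zero.mp h3 with h | h
    · exact absurd (sub_eq_zero.mp h) hw1
    · exact eq_neg_of_add_eq_zero_left h
  have hmn : mu ^ n = -1 := by
    rw [hn', pow_mul, hw, hn'odd.neg_one_pow]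
  have hqeven : Even (q + 1) := by
    rw [even_iff_two_dvd]
    exact dvd_trans (dvd_pow_self 2 (by omega)) ⟨t, ht⟩
  set i0 : Fin n := ⟨0, by omega⟩ with hi0
  set i1 : Fin n := ⟨1, by omega⟩ with hi1
  have h01 : i1 ≠ i0 := by
    intro h
    have := congrArg Fin.val h
    simp [hi0, hi1] at this
  set d : Fin n → F := Function.update (fun _ => mu) i0 (-mu) with hd
  have hd0 : d i0 = -mu := by rw [hd, Function.update_self]
  have hdo : ∀ i, i ≠ i0 → d i = mu := by
    intro i h0
    rw [hd, Function.update_of_ne h0]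
  have hdq : ∀ i, d i ^ (q + 1) = 1 := by
    intro i
    by_cases h0 : i = i0
    · rw [h0, hd0, hqeven.neg_pow, hmq]
    · rw [hdo i h0, hmq]
  have hd2 : ∀ i, d i ^ 2 = mu ^ 2 := by
    intro i
    by_cases h0 : i = i0
    · rw [h0, hd0, neg_sq]
    · rw [hdo i h0]
  have hdet : (Matrix.diagonal d).det = 1 := by
    rw [Matrix.det_diagonal, hd, Finset.prod_update_of_mem (Finset.mem_univ i0),
      Finset.prod_const, Finset.card_sdiff_of_subset (Finset.subset_univ _), Finset.card_univ,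
      Fintype.card_fin,
      Finset.card_singleton]
    have : mu ^ n = mu * mu ^ (n - 1) := by
      rw [← pow_succ']
      congr 1
      omega
    rw [this] at hmn
    rw [neg_mul, hmn, neg_neg]
  obtain ⟨x, hx, hxM⟩ := exists_mem_of_pres hF (Matrix.diagonal d) (diag_pres d hdq) hdet
  have hx2 : (x : Matrix (Fin n) (Fin n) F) ^ 2 = (mu ^ 2) • (1 : Matrix (Fin n) (Fin n) F) := by
    rw [hxM, Matrix.diagonal_pow, Matrix.smul_one_eq_diagonal]
    congr 1
    funext i
    exact hd2 i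
  have hneg : -mu ≠ mu := by
    intro h
    have : (2 : F) * mu = 0 := by
      have h' : mu + mu = 0 := by
        nth_rewrite 1 [← h]
        exact neg_add_cancel mu
      rw [two_mul]
      exact h'
    rcases mul_eq_zero.mp this with h | h
    · exact h2F' h
    · exact hm0 h
  have hfin : finrank F (eig (x : Matrix (Fin n) (Fin n) F) mu) = n - 1 := by
    rw [hxM, finrank_eig_diagonal]
    have h1 : Fintype.card {i // ¬ d i = mu} = 1 := by
      rw [Fintype.card_eq_one_iff]
      refine ⟨⟨i0, by rw [hd0]; exact hneg⟩, ?_⟩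
      rintro ⟨i, hi⟩
      apply Subtype.ext
      change i = i0
      by_contra h0
      exact hi (hdo i h0)
    rw [Fintype.card_subtype_compl, Fintype.card_fin] at h1
    have h5 : Fintype.card {i // d i = mu} ≤ n := by
      simpa using Fintype.card_subtype_le (fun i => d i = mu)
    omega
  refine ⟨x, hx, ⟨mu ^ 2, hx2⟩, ?_, ?_⟩
  · intro z hz
    rw [hxM] at hz
    have e0 := congrFun (congrFun hz i0) i0
    have e1 := congrFun (congrFun hz i1) i1
    rw [Matrix.diagonal_apply_eq, Matrix.smul_apply, Matrix.one_apply_eq, smul_eq_mul, mul_one]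
      at e0 e1
    rw [hd0] at e0
    rw [hdo i1 h01] at e1
    exact hneg (e0.trans e1.symm)
  · rintro ⟨g, hg, hy⟩
    have hxGU : x ∈ Cfsg.GU n F q := (Subgroup.mem_inf.mp hx).1
    have hgGU : g ∈ Cfsg.GU n F q := (Subgroup.mem_inf.mp hg).1
    have h3 := hpair.finrank_left hF
    rcases stab_cases D _ hy with ⟨h0, h1⟩ | ⟨h0, h1⟩
    · have := even_eig_of_fix hF hpair x g hxGU hgGU h0 h1 mu hmq 2 h2F hx2
      rw [hfin] at this
      obtain ⟨a, ha⟩ := hne
      obtain ⟨a', ha'⟩ := this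
      omega
    · have h2 := eig_le_of_swap hF hpair x g h0 mu hm0
      rw [hfin] at h2
      omega

end diag

end Cfsg.Agent.Lib.Helper19.PSU
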