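import Mathlib
import Cfsg.Agent.Lib.Helper19.PSUh

/-!
# Transport of isometries to the standard hermitian space, and the extension field model
-/

set_option autoImplicit false
set_option linter.unusedSectionVars false
set_option linter.unusedVariables false

namespace Cfsg.Agent.Lib.Helper19.PSU

open Matrix Module Cfsg Cfsg.Agent.S0779 Cfsg.Agent.Lib.Helper6
open scoped MatrixGroups

section transport
variable {F : Type*} [Field F] [Fintype F] {q : ℕ}

/-- an isometry of a nondegenerate hermitian space gives a matrix preserving the standard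
hermitian form, with the same determinant, order and eigenspace dimensions -/
theorem exists_std_matrix' (hF : Fintype.card F = q ^ 2) {U : Type*} [AddCommGroup U] [Module F U]
    [FiniteDimensional F U] (B : U →ₛₗ[conjQ hF] U →ₗ[F] F) (hS : B.IsSymm)
    (hN : ∀ u, (∀ v, B u v = 0) → u = 0) (k : ℕ) (hk : finrank F U = k) (T : U →ₗ[F] U)
    (hT : ∀ x y, B (T x) (T y) = B x y) :
    ∃ M : Matrix (Fin k) (Fin k) F,
      (∀ u v, hermForm k F q (M *ᵥ u) (M *ᵥ v) = hermForm k F q u v) ∧
      M.det = LinearMap.det T ∧ (∀ s : ℕ, T ^ s = 1 → M ^ s = 1) ∧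
      (∀ c : F, finrank F (eig M c) = finrank F (LinearMap.ker (T - c • LinearMap.id))) := by
  classical
  obtain ⟨φ, hφ⟩ := exists_std_herm hF B hS hN k hk
  set T' : (Fin k → F) →ₗ[F] (Fin k → F) := φ.conj T with hT'
  set M := LinearMap.toMatrix' T' with hM
  have hMv : ∀ x, M *ᵥ x = φ (T (φ.symm x)) := by
    intro x
    rw [hM, LinearMap.toMatrix'_mulVec, hT', LinearEquiv.conj_apply]
    rfl
  refine ⟨M, ?_, ?_, ?_, ?_⟩
  · intro x y
    rw [hMv, hMv, hφ, hT, ← hφ, LinearEquiv.apply_symm_apply, LinearEquiv.apply_symm_apply]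
  · rw [hM, LinearMap.det_toMatrix', hT', LinearEquiv.conj_apply, LinearMap.comp_assoc,
      LinearMap.det_conj]
  · intro s hs
    have hpow : ∀ (i : ℕ) (x : Fin k → F), (M ^ i) *ᵥ x = φ ((T ^ i) (φ.symm x)) := by
      intro i
      induction i with
      | zero =>
        intro x
        simp
      | succ i ih =>
        intro x
        rw [pow_succ, ← Matrix.mulVec_mulVec, ih, hMv, LinearEquiv.symm_apply_apply, pow_succ,
          Module.End.mul_apply]
    apply eq_of_mulVec_eq
    intro x
    rw [hpow, hs, Module.End.one_apply, LinearEquiv.apply_symm_apply, Matrix.one_mulVec]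
  · intro c
    have h1 : eig M c = (LinearMap.ker (T - c • LinearMap.id)).map (φ : U →ₗ[F] (Fin k → F)) := by
      ext v
      rw [mem_eig, Submodule.mem_map]
      constructor
      · intro h
        refine ⟨φ.symm v, ?_, ?_⟩
        · rw [LinearMap.mem_ker, LinearMap.sub_apply, LinearMap.smul_apply, LinearMap.id_apply,
            sub_eq_zero]
          apply φ.injective
          rw [map_smul, LinearEquiv.apply_symm_apply, ← hMv]
          exact h
        · exact LinearEquiv.apply_symm_apply φ v
      · rintro ⟨u, hu, rfl⟩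
        rw [LinearMap.mem_ker, LinearMap.sub_apply, LinearMap.smul_apply, LinearMap.id_apply,
          sub_eq_zero] at hu
        rw [hMv]
        change φ (T (φ.symm (φ u))) = c • φ u
        rw [LinearEquiv.symm_apply_apply, hu, map_smul]
    rw [h1]
    exact LinearEquiv.finrank_map_eq φ _

end transport

section model
variable {F : Type*} [Field F] [Fintype F] {q : ℕ}

theorem pow_q_pow_odd (hF : Fintype.card F = q ^ 2) (j : ℕ) (hj : Odd j) (c : F) :
    c ^ (q ^ j) = c ^ q := by
  obtain ⟨i, rfl⟩ := hj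
  have h1 : q ^ (2 * i + 1) = (q ^ 2) ^ i * q := by
    rw [pow_succ, pow_mul]
  rw [h1, pow_mul, ← hF, FiniteField.pow_card_pow]

theorem not_dvd_sq_sub_one (r j : ℕ) (hr : r.Prime) (hodd : Odd r) (q : ℕ) (hq : 1 ≤ q)
    (hdvd : r ∣ q ^ j + 1) (hndvd : ¬ r ∣ q + 1) : ¬ r ∣ q ^ 2 - 1 := by
  intro h
  have h1 : q ^ 2 - 1 = (q - 1) * (q + 1) := by
    obtain ⟨a, rfl⟩ : ∃ a, q = a + 1 := ⟨q - 1, by omega⟩
    simp only [Nat.add_sub_cancel]
    have : (a + 1) ^ 2 = a * (a + 1 + 1) + 1 := by ring
    rw [this, Nat.add_sub_cancel]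
  rw [h1] at h
  rcases (Nat.Prime.dvd_mul hr).mp h with h2 | h2
  · have h3 : q ≡ 1 [MOD r] := by
      have : 1 ≡ q [MOD r] := (Nat.modEq_iff_dvd' hq).mpr h2
      exact this.symm
    have h4 : q ^ j + 1 ≡ 1 ^ j + 1 [MOD r] := Nat.ModEq.add_right 1 (h3.pow j)
    rw [one_pow] at h4
    have h5 : r ∣ 2 := (h4.dvd_iff (dvd_refl r)).mp hdvd
    have h6 : r = 2 := (Nat.prime_dvd_prime_iff_eq hr Nat.prime_two).mp h5
    rw [h6] at hodd
    exact absurd hodd (by decide)
  · exact hndvd h2

variable (p : ℕ) [Fact p.Prime] [CharP F p] (j : ℕ) [NeZero j]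

/-- the extension field of degree `j` -/
abbrev EE (F : Type*) [Field F] [Fintype F] (p : ℕ) [Fact p.Prime] [CharP F p] (j : ℕ)
    [NeZero j] : Type :=
  FiniteField.Extension F p j

noncomputable instance instFintypeEE : Fintype (EE F p j) := Fintype.ofFinite _

theorem card_EE (hF : Fintype.card F = q ^ 2) : Fintype.card (EE F p j) = (q ^ j) ^ 2 := by
  rw [← Nat.card_eq_fintype_card, FiniteField.natCard_extension, Nat.card_eq_fintype_card, hF,
    ← pow_mul, ← pow_mul, mul_comm]

/-- the involutory field automorphism `x ↦ x ^ (q ^ j)` of the extension field -/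
noncomputable def sgE (hF : Fintype.card F = q ^ 2) : EE F p j →+* EE F p j :=
  conjQ (card_EE p j hF)

theorem sgE_apply (hF : Fintype.card F = q ^ 2) (x : EE F p j) : sgE p j hF x = x ^ (q ^ j) := rfl

theorem sgE_sgE (hF : Fintype.card F = q ^ 2) (x : EE F p j) : sgE p j hF (sgE p j hF x) = x :=
  conjQ_conjQ (card_EE p j hF) x

theorem sgE_algebraMap (hF : Fintype.card F = q ^ 2) (hj : Odd j) (c : F) :
    sgE p j hF (algebraMap F (EE F p j) c) = algebraMap F (EE F p j) (conjQ hF c) := by
  rw [sgE_apply, ← map_pow, pow_q_pow_odd hF j hj, conjQ_apply]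

theorem trace_sgE (hF : Fintype.card F = q ^ 2) (hj : Odd j) (z : EE F p j) :
    Algebra.trace F (EE F p j) (sgE p j hF z) = conjQ hF (Algebra.trace F (EE F p j) z) := by
  apply (algebraMap F (EE F p j)).injective
  rw [← sgE_algebraMap p j hF hj, FiniteField.algebraMap_trace_eq_sum_pow,
    FiniteField.algebraMap_trace_eq_sum_pow, map_sum]
  apply Finset.sum_congr rfl
  intro i _
  rw [map_pow]

end model

end Cfsg.Agent.Lib.Helper19.PSU
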