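import Mathlib
import Cfsg.Agent.Lib.Helper19.PSUi

/-!
# The extension field model: semisimple derangements of odd prime order not dividing `q + 1`
-/

set_option autoImplicit false
set_option linter.unusedSectionVars false
set_option linter.unusedVariables false

namespace Cfsg.Agent.Lib.Helper19.PSU

open Matrix Module Cfsg Cfsg.Agent.S0779 Cfsg.Agent.Lib.Helper6
open scoped MatrixGroups

section modelform
variable {F : Type*} [Field F] [Fintype F] {q : ℕ} (p : ℕ) [Fact p.Prime] [CharP F p] (j : ℕ)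
  [NeZero j] (m : ℕ)

/-- the hermitian form on the model space `E × F^m` -/
noncomputable def BU (hF : Fintype.card F = q ^ 2) (hj : Odd j) :
    (EE F p j × (Fin m → F)) →ₛₗ[conjQ hF] (EE F p j × (Fin m → F)) →ₗ[F] F :=
  LinearMap.mk₂'ₛₗ (conjQ hF) (RingHom.id F)
    (fun x y => Algebra.trace F (EE F p j) (sgE p j hF x.1 * y.1) + hermForm m F q y.2 x.2)
    (fun x x' y => by
      simp only [Prod.fst_add, Prod.snd_add, map_add, add_mul, herm_add_right hF]
      ring)
    (fun c x y => by
      simp only [Prod.smul_fst, Prod.smul_snd, herm_smul_right, smul_eq_mul]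
      rw [Algebra.smul_def, map_mul (sgE p j hF), sgE_algebraMap p j hF hj, ← Algebra.smul_def,
        smul_mul_assoc, map_smul, smul_eq_mul, conjQ_apply]
      ring)
    (fun x y y' => by
      simp only [Prod.fst_add, Prod.snd_add, mul_add, map_add, herm_add_left]
      ring)
    (fun c x y => by
      simp only [Prod.smul_fst, Prod.smul_snd, herm_smul_left, smul_eq_mul, RingHom.id_apply,
        mul_smul_comm, map_smul]
      ring)

theorem BU_apply (hF : Fintype.card F = q ^ 2) (hj : Odd j) (x y : EE F p j × (Fin m → F)) :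
    BU p j m hF hj x y =
      Algebra.trace F (EE F p j) (sgE p j hF x.1 * y.1) + hermForm m F q y.2 x.2 := rfl

theorem BU_isSymm (hF : Fintype.card F = q ^ 2) (hj : Odd j) : (BU p j m hF hj).IsSymm :=
  ⟨fun x y => by
    rw [BU_apply, BU_apply, map_add, ← trace_sgE p j hF hj, map_mul, sgE_sgE, conjQ_apply,
      herm_conj hF, mul_comm]⟩

theorem BU_nondeg (hF : Fintype.card F = q ^ 2) (hj : Odd j) (u : EE F p j × (Fin m → F))
    (hu : ∀ v, BU p j m hF hj u v = 0) : u = 0 := by
  apply Prod.ext
  · have h1 : sgE p j hF u.1 = 0 := by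
      apply (traceForm_nondegenerate F (EE F p j)).1
      intro b
      have := hu (b, 0)
      rw [BU_apply, herm_zero_left, add_zero] at this
      rw [Algebra.traceForm_apply]
      exact this
    exact (map_eq_zero (sgE p j hF)).mp h1
  · apply herm_nondeg hF
    intro y
    apply herm_swap_zero hF
    have := hu (0, y)
    rw [BU_apply, mul_zero, map_zero, zero_add] at this
    exact this

/-- the matrix model of a semisimple element of order `r` with fixed space of dimension `m` -/
theorem exists_model_matrix {F : Type*} [Field F] [Fintype F] {q : ℕ} (p : ℕ) [Fact p.Prime]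
    [CharP F p] (j : ℕ) [NeZero j] (m : ℕ)
    (hF : Fintype.card F = q ^ 2) (hj : Odd j) (r : ℕ) (hr : r.Prime)
    (hodd : Odd r) (hdvd : r ∣ q ^ j + 1) (hndvd : ¬ r ∣ q + 1) :
    ∃ M : Matrix (Fin (j + m)) (Fin (j + m)) F,
      (∀ u v, hermForm (j + m) F q (M *ᵥ u) (M *ᵥ v) = hermForm (j + m) F q u v) ∧
      M.det = 1 ∧ M ^ r = 1 ∧ finrank F (eig M 1) = m := by
  classical
  haveI : Fact r.Prime := ⟨hr⟩
  have hq : 2 ≤ q := two_le_q hF
  have hqj : 1 ≤ q ^ j := Nat.one_le_pow _ _ (by omega)
  -- an element of order `r`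
  have hcard : Nat.card (EE F p j)ˣ = (q ^ j) ^ 2 - 1 := by
    rw [Nat.card_units, Nat.card_eq_fintype_card, card_EE p j hF]
  have hdvd' : r ∣ Nat.card (EE F p j)ˣ := by
    rw [hcard]
    have : (q ^ j) ^ 2 - 1 = (q ^ j - 1) * (q ^ j + 1) := by
      obtain ⟨a, ha⟩ : ∃ a, q ^ j = a + 1 := ⟨q ^ j - 1, by omega⟩
      rw [ha]
      simp only [Nat.add_sub_cancel]
      have : (a + 1) ^ 2 = a * (a + 1 + 1) + 1 := by ring
      rw [this, Nat.add_sub_cancel]
    rw [this]
    exact Dvd.dvd.mul_left hdvd _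
  obtain ⟨u, hu⟩ := exists_prime_orderOf_dvd_card' r hdvd'
  set lam : EE F p j := (u : EE F p j) with hlam
  have hlr : lam ^ r = 1 := by
    rw [hlam, ← Units.val_pow_eq_pow_val, ← hu, pow_orderOf_eq_one, Units.val_one]
  have hl1 : lam ≠ 1 := by
    intro h
    have : u = 1 := Units.ext h
    rw [this, orderOf_one] at hu
    exact hr.one_lt.ne hu
  have hlq : lam ^ (q ^ j + 1) = 1 := by
    obtain ⟨t, ht⟩ := hdvd
    rw [ht, pow_mul, hlr, one_pow]
  have hsl : sgE p j hF lam * lam = 1 := by
    rw [sgE_apply, ← pow_succ, hlq]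
  -- the norm is one
  have hnorm : Algebra.norm F lam = 1 := by
    have h1 : (Algebra.norm F lam) ^ r = 1 := by rw [← map_pow, hlr, map_one]
    have h0 : Algebra.norm F lam ≠ 0 := by
      intro h
      rw [h, zero_pow hr.ne_zero] at h1
      exact zero_ne_one h1
    have h2 : (Algebra.norm F lam) ^ (q ^ 2 - 1) = 1 := by
      rw [← hF]
      exact FiniteField.pow_card_sub_one_eq_one _ h0
    have h3 : Nat.gcd r (q ^ 2 - 1) = 1 :=
      (Nat.Prime.coprime_iff_not_dvd hr).mpr
        (not_dvd_sq_sub_one r j hr hodd q (by omega) hdvd hndvd)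
    have h4 := pow_gcd_eq_one.mpr ⟨h1, h2⟩
    rw [h3, pow_one] at h4
    exact h4
  -- the isometry
  set T : (EE F p j × (Fin m → F)) →ₗ[F] (EE F p j × (Fin m → F)) :=
    (LinearMap.mulLeft F lam).prodMap LinearMap.id with hT
  have hTapp : ∀ x, T x = (lam * x.1, x.2) := fun x => rfl
  have hTiso : ∀ x y, BU p j m hF hj (T x) (T y) = BU p j m hF hj x y := by
    intro x y
    rw [BU_apply, BU_apply, hTapp, hTapp]
    simp only
    rw [map_mul (sgE p j hF)]
    have : sgE p j hF lam * sgE p j hF x.1 * (lam * y.1) =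
        (sgE p j hF lam * lam) * (sgE p j hF x.1 * y.1) := by ring
    rw [this, hsl, one_mul]
  have hk : finrank F (EE F p j × (Fin m → F)) = j + m := by
    rw [Module.finrank_prod, FiniteField.finrank_extension, Module.finrank_fin_fun]
  obtain ⟨M, hM1, hM2, hM3, hM4⟩ := exists_std_matrix' hF (BU p j m hF hj) (BU_isSymm p j m hF hj)
    (BU_nondeg p j m hF hj) (j + m) hk T hTiso
  refine ⟨M, hM1, ?_, ?_, ?_⟩
  · rw [hM2, hT, LinearMap.det_prodMap, LinearMap.det_id, mul_one]
    exact hnorm
  · apply hM3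
    have hpow : ∀ (s : ℕ) x, (T ^ s) x = (lam ^ s * x.1, x.2) := by
      intro s
      induction s with
      | zero =>
        intro x
        simp
      | succ s ih =>
        intro x
        rw [pow_succ, Module.End.mul_apply, ih, hTapp]
        simp only
        rw [pow_succ, mul_assoc]
    apply LinearMap.ext
    intro x
    rw [hpow, hlr, one_mul, Module.End.one_apply]
  · rw [hM4]
    have h1 : LinearMap.ker (T - (1 : F) • LinearMap.id) =
        LinearMap.ker (LinearMap.fst F (EE F p j) (Fin m → F)) := by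
      ext x
      rw [LinearMap.mem_ker, LinearMap.mem_ker, LinearMap.sub_apply, LinearMap.smul_apply,
        LinearMap.id_apply, one_smul, hTapp, LinearMap.fst_apply, sub_eq_zero]
      constructor
      · intro h
        have h2 : lam * x.1 = x.1 := congrArg Prod.fst h
        have h3 : (lam - 1) * x.1 = 0 := by rw [sub_mul, h2, one_mul, sub_self]
        rcases mul_eq_zero.mp h3 with h4 | h4
        · exact absurd (sub_eq_zero.mp h4) hl1
        · exact h4
      · intro h
        apply Prod.ext
        · simp only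
          rw [h, mul_zero]
        · rfl
    rw [h1, LinearMap.ker_fst, LinearMap.finrank_range_of_inj LinearMap.inr_injective,
      Module.finrank_fin_fun]

end modelform

section derangement
variable {F : Type*} [Field F] [Fintype F] {q n : ℕ}

/-- derangements of odd prime order `r` dividing `q ^ j + 1` (`j` odd) but not `q + 1` -/
theorem exists_model_derangement (hF : Fintype.card F = q ^ 2) (p : ℕ) [hp : Fact p.Prime]
    [CharP F p] (hn4 : 4 ≤ n) (hne : Even n) (D : Fin 2 → Submodule F (Fin n → F))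
    (hpair : TSPair q (D 0) (D 1)) (r : ℕ) (hr : r.Prime) (hrp : r ≠ p) (hodd : Odd r)
    (j : ℕ) (hj : Odd j) (hjn : j < n) (hdvd : r ∣ q ^ j + 1) (hndvd : ¬ r ∣ q + 1) :
    ∃ x : GL (Fin n) F, x ∈ Cfsg.GU n F q ⊓ Cfsg.Geo.specialLinear (Fin n) F ∧
      (x : Matrix (Fin n) (Fin n) F) ^ r = 1 ∧
      (∀ z : F, (x : Matrix (Fin n) (Fin n) F) ≠ z • (1 : Matrix (Fin n) (Fin n) F)) ∧
      ¬ ∃ g ∈ Cfsg.GU n F q ⊓ Cfsg.Geo.specialLinear (Fin n) F,
        g⁻¹ * x * g ∈ Cfsg.Geo.decompositionStabilizer D := by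
  classical
  obtain ⟨m, rfl⟩ : ∃ m, n = j + m := ⟨n - j, by omega⟩
  haveI : NeZero j := ⟨by
    rintro rfl
    exact absurd hj (by decide)⟩
  have hm : Odd m := by
    obtain ⟨a, ha⟩ := hne
    obtain ⟨b, hb⟩ := hj
    exact ⟨a - b - 1, by omega⟩
  obtain ⟨M, hM1, hM2, hM3, hM4⟩ := exists_model_matrix p j m hF hj r hr hodd hdvd hndvd
  obtain ⟨x, hx, hxM⟩ := exists_mem_of_pres hF M hM1 hM2
  have hxr : (x : Matrix (Fin (j + m)) (Fin (j + m)) F) ^ r = 1 := by rw [hxM, hM3]
  have hfin : finrank F (eig (x : Matrix (Fin (j + m)) (Fin (j + m)) F) 1) = m := by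
    rw [hxM, hM4]
  refine ⟨x, hx, hxr, ?_, ?_⟩
  · intro z hz
    rw [hz] at hfin
    by_cases hz1 : z = 1
    · have : eig (z • (1 : Matrix (Fin (j + m)) (Fin (j + m)) F)) 1 = ⊤ := by
        rw [eq_top_iff]
        intro v _
        rw [mem_eig, hz1, one_smul, Matrix.one_mulVec, one_smul]
      rw [this, finrank_top, Module.finrank_fin_fun] at hfin
      have := NeZero.ne j
      omega
    · have : eig (z • (1 : Matrix (Fin (j + m)) (Fin (j + m)) F)) 1 = ⊥ := by
        rw [Submodule.eq_bot_iff]
        intro v hv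
        rw [mem_eig, Matrix.smul_mulVec, Matrix.one_mulVec, one_smul] at hv
        have h3 : (z - 1) • v = 0 := by rw [sub_smul, hv, one_smul, sub_self]
        rcases smul_eq_zero.mp h3 with h4 | h4
        · exact absurd (sub_eq_zero.mp h4) hz1
        · exact h4
      rw [this, finrank_bot] at hfin
      rw [← hfin] at hm
      exact absurd hm (by decide)
  · rintro ⟨g, hg, hy⟩
    have hxGU : x ∈ Cfsg.GU (j + m) F q := (Subgroup.mem_inf.mp hx).1
    have hgGU : g ∈ Cfsg.GU (j + m) F q := (Subgroup.mem_inf.mp hg).1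
    rcases stab_cases D _ hy with ⟨h0, h1⟩ | ⟨h0, h1⟩
    · have := even_eig_of_fix hF hpair x g hxGU hgGU h0 h1 1 (one_pow _) r
        (cast_ne_zero_of_ne p r hr hrp) (by rw [hxr, one_pow, one_smul])
      rw [hfin] at this
      exact (Nat.not_even_iff_odd.mpr hm) this
    · have h3 := hpair.finrank_left hF
      exact false_of_swap_odd hF hpair _ h0 h1 r hodd 1 one_ne_zero
        (conj_pow_val x g r 1 (by rw [hxr, one_smul])) (by omega)

end derangement

end Cfsg.Agent.Lib.Helper19.PSU
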