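import Mathlib
import Cfsg.Agent.Lib.Helper19.PSUj

/-!
# Transitivity of `SU` on pairs of complementary totally singular subspaces
-/

set_option autoImplicit false
set_option linter.unusedSectionVars false
set_option linter.unusedVariables false

namespace Cfsg.Agent.Lib.Helper19.PSU

open Matrix Module Cfsg Cfsg.Agent.S0779 Cfsg.Agent.Lib.Helper6
open scoped MatrixGroups

section hilbert
variable {F : Type*} [Field F] [Fintype F] {q : ℕ}

/-- Hilbert 90 for the norm-one group -/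
theorem hilbert90 (hF : Fintype.card F = q ^ 2) (δ : F) (hδ : δ ^ (q + 1) = 1) :
    ∃ a : F, a ≠ 0 ∧ a * (a ^ q)⁻¹ = δ := by
  have hδ0 : δ ≠ 0 := by
    intro h
    rw [h, zero_pow (by omega)] at hδ
    exact zero_ne_one hδ
  by_cases h1 : δ = -1
  · obtain ⟨k, hk0, hk⟩ := Cfsg.Agent.Lib.Helper6.SUG.exists_trace_zero hF
    refine ⟨k, hk0, ?_⟩
    rw [hk, h1, inv_neg, mul_neg, mul_inv_cancel₀ hk0]
  · have ha0 : 1 + δ ≠ 0 := by
      intro h
      apply h1
      exact eq_neg_of_add_eq_zero_right h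
    refine ⟨1 + δ, ha0, ?_⟩
    have hδq : δ ^ q = δ⁻¹ := by
      apply eq_inv_of_mul_eq_one_left
      rw [← pow_succ, hδ]
    rw [add_pow_q hF, one_pow, hδq]
    have : 1 + δ⁻¹ = (1 + δ) * δ⁻¹ := by
      rw [add_mul, one_mul, mul_inv_cancel₀ hδ0, add_comm]
    rw [this, _root_.mul_inv_rev, inv_inv, mul_comm δ, ← mul_assoc, mul_inv_cancel₀ ha0, one_mul]

end hilbert

section transfer
variable {F : Type*} [Field F] [Fintype F] {q n : ℕ}

local notation "hh" => Cfsg.hermForm n F q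

variable {D0 D1 E0 E1 : Submodule F (Fin n → F)}

/-- `SU` is transitive on ordered pairs of complementary totally singular subspaces -/
theorem exists_transfer (hF : Fintype.card F = q ^ 2) (k : ℕ) (hn : n = k + k) (hk1 : 1 ≤ k)
    (hp : TSPair q D0 D1) (hp' : TSPair q E0 E1) :
    ∃ g : GL (Fin n) F, g ∈ Cfsg.GU n F q ⊓ Cfsg.Geo.specialLinear (Fin n) F ∧
      (∀ u ∈ D0, (g : Matrix (Fin n) (Fin n) F) *ᵥ u ∈ E0) ∧
      (∀ u ∈ D1, (g : Matrix (Fin n) (Fin n) F) *ᵥ u ∈ E1) := by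
  classical
  have hk : finrank F D0 = k := by
    have := hp.finrank_left hF
    omega
  have hk' : finrank F E0 = k := by
    have := hp'.finrank_left hF
    omega
  obtain ⟨fr⟩ := exists_frame hF hp k hk
  obtain ⟨fr'⟩ := exists_frame hF hp' k hk'
  set tr : Matrix (Fin n) (Fin n) F := fr'.P * fr.P' with htr
  have htr_pres : ∀ u v, hh (tr *ᵥ u) (tr *ᵥ v) = hh u v := by
    intro u v
    have hM : (1 : Matrix (Fin k ⊕ Fin k) (Fin k ⊕ Fin k) F)ᵀ * JJ k F *
        (1 : Matrix (Fin k ⊕ Fin k) (Fin k ⊕ Fin k) F).map (conjQ hF) = JJ k F := by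
      rw [Matrix.transpose_one, Matrix.one_mul, Matrix.map_one _ (map_zero _) (map_one _),
        Matrix.mul_one]
    have := Frame.pres hn fr fr' 1 hM u v
    rw [Matrix.mul_one] at this
    exact this
  have htr0 : ∀ u ∈ D0, tr *ᵥ u ∈ E0 := by
    intro u hu
    rw [htr, ← Matrix.mulVec_mulVec]
    exact fr'.mulVec_mem0 _ (fun j => fr.P'_inr_of_mem0 hp u hu j)
  have htr1 : ∀ u ∈ D1, tr *ᵥ u ∈ E1 := by
    intro u hu
    rw [htr, ← Matrix.mulVec_mulVec]
    exact fr'.mulVec_mem1 _ (fun j => fr.P'_inl_of_mem1 hp u hu j)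
  have hdet : tr.det ^ (q + 1) = 1 := det_norm_of_pres hF tr htr_pres
  have hdet0 : tr.det ≠ 0 := by
    intro h
    rw [h, zero_pow (by omega)] at hdet
    exact zero_ne_one hdet
  obtain ⟨a, ha0, ha⟩ := hilbert90 hF (tr.det)⁻¹ (by rw [inv_pow, hdet, inv_one])
  set i0 : Fin k := ⟨0, by omega⟩ with hi0
  have hAdet : (Matrix.diagonal (Function.update (fun _ => (1 : F)) i0 a)).det = a := by
    rw [Matrix.det_diagonal, Finset.prod_update_of_mem (Finset.mem_univ i0), Finset.prod_const_one,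
      mul_one]
  set A : GL (Fin k) F := Matrix.GeneralLinearGroup.mkOfDetNeZero
    (Matrix.diagonal (Function.update (fun _ => (1 : F)) i0 a)) (by rw [hAdet]; exact ha0) with hA
  have hAval : (A : Matrix (Fin k) (Fin k) F).det = a := by
    rw [hA]
    exact hAdet
  set g : Matrix (Fin n) (Fin n) F := tr * fr.lev A with hg
  have hge : ∀ u, g *ᵥ u = tr *ᵥ (fr.lev A *ᵥ u) := fun u => (Matrix.mulVec_mulVec _ _ _).symm
  have hg_pres : ∀ u v, hh (g *ᵥ u) (g *ᵥ v) = hh u v := by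
    intro u v
    rw [hge, hge, htr_pres, fr.lev_pres hn]
  have hg_det : g.det = 1 := by
    rw [hg, Matrix.det_mul, fr.lev_det hn, hAval, conjQ_apply, ha, mul_inv_cancel₀ hdet0]
  obtain ⟨gG, hgG, hgGval⟩ := exists_mem_of_pres hF g hg_pres hg_det
  refine ⟨gG, hgG, ?_, ?_⟩
  · intro u hu
    rw [hgGval, hge]
    exact htr0 _ (fr.lev_mem0 hp A u hu)
  · intro u hu
    rw [hgGval, hge]
    exact htr1 _ (fr.lev_mem1 hp A u hu)

/-- conjugating an element stabilizing `(E0, E1)` by an element carrying `(D 0, D 1)` to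
`(E0, E1)` gives an element of the stabilizer of `D` -/
theorem conj_mem_stab (D : Fin 2 → Submodule F (Fin n → F)) (E0 E1 : Submodule F (Fin n → F))
    (hfin0 : finrank F (D 0) = finrank F E0) (hfin1 : finrank F (D 1) = finrank F E1)
    (x g : GL (Fin n) F)
    (hg0 : ∀ u ∈ D 0, (g : Matrix (Fin n) (Fin n) F) *ᵥ u ∈ E0)
    (hg1 : ∀ u ∈ D 1, (g : Matrix (Fin n) (Fin n) F) *ᵥ u ∈ E1)
    (hx0 : ∀ w ∈ E0, (x : Matrix (Fin n) (Fin n) F) *ᵥ w ∈ E0)
    (hx1 : ∀ w ∈ E1, (x : Matrix (Fin n) (Fin n) F) *ᵥ w ∈ E1) :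
    g⁻¹ * x * g ∈ Cfsg.Geo.decompositionStabilizer D := by
  have key : ∀ (W E : Submodule F (Fin n → F)), finrank F W = finrank F E →
      (∀ u ∈ W, (g : Matrix (Fin n) (Fin n) F) *ᵥ u ∈ E) →
      (∀ w ∈ E, (x : Matrix (Fin n) (Fin n) F) *ᵥ w ∈ E) →
      ∀ u ∈ W, ((g⁻¹ * x * g : GL (Fin n) F) : Matrix (Fin n) (Fin n) F) *ᵥ u ∈ W := by
    intro W E hfin hg hx u hu
    rw [conj_val, ← Matrix.mulVec_mulVec, ← Matrix.mulVec_mulVec]
    have h1 := hx _ (hg u hu)
    have h2 := map_eq_of_forall_mem g W E hfin hg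
    rw [← h2] at h1
    obtain ⟨u', hu', hu'eq⟩ := h1
    rw [Matrix.toLin'_apply] at hu'eq
    rw [← hu'eq, Matrix.mulVec_mulVec, inv_mul_val, Matrix.one_mulVec]
    exact hu'
  apply mem_stab_of_fix
  · exact key _ _ hfin0 hg0 hx0
  · exact key _ _ hfin1 hg1 hx1

end transfer

end Cfsg.Agent.Lib.Helper19.PSU
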