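import Mathlib
import Cfsg.Agent.Lib.Helper19.PSUk

/-!
# Eigenspaces of unitary matrices whose square is a scalar
-/

set_option autoImplicit false
set_option linter.unusedSectionVars false
set_option linter.unusedVariables false

namespace Cfsg.Agent.Lib.Helper19.PSU

open Matrix Module Cfsg Cfsg.Agent.S0779 Cfsg.Agent.Lib.Helper6
open scoped MatrixGroups

section eigpair
variable {F : Type*} [Field F] [Fintype F] {q n : ℕ}

local notation "hh" => Cfsg.hermForm n F q

theorem eig_sup (x : Matrix (Fin n) (Fin n) F) (ν : F) (h2 : (2 : F) ≠ 0) (hν : ν ≠ 0)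
    (hx2 : x ^ 2 = (ν ^ 2) • (1 : Matrix (Fin n) (Fin n) F)) : eig x ν ⊔ eig x (-ν) = ⊤ := by
  rw [eq_top_iff]
  intro v _
  have hxw : x *ᵥ (x *ᵥ v) = (ν ^ 2) • v := by
    rw [Matrix.mulVec_mulVec, ← pow_two, hx2, Matrix.smul_mulVec, Matrix.one_mulVec]
  rw [Submodule.mem_sup]
  refine ⟨(2 : F)⁻¹ • (v + ν⁻¹ • (x *ᵥ v)), ?_, (2 : F)⁻¹ • (v - ν⁻¹ • (x *ᵥ v)), ?_, ?_⟩
  · rw [mem_eig, Matrix.mulVec_smul, Matrix.mulVec_add, Matrix.mulVec_smul, hxw]
    funext i
    simp only [Pi.smul_apply, Pi.add_apply, smul_eq_mul]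
    field_simp
    ring
  · rw [mem_eig, Matrix.mulVec_smul, Matrix.mulVec_sub, Matrix.mulVec_smul, hxw]
    funext i
    simp only [Pi.smul_apply, Pi.sub_apply, smul_eq_mul]
    field_simp
    ring
  · funext i
    simp only [Pi.smul_apply, Pi.add_apply, Pi.sub_apply, smul_eq_mul]
    field_simp
    ring

theorem herm_eig_zero (x : Matrix (Fin n) (Fin n) F)
    (hx : ∀ u v, hh (x *ᵥ u) (x *ᵥ v) = hh u v) (c c' : F) (hcc : c * c' ^ q ≠ 1)
    (u v : Fin n → F) (hu : u ∈ eig x c) (hv : v ∈ eig x c') : hh u v = 0 := by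
  rw [mem_eig] at hu hv
  have h1 := hx u v
  rw [hu, hv, herm_smul_left, herm_smul_right] at h1
  have h2 : (c * c' ^ q - 1) * hh u v = 0 := by
    rw [sub_mul, one_mul, mul_assoc, h1, sub_self]
  rcases mul_eq_zero.mp h2 with h | h
  · exact absurd (sub_eq_zero.mp h) hcc
  · exact h

theorem neg_one_ne_one (h2 : (2 : F) ≠ 0) : (-1 : F) ≠ 1 := by
  intro h
  apply h2
  have : (1 : F) + 1 = 0 := by
    nth_rewrite 1 [← h]
    exact neg_add_cancel 1
  rw [← this]
  norm_num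

/-- the case `ν ^ (q + 1) = -1`: the eigenspaces are totally singular -/
theorem tspair_of_eig (hF : Fintype.card F = q ^ 2) (x : Matrix (Fin n) (Fin n) F)
    (hx : ∀ u v, hh (x *ᵥ u) (x *ᵥ v) = hh u v) (ν : F) (h2 : (2 : F) ≠ 0) (hν : ν ≠ 0)
    (hx2 : x ^ 2 = (ν ^ 2) • (1 : Matrix (Fin n) (Fin n) F)) (hνq : ν ^ (q + 1) = -1)
    (hqodd : Odd q) : TSPair q (eig x ν) (eig x (-ν)) := by
  refine ⟨?_, ?_, eig_sup x ν h2 hν hx2⟩
  · intro u hu v hv
    apply herm_eig_zero x hx ν ν _ u v hu hv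
    rw [← pow_succ', hνq]
    exact neg_one_ne_one h2
  · intro u hu v hv
    apply herm_eig_zero x hx (-ν) (-ν) _ u v hu hv
    rw [← pow_succ', (Odd.add_one hqodd).neg_pow, hνq]
    exact neg_one_ne_one h2

/-- the determinant of a matrix with two complementary eigenspaces -/
theorem det_of_eig (x : Matrix (Fin n) (Fin n) F) (c c' : F) (hne : c ≠ c')
    (hsup : eig x c ⊔ eig x c' = ⊤) :
    x.det = c ^ finrank F (eig x c) * c' ^ finrank F (eig x c') := by
  have hdisj : eig x c ⊓ eig x c' = ⊥ := by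
    rw [Submodule.eq_bot_iff]
    rintro u ⟨hu, hu'⟩
    rw [SetLike.mem_coe, mem_eig] at hu hu'
    have h3 : (c - c') • u = 0 := by rw [sub_smul, ← hu, ← hu', sub_self]
    rcases smul_eq_zero.mp h3 with h | h
    · exact absurd (sub_eq_zero.mp h) hne
    · exact h
  have hcompl : IsCompl (eig x c) (eig x c') :=
    ⟨disjoint_iff.mpr hdisj, codisjoint_iff.mpr hsup⟩
  set e := Submodule.prodEquivOfIsCompl _ _ hcompl with he
  set f : (eig x c × eig x c') →ₗ[F] (eig x c × eig x c') :=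
    (c • LinearMap.id).prodMap (c' • LinearMap.id) with hf
  have hconj : Matrix.toLin' x = (e : _ →ₗ[F] _) ∘ₗ f ∘ₗ (e.symm : _ →ₗ[F] _) := by
    apply LinearMap.ext
    intro v
    obtain ⟨⟨u, w⟩, rfl⟩ := e.surjective v
    rw [LinearMap.comp_apply, LinearMap.comp_apply, LinearEquiv.coe_coe, LinearEquiv.coe_coe,
      LinearEquiv.symm_apply_apply, hf, LinearMap.prodMap_apply, he,
      Submodule.coe_prodEquivOfIsCompl', Submodule.coe_prodEquivOfIsCompl', Matrix.toLin'_apply,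
      Matrix.mulVec_add]
    simp only [LinearMap.smul_apply, LinearMap.id_apply, Submodule.coe_smul]
    rw [(mem_eig x c _).mp u.2, (mem_eig x c' _).mp w.2]
  rw [← LinearMap.det_toLin', hconj, LinearMap.det_conj, hf, LinearMap.det_prodMap,
    LinearMap.det_smul, LinearMap.det_smul, LinearMap.det_id, LinearMap.det_id, mul_one, mul_one]

theorem two_adic_contra (μ : F) (h2 : (2 : F) ≠ 0) (hμq : μ ^ (q + 1) = 1) (n : ℕ) (hn : n ≠ 0)
    (hμn : μ ^ n = -1) (hle : padicValNat 2 (q + 1) ≤ padicValNat 2 n) : False := by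
  obtain ⟨m, hm, hq1⟩ := two_adic_decomp (q + 1) (by omega)
  obtain ⟨n', hn', hn1⟩ := two_adic_decomp n hn
  set a := padicValNat 2 (q + 1) with ha
  set b := padicValNat 2 n with hb
  have hb' : 2 ^ b = 2 ^ a * 2 ^ (b - a) := by
    rw [← pow_add]
    congr 1
    omega
  set t := 2 ^ (b - a) * n' with ht
  have hnt : n = 2 ^ a * t := by
    rw [hn1, hb', ht, mul_assoc]
  set w := μ ^ (2 ^ a) with hw
  have hwm : w ^ m = 1 := by
    rw [hw, ← pow_mul, ← hq1, hμq]
  have hwt : w ^ t = -1 := by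
    rw [hw, ← pow_mul, ← hnt, hμn]
  have h1 : w ^ (t * m) = 1 := by
    rw [mul_comm, pow_mul, hwm, one_pow]
  have h3 : w ^ (t * m) = -1 := by
    rw [pow_mul, hwt, hm.neg_one_pow]
  rw [h1] at h3
  exact neg_one_ne_one h2 h3.symm

end eigpair

end Cfsg.Agent.Lib.Helper19.PSU
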