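import Mathlib
import Cfsg.Agent.Lib.Helper19.PSUl

/-!
# Invariant pairs of complementary totally singular subspaces for elements of order two modulo
scalars
-/

set_option autoImplicit false
set_option linter.unusedSectionVars false
set_option linter.unusedVariables false

namespace Cfsg.Agent.Lib.Helper19.PSU

open Matrix Module Cfsg Cfsg.Agent.S0779 Cfsg.Agent.Lib.Helper6
open scoped MatrixGroups

section split
variable {F : Type*} [Field F] [Fintype F] {q n : ℕ}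

local notation "hh" => Cfsg.hermForm n F q

/-- the hyperbolic model -/
noncomputable def hypB (hF : Fintype.card F = q ^ 2) (e : ℕ) :
    ((Fin e → F) × (Fin e → F)) →ₛₗ[conjQ hF] ((Fin e → F) × (Fin e → F)) →ₗ[F] F :=
  LinearMap.mk₂'ₛₗ (conjQ hF) (RingHom.id F)
    (fun x y => hermForm e F q y.1 x.2 + hermForm e F q y.2 x.1)
    (fun x x' y => by
      simp only [Prod.fst_add, Prod.snd_add, herm_add_right hF]; ring)
    (fun c x y => by
      simp only [Prod.smul_fst, Prod.smul_snd, herm_smul_right, smul_eq_mul, conjQ_apply]; ring)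
    (fun x y y' => by
      simp only [Prod.fst_add, Prod.snd_add, herm_add_left]; ring)
    (fun c x y => by
      simp only [Prod.smul_fst, Prod.smul_snd, herm_smul_left, smul_eq_mul, RingHom.id_apply]
      ring)

theorem hypB_apply (hF : Fintype.card F = q ^ 2) (e : ℕ) (x y : (Fin e → F) × (Fin e → F)) :
    hypB hF e x y = hermForm e F q y.1 x.2 + hermForm e F q y.2 x.1 := rfl

theorem hypB_isSymm (hF : Fintype.card F = q ^ 2) (e : ℕ) : (hypB hF e).IsSymm :=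
  ⟨fun x y => by
    rw [hypB_apply, hypB_apply, map_add, conjQ_apply, conjQ_apply, herm_conj hF, herm_conj hF,
      add_comm]⟩

theorem hypB_nondeg (hF : Fintype.card F = q ^ 2) (e : ℕ) (u : (Fin e → F) × (Fin e → F))
    (hu : ∀ v, hypB hF e u v = 0) : u = 0 := by
  apply Prod.ext
  · apply herm_nondeg hF
    intro y
    apply herm_swap_zero hF
    have := hu (0, y)
    rwa [hypB_apply, herm_zero_left, zero_add] at this
  · apply herm_nondeg hF
    intro y
    apply herm_swap_zero hF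
    have := hu (y, 0)
    rwa [hypB_apply, herm_zero_left, add_zero] at this

/-- a nondegenerate subspace of even dimension is the sum of two totally singular subspaces -/
theorem exists_ts_split (hF : Fintype.card F = q ^ 2) (W : Submodule F (Fin n → F))
    (hnd : ∀ w ∈ W, (∀ u ∈ W, hh w u = 0) → w = 0) (e : ℕ) (hW : finrank F W = e + e) :
    ∃ A B : Submodule F (Fin n → F), A ≤ W ∧ B ≤ W ∧ W ≤ A ⊔ B ∧
      (∀ u ∈ A, ∀ v ∈ A, hh u v = 0) ∧ (∀ u ∈ B, ∀ v ∈ B, hh u v = 0) := by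
  classical
  set BW : W →ₛₗ[conjQ hF] W →ₗ[F] F := (hermB n hF).domRestrict₁₂ W W with hBWdef
  have hBW : ∀ w w' : W, BW w w' = hh (w' : Fin n → F) (w : Fin n → F) := fun _ _ => rfl
  have hSW : BW.IsSymm := ⟨fun x y => by
    rw [hBW, hBW, conjQ_apply, herm_conj hF]⟩
  have hNW : ∀ w : W, (∀ v, BW w v = 0) → w = 0 := by
    intro w hw
    apply Subtype.ext
    apply hnd w.1 w.2
    intro u hu
    exact herm_swap_zero hF (hw ⟨u, hu⟩)
  obtain ⟨φW, hφW⟩ := exists_std_herm hF BW hSW hNW (e + e) hW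
  have hk : finrank F ((Fin e → F) × (Fin e → F)) = e + e := by
    rw [Module.finrank_prod, Module.finrank_fin_fun]
  obtain ⟨φH, hφH⟩ := exists_std_herm hF (hypB hF e) (hypB_isSymm hF e) (hypB_nondeg hF e)
    (e + e) hk
  set Θ : ((Fin e → F) × (Fin e → F)) ≃ₗ[F] W := φH.trans φW.symm with hΘ
  have key : ∀ x y : (Fin e → F) × (Fin e → F),
      hh ((Θ x : W) : Fin n → F) ((Θ y : W) : Fin n → F) =
        hermForm e F q x.1 y.2 + hermForm e F q x.2 y.1 := by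
    intro x y
    have h1 := hφW (Θ x) (Θ y)
    rw [hBW] at h1
    rw [← h1, hΘ, LinearEquiv.trans_apply, LinearEquiv.trans_apply, LinearEquiv.apply_symm_apply,
      LinearEquiv.apply_symm_apply, hφH, hypB_apply]
  set ιA : (Fin e → F) →ₗ[F] (Fin n → F) :=
    W.subtype ∘ₗ (Θ : ((Fin e → F) × (Fin e → F)) →ₗ[F] W) ∘ₗ
      LinearMap.inl F (Fin e → F) (Fin e → F) with hιA
  set ιB : (Fin e → F) →ₗ[F] (Fin n → F) :=
    W.subtype ∘ₗ (Θ : ((Fin e → F) × (Fin e → F)) →ₗ[F] W) ∘ₗ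
      LinearMap.inr F (Fin e → F) (Fin e → F) with hιB
  have hιAapp : ∀ a, ιA a = ((Θ (a, 0) : W) : Fin n → F) := fun _ => rfl
  have hιBapp : ∀ b, ιB b = ((Θ (0, b) : W) : Fin n → F) := fun _ => rfl
  refine ⟨LinearMap.range ιA, LinearMap.range ιB, ?_, ?_, ?_, ?_, ?_⟩
  · rintro _ ⟨a, rfl⟩
    rw [hιAapp]
    exact (Θ (a, 0)).2
  · rintro _ ⟨b, rfl⟩
    rw [hιBapp]
    exact (Θ (0, b)).2
  · intro w hw
    set y := Θ.symm ⟨w, hw⟩ with hy
    have h1 : Θ y = ⟨w, hw⟩ := LinearEquiv.apply_symm_apply Θ _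
    have h2 : y = (y.1, 0) + (0, y.2) := by
      apply Prod.ext <;> simp
    rw [Submodule.mem_sup]
    refine ⟨ιA y.1, ⟨y.1, rfl⟩, ιB y.2, ⟨y.2, rfl⟩, ?_⟩
    rw [hιAapp, hιBapp, ← Submodule.coe_add, ← map_add, ← h2, h1]
  · rintro _ ⟨a, rfl⟩ _ ⟨a', rfl⟩
    rw [hιAapp, hιAapp, key]
    simp only
    rw [herm_zero_right hF, herm_zero_left, add_zero]
  · rintro _ ⟨b, rfl⟩ _ ⟨b', rfl⟩
    rw [hιBapp, hιBapp, key]
    simp only
    rw [herm_zero_right hF, herm_zero_left, add_zero]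

theorem ts_sup (hF : Fintype.card F = q ^ 2) (A A' : Submodule F (Fin n → F))
    (hA : ∀ u ∈ A, ∀ v ∈ A, hh u v = 0) (hA' : ∀ u ∈ A', ∀ v ∈ A', hh u v = 0)
    (horth : ∀ u ∈ A, ∀ v ∈ A', hh u v = 0) (horth' : ∀ u ∈ A', ∀ v ∈ A, hh u v = 0) :
    ∀ u ∈ A ⊔ A', ∀ v ∈ A ⊔ A', hh u v = 0 := by
  intro u hu v hv
  obtain ⟨a, ha, a', ha', rfl⟩ := Submodule.mem_sup.mp hu
  obtain ⟨b, hb, b', hb', rfl⟩ := Submodule.mem_sup.mp hv
  rw [herm_add_left, herm_add_right hF, herm_add_right hF, hA a ha b hb, horth a ha b' hb',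
    horth' a' ha' b hb, hA' a' ha' b' hb']
  simp

theorem inv_sup (x : Matrix (Fin n) (Fin n) F) (c c' : F) (A A' : Submodule F (Fin n → F))
    (hA : A ≤ eig x c) (hA' : A' ≤ eig x c') : ∀ w ∈ A ⊔ A', x *ᵥ w ∈ A ⊔ A' := by
  intro w hw
  obtain ⟨a, ha, a', ha', rfl⟩ := Submodule.mem_sup.mp hw
  rw [Matrix.mulVec_add, (mem_eig x c a).mp (hA ha), (mem_eig x c' a').mp (hA' ha')]
  exact Submodule.add_mem _ (Submodule.mem_sup_left (Submodule.smul_mem _ _ ha))
    (Submodule.mem_sup_right (Submodule.smul_mem _ _ ha'))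

theorem eig_disjoint (x : Matrix (Fin n) (Fin n) F) (c c' : F) (hne : c ≠ c') :
    eig x c ⊓ eig x c' = ⊥ := by
  rw [Submodule.eq_bot_iff]
  rintro u ⟨hu, hu'⟩
  rw [SetLike.mem_coe, mem_eig] at hu hu'
  have h3 : (c - c') • u = 0 := by rw [sub_smul, ← hu, ← hu', sub_self]
  rcases smul_eq_zero.mp h3 with h | h
  · exact absurd (sub_eq_zero.mp h) hne
  · exact h

/-- the case `μ ^ (q + 1) = 1` -/
theorem exists_invariant_pair_A (hF : Fintype.card F = q ^ 2) (x : Matrix (Fin n) (Fin n) F)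
    (hx : ∀ u v, hh (x *ᵥ u) (x *ᵥ v) = hh u v) (hdet : x.det = 1) (μ : F) (h2 : (2 : F) ≠ 0)
    (hμ0 : μ ≠ 0) (hμq : μ ^ (q + 1) = 1)
    (hx2 : x ^ 2 = (μ ^ 2) • (1 : Matrix (Fin n) (Fin n) F)) (hqodd : Odd q) (hne : Even n)
    (hn0 : n ≠ 0) (hle : padicValNat 2 (q + 1) ≤ padicValNat 2 n) :
    ∃ E0 E1 : Submodule F (Fin n → F), TSPair q E0 E1 ∧ (∀ w ∈ E0, x *ᵥ w ∈ E0) ∧
      (∀ w ∈ E1, x *ᵥ w ∈ E1) := by
  have hsup := eig_sup x μ h2 hμ0 hx2
  have hneg : μ ≠ -μ := by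
    intro h
    have : (2 : F) * μ = 0 := by
      rw [two_mul]
      exact eq_neg_iff_add_eq_zero.mp h
    rcases mul_eq_zero.mp this with h | h
    · exact h2 h
    · exact hμ0 h
  have hdet' := det_of_eig x μ (-μ) hneg hsup
  have hdim : finrank F (eig x μ) + finrank F (eig x (-μ)) = n := by
    have h1 := Submodule.finrank_sup_add_finrank_inf_eq (eig x μ) (eig x (-μ))
    rw [hsup, eig_disjoint x μ (-μ) hneg, finrank_bot, finrank_top, add_zero,
      Module.finrank_fin_fun] at h1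
    exact h1.symm
  set dp := finrank F (eig x μ) with hdp
  set dm := finrank F (eig x (-μ)) with hdm
  have hdm_even : Even dm := by
    by_contra hcon
    rw [Nat.not_even_iff_odd] at hcon
    rw [hdet, hcon.neg_pow, mul_neg, ← pow_add, hdim] at hdet'
    have : μ ^ n = -1 := neg_eq_iff_eq_neg.mp hdet'.symm
    exact two_adic_contra μ h2 hμq n hn0 this hle
  have hdp_even : Even dp := by
    have : Even (dp + dm) := by rw [hdim]; exact hne
    exact (Nat.even_add.mp this).mpr hdm_even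
  have hq1 : Even (q + 1) := Odd.add_one hqodd
  have horth : ∀ u ∈ eig x μ, ∀ v ∈ eig x (-μ), hh u v = 0 := by
    intro u hu v hv
    apply herm_eig_zero x hx μ (-μ) _ u v hu hv
    rw [hqodd.neg_pow, mul_neg, ← pow_succ', hμq]
    exact neg_one_ne_one h2
  have horth' : ∀ u ∈ eig x (-μ), ∀ v ∈ eig x μ, hh u v = 0 :=
    fun u hu v hv => herm_swap_zero hF (horth v hv u hu)
  have hndp : ∀ w ∈ eig x μ, (∀ u ∈ eig x μ, hh w u = 0) → w = 0 := by
    intro w hw hz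
    apply herm_nondeg hF
    intro y
    have hy : y ∈ eig x μ ⊔ eig x (-μ) := by rw [hsup]; exact Submodule.mem_top
    obtain ⟨a, ha, b, hb, rfl⟩ := Submodule.mem_sup.mp hy
    rw [herm_add_right hF, hz a ha, horth w hw b hb, add_zero]
  have hndm : ∀ w ∈ eig x (-μ), (∀ u ∈ eig x (-μ), hh w u = 0) → w = 0 := by
    intro w hw hz
    apply herm_nondeg hF
    intro y
    have hy : y ∈ eig x μ ⊔ eig x (-μ) := by rw [hsup]; exact Submodule.mem_top
    obtain ⟨a, ha, b, hb, rfl⟩ := Submodule.mem_sup.mp hy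
    rw [herm_add_right hF, hz b hb, horth' w hw a ha, add_zero]
  obtain ⟨ep, hep⟩ := hdp_even
  obtain ⟨em, hem⟩ := hdm_even
  obtain ⟨Ap, Bp, hAp, hBp, hWp, htsAp, htsBp⟩ := exists_ts_split hF (eig x μ) hndp ep hep
  obtain ⟨Am, Bm, hAm, hBm, hWm, htsAm, htsBm⟩ := exists_ts_split hF (eig x (-μ)) hndm em hem
  refine ⟨Ap ⊔ Am, Bp ⊔ Bm, ⟨?_, ?_, ?_⟩, ?_, ?_⟩
  · exact ts_sup hF Ap Am htsAp htsAm (fun u hu v hv => horth u (hAp hu) v (hAm hv))
      (fun u hu v hv => horth' u (hAm hu) v (hAp hv))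
  · exact ts_sup hF Bp Bm htsBp htsBm (fun u hu v hv => horth u (hBp hu) v (hBm hv))
      (fun u hu v hv => horth' u (hBm hu) v (hBp hv))
  · rw [eq_top_iff, ← hsup]
    apply sup_le
    · exact le_trans hWp (sup_le (le_sup_of_le_left le_sup_left) (le_sup_of_le_right le_sup_left))
    · exact le_trans hWm
        (sup_le (le_sup_of_le_left le_sup_right) (le_sup_of_le_right le_sup_right))
  · exact inv_sup x μ (-μ) Ap Am hAp hAm
  · exact inv_sup x μ (-μ) Bp Bm hBp hBm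

/-- an element of `SU` whose square is a scalar stabilizes a pair of complementary totally
singular subspaces, provided `q` is odd and `(q + 1)_2 ≤ n_2` -/
theorem exists_invariant_pair (hF : Fintype.card F = q ^ 2) (h2 : (2 : F) ≠ 0) (hqodd : Odd q)
    (hne : Even n) (hn0 : n ≠ 0) (hle : padicValNat 2 (q + 1) ≤ padicValNat 2 n)
    (x : Matrix (Fin n) (Fin n) F) (hx : ∀ u v, hh (x *ᵥ u) (x *ᵥ v) = hh u v)
    (hdet : x.det = 1) (ζ : F) (hx2 : x ^ 2 = ζ • (1 : Matrix (Fin n) (Fin n) F)) :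
    ∃ E0 E1 : Submodule F (Fin n → F), TSPair q E0 E1 ∧ (∀ w ∈ E0, x *ᵥ w ∈ E0) ∧
      (∀ w ∈ E1, x *ᵥ w ∈ E1) := by
  classical
  have hζ : ζ ^ (q + 1) = 1 := by
    set i0 : Fin n := ⟨0, by omega⟩
    have h1 := herm_pow_left x hx 2 (Pi.single i0 1) (Pi.single i0 1)
    rw [hx2, Matrix.smul_mulVec, Matrix.one_mulVec, herm_smul_left, herm_smul_right,
      herm_single_right hF, Pi.single_eq_same, mul_one] at h1
    rw [pow_succ']
    exact h1
  obtain ⟨a, ha0, ha⟩ := hilbert90 hF ζ hζ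
  obtain ⟨h, hh'⟩ := hqodd
  set ν : F := (a ^ h)⁻¹ with hν
  have hah : a ^ h ≠ 0 := pow_ne_zero _ ha0
  have hν0 : ν ≠ 0 := inv_ne_zero hah
  have hν2 : ν ^ 2 = ζ := by
    have e : a ^ (2 * h + 1) = (a ^ h) ^ 2 * a := by ring
    rw [← ha, hν, hh', e]
    field_simp
  have hε : (ν ^ (q + 1)) ^ 2 = 1 := by
    rw [← pow_mul, mul_comm, pow_mul, hν2, hζ]
  have hε' : ν ^ (q + 1) = 1 ∨ ν ^ (q + 1) = -1 := by
    have h3 : (ν ^ (q + 1) - 1) * (ν ^ (q + 1) + 1) = 0 := by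
      have : (ν ^ (q + 1) - 1) * (ν ^ (q + 1) + 1) = (ν ^ (q + 1)) ^ 2 - 1 := by ring
      rw [this, hε, sub_self]
    rcases mul_eq_zero.mp h3 with h | h
    · exact Or.inl (sub_eq_zero.mp h)
    · exact Or.inr (eq_neg_of_add_eq_zero_left h)
  rw [← hν2] at hx2
  have hqodd : Odd q := ⟨h, hh'⟩
  rcases hε' with h1 | h1
  · exact exists_invariant_pair_A hF x hx hdet ν h2 hν0 h1 hx2 hqodd hne hn0 hle
  · refine ⟨eig x ν, eig x (-ν), tspair_of_eig hF x hx ν h2 hν0 hx2 h1 hqodd, ?_, ?_⟩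
    · intro w hw
      rw [(mem_eig x ν w).mp hw]
      exact Submodule.smul_mem _ _ hw
    · intro w hw
      rw [(mem_eig x (-ν) w).mp hw]
      exact Submodule.smul_mem _ _ hw

end split

end Cfsg.Agent.Lib.Helper19.PSU
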