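import Mathlib
import Cfsg.Agent.Lib.Helper19.PSUm
import Cfsg.Agent.Lib.Helper16.UnitaryCount3

/-!
# Subspace calculus in the standard unitary space `F^n`

Perpendicular spaces, nondegenerate / totally isotropic subspaces, orthogonal sums, invariance
under isometries, and transport of a nondegenerate subspace to a standard unitary space.
-/

set_option autoImplicit false
set_option linter.unusedSectionVars false
set_option linter.unusedVariables false

namespace Cfsg.Agent.Lib.Helper19.HS

open Matrix Module Cfsg Cfsg.Agent.S0779 Cfsg.Agent.Lib.Helper6 Cfsg.Agent.Lib.Helper19.PSU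

section defs
variable {F : Type*} [Field F] [Fintype F] {n : ℕ} (q : ℕ)

/-- the perpendicular space of a subspace -/
def perp (U : Submodule F (Fin n → F)) : Submodule F (Fin n → F) where
  carrier := {v | ∀ u ∈ U, Cfsg.hermForm n F q v u = 0}
  add_mem' := by
    intro a b ha hb u hu
    rw [herm_add_left, ha u hu, hb u hu, add_zero]
  zero_mem' := fun u _ => herm_zero_left u
  smul_mem' := by
    intro c a ha u hu
    rw [herm_smul_left, ha u hu, mul_zero]

/-- nondegenerate subspaces -/
def ND (U : Submodule F (Fin n → F)) : Prop :=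
  ∀ u ∈ U, u ≠ 0 → ∃ v ∈ U, Cfsg.hermForm n F q u v ≠ 0

/-- totally isotropic subspaces -/
def TI (U : Submodule F (Fin n → F)) : Prop :=
  ∀ u ∈ U, ∀ v ∈ U, Cfsg.hermForm n F q u v = 0

/-- isometries of the standard form -/
def Pres (x : Matrix (Fin n) (Fin n) F) : Prop :=
  ∀ u v, Cfsg.hermForm n F q (x *ᵥ u) (x *ᵥ v) = Cfsg.hermForm n F q u v

end defs

section basic
variable {F : Type*} [Field F] [Fintype F] {q n : ℕ}

local notation "hh" => Cfsg.hermForm n F q

theorem mem_perp (U : Submodule F (Fin n → F)) (v : Fin n → F) :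
    v ∈ perp q U ↔ ∀ u ∈ U, hh v u = 0 := Iff.rfl

theorem mem_perp' (hF : Fintype.card F = q ^ 2) (U : Submodule F (Fin n → F)) (v : Fin n → F) :
    v ∈ perp q U ↔ ∀ u ∈ U, hh u v = 0 :=
  ⟨fun h u hu => herm_swap_zero hF (h u hu), fun h u hu => herm_swap_zero hF (h u hu)⟩

theorem perp_anti {U U' : Submodule F (Fin n → F)} (h : U ≤ U') : perp q U' ≤ perp q U :=
  fun v hv u hu => hv u (h hu)

theorem le_perp_perp (hF : Fintype.card F = q ^ 2) (U : Submodule F (Fin n → F)) :
    U ≤ perp q (perp q U) := by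
  intro u hu v hv
  exact herm_swap_zero hF (hv u hu)

theorem le_perp_symm (hF : Fintype.card F = q ^ 2) {A B : Submodule F (Fin n → F)}
    (h : A ≤ perp q B) : B ≤ perp q A := by
  intro b hb a ha
  exact herm_swap_zero hF (h ha b hb)

theorem finrank_perp_add (hF : Fintype.card F = q ^ 2) (U : Submodule F (Fin n → F)) :
    finrank F (perp q U) + finrank F U = n := by
  classical
  let b := Module.finBasis F U
  let L : (Fin n → F) →ₗ[F] (Fin (finrank F U) → F) :=
    { toFun := fun v i => hh v (b i : Fin n → F)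
      map_add' := by
        intro x y
        funext i
        exact herm_add_left _ _ _
      map_smul' := by
        intro c x
        funext i
        simp only [Pi.smul_apply, RingHom.id_apply, smul_eq_mul]
        exact herm_smul_left _ _ _ }
  have hker : LinearMap.ker L = perp q U := by
    ext v
    rw [LinearMap.mem_ker, mem_perp]
    constructor
    · intro h u hu
      have hle : U ≤ perpR hF v := by
        intro x hx
        have hx' := b.sum_repr ⟨x, hx⟩
        have hx2 : x = ∑ i, (b.repr ⟨x, hx⟩ i) • (b i : Fin n → F) := by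
          have h3 := congrArg Subtype.val hx'
          rw [Submodule.coe_sum] at h3
          simp only [Submodule.coe_smul] at h3
          exact h3.symm
        rw [hx2]
        exact Submodule.sum_mem _ (fun i _ => Submodule.smul_mem _ _ (congrFun h i))
      exact hle hu
    · intro h
      funext i
      exact h _ (b i).2
  have h1 := LinearMap.finrank_range_add_finrank_ker L
  rw [hker, Module.finrank_fin_fun] at h1
  have h2 : finrank F (LinearMap.range L) ≤ finrank F U := by
    have := Submodule.finrank_le (LinearMap.range L)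
    rwa [Module.finrank_fin_fun] at this
  obtain ⟨C, hC⟩ := Submodule.exists_isCompl (perp q U)
  have h3 : finrank F U ≤ finrank F C := by
    apply finrank_le_of_pairing hF C U
    intro w hw hwC
    apply herm_nondeg hF
    intro y
    have hy : y ∈ perp q U ⊔ C := by
      rw [hC.sup_eq_top]
      exact Submodule.mem_top
    obtain ⟨p, hp, c, hc, rfl⟩ := Submodule.mem_sup.mp hy
    rw [herm_add_right hF, hwC c hc, add_zero]
    exact herm_swap_zero hF (hp w hw)
  have h4 := Submodule.finrank_add_eq_of_isCompl hC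
  rw [Module.finrank_fin_fun] at h4
  omega

theorem perp_perp (hF : Fintype.card F = q ^ 2) (U : Submodule F (Fin n → F)) :
    perp q (perp q U) = U := by
  symm
  apply Submodule.eq_of_le_of_finrank_eq (le_perp_perp hF U)
  have h1 := finrank_perp_add hF U
  have h2 := finrank_perp_add hF (perp q U)
  omega

theorem nd_iff (U : Submodule F (Fin n → F)) : ND q U ↔ U ⊓ perp q U = ⊥ := by
  constructor
  · intro h
    rw [eq_bot_iff]
    rintro u ⟨hu, hu'⟩
    rw [Submodule.mem_bot]
    by_contra hne
    obtain ⟨v, hv, hne'⟩ := h u hu hne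
    exact hne' (hu' v hv)
  · intro h u hu hne
    by_contra hcon
    push Not at hcon
    have : u ∈ U ⊓ perp q U := ⟨hu, hcon⟩
    rw [h] at this
    exact hne ((Submodule.mem_bot F).mp this)

theorem ti_iff (U : Submodule F (Fin n → F)) : TI q U ↔ U ≤ perp q U :=
  ⟨fun h u hu v hv => h u hu v hv, fun h u hu v hv => h hu v hv⟩

theorem nd_bot : ND q (⊥ : Submodule F (Fin n → F)) := by
  intro u hu hne
  exact absurd ((Submodule.mem_bot F).mp hu) hne

theorem nd_top (hF : Fintype.card F = q ^ 2) : ND q (⊤ : Submodule F (Fin n → F)) := by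
  intro u _ hne
  by_contra hcon
  push Not at hcon
  exact hne (herm_nondeg hF u (fun y => hcon y Submodule.mem_top))

theorem sup_perp_eq_top (hF : Fintype.card F = q ^ 2) {U : Submodule F (Fin n → F)}
    (h : ND q U) : U ⊔ perp q U = ⊤ := by
  apply Submodule.eq_top_of_finrank_eq
  have h1 := Submodule.finrank_sup_add_finrank_inf_eq U (perp q U)
  rw [(nd_iff U).mp h, finrank_bot, add_zero] at h1
  rw [h1, Module.finrank_fin_fun]
  have := finrank_perp_add hF U
  omega

theorem nd_perp (hF : Fintype.card F = q ^ 2) {U : Submodule F (Fin n → F)}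
    (h : ND q U) : ND q (perp q U) := by
  rw [nd_iff, perp_perp hF, inf_comm]
  exact (nd_iff U).mp h

theorem sup_inf_perp (hF : Fintype.card F = q ^ 2) {A U : Submodule F (Fin n → F)}
    (hA : ND q A) (hle : A ≤ U) : A ⊔ (perp q A ⊓ U) = U := by
  rw [← sup_inf_assoc_of_le _ hle, sup_perp_eq_top hF hA, top_inf_eq]

theorem inf_inf_perp {A U : Submodule F (Fin n → F)}
    (hA : ND q A) : A ⊓ (perp q A ⊓ U) = ⊥ := by
  rw [← inf_assoc, (nd_iff A).mp hA, bot_inf_eq]

theorem finrank_inf_perp (hF : Fintype.card F = q ^ 2) {A U : Submodule F (Fin n → F)}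
    (hA : ND q A) (hle : A ≤ U) :
    finrank F ↥(perp q A ⊓ U) + finrank F A = finrank F U := by
  have h1 := Submodule.finrank_sup_add_finrank_inf_eq A (perp q A ⊓ U)
  rw [sup_inf_perp hF hA hle, inf_inf_perp hA, finrank_bot, add_zero] at h1
  omega

theorem nd_inf_perp (hF : Fintype.card F = q ^ 2) {A U : Submodule F (Fin n → F)}
    (hA : ND q A) (hU : ND q U) (hle : A ≤ U) : ND q (perp q A ⊓ U) := by
  intro b hb hne
  obtain ⟨u, hu, hbu⟩ := hU b hb.2 hne
  have hu' : u ∈ A ⊔ (perp q A ⊓ U) := by
    rw [sup_inf_perp hF hA hle]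
    exact hu
  obtain ⟨a, ha, b', hb', rfl⟩ := Submodule.mem_sup.mp hu'
  refine ⟨b', hb', ?_⟩
  rw [herm_add_right hF, hb.1 a ha, zero_add] at hbu
  exact hbu

/-- the general dimension formula for a relative perpendicular space -/
theorem finrank_inf_perp' (hF : Fintype.card F = q ^ 2) {W U : Submodule F (Fin n → F)}
    (hU : ND q U) (hle : W ≤ U) :
    finrank F ↥(perp q W ⊓ U) + finrank F W = finrank F U := by
  have h0 : perp q W ⊔ U = ⊤ := by
    rw [eq_top_iff, ← sup_perp_eq_top hF hU, sup_comm]
    exact sup_le_sup_right (perp_anti hle) U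
  have h1 := Submodule.finrank_sup_add_finrank_inf_eq (perp q W) U
  rw [h0, finrank_top, Module.finrank_fin_fun] at h1
  have h2 := finrank_perp_add hF W
  omega

theorem inf_eq_bot_of_perp {A B : Submodule F (Fin n → F)} (hB : ND q B)
    (hAB : A ≤ perp q B) : A ⊓ B = ⊥ := by
  rw [eq_bot_iff, ← (nd_iff B).mp hB, inf_comm]
  exact inf_le_inf_left B hAB

theorem finrank_sup_of_perp {A B : Submodule F (Fin n → F)} (hB : ND q B)
    (hAB : A ≤ perp q B) : finrank F ↥(A ⊔ B) = finrank F A + finrank F B := by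
  have h1 := Submodule.finrank_sup_add_finrank_inf_eq A B
  rw [inf_eq_bot_of_perp hB hAB, finrank_bot, add_zero] at h1
  exact h1

theorem nd_sup (hF : Fintype.card F = q ^ 2) {A B : Submodule F (Fin n → F)} (hA : ND q A)
    (hB : ND q B) (hAB : A ≤ perp q B) : ND q (A ⊔ B) := by
  intro x hx hne
  obtain ⟨a, ha, b, hb, rfl⟩ := Submodule.mem_sup.mp hx
  by_cases ha0 : a = 0
  · have hb0 : b ≠ 0 := by
      intro h
      apply hne
      rw [ha0, h, add_zero]
    obtain ⟨b', hb', hne'⟩ := hB b hb hb0
    refine ⟨b', Submodule.mem_sup_right hb', ?_⟩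
    rw [herm_add_left, hAB ha b' hb', zero_add]
    exact hne'
  · obtain ⟨a', ha', hne'⟩ := hA a ha ha0
    refine ⟨a', Submodule.mem_sup_left ha', ?_⟩
    rw [herm_add_left, herm_swap_zero hF (hAB ha' b hb), add_zero]
    exact hne'

theorem nd_span_singleton (u : Fin n → F) (hu : hh u u ≠ 0) :
    ND q (Submodule.span F {u}) := by
  intro x hx hne
  obtain ⟨c, rfl⟩ := Submodule.mem_span_singleton.mp hx
  refine ⟨u, Submodule.mem_span_singleton_self u, ?_⟩
  rw [herm_smul_left]
  apply mul_ne_zero _ hu
  rintro rfl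
  exact hne (zero_smul F u)

/-- the restriction of the Hermitian form to a subspace, as a sesquilinear map -/
noncomputable def restrB (hF : Fintype.card F = q ^ 2) (U : Submodule F (Fin n → F)) :
    U →ₛₗ[conjQ hF] U →ₗ[F] F :=
  LinearMap.mk₂'ₛₗ (conjQ hF) (RingHom.id F)
    (fun x y => hh (y : Fin n → F) (x : Fin n → F))
    (fun x y z => herm_add_right hF (z : Fin n → F) x y)
    (fun c x y => by
      change hh (y : Fin n → F) (c • (x : Fin n → F)) = _
      rw [herm_smul_right]; rfl)
    (fun x y z => herm_add_left (y : Fin n → F) z x)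
    (fun c x y => by
      change hh (c • (y : Fin n → F)) (x : Fin n → F) = _
      rw [herm_smul_left]; rfl)

theorem restrB_apply (hF : Fintype.card F = q ^ 2) (U : Submodule F (Fin n → F)) (x y : U) :
    restrB hF U x y = hh (y : Fin n → F) (x : Fin n → F) := rfl

theorem restrB_isSymm (hF : Fintype.card F = q ^ 2) (U : Submodule F (Fin n → F)) :
    (restrB hF U).IsSymm :=
  ⟨fun x y => by
    change (hh (y : Fin n → F) (x : Fin n → F)) ^ q = hh (x : Fin n → F) (y : Fin n → F)
    exact herm_conj hF _ _⟩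

theorem restrB_nondeg (hF : Fintype.card F = q ^ 2) {U : Submodule F (Fin n → F)} (hU : ND q U)
    (u : U) (h : ∀ v, restrB hF U u v = 0) : u = 0 := by
  by_contra hne
  have hne' : (u : Fin n → F) ≠ 0 := fun h0 => hne (Subtype.ext h0)
  obtain ⟨v, hv, hv'⟩ := hU u u.2 hne'
  apply hv'
  apply herm_swap_zero hF
  exact h ⟨v, hv⟩

/-- a subspace which is not totally isotropic contains an anisotropic vector -/
theorem exists_aniso (hF : Fintype.card F = q ^ 2) {U : Submodule F (Fin n → F)}
    (h : ¬ TI q U) : ∃ u ∈ U, hh u u ≠ 0 := by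
  have hB0 : restrB hF U ≠ 0 := by
    intro h0
    apply h
    intro u hu v hv
    have := LinearMap.congr_fun (LinearMap.congr_fun h0 ⟨v, hv⟩) ⟨u, hu⟩
    exact this
  obtain ⟨v, hv⟩ := herm_exists_self_ne_zero (conjQ hF) (conjQ_ne_id hF) (restrB hF U)
    (restrB_isSymm hF U) hB0
  exact ⟨v, v.2, hv⟩

/-- transport of a nondegenerate subspace to the standard unitary space of its dimension -/
theorem exists_iso_std (hF : Fintype.card F = q ^ 2) {U : Submodule F (Fin n → F)} (hU : ND q U)
    (d : ℕ) (hd : finrank F U = d) :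
    ∃ φ : U ≃ₗ[F] (Fin d → F), ∀ x y : U,
      hermForm d F q (φ x) (φ y) = hh (x : Fin n → F) (y : Fin n → F) := by
  obtain ⟨φ, hφ⟩ := exists_std_herm hF (restrB hF U) (restrB_isSymm hF U)
    (restrB_nondeg hF hU) d hd
  exact ⟨φ, fun x y => by rw [hφ, restrB_apply]⟩

theorem ne_bot_not_ti {U : Submodule F (Fin n → F)} (hU : ND q U) (hne : U ≠ ⊥) : ¬ TI q U := by
  intro hti
  obtain ⟨u, hu, hu0⟩ := Submodule.exists_mem_ne_zero_of_ne_bot hne
  obtain ⟨v, hv, hv'⟩ := hU u hu hu0
  exact hv' (hti u hu v hv)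

/-- nondegenerate subspaces of every smaller dimension -/
theorem exists_nd_le (hF : Fintype.card F = q ^ 2) {U : Submodule F (Fin n → F)} (hU : ND q U)
    (j : ℕ) (hj : j ≤ finrank F U) :
    ∃ W : Submodule F (Fin n → F), W ≤ U ∧ ND q W ∧ finrank F W = j := by
  induction j with
  | zero => exact ⟨⊥, bot_le, nd_bot, finrank_bot F _⟩
  | succ j ih =>
    obtain ⟨W, hWU, hW, hWd⟩ := ih (by omega)
    have hB : ND q (perp q W ⊓ U) := nd_inf_perp hF hW hU hWU
    have hBd := finrank_inf_perp hF hW hWU
    have hBne : perp q W ⊓ U ≠ ⊥ := by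
      intro h0
      rw [h0, finrank_bot] at hBd
      omega
    obtain ⟨b, hb, hbb⟩ := exists_aniso hF (ne_bot_not_ti hB hBne)
    have hsp : Submodule.span F {b} ≤ perp q W := by
      rw [Submodule.span_le, Set.singleton_subset_iff]
      exact hb.1
    refine ⟨Submodule.span F {b} ⊔ W, ?_, nd_sup hF (nd_span_singleton b hbb) hW hsp, ?_⟩
    · apply sup_le _ hWU
      rw [Submodule.span_le, Set.singleton_subset_iff]
      exact hb.2
    · rw [finrank_sup_of_perp hW hsp, hWd, finrank_span_singleton]
      · omega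
      · rintro rfl
        exact hbb (herm_zero_left 0)

end basic

section inv
variable {F : Type*} [Field F] [Fintype F] {q n : ℕ}

local notation "hh" => Cfsg.hermForm n F q

/-- invariant subspaces -/
def Inv (x : Matrix (Fin n) (Fin n) F) (U : Submodule F (Fin n → F)) : Prop :=
  ∀ u ∈ U, x *ᵥ u ∈ U

theorem inv_iff_map (x : Matrix (Fin n) (Fin n) F) (U : Submodule F (Fin n → F)) :
    Inv x U ↔ U.map (Matrix.toLin' x) ≤ U := by
  rw [Submodule.map_le_iff_le_comap]
  constructor
  · intro h u hu
    rw [Submodule.mem_comap, Matrix.toLin'_apply]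
    exact h u hu
  · intro h u hu
    have := h hu
    rwa [Submodule.mem_comap, Matrix.toLin'_apply] at this

theorem inv_iff_invt (x : Matrix (Fin n) (Fin n) F) (U : Submodule F (Fin n → F)) :
    Inv x U ↔ U ∈ Module.End.invtSubmodule (Matrix.toLin' x) := by
  rw [Module.End.mem_invtSubmodule]
  constructor
  · intro h u hu
    rw [Submodule.mem_comap, Matrix.toLin'_apply]
    exact h u hu
  · intro h u hu
    have := h hu
    rwa [Submodule.mem_comap, Matrix.toLin'_apply] at this

theorem Pres.injective (hF : Fintype.card F = q ^ 2) {x : Matrix (Fin n) (Fin n) F}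
    (hx : Pres q x) : Function.Injective x.mulVec := by
  intro u v huv
  have h0 : x *ᵥ (u - v) = 0 := by rw [Matrix.mulVec_sub, huv, sub_self]
  have h1 : u - v = 0 := by
    apply herm_nondeg hF
    intro y
    rw [← hx, h0, herm_zero_left]
  exact sub_eq_zero.mp h1

theorem Inv.surj (hF : Fintype.card F = q ^ 2) {x : Matrix (Fin n) (Fin n) F}
    {U : Submodule F (Fin n → F)} (hx : Pres q x) (hU : Inv x U) :
    ∀ u ∈ U, ∃ u' ∈ U, x *ᵥ u' = u := by
  have hmaps : ∀ u ∈ U, Matrix.toLin' x u ∈ U := fun u hu => by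
    rw [Matrix.toLin'_apply]; exact hU u hu
  let f : U →ₗ[F] U := (Matrix.toLin' x).restrict hmaps
  have hinj : Function.Injective f := by
    intro a b hab
    apply Subtype.ext
    apply hx.injective hF
    have := congrArg Subtype.val hab
    simpa [f, LinearMap.restrict_apply, Matrix.toLin'_apply] using this
  have hsurj := LinearMap.surjective_of_injective hinj
  intro u hu
  obtain ⟨u', hu'⟩ := hsurj ⟨u, hu⟩
  refine ⟨u', u'.2, ?_⟩
  have := congrArg Subtype.val hu'
  simpa [f, LinearMap.restrict_apply, Matrix.toLin'_apply] using this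

theorem Inv.perp (hF : Fintype.card F = q ^ 2) {x : Matrix (Fin n) (Fin n) F}
    {U : Submodule F (Fin n → F)} (hx : Pres q x) (hU : Inv x U) : Inv x (perp q U) := by
  intro v hv u hu
  obtain ⟨u', hu', rfl⟩ := hU.surj hF hx u hu
  rw [hx]
  exact hv u' hu'

theorem Inv.inf {x : Matrix (Fin n) (Fin n) F} {U U' : Submodule F (Fin n → F)}
    (hU : Inv x U) (hU' : Inv x U') : Inv x (U ⊓ U') :=
  fun u hu => ⟨hU u hu.1, hU' u hu.2⟩

theorem Inv.sup {x : Matrix (Fin n) (Fin n) F} {U U' : Submodule F (Fin n → F)}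
    (hU : Inv x U) (hU' : Inv x U') : Inv x (U ⊔ U') := by
  intro u hu
  obtain ⟨a, ha, b, hb, rfl⟩ := Submodule.mem_sup.mp hu
  rw [Matrix.mulVec_add]
  exact Submodule.add_mem _ (Submodule.mem_sup_left (hU a ha)) (Submodule.mem_sup_right (hU' b hb))

theorem inv_bot (x : Matrix (Fin n) (Fin n) F) : Inv x (⊥ : Submodule F (Fin n → F)) := by
  intro u hu
  rw [Submodule.mem_bot] at hu ⊢
  rw [hu, Matrix.mulVec_zero]

theorem inv_top (x : Matrix (Fin n) (Fin n) F) : Inv x (⊤ : Submodule F (Fin n → F)) :=
  fun _ _ => Submodule.mem_top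

theorem Inv.pow {x : Matrix (Fin n) (Fin n) F} {U : Submodule F (Fin n → F)}
    (hU : Inv x U) (k : ℕ) : Inv (x ^ k) U := by
  induction k with
  | zero =>
    intro u hu
    rw [pow_zero, Matrix.one_mulVec]
    exact hu
  | succ k ih =>
    intro u hu
    rw [pow_succ, ← Matrix.mulVec_mulVec]
    exact ih _ (hU u hu)

theorem Pres.pow {x : Matrix (Fin n) (Fin n) F} (hx : Pres q x) (k : ℕ) : Pres q (x ^ k) := by
  induction k with
  | zero =>
    intro u v
    rw [pow_zero, Matrix.one_mulVec, Matrix.one_mulVec]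
  | succ k ih =>
    intro u v
    rw [pow_succ, ← Matrix.mulVec_mulVec, ← Matrix.mulVec_mulVec, ih, hx]

end inv

end Cfsg.Agent.Lib.Helper19.HS
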