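import Mathlib
import Cfsg.Agent.Lib.Helper21.GL23Defs
set_option autoImplicit false
set_option maxRecDepth 1000000
set_option synthInstance.maxSize 100000
set_option synthInstance.maxHeartbeats 1000000

/-!
# S0197 package B: the entry-level bridge for `GL(2,3)`
-/

namespace Cfsg.Agent.Lib.Helper19.S0197B

open Cfsg.Agent.Lib.Helper21.GL23 Matrix

/-- quadruples of entries -/
abbrev Q := ZMod 3 × ZMod 3 × ZMod 3 × ZMod 3

def detQ (q : Q) : ZMod 3 := q.1 * q.2.2.2 - q.2.1 * q.2.2.1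

def trQ (q : Q) : ZMod 3 := q.1 + q.2.2.2

def mulQ (p q : Q) : Q :=
  (p.1 * q.1 + p.2.1 * q.2.2.1, p.1 * q.2.1 + p.2.1 * q.2.2.2,
    p.2.2.1 * q.1 + p.2.2.2 * q.2.2.1, p.2.2.1 * q.2.1 + p.2.2.2 * q.2.2.2)

def invQ (q : Q) : Q :=
  (detQ q * q.2.2.2, -(detQ q * q.2.1), -(detQ q * q.2.2.1), detQ q * q.1)

def oneQ : Q := (1, 0, 0, 1)

def negQ : Q := (2, 0, 0, 2)

def matQ (q : Q) : Matrix (Fin 2) (Fin 2) (ZMod 3) := !![q.1, q.2.1; q.2.2.1, q.2.2.2]

theorem det_matQ (q : Q) : (matQ q).det = detQ q := by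
  simp [matQ, detQ, Matrix.det_fin_two_of]

theorem trace_matQ (q : Q) : (matQ q).trace = trQ q := by
  simp [matQ, trQ, Matrix.trace_fin_two_of]

theorem matQ_mul (p q : Q) : matQ p * matQ q = matQ (mulQ p q) := by
  simp [matQ, mulQ, Matrix.mul_fin_two]

theorem matQ_inj {p q : Q} (h : matQ p = matQ q) : p = q := by
  have h00 := congrFun (congrFun h 0) 0
  have h01 := congrFun (congrFun h 0) 1
  have h10 := congrFun (congrFun h 1) 0
  have h11 := congrFun (congrFun h 1) 1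
  simp [matQ] at h00 h01 h10 h11
  obtain ⟨a, b, c, d⟩ := p
  obtain ⟨a', b', c', d'⟩ := q
  simp only [Prod.mk.injEq]
  exact ⟨h00, h01, h10, h11⟩

theorem matQ_one : matQ oneQ = 1 := by
  ext i j
  fin_cases i <;> fin_cases j <;> simp [matQ, oneQ]

theorem matQ_neg : matQ negQ = -1 := by
  ext i j
  fin_cases i <;> fin_cases j <;> simp [matQ, negQ] <;> decide

theorem detQ_mulQ (p q : Q) : detQ (mulQ p q) = detQ p * detQ q := by
  simp only [detQ, mulQ]
  ring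

/-- the element of `GL(2,3)` with given entries (junk value `1` for singular entries) -/
def G (q : Q) : Gam :=
  if h : detQ q ≠ 0 then GeneralLinearGroup.mkOfDetNeZero (matQ q) (by rwa [det_matQ]) else 1

theorem G_coe {q : Q} (hq : detQ q ≠ 0) : ((G q : Gam) : Matrix (Fin 2) (Fin 2) (ZMod 3)) = matQ q := by
  unfold G
  rw [dif_pos hq]
  rfl

theorem G_inj {p q : Q} (hp : detQ p ≠ 0) (hq : detQ q ≠ 0) (h : G p = G q) : p = q := by
  apply matQ_inj
  rw [← G_coe hp, ← G_coe hq, h]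

theorem G_mul {p q : Q} (hp : detQ p ≠ 0) (hq : detQ q ≠ 0) : G p * G q = G (mulQ p q) := by
  have hpq : detQ (mulQ p q) ≠ 0 := by
    rw [detQ_mulQ]; exact mul_ne_zero hp hq
  apply Units.ext
  rw [Units.val_mul, G_coe hp, G_coe hq, G_coe hpq, matQ_mul]

theorem detQ_oneQ : detQ oneQ ≠ 0 := by decide

theorem detQ_negQ : detQ negQ ≠ 0 := by decide

theorem G_one : G oneQ = 1 := by
  apply Units.ext
  rw [G_coe detQ_oneQ, matQ_one]
  rfl

theorem G_neg : G negQ = -1 := by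
  apply Units.ext
  rw [G_coe detQ_negQ, matQ_neg]
  rfl

theorem detQ_invQ : ∀ q : Q, detQ q ≠ 0 → detQ (invQ q) ≠ 0 := by decide +kernel

theorem mulQ_invQ : ∀ q : Q, detQ q ≠ 0 → mulQ q (invQ q) = oneQ := by decide +kernel

theorem G_inv {q : Q} (hq : detQ q ≠ 0) : (G q)⁻¹ = G (invQ q) := by
  apply inv_eq_of_mul_eq_one_right
  rw [G_mul hq (detQ_invQ q hq), mulQ_invQ q hq, G_one]

/-- entries of an element -/
def ofGam (M : Gam) : Q :=
  ((M : Matrix (Fin 2) (Fin 2) (ZMod 3)) 0 0, (M : Matrix (Fin 2) (Fin 2) (ZMod 3)) 0 1,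
    (M : Matrix (Fin 2) (Fin 2) (ZMod 3)) 1 0, (M : Matrix (Fin 2) (Fin 2) (ZMod 3)) 1 1)

theorem matQ_ofGam (M : Gam) : matQ (ofGam M) = (M : Matrix (Fin 2) (Fin 2) (ZMod 3)) := by
  unfold matQ ofGam
  exact (Matrix.eta_fin_two _).symm

theorem detQ_ofGam (M : Gam) : detQ (ofGam M) ≠ 0 := by
  rw [← det_matQ, matQ_ofGam]
  have h1 : IsUnit (M : Matrix (Fin 2) (Fin 2) (ZMod 3)) := M.isUnit
  rw [Matrix.isUnit_iff_isUnit_det] at h1
  exact h1.ne_zero

theorem G_ofGam (M : Gam) : G (ofGam M) = M := by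
  apply Units.ext
  rw [G_coe (detQ_ofGam M), matQ_ofGam]

theorem ofGam_G {q : Q} (hq : detQ q ≠ 0) : ofGam (G q) = q := by
  apply matQ_inj
  rw [matQ_ofGam, G_coe hq]

/-- the nonsingular quadruples -/
abbrev E := {q : Q // detQ q ≠ 0}

/-- the bridge -/
def eqv : E ≃ Gam where
  toFun q := G q.1
  invFun M := ⟨ofGam M, detQ_ofGam M⟩
  left_inv q := Subtype.ext (ofGam_G q.2)
  right_inv M := G_ofGam M

theorem forall_gam {P : Gam → Prop} (h : ∀ q : Q, detQ q ≠ 0 → P (G q)) (M : Gam) : P M := by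
  rw [← G_ofGam M]
  exact h _ (detQ_ofGam M)

theorem G_eq_one_iff {q : Q} (hq : detQ q ≠ 0) : G q = 1 ↔ q = oneQ := by
  rw [← G_one]
  exact ⟨fun h => G_inj hq detQ_oneQ h, fun h => by rw [h]⟩

theorem G_eq_neg_iff {q : Q} (hq : detQ q ≠ 0) : G q = -1 ↔ q = negQ := by
  rw [← G_neg]
  exact ⟨fun h => G_inj hq detQ_negQ h, fun h => by rw [h]⟩

/-- class label on entries -/
def clsQ (q : Q) : Fin 8 :=
  if q = oneQ then 0 else if q = negQ then 1 else
  if detQ q = 1 then (if trQ q = 0 then 3 else if trQ q = 2 then 4 else 5)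
  else (if trQ q = 0 then 2 else if trQ q = 1 then 6 else 7)

theorem cls_G {q : Q} (hq : detQ q ≠ 0) : cls (G q) = clsQ q := by
  unfold cls clsQ
  simp only [G_eq_one_iff hq, G_eq_neg_iff hq, G_coe hq, det_matQ, trace_matQ]

/-- powers on entries -/
def powQ (q : Q) : ℕ → Q
  | 0 => oneQ
  | (k + 1) => mulQ (powQ q k) q

theorem detQ_powQ {q : Q} (hq : detQ q ≠ 0) (k : ℕ) : detQ (powQ q k) ≠ 0 := by
  induction k with
  | zero => exact detQ_oneQ
  | succ k ih =>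
    show detQ (mulQ (powQ q k) q) ≠ 0
    rw [detQ_mulQ]; exact mul_ne_zero ih hq

theorem G_pow {q : Q} (hq : detQ q ≠ 0) (k : ℕ) : G q ^ k = G (powQ q k) := by
  induction k with
  | zero => rw [pow_zero]; exact G_one.symm
  | succ k ih =>
    rw [pow_succ, ih, G_mul (detQ_powQ hq k) hq]
    rfl

end Cfsg.Agent.Lib.Helper19.S0197B
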