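import Mathlib
import Cfsg.Agent.Lib.Helper19.S0197BA
set_option autoImplicit false
set_option maxRecDepth 1000000
set_option synthInstance.maxSize 100000
set_option synthInstance.maxHeartbeats 1000000

/-!
# S0197 package B: the concrete facts about `GL(2,3)`
-/

namespace Cfsg.Agent.Lib.Helper19.S0197B

open Cfsg.Agent.Lib.Helper21.GL23 Matrix

/-- counting in `GL(2,3)` through entries -/
theorem card_gam (P : Gam → Prop) (P' : Q → Prop) [DecidablePred P']
    (h : ∀ q : Q, detQ q ≠ 0 → (P (G q) ↔ P' q)) :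
    Nat.card {X : Gam // P X} = (Finset.univ.filter (fun q : Q => detQ q ≠ 0 ∧ P' q)).card := by
  have e1 : {a : E // P' a.1} ≃ {X : Gam // P X} :=
    Equiv.subtypeEquiv eqv (fun a => (h a.1 a.2).symm)
  have e2 : {a : E // P' a.1} ≃ {q : Q // detQ q ≠ 0 ∧ P' q} :=
    Equiv.subtypeSubtypeEquivSubtypeInter (fun q : Q => detQ q ≠ 0) P'
  rw [Nat.card_congr e1.symm, Nat.card_congr e2, Nat.card_eq_fintype_card, Fintype.card_subtype]

theorem card_Gam : Nat.card Gam = 48 := by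
  have h := card_gam (fun _ => True) (fun _ => True) (fun _ _ => Iff.rfl)
  have h2 : Nat.card {X : Gam // True} = Nat.card Gam :=
    Nat.card_congr (Equiv.subtypeUnivEquiv (fun _ => trivial))
  rw [← h2, h]
  decide +kernel

theorem cls_conjQ : ∀ x m : Q, detQ x ≠ 0 → detQ m ≠ 0 →
    clsQ (mulQ (mulQ x m) (invQ x)) = clsQ m := by decide +kernel

theorem detQ_conj {x m : Q} (hx : detQ x ≠ 0) (hm : detQ m ≠ 0) :
    detQ (mulQ (mulQ x m) (invQ x)) ≠ 0 := by
  rw [detQ_mulQ, detQ_mulQ]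
  exact mul_ne_zero (mul_ne_zero hx hm) (detQ_invQ x hx)

theorem G_conj {x m : Q} (hx : detQ x ≠ 0) (hm : detQ m ≠ 0) :
    G x * G m * (G x)⁻¹ = G (mulQ (mulQ x m) (invQ x)) := by
  have hxm : detQ (mulQ x m) ≠ 0 := by rw [detQ_mulQ]; exact mul_ne_zero hx hm
  rw [G_inv hx, G_mul hx hm, G_mul hxm (detQ_invQ x hx)]

theorem cls_conj (X M : Gam) : cls (X * M * X⁻¹) = cls M := by
  revert M
  refine forall_gam (P := fun X => ∀ M, cls (X * M * X⁻¹) = cls M) ?_ X
  intro x hx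
  refine forall_gam ?_
  intro m hm
  rw [G_conj hx hm, cls_G (detQ_conj hx hm), cls_G hm]
  exact cls_conjQ x m hx hm

/-- class representatives -/
def repQ : Fin 8 → Q :=
  ![oneQ, negQ, (1, 0, 0, 2), (0, 2, 1, 0), (1, 1, 0, 1), (2, 2, 0, 2), (0, 1, 1, 1), (0, 1, 1, 2)]

theorem exists_conj_repQ : ∀ m : Q, detQ m ≠ 0 →
    ∃ x : Q, detQ x ≠ 0 ∧ mulQ (mulQ x m) (invQ x) = repQ (clsQ m) := by decide +kernel

theorem exists_conj_rep (M : Gam) : ∃ X : Gam, X * M * X⁻¹ = G (repQ (cls M)) := by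
  refine forall_gam (P := fun M => ∃ X : Gam, X * M * X⁻¹ = G (repQ (cls M))) ?_ M
  intro m hm
  obtain ⟨x, hx, hxm⟩ := exists_conj_repQ m hm
  refine ⟨G x, ?_⟩
  rw [G_conj hx hm, cls_G hm, hxm]

theorem exists_conj_of_cls_eq (M N : Gam) (h : cls M = cls N) : ∃ X : Gam, X * M * X⁻¹ = N := by
  obtain ⟨X, hX⟩ := exists_conj_rep M
  obtain ⟨Y, hY⟩ := exists_conj_rep N
  refine ⟨Y⁻¹ * X, ?_⟩
  rw [h, ← hY] at hX
  have : N = Y⁻¹ * (Y * N * Y⁻¹) * Y := by group
  rw [this, ← hX]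
  group

theorem cls_eq_one_iffQ : ∀ m : Q, detQ m ≠ 0 → (clsQ m = 1 ↔ m = negQ) := by decide +kernel

theorem cls_eq_one_iff (M : Gam) : cls M = 1 ↔ M = -1 := by
  refine forall_gam (P := fun M => cls M = 1 ↔ M = -1) ?_ M
  intro m hm
  rw [cls_G hm, G_eq_neg_iff hm]
  exact cls_eq_one_iffQ m hm

theorem orderOf_eq_two_iffQ : ∀ m : Q, detQ m ≠ 0 →
    ((mulQ m m = oneQ ∧ m ≠ oneQ) ↔ (m = negQ ∨ clsQ m = 2)) := by decide +kernel

theorem orderOf_eq_two_iff (M : Gam) : orderOf M = 2 ↔ (M = -1 ∨ cls M = 2) := by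
  refine forall_gam (P := fun M => orderOf M = 2 ↔ (M = -1 ∨ cls M = 2)) ?_ M
  intro m hm
  have hmm : detQ (mulQ m m) ≠ 0 := by rw [detQ_mulQ]; exact mul_ne_zero hm hm
  rw [orderOf_eq_prime_iff, pow_two, G_mul hm hm, G_eq_one_iff hmm, cls_G hm, G_eq_neg_iff hm,
    Ne, G_eq_one_iff hm]
  exact orderOf_eq_two_iffQ m hm

theorem no_invertingQ : ∀ z a : Q, detQ z ≠ 0 → detQ a ≠ 0 → clsQ z = 6 → mulQ a a = oneQ →
    mulQ (mulQ a z) (mulQ a z) = oneQ → False := by decide +kernel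

theorem no_inverting (z a : Gam) (hz : cls z = 6) (ha : a * a = 1)
    (hb : (a * z) * (a * z) = 1) : False := by
  revert a
  refine forall_gam (P := fun z => cls z = 6 → ∀ a : Gam, a * a = 1 →
    (a * z) * (a * z) = 1 → False) ?_ z hz
  intro z' hz' hc
  refine forall_gam ?_
  intro a' ha' h1 h2
  have haa : detQ (mulQ a' a') ≠ 0 := by rw [detQ_mulQ]; exact mul_ne_zero ha' ha'
  have haz : detQ (mulQ a' z') ≠ 0 := by rw [detQ_mulQ]; exact mul_ne_zero ha' hz'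
  have hazaz : detQ (mulQ (mulQ a' z') (mulQ a' z')) ≠ 0 := by
    rw [detQ_mulQ]; exact mul_ne_zero haz haz
  rw [cls_G hz'] at hc
  rw [G_mul ha' ha', G_eq_one_iff haa] at h1
  rw [G_mul ha' hz', G_mul haz haz, G_eq_one_iff hazaz] at h2
  exact no_invertingQ z' a' hz' ha' hc h1 h2

theorem card_clsQ : ∀ c : Fin 8,
    (Finset.univ.filter (fun q : Q => detQ q ≠ 0 ∧ clsQ q = c)).card = csize c := by
  decide +kernel

theorem card_cls (c : Fin 8) : Nat.card {M : Gam // cls M = c} = csize c := by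
  rw [card_gam (fun M => cls M = c) (fun q => clsQ q = c) (fun q hq => by rw [cls_G hq])]
  exact card_clsQ c

theorem centQ : ∀ m : Q, detQ m ≠ 0 →
    16 ∣ (Finset.univ.filter (fun q : Q => detQ q ≠ 0 ∧ mulQ m q = mulQ q m)).card →
    (m = oneQ ∨ m = negQ) := by decide +kernel

theorem eq_of_sixteen_dvd_centralizer (M : Gam)
    (h : 16 ∣ Nat.card (Subgroup.centralizer ({M} : Set Gam))) : M = 1 ∨ M = -1 := by
  revert h
  refine forall_gam (P := fun M => 16 ∣ Nat.card (Subgroup.centralizer ({M} : Set Gam)) →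
    (M = 1 ∨ M = -1)) ?_ M
  intro m hm h
  have e : (Subgroup.centralizer ({G m} : Set Gam)) ≃ {X : Gam // G m * X = X * G m} :=
    Equiv.subtypeEquivRight (fun X => Subgroup.mem_centralizer_singleton_iff.trans eq_comm)
  rw [Nat.card_congr e, card_gam (fun X => G m * X = X * G m) (fun q => mulQ m q = mulQ q m)
    (fun q hq => by
      have h1 : detQ (mulQ m q) ≠ 0 := by rw [detQ_mulQ]; exact mul_ne_zero hm hq
      have h2 : detQ (mulQ q m) ≠ 0 := by rw [detQ_mulQ]; exact mul_ne_zero hq hm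
      rw [G_mul hm hq, G_mul hq hm]
      exact ⟨fun h => G_inj h1 h2 h, fun h => by rw [h]⟩)] at h
  rw [G_eq_one_iff hm, G_eq_neg_iff hm]
  exact centQ m hm h

theorem pow24Q : ∀ m : Q, detQ m ≠ 0 → powQ m 24 = oneQ := by decide +kernel

theorem inD_of_powQ : ∀ m : Q, detQ m ≠ 0 → ∀ k : Fin 24, powQ m k = negQ → inD (clsQ m) := by
  decide +kernel

theorem powQ_of_inD : ∀ m : Q, detQ m ≠ 0 → inD (clsQ m) →
    (powQ m 1 = negQ ∨ powQ m 2 = negQ ∨ powQ m 3 = negQ ∨ powQ m 4 = negQ) := by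
  decide +kernel

theorem inD_iff (M : Gam) : inD (cls M) ↔ (-1 : Gam) ∈ Subgroup.zpowers M := by
  refine forall_gam (P := fun M => inD (cls M) ↔ (-1 : Gam) ∈ Subgroup.zpowers M) ?_ M
  intro m hm
  rw [cls_G hm]
  constructor
  · intro h
    have key : ∀ k : ℕ, powQ m k = negQ → (-1 : Gam) ∈ Subgroup.zpowers (G m) := by
      intro k hk
      rw [← G_neg, ← hk, ← G_pow hm]
      exact Subgroup.npow_mem_zpowers _ _
    rcases powQ_of_inD m hm h with h1 | h1 | h1 | h1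
    · exact key 1 h1
    · exact key 2 h1
    · exact key 3 h1
    · exact key 4 h1
  · intro h
    obtain ⟨k, hk⟩ := Subgroup.mem_zpowers_iff.1 h
    have h24 : G m ^ 24 = 1 := by
      rw [G_pow hm, pow24Q m hm, G_one]
    have h24' : G m ^ ((24 : ℕ) : ℤ) = 1 := by
      rw [zpow_natCast]; exact h24
    rw [zpow_eq_zpow_emod k h24'] at hk
    have hlt : k % ((24 : ℕ) : ℤ) < 24 := Int.emod_lt_of_pos _ (by norm_num)
    have hnn : 0 ≤ k % ((24 : ℕ) : ℤ) := Int.emod_nonneg _ (by norm_num)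
    obtain ⟨j, hj⟩ := Int.eq_ofNat_of_zero_le hnn
    rw [hj, zpow_natCast, G_pow hm, G_eq_neg_iff (detQ_powQ hm j)] at hk
    have hj24 : j < 24 := by omega
    exact inD_of_powQ m hm ⟨j, hj24⟩ hk

end Cfsg.Agent.Lib.Helper19.S0197B
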