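import Mathlib
import Cfsg.Prelude.Def_Characters
import Cfsg.Agent.Lib.Helper11.S3282Defs
import Cfsg.Agent.Lib.Helper11.S3282Eval
import Cfsg.Agent.Lib.Helper11.Frobenius
import Cfsg.Agent.Lib.Helper11.GenChar
import Cfsg.Agent.Lib.Helper2.Linear
import Cfsg.Agent.Lib.Helper12.S3282G1a
import Cfsg.Agent.Lib.Helper24.S3282CT45

/-!
S3282 pieces CT9B (order formula, `Y 1 = Z 1`) and CT9C (`X 1 = 1 ± 2k`): auxiliary versions with the
statement of `CT7_soft` as an explicit hypothesis.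
-/

set_option autoImplicit false

namespace Cfsg.Agent.Lib.Helper19.S3282CT9BC

open Cfsg Cfsg.Agent.Lib.Helper11 Cfsg.Agent.Lib.Helper11.S3282 Cfsg.Agent.Lib.Helper2
open scoped ComplexConjugate

universe u

variable {G : Type u} [Group G] {t s : G} {K : Subgroup G}

section CT
variable [Fintype G] [Fintype K]

/-- the functional `χ ↦ χ(t)² / χ(1)` is odd -/
theorem F_odd (f : G → ℂ) :
    (fun χ : G → ℂ => χ t ^ 2 / χ 1) (-f) = - (fun χ : G → ℂ => χ t ^ 2 / χ 1) f := by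
  simp only [Pi.neg_apply, neg_sq, div_neg]

theorem cj_one : cj (fun _ : K => (1 : ℂ)) = fun _ => 1 := by
  funext y
  simp [cj]

/-- a non-real irreducible character of `K` exists when `k ≥ 4` -/
theorem exists_nonreal (h : Hyp t s K) (hk : 4 ≤ Nat.card K) [Fintype (Cfsg.IrrCharacter K)]
    {σ : K → ℂ}
    (hσu : ∀ μ : K → ℂ, Cfsg.IsIrrCharacter K μ → cj μ = μ → μ = (fun _ => 1) ∨ μ = σ) :
    ∃ μ : K → ℂ, Cfsg.IsIrrCharacter K μ ∧ cj μ ≠ μ := by
  classical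
  by_contra hcon
  push Not at hcon
  have hcard := Cfsg.Agent.Lib.Helper24.S3282CT45.CT5_card (K := K) h.comm
  have hinj : Function.Injective
      (fun μ : Cfsg.IrrCharacter K => decide ((μ : K → ℂ) = fun _ => 1)) := by
    intro μ ν hμν
    simp only [decide_eq_decide] at hμν
    apply Subtype.ext
    rcases hσu μ μ.2 (hcon μ μ.2) with h1 | h1
    · rw [h1]
      exact (hμν.mp h1).symm
    · rcases hσu ν ν.2 (hcon ν ν.2) with h2 | h2
      · rw [h2]
        exact hμν.mpr h2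
      · rw [h1, h2]
  have := Fintype.card_le_of_injective _ hinj
  rw [Fintype.card_bool, hcard] at this
  omega

theorem sq_apply_t (h : Hyp t s K) {μ : K → ℂ} (hμ : Cfsg.IsIrrCharacter K μ) :
    μ ⟨t, h.htK⟩ ^ 2 = 1 := by
  obtain ⟨h1, hmul⟩ := Cfsg.Agent.Lib.Helper24.S3282CT45.CT5_mul h.comm hμ
  rw [pow_two, ← hmul]
  have : (⟨t, h.htK⟩ : K) * ⟨t, h.htK⟩ = 1 := by
    apply Subtype.ext
    exact Cfsg.Agent.Lib.Helper24.S3282CT45.t_mul_self h
  rw [this, h1]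

theorem t_sub_ne_one (h : Hyp t s K) : (⟨t, h.htK⟩ : K) ≠ 1 := by
  intro h1
  exact Cfsg.Agent.Lib.Helper24.S3282CT45.t_ne_one h (congrArg Subtype.val h1)

theorem Del_apply_one (h : Hyp t s K) {μ : K → ℂ} (hμ : Cfsg.IsIrrCharacter K μ) :
    Del K μ 1 = 0 := by
  unfold Del
  rw [indFun_apply_one]
  rw [(Cfsg.Agent.Lib.Helper24.S3282CT45.CT5_mul h.comm hμ).1]
  simp

/-- CT9B, with `CT7_soft` as hypothesis. -/
theorem CT9B_order_aux (h : Hyp t s K) (hk : 4 ≤ Nat.card K) [Fintype (Cfsg.IrrCharacter G)]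
    [Fintype (Cfsg.IrrCharacter K)]
    (hsoft : ∀ μ : K → ℂ, Cfsg.IsIrrCharacter K μ → μ ≠ (fun _ => 1) →
      evalF (fun χ => χ t ^ 2 / χ 1) (Del K μ) = 4 * (Nat.card K : ℂ) ^ 3 / (Nat.card G : ℂ))
    {σ : K → ℂ} {X Y Z : G → ℂ} {Lam : (K → ℂ) → G → ℂ}
    (gen : Gen K σ X Y Z Lam) :
    (X 1 - 1) ^ 2 * (Nat.card G : ℂ) = 4 * (Nat.card K : ℂ) ^ 3 * X 1 * (X 1 + 1) ∧
      Y 1 = (1 + X 1) / 2 ∧ Z 1 = (1 + X 1) / 2 := by
  classical
  obtain ⟨μ, hμ, hμr⟩ := exists_nonreal h hk gen.hσu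
  have hμ1 : μ ≠ fun _ => 1 := by
    intro h1
    apply hμr
    rw [h1, cj_one]
  set F : (G → ℂ) → ℂ := fun χ => χ t ^ 2 / χ 1 with hF
  have hodd : ∀ f, F (-f) = - F f := F_odd
  have hXt : X t = 1 := gen.hXK ⟨t, h.htK⟩ (t_sub_ne_one h)
  have hGne : (Nat.card G : ℂ) ≠ 0 := card_ne_zero_complex
  have hx0 : X 1 ≠ 0 := gen.hX.apply_one_ne_zero
  have ha0 : Y 1 ≠ 0 := gen.hY.apply_one_ne_zero
  have hb0 : Z 1 ≠ 0 := gen.hZ.apply_one_ne_zero
  have hL0 : Lam μ 1 ≠ 0 := (gen.hL μ hμ hμr).apply_one_ne_zero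
  -- `Lam μ 1 = 1 + X 1`
  have hL1 : Lam μ 1 = 1 + X 1 := by
    have h0 := Del_apply_one h hμ
    rw [gen.hDel μ hμ hμr] at h0
    simp only [Pi.add_apply, Pi.sub_apply] at h0
    linear_combination -h0
  have hab : Y 1 + Z 1 = 1 + X 1 := by
    have h0 := Del_apply_one h gen.hσ
    rw [gen.hDelσ] at h0
    simp only [Pi.add_apply, Pi.sub_apply] at h0
    linear_combination -h0
  -- `(Lam μ t)² = 4`
  have hLt : Lam μ t ^ 2 = 4 := by
    have h0 := gen.hLK μ hμ hμr ⟨t, h.htK⟩ (t_sub_ne_one h)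
    have h1 := sq_apply_t h hμ
    have h2 : conj (μ ⟨t, h.htK⟩) ^ 2 = 1 := by
      rw [← map_pow, h1, map_one]
    have h3 : μ ⟨t, h.htK⟩ * conj (μ ⟨t, h.htK⟩) = 1 := by
      -- `μ t = ±1`
      have h4 : (μ ⟨t, h.htK⟩ - 1) * (μ ⟨t, h.htK⟩ + 1) = 0 := by linear_combination h1
      rcases mul_eq_zero.mp h4 with h5 | h5
      · have : μ ⟨t, h.htK⟩ = 1 := by linear_combination h5
        rw [this]; simp
      · have : μ ⟨t, h.htK⟩ = -1 := by linear_combination h5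
        rw [this]; simp
    change Lam μ ((⟨t, h.htK⟩ : K) : G) ^ 2 = 4
    rw [h0]
    linear_combination h1 + h2 + 2 * h3
  have hYt : Y t ^ 2 = 1 := by
    have h0 := gen.hYK ⟨t, h.htK⟩ (t_sub_ne_one h)
    change Y ((⟨t, h.htK⟩ : K) : G) ^ 2 = 1
    rw [h0]
    exact sq_apply_t h gen.hσ
  have hZt : Z t ^ 2 = 1 := by
    have h0 := gen.hZK ⟨t, h.htK⟩ (t_sub_ne_one h)
    change Z ((⟨t, h.htK⟩ : K) : G) ^ 2 = 1
    rw [h0]
    exact sq_apply_t h gen.hσ
  -- the two evaluations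
  have e1 : 1 + 1 / X 1 - 4 / (1 + X 1) = 4 * (Nat.card K : ℂ) ^ 3 / (Nat.card G : ℂ) := by
    have h0 := hsoft μ hμ hμ1
    rw [gen.hDel μ hμ hμr, evalF_sub, evalF_add, evalF_one, evalF_signed F gen.hX hodd,
      evalF_signed F (gen.hL μ hμ hμr) hodd] at h0
    rw [← h0]
    simp only [hF]
    rw [hXt, hLt, hL1]
    simp
  have e2 : 1 + 1 / X 1 - 1 / Y 1 - 1 / Z 1 = 4 * (Nat.card K : ℂ) ^ 3 / (Nat.card G : ℂ) := by
    have h0 := hsoft σ gen.hσ gen.hσ1
    rw [gen.hDelσ, evalF_sub, evalF_sub, evalF_add, evalF_one, evalF_signed F gen.hX hodd,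
      evalF_signed F gen.hY hodd, evalF_signed F gen.hZ hodd] at h0
    rw [← h0]
    simp only [hF]
    rw [hXt, hYt, hZt]
    simp
  have hx1 : 1 + X 1 ≠ 0 := by rw [← hL1]; exact hL0
  -- `a = b`
  have hsq : (Y 1 - Z 1) ^ 2 = 0 := by
    have h3 : 4 / (1 + X 1) = 1 / Y 1 + 1 / Z 1 := by linear_combination e2 - e1
    rw [← hab] at h3
    have hab0 : Y 1 + Z 1 ≠ 0 := by rw [hab]; exact hx1
    field_simp at h3
    linear_combination -h3
  have hYZ : Y 1 = Z 1 := by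
    have := pow_eq_zero_iff (n := 2) (by norm_num) |>.mp hsq
    linear_combination this
  refine ⟨?_, ?_, ?_⟩
  · have h4 := e1
    field_simp at h4
    linear_combination h4
  · linear_combination (1 / 2 : ℂ) * hab + (1 / 2 : ℂ) * hYZ
  · linear_combination (1 / 2 : ℂ) * hab - (1 / 2 : ℂ) * hYZ

/-- `X = 1` on `H ∖ {1}` -/
theorem X_apply_H (h : Hyp t s K) {σ : K → ℂ} {X Y Z : G → ℂ}
    {Lam : (K → ℂ) → G → ℂ} (gen : Gen K σ X Y Z Lam) {x : G}
    (hx : x ∈ Subgroup.centralizer ({t} : Set G)) (hx1 : x ≠ 1) : X x = 1 := by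
  by_cases hxK : x ∈ K
  · exact gen.hXK ⟨x, hxK⟩ (fun h1 => hx1 (congrArg Subtype.val h1))
  · have h2 := Cfsg.Agent.Lib.Helper12.S3282G1a.G1_invol_of_not_mem h hx hxK
    have hc := h.hconj t x h.ht h2
    obtain ⟨c, hc⟩ := isConj_iff.mp hc
    have hcl := signedIrr_isClassFunction gen.hX
    rw [← hc, hcl t c]
    exact gen.hXK ⟨t, h.htK⟩ (t_sub_ne_one h)

/-- CT9C. -/
theorem CT9C_degree (h : Hyp t s K) (hk : 4 ≤ Nat.card K) {σ : K → ℂ} {X Y Z : G → ℂ}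
    {Lam : (K → ℂ) → G → ℂ} (gen : Gen K σ X Y Z Lam)
    (hord : (X 1 - 1) ^ 2 * (Nat.card G : ℂ) = 4 * (Nat.card K : ℂ) ^ 3 * X 1 * (X 1 + 1)) :
    X 1 = 1 + 2 * (Nat.card K : ℂ) ∨ X 1 = 1 - 2 * (Nat.card K : ℂ) := by
  classical
  obtain ⟨z, hz0, hz⟩ := signedIrr_apply_one_int gen.hX
  set H : Subgroup G := Subgroup.centralizer ({t} : Set G) with hH
  haveI : Fintype H := Fintype.ofFinite H
  have hHcard : Nat.card H = 2 * Nat.card K := Cfsg.Agent.Lib.Helper12.S3282G1a.G1_card_H h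
  -- the integer multiplicity
  have hchar : Cfsg.IsCharacter G (Cfsg.indFun H (fun _ => (1 : ℂ))) :=
    indFun_isCharacter H _ (IsIrrCharacter.isCharacter (Cfsg.Agent.Lib.Helper24.S3282CT45.isIrr_one H))
  have hgen : Cfsg.IsGeneralizedCharacter G (Cfsg.indFun H (fun _ => (1 : ℂ))) :=
    ⟨_, 0, hchar, isCharacter_zero, by simp⟩
  obtain ⟨m, hm⟩ := IsGeneralizedCharacter.inner_int hgen (signedIrr_isGenChar gen.hX)
  rw [classInner_indFun_left H _ X (signedIrr_isClassFunction gen.hX), classInner_def] at hm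
  have hsum : ∑ g : H, (fun _ : H => (1 : ℂ)) g * conj ((fun y : H => X (y : G)) g)
      = (z : ℂ) + (2 * (Nat.card K : ℂ) - 1) := by
    have h1 : ∀ g : H, (fun _ : H => (1 : ℂ)) g * conj ((fun y : H => X (y : G)) g)
        = 1 + (if g = 1 then (z : ℂ) - 1 else 0) := by
      intro g
      by_cases hg : g = 1
      · rw [if_pos hg, hg]
        simp only [one_mul, Subgroup.coe_one]
        rw [hz]
        simp
      · rw [if_neg hg]
        simp only [one_mul, add_zero]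
        rw [X_apply_H h gen g.2 (fun h1 => hg (Subtype.ext h1))]
        simp
    rw [Finset.sum_congr rfl (fun g _ => h1 g), Finset.sum_add_distrib, Finset.sum_ite_eq']
    simp only [Finset.sum_const, Finset.card_univ, nsmul_eq_mul, mul_one, Finset.mem_univ, if_true]
    rw [← Nat.card_eq_fintype_card, hHcard]
    push_cast
    ring
  rw [hsum, hHcard] at hm
  have hk0 : (Nat.card K : ℂ) ≠ 0 := by
    have : 0 < Nat.card K := by omega
    exact_mod_cast this.ne'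
  -- `z + 2k - 1 = 2k m`
  have hzm : (z : ℂ) + (2 * (Nat.card K : ℂ) - 1) = 2 * (Nat.card K : ℂ) * (m : ℂ) := by
    have h2 : ((2 * Nat.card K : ℕ) : ℂ) ≠ 0 := by
      push_cast
      exact mul_ne_zero two_ne_zero hk0
    field_simp at hm
    push_cast at hm
    linear_combination hm
  have hzmZ : z + (2 * (Nat.card K : ℤ) - 1) = 2 * (Nat.card K : ℤ) * m := by
    exact_mod_cast hzm
  -- `|G| = 2k n`
  obtain ⟨n, hn⟩ : 2 * Nat.card K ∣ Nat.card G := by
    rw [← hHcard]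
    exact Subgroup.card_subgroup_dvd_card H
  -- the order formula over `ℤ`
  have hordZ : (z - 1) ^ 2 * (Nat.card G : ℤ) = 4 * (Nat.card K : ℤ) ^ 3 * z * (z + 1) := by
    rw [hz] at hord
    exact_mod_cast hord
  set k : ℤ := (Nat.card K : ℤ) with hkdef
  have hkpos : 0 < k := by
    have : 0 < Nat.card K := by omega
    rw [hkdef]
    exact_mod_cast this
  set c : ℤ := m - 1 with hc
  have hzc : z = 1 + 2 * k * c := by
    rw [hc]; linarith
  have hGn : (Nat.card G : ℤ) = 2 * k * (n : ℤ) := by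
    rw [hn]; push_cast; ring
  rw [hzc, hGn] at hordZ
  have h3 : c ^ 2 * (n : ℤ) = (1 + 2 * k * c) * (1 + k * c) := by
    have h4 : 8 * k ^ 3 * (c ^ 2 * (n : ℤ)) = 8 * k ^ 3 * ((1 + 2 * k * c) * (1 + k * c)) := by
      linear_combination hordZ
    have h5 : (8 * k ^ 3 : ℤ) ≠ 0 := by positivity
    exact mul_left_cancel₀ h5 h4
  have hdvd : c ∣ 1 := by
    have h6 : c ∣ c ^ 2 * (n : ℤ) := Dvd.intro (c * n) (by ring)
    rw [h3] at h6
    have h7 : (1 + 2 * k * c) * (1 + k * c) = 1 + c * (3 * k + 2 * k ^ 2 * c) := by ring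
    rw [h7] at h6
    exact (Int.dvd_add_left (Dvd.intro _ rfl)).mp h6
  have hcu : c = 1 ∨ c = -1 := Int.isUnit_iff.mp (isUnit_of_dvd_one hdvd)
  rcases hcu with h8 | h8
  · left
    rw [hz, hzc, h8, hkdef]
    push_cast
    ring
  · right
    rw [hz, hzc, h8, hkdef]
    push_cast
    ring

end CT

end Cfsg.Agent.Lib.Helper19.S3282CT9BC
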