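import Mathlib
import Cfsg.Prelude.Def_Characters
import Cfsg.Agent.Lib.Helper11.S3282Defs
import Cfsg.Agent.Lib.Helper19.S3282CT9BCaux
import Cfsg.Agent.Lib.Helper24.S3282CT7

/-!
S3282 pieces CT9B (`CT9B_order`) and CT9C (`CT9C_degree`) with the exact skeleton signatures
(`CT9C_degree` is already exact in `S3282CT9BCaux`).
-/

set_option autoImplicit false

namespace Cfsg.Agent.Lib.Helper19.S3282CT9BC

open Cfsg Cfsg.Agent.Lib.Helper11 Cfsg.Agent.Lib.Helper11.S3282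
open scoped ComplexConjugate

universe u

variable {G : Type u} [Group G] {t s : G} {K : Subgroup G}

section CT
variable [Fintype G] [Fintype K]

theorem CT9B_order (h : Hyp t s K) (hk : 4 ≤ Nat.card K) [Fintype (Cfsg.IrrCharacter G)]
    [Fintype (Cfsg.IrrCharacter K)] {σ : K → ℂ} {X Y Z : G → ℂ} {Lam : (K → ℂ) → G → ℂ}
    (gen : Gen K σ X Y Z Lam) :
    (X 1 - 1) ^ 2 * (Nat.card G : ℂ) = 4 * (Nat.card K : ℂ) ^ 3 * X 1 * (X 1 + 1) ∧
      Y 1 = (1 + X 1) / 2 ∧ Z 1 = (1 + X 1) / 2 :=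
  CT9B_order_aux h hk
    (fun _ hμ hμ1 => Cfsg.Agent.Lib.Helper24.S3282CT7.CT7_soft h hμ hμ1) gen

end CT

end Cfsg.Agent.Lib.Helper19.S3282CT9BC
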