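import Mathlib
set_option autoImplicit false
set_option maxRecDepth 1000000

/-!
# S3341 farm-out FO-2a / FO-2b (for helper11): the two arithmetic lemmas
-/

namespace Cfsg.Agent.Lib.Helper19.S3341

/-- a sign -/
def sgn (b : Bool) : ℤ := if b then 1 else -1

theorem sgn_cases (δ : ℤ) (h : δ = 1 ∨ δ = -1) : ∃ b : Bool, δ = sgn b := by
  rcases h with h | h
  · exact ⟨true, by rw [h]; rfl⟩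
  · exact ⟨false, by rw [h]; rfl⟩

/-- the property checked on finitely many candidates -/
def Chk (d₁ d₂ d₃ x δ₁ δ₂ δ₃ ε : ℤ) : Prop :=
  8 ≤ d₁ → 8 ≤ d₂ → 8 ≤ d₃ → 4 ≤ x → 1 + δ₁ * d₁ + δ₂ * d₂ + δ₃ * d₃ = ε * x →
  (d₁ * d₂ * d₃ * x + δ₁ * d₂ * d₃ * x + δ₂ * d₁ * d₃ * x + δ₃ * d₁ * d₂ * x
    + 2 * ε * d₁ * d₂ * d₃) ∣ 162 * (d₁ * d₂ * d₃ * x) →
  1 + d₁ ^ 2 + d₂ ^ 2 + d₃ ^ 2 + 2 * x ^ 2 ≤ 162 * (d₁ * d₂ * d₃ * x) /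
    (d₁ * d₂ * d₃ * x + δ₁ * d₂ * d₃ * x + δ₂ * d₁ * d₃ * x + δ₃ * d₁ * d₂ * x
      + 2 * ε * d₁ * d₂ * d₃) →
  162 * (d₁ * d₂ * d₃ * x) /
    (d₁ * d₂ * d₃ * x + δ₁ * d₂ * d₃ * x + δ₂ * d₁ * d₃ * x + δ₃ * d₁ * d₂ * x
      + 2 * ε * d₁ * d₂ * d₃) = 360

instance chkDecidable (d₁ d₂ d₃ x δ₁ δ₂ δ₃ ε : ℤ) : Decidable (Chk d₁ d₂ d₃ x δ₁ δ₂ δ₃ ε) := by
  unfold Chk; infer_instance

/-- the finite check -/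
theorem fin_check : ∀ (k₁ k₂ k₃ : Fin 5) (m : Fin 4) (s₁ s₂ s₃ e : Bool),
    Chk (9 * ((k₁ : ℕ) : ℤ) + sgn s₁) (9 * ((k₂ : ℕ) : ℤ) + sgn s₂) (9 * ((k₃ : ℕ) : ℤ) + sgn s₃)
      (9 * ((m : ℕ) : ℤ) + 4 * sgn e) (sgn s₁) (sgn s₂) (sgn s₃) (sgn e) := by
  decide +kernel


end Cfsg.Agent.Lib.Helper19.S3341
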