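import Mathlib
import Cfsg.Agent.Lib.Helper19.S3341Arith
set_option autoImplicit false

/-!
# S3341 farm-out FO-2a / FO-2b (for helper11): the two arithmetic lemmas (general part)
-/

namespace Cfsg.Agent.Lib.Helper19.S3341

/-- a divisibility `9 ∣ d - δ` with `2 ≤ d` forces `8 ≤ d` -/
theorem eight_le (d : ℕ) (δ : ℤ) (h : δ = 1 ∨ δ = -1) (hd : (9 : ℤ) ∣ (d : ℤ) - δ) (h2 : 2 ≤ d) :
    (8 : ℤ) ≤ d := by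
  obtain ⟨c, hc⟩ := hd
  rcases h with h | h <;> subst h <;> omega

/-- the key polynomial inequality -/
theorem key_ineq (a b c x δ₁ δ₂ δ₃ ε : ℤ) (ha : 8 ≤ a) (hb : 8 ≤ b) (hc : 8 ≤ c) (hx : 4 ≤ x)
    (h1 : δ₁ = 1 ∨ δ₁ = -1) (h2 : δ₂ = 1 ∨ δ₂ = -1) (h3 : δ₃ = 1 ∨ δ₃ = -1)
    (hε : ε = 1 ∨ ε = -1) :
    a * b * c * x ≤ 8 * (a * b * c * x + δ₁ * b * c * x + δ₂ * a * c * x + δ₃ * a * b * x
      + 2 * ε * a * b * c) := by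
  have hbc : 0 ≤ b * c := by positivity
  have hac : 0 ≤ a * c := by positivity
  have hab : 0 ≤ a * b := by positivity
  have hx0 : 0 ≤ x := by linarith
  have hc0 : 0 ≤ c := by linarith
  have e1 : 0 ≤ b * c * x * (a - 8) :=
    mul_nonneg (mul_nonneg hbc hx0) (by linarith)
  have e2 : 0 ≤ a * c * x * (b - 8) :=
    mul_nonneg (mul_nonneg hac hx0) (by linarith)
  have e3 : 0 ≤ a * b * x * (c - 8) :=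
    mul_nonneg (mul_nonneg hab hx0) (by linarith)
  have e4 : 0 ≤ a * b * c * (x - 4) :=
    mul_nonneg (mul_nonneg hab hc0) (by linarith)
  have p1 : 0 ≤ b * c * x := mul_nonneg hbc hx0
  have p2 : 0 ≤ a * c * x := mul_nonneg hac hx0
  have p3 : 0 ≤ a * b * x := mul_nonneg hab hx0
  have p4 : 0 ≤ a * b * c := mul_nonneg hab hc0
  rcases h1 with h1 | h1 <;> rcases h2 with h2 | h2 <;> rcases h3 with h3 | h3 <;>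
    rcases hε with hε | hε <;> subst h1 <;> subst h2 <;> subst h3 <;> subst hε <;> nlinarith

theorem arith_four (δ₁ δ₂ δ₃ ε : ℤ) (d₁ d₂ d₃ x₀ g : ℕ)
    (h1 : δ₁ = 1 ∨ δ₁ = -1) (h2 : δ₂ = 1 ∨ δ₂ = -1) (h3 : δ₃ = 1 ∨ δ₃ = -1)
    (hε : ε = 1 ∨ ε = -1)
    (hd1 : (9 : ℤ) ∣ (d₁ : ℤ) - δ₁) (hd2 : (9 : ℤ) ∣ (d₂ : ℤ) - δ₂) (hd3 : (9 : ℤ) ∣ (d₃ : ℤ) - δ₃)
    (hd1' : 2 ≤ d₁) (hd2' : 2 ≤ d₂) (hd3' : 2 ≤ d₃) (hx : 2 ≤ x₀)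
    (hx9 : (9 : ℤ) ∣ (x₀ : ℤ) - 4 * ε)
    (hdeg : 1 + δ₁ * d₁ + δ₂ * d₂ + δ₃ * d₃ = ε * x₀)
    (hsq : 1 + d₁ ^ 2 + d₂ ^ 2 + d₃ ^ 2 + 2 * x₀ ^ 2 ≤ g)
    (hmain : (g : ℤ) * ((d₁ : ℤ) * d₂ * d₃ * x₀ + δ₁ * d₂ * d₃ * x₀ + δ₂ * d₁ * d₃ * x₀
        + δ₃ * d₁ * d₂ * x₀ + 2 * ε * d₁ * d₂ * d₃) = 162 * ((d₁ : ℤ) * d₂ * d₃ * x₀)) :
    g = 360 := by
  have ha : (8 : ℤ) ≤ d₁ := eight_le d₁ δ₁ h1 hd1 hd1'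
  have hb : (8 : ℤ) ≤ d₂ := eight_le d₂ δ₂ h2 hd2 hd2'
  have hc : (8 : ℤ) ≤ d₃ := eight_le d₃ δ₃ h3 hd3 hd3'
  have hx4 : (4 : ℤ) ≤ x₀ := by
    obtain ⟨c, hc⟩ := hx9
    rcases hε with h | h <;> subst h <;> omega
  set D : ℤ := (d₁ : ℤ) * d₂ * d₃ * x₀ with hD
  set B : ℤ := (d₁ : ℤ) * d₂ * d₃ * x₀ + δ₁ * d₂ * d₃ * x₀ + δ₂ * d₁ * d₃ * x₀
        + δ₃ * d₁ * d₂ * x₀ + 2 * ε * d₁ * d₂ * d₃ with hB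
  have hDB : D ≤ 8 * B := key_ineq d₁ d₂ d₃ x₀ δ₁ δ₂ δ₃ ε ha hb hc hx4 h1 h2 h3 hε
  have hDpos : 0 < D := by
    rw [hD]; positivity
  have hBpos : 0 < B := by linarith
  have hg0 : (0 : ℤ) ≤ g := Int.natCast_nonneg g
  -- g ≤ 1296
  have hg : (g : ℤ) ≤ 1296 := by
    have h4 : (g : ℤ) * D ≤ (g : ℤ) * (8 * B) := mul_le_mul_of_nonneg_left hDB hg0
    have h5 : (g : ℤ) * (8 * B) = 1296 * D := by linear_combination 8 * hmain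
    rw [h5] at h4
    exact le_of_mul_le_mul_right h4 hDpos
  have hsqZ : (1 : ℤ) + (d₁ : ℤ) ^ 2 + (d₂ : ℤ) ^ 2 + (d₃ : ℤ) ^ 2 + 2 * (x₀ : ℤ) ^ 2 ≤ g := by
    exact_mod_cast hsq
  have hd1le : (d₁ : ℤ) ≤ 36 := by nlinarith [sq_nonneg ((d₂ : ℤ)), sq_nonneg ((d₃ : ℤ)), sq_nonneg ((x₀ : ℤ))]
  have hd2le : (d₂ : ℤ) ≤ 36 := by nlinarith [sq_nonneg ((d₁ : ℤ)), sq_nonneg ((d₃ : ℤ)), sq_nonneg ((x₀ : ℤ))]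
  have hd3le : (d₃ : ℤ) ≤ 36 := by nlinarith [sq_nonneg ((d₁ : ℤ)), sq_nonneg ((d₂ : ℤ)), sq_nonneg ((x₀ : ℤ))]
  have hxle : (x₀ : ℤ) ≤ 25 := by nlinarith [sq_nonneg ((d₁ : ℤ)), sq_nonneg ((d₂ : ℤ)), sq_nonneg ((d₃ : ℤ))]
  -- parametrize
  obtain ⟨s₁, rfl⟩ := sgn_cases δ₁ h1
  obtain ⟨s₂, rfl⟩ := sgn_cases δ₂ h2
  obtain ⟨s₃, rfl⟩ := sgn_cases δ₃ h3
  obtain ⟨e, rfl⟩ := sgn_cases ε hε
  have par : ∀ (d : ℕ) (s : Bool), (9 : ℤ) ∣ (d : ℤ) - sgn s → (8 : ℤ) ≤ d → (d : ℤ) ≤ 36 →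
      ∃ k : Fin 5, (d : ℤ) = 9 * ((k : ℕ) : ℤ) + sgn s := by
    intro d s hdv h8 h36
    obtain ⟨c, hc⟩ := hdv
    have hs : sgn s = 1 ∨ sgn s = -1 := by cases s; exact Or.inr rfl; exact Or.inl rfl
    have hc0 : 0 ≤ c ∧ c < 5 := by rcases hs with hs | hs <;> rw [hs] at hc <;> omega
    refine ⟨⟨c.toNat, by omega⟩, ?_⟩
    have : ((c.toNat : ℕ) : ℤ) = c := Int.toNat_of_nonneg hc0.1
    show (d : ℤ) = 9 * ((c.toNat : ℕ) : ℤ) + sgn s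
    rw [this]; linarith
  obtain ⟨k₁, hk₁⟩ := par d₁ s₁ hd1 ha hd1le
  obtain ⟨k₂, hk₂⟩ := par d₂ s₂ hd2 hb hd2le
  obtain ⟨k₃, hk₃⟩ := par d₃ s₃ hd3 hc hd3le
  obtain ⟨m, hm⟩ : ∃ m : Fin 4, (x₀ : ℤ) = 9 * ((m : ℕ) : ℤ) + 4 * sgn e := by
    obtain ⟨c, hc⟩ := hx9
    have hs : sgn e = 1 ∨ sgn e = -1 := by cases e; exact Or.inr rfl; exact Or.inl rfl
    have hc0 : 0 ≤ c ∧ c < 4 := by rcases hs with hs | hs <;> rw [hs] at hc <;> omega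
    refine ⟨⟨c.toNat, by omega⟩, ?_⟩
    have : ((c.toNat : ℕ) : ℤ) = c := Int.toNat_of_nonneg hc0.1
    show (x₀ : ℤ) = 9 * ((c.toNat : ℕ) : ℤ) + 4 * sgn e
    rw [this]; linarith
  have hchk := fin_check k₁ k₂ k₃ m s₁ s₂ s₃ e
  rw [← hk₁, ← hk₂, ← hk₃, ← hm] at hchk
  unfold Chk at hchk
  have hdvd : B ∣ 162 * D := Dvd.intro_left (g : ℤ) hmain
  have hdiv : 162 * D / B = (g : ℤ) := by
    rw [← hmain]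
    exact Int.mul_ediv_cancel _ hBpos.ne'
  have hfin := hchk ha hb hc hx4 hdeg hdvd (by rw [hdiv]; exact hsqZ)
  rw [hdiv] at hfin
  exact_mod_cast hfin

theorem arith_two (δ₁ ε : ℤ) (d₁ x₀ g : ℕ)
    (h1 : δ₁ = 1 ∨ δ₁ = -1) (hε : ε = 1 ∨ ε = -1)
    (hd1 : (9 : ℤ) ∣ (d₁ : ℤ) - δ₁) (hd1' : 2 ≤ d₁) (hx : 2 ≤ x₀)
    (hdeg : 1 + δ₁ * d₁ = ε * x₀)
    (hsq : 1 + d₁ ^ 2 + 4 * x₀ ^ 2 ≤ g)
    (hmain : (g : ℤ) * (2 * (d₁ : ℤ) * x₀ + 2 * δ₁ * x₀ + ε * d₁) = 81 * ((d₁ : ℤ) * x₀)) :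
    False := by
  have ha : (8 : ℤ) ≤ d₁ := eight_le d₁ δ₁ h1 hd1 hd1'
  have hx2 : (2 : ℤ) ≤ x₀ := by exact_mod_cast hx
  have hsqZ : (1 : ℤ) + (d₁ : ℤ) ^ 2 + 4 * (x₀ : ℤ) ^ 2 ≤ g := by exact_mod_cast hsq
  have hg81 : (81 : ℤ) ≤ g := by nlinarith
  set D : ℤ := (d₁ : ℤ) with hD
  set X : ℤ := (x₀ : ℤ) with hX
  have hDX : 0 < D * X := by positivity
  -- bracket ≥ (5/4) D X
  have hbr : 5 * (D * X) ≤ 4 * (2 * D * X + 2 * δ₁ * X + ε * D) := by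
    have e1 : 0 ≤ (X - 2) * (3 * D - 8) := mul_nonneg (by linarith) (by linarith)
    rcases h1 with h1 | h1 <;> rcases hε with hε | hε <;> subst h1 <;> subst hε <;> nlinarith
  have hbpos : 0 < 2 * D * X + 2 * δ₁ * X + ε * D := by linarith
  have h3 : (81 : ℤ) * (2 * D * X + 2 * δ₁ * X + ε * D) ≤ (g : ℤ) * (2 * D * X + 2 * δ₁ * X + ε * D) :=
    mul_le_mul_of_nonneg_right hg81 hbpos.le
  rw [hmain] at h3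
  nlinarith

end Cfsg.Agent.Lib.Helper19.S3341
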