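import Mathlib

/-!
# S3805: the configuration `N_G(T) = S₃ × S₃`
-/

set_option autoImplicit false

namespace Cfsg.Agent.Lib.Helper19.S3805

variable {G : Type*} [Group G]

/-- The configuration: `T = ⟨a⟩ × ⟨b⟩`, `u` centralises `a` and inverts `b`, `v` inverts `a` and
centralises `b`; every element of `N_G(T)` sends `a` to `a^±1` and `b` to `b^±1`. -/
structure Cfg (T : Sylow 3 G) (a b u v : G) : Prop where
  haT : a ∈ (T : Subgroup G)
  hbT : b ∈ (T : Subgroup G)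
  ha1 : a ≠ 1
  hb1 : b ≠ 1
  hba : b ≠ a
  hba' : b ≠ a⁻¹
  huN : u ∈ Subgroup.normalizer ((T : Subgroup G) : Set G)
  hvN : v ∈ Subgroup.normalizer ((T : Subgroup G) : Set G)
  hua : u * a * u⁻¹ = a
  hub : u * b * u⁻¹ = b⁻¹
  hva : v * a * v⁻¹ = a⁻¹
  hvb : v * b * v⁻¹ = b
  hNa : ∀ n ∈ Subgroup.normalizer ((T : Subgroup G) : Set G), n * a * n⁻¹ = a ∨ n * a * n⁻¹ = a⁻¹
  hNb : ∀ n ∈ Subgroup.normalizer ((T : Subgroup G) : Set G), n * b * n⁻¹ = b ∨ n * b * n⁻¹ = b⁻¹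
  hNT : ∀ n ∈ Subgroup.normalizer ((T : Subgroup G) : Set G), n * a * n⁻¹ = a → n * b * n⁻¹ = b →
    n ∈ (T : Subgroup G)

end Cfsg.Agent.Lib.Helper19.S3805
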