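import Mathlib
import Cfsg.Agent.Lib.Helper13.TensSODefs
import Cfsg.Agent.Lib.Helper20.S5666ExitDefs

/-!
# S5666 EXIT (helper20's sub-skeleton), T3-OJ: orthogonal geometry lemmas (helper19)

`f = bf J` a non-degenerate symmetric form on `F^b`, `2 ≠ 0`.
* `reflM_adj`, `reflM_iso` (E-ISO (e), (c) of the sub-skeleton);
* `oo J x y = E J x y + E J y x` (`x ∘ y`), its calculus;
* `exists_nonsing_perp` : a non-singular vector orthogonal to `m < b` pairwise orthogonal non-singular vectors;
* `exists_noneigen` : a selfadjoint non-scalar matrix has a non-singular vector which is not an eigenvector;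
* `refl_diff` : `σ - r_w σ r_w = (2 / Q(w)) • (w ∘ y₀)`;
* `exists_isotropic` : `α² a + β² c + d = 0` is solvable over a finite field of odd characteristic.
-/

set_option autoImplicit false

namespace Cfsg.Agent.Lib.Helper19.S5666EOJ

open Matrix Module
open Cfsg.Agent.Lib.Helper13.TensSO
open Cfsg.Agent.Lib.Helper3.SpT (bf E E_mulVec E_mul_E mat_ext_mulVec bf_add_left bf_add_right bf_smul_left
  bf_smul_right bf_sub_left bf_sub_right bf_neg_left bf_neg_right bf_zero_left bf_zero_right E_add_left E_add_right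
  E_smul_left E_smul_right conj_E)
open Cfsg.Agent.Lib.Helper20.S5666Exit

variable {F : Type*} [Field F] {b : ℕ} {J : Matrix (Fin b) (Fin b) F}

theorem bf_sum_right {ι : Type*} (s : Finset ι) (x : Fin b → F) (y : ι → Fin b → F) :
    bf J x (∑ i ∈ s, y i) = ∑ i ∈ s, bf J x (y i) := by
  unfold bf; rw [Matrix.mulVec_sum, dotProduct_sum]

theorem bf_sum_left {ι : Type*} (s : Finset ι) (x : ι → Fin b → F) (y : Fin b → F) :
    bf J (∑ i ∈ s, x i) y = ∑ i ∈ s, bf J (x i) y := by
  unfold bf; rw [sum_dotProduct]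

/-! ### reflections -/

/-- E-ISO (e): the reflection is `f`-selfadjoint -/
theorem reflM_adj (hJ2 : OrthG J) (w : Fin b → F) (x y : Fin b → F) :
    bf J (reflM J w *ᵥ x) y = bf J x (reflM J w *ᵥ y) := by
  rw [reflM_mulVec, reflM_mulVec, bf_sub_left, bf_sub_right, bf_smul_left, bf_smul_right, hJ2.symm w y]
  ring

/-- E-ISO (c): the reflection is an isometry of `f` -/
theorem reflM_iso (hJ2 : OrthG J) (w : Fin b → F) (hw : bf J w w ≠ 0) (x y : Fin b → F) :
    bf J (reflM J w *ᵥ x) (reflM J w *ᵥ y) = bf J x y := by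
  rw [reflM_mulVec, reflM_mulVec, bf_sub_left, bf_sub_right, bf_sub_right, bf_smul_left, bf_smul_left,
    bf_smul_right, bf_smul_right, hJ2.symm w y]
  field_simp
  ring

/-! ### `x ∘ y` -/

/-- `x ∘ y = x y^† + y x^†` -/
def oo (J : Matrix (Fin b) (Fin b) F) (x y : Fin b → F) : Matrix (Fin b) (Fin b) F := E J x y + E J y x

theorem oo_comm (x y : Fin b → F) : oo J x y = oo J y x := add_comm _ _

theorem oo_add_right (x y y' : Fin b → F) : oo J x (y + y') = oo J x y + oo J x y' := by
  unfold oo; rw [E_add_right, E_add_left]; abel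

theorem oo_smul_right (c : F) (x y : Fin b → F) : oo J x (c • y) = c • oo J x y := by
  unfold oo; rw [E_smul_right, E_smul_left, smul_add]

theorem oo_sub_smul_right (c : F) (x y y' : Fin b → F) : oo J x (y - c • y') = oo J x y - c • oo J x y' := by
  rw [sub_eq_add_neg, ← neg_smul, oo_add_right, oo_smul_right, neg_smul, ← sub_eq_add_neg]

theorem oo_self (x : Fin b → F) : oo J x x = (2 : F) • E J x x := by
  unfold oo; rw [two_smul]

theorem oo_mul_oo (x y p q : Fin b → F) :
    oo J x y * oo J p q =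
      bf J p y • E J x q + bf J q y • E J x p + bf J p x • E J y q + bf J q x • E J y p := by
  unfold oo
  rw [add_mul, mul_add, mul_add, E_mul_E, E_mul_E, E_mul_E, E_mul_E]
  abel

/-- isometries conjugate `x ∘ y` to `βx ∘ βy` -/
theorem conj_oo (β : GL (Fin b) F)
    (hβ : ∀ x y, bf J ((β : Matrix (Fin b) (Fin b) F) *ᵥ x) ((β : Matrix (Fin b) (Fin b) F) *ᵥ y) = bf J x y)
    (x y : Fin b → F) :
    (β : Matrix (Fin b) (Fin b) F) * oo J x y * ((β⁻¹ : GL (Fin b) F) : Matrix (Fin b) (Fin b) F) =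
      oo J ((β : Matrix (Fin b) (Fin b) F) *ᵥ x) ((β : Matrix (Fin b) (Fin b) F) *ᵥ y) := by
  unfold oo
  rw [mul_add, add_mul, conj_E β hβ, conj_E β hβ]

/-! ### non-singular vectors -/

/-- a non-singular vector orthogonal to `m < b` pairwise orthogonal non-singular vectors -/
theorem exists_nonsing_perp (hJ : OrthG J) (h2 : (2 : F) ≠ 0) {m : ℕ} (hm : m < b) (e : Fin m → Fin b → F)
    (horth : ∀ i j, i ≠ j → bf J (e i) (e j) = 0) (hns : ∀ i, bf J (e i) (e i) ≠ 0) :
    ∃ z : Fin b → F, (∀ i, bf J z (e i) = 0) ∧ bf J z z ≠ 0 := by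
  classical
  let φ : (Fin b → F) →ₗ[F] (Fin m → F) :=
    { toFun := fun x i => bf J x (e i)
      map_add' := fun x y => by funext i; exact bf_add_left J x y (e i)
      map_smul' := fun c x => by funext i; simp [bf_smul_left] }
  have hker : LinearMap.ker φ ≠ ⊥ := by
    apply LinearMap.ker_ne_bot_of_finrank_lt
    simpa using hm
  obtain ⟨z, hzker, hz0⟩ := Submodule.exists_mem_ne_zero_of_ne_bot hker
  have hz : ∀ i, bf J z (e i) = 0 := fun i => congrFun (LinearMap.mem_ker.1 hzker) i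
  by_contra hcon
  push Not at hcon
  apply hz0
  apply hJ.nondeg
  intro x
  set x' : Fin b → F := x - ∑ i, (bf J x (e i) / bf J (e i) (e i)) • e i with hx'
  have hx'perp : ∀ j, bf J x' (e j) = 0 := by
    intro j
    rw [hx', bf_sub_left, bf_sum_left, Finset.sum_eq_single j]
    · rw [bf_smul_left, div_mul_cancel₀ _ (hns j), sub_self]
    · intro i _ hij
      rw [bf_smul_left, horth i j hij, mul_zero]
    · intro hj
      exact absurd (Finset.mem_univ j) hj
  have h1 : bf J z x' = 0 := by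
    have hs := hcon (z + x') (fun i => by rw [bf_add_left, hz i, hx'perp i, add_zero])
    rw [bf_add_left, bf_add_right, bf_add_right, hcon z hz, hcon x' hx'perp, hJ.symm x' z] at hs
    have h3 : 2 * bf J z x' = 0 := by linear_combination hs
    exact (mul_eq_zero.1 h3).resolve_left h2
  have hx : x = x' + ∑ i, (bf J x (e i) / bf J (e i) (e i)) • e i := by rw [hx']; abel
  rw [hx, bf_add_right, h1, zero_add, bf_sum_right]
  apply Finset.sum_eq_zero
  intro i _
  rw [bf_smul_right, hz i, mul_zero]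

/-- a non-singular vector exists -/
theorem exists_nonsing (hJ : OrthG J) (h2 : (2 : F) ≠ 0) (hb : 0 < b) : ∃ z : Fin b → F, bf J z z ≠ 0 := by
  obtain ⟨z, -, hz⟩ := exists_nonsing_perp hJ h2 hb (fun i : Fin 0 => i.elim0) (fun i => i.elim0)
    (fun i => i.elim0)
  exact ⟨z, hz⟩

/-- a non-singular vector orthogonal to two orthogonal non-singular vectors -/
theorem exists_nonsing_perp2 (hJ : OrthG J) (h2 : (2 : F) ≠ 0) (hb : 3 ≤ b) (e₁ e₂ : Fin b → F)
    (h12 : bf J e₁ e₂ = 0) (h1 : bf J e₁ e₁ ≠ 0) (h2' : bf J e₂ e₂ ≠ 0) :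
    ∃ z : Fin b → F, bf J z e₁ = 0 ∧ bf J z e₂ = 0 ∧ bf J z z ≠ 0 := by
  obtain ⟨z, hz, hzz⟩ := exists_nonsing_perp hJ h2 (m := 2) (by omega) ![e₁, e₂]
    (by
      intro i j hij
      fin_cases i <;> fin_cases j
      · exact absurd rfl hij
      · exact h12
      · change bf J e₂ e₁ = 0
        rw [hJ.symm]; exact h12
      · exact absurd rfl hij)
    (by
      intro i
      fin_cases i
      · exact h1
      · exact h2')
  exact ⟨z, hz 0, hz 1, hzz⟩

/-- a non-singular vector orthogonal to three pairwise orthogonal non-singular vectors -/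
theorem exists_nonsing_perp3 (hJ : OrthG J) (h2 : (2 : F) ≠ 0) (hb : 4 ≤ b) (e₁ e₂ e₃ : Fin b → F)
    (h12 : bf J e₁ e₂ = 0) (h13 : bf J e₁ e₃ = 0) (h23 : bf J e₂ e₃ = 0)
    (h1 : bf J e₁ e₁ ≠ 0) (h2' : bf J e₂ e₂ ≠ 0) (h3 : bf J e₃ e₃ ≠ 0) :
    ∃ z : Fin b → F, bf J z e₁ = 0 ∧ bf J z e₂ = 0 ∧ bf J z e₃ = 0 ∧ bf J z z ≠ 0 := by
  obtain ⟨z, hz, hzz⟩ := exists_nonsing_perp hJ h2 (m := 3) (by omega) ![e₁, e₂, e₃]
    (by
      intro i j hij
      fin_cases i <;> fin_cases j
      · exact absurd rfl hij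
      · exact h12
      · exact h13
      · change bf J e₂ e₁ = 0
        rw [hJ.symm]; exact h12
      · exact absurd rfl hij
      · exact h23
      · change bf J e₃ e₁ = 0
        rw [hJ.symm]; exact h13
      · change bf J e₃ e₂ = 0
        rw [hJ.symm]; exact h23
      · exact absurd rfl hij)
    (by
      intro i
      fin_cases i
      · exact h1
      · exact h2'
      · exact h3)
  exact ⟨z, hz 0, hz 1, hz 2, hzz⟩

/-! ### Step 1: a non-singular vector which is not an eigenvector -/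

/-- comparison of eigenvalues along `u = w₁ + x + s z` -/
theorem eig_eq_aux (hJ : OrthG J) (σ : Matrix (Fin b) (Fin b) F) (w₁ x z : Fin b → F) (s lam mu nu kap : F)
    (h1x : bf J w₁ x = 0) (h1z : bf J z w₁ = 0) (hxz : bf J z x = 0) (h1 : bf J w₁ w₁ ≠ 0) (hx : bf J x x ≠ 0)
    (e1 : σ *ᵥ w₁ = lam • w₁) (ex : σ *ᵥ x = mu • x) (ez : σ *ᵥ z = nu • z)
    (eu : σ *ᵥ (w₁ + x + s • z) = kap • (w₁ + x + s • z)) : mu = lam := by
  rw [Matrix.mulVec_add, Matrix.mulVec_add, Matrix.mulVec_smul, e1, ex, ez] at eu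
  have hx1 : bf J x w₁ = 0 := by rw [hJ.symm]; exact h1x
  have hzx' : bf J x z = 0 := by rw [hJ.symm]; exact hxz
  have h1z' : bf J w₁ z = 0 := by rw [hJ.symm]; exact h1z
  have p1 := congrArg (fun v => bf J v w₁) eu
  have p2 := congrArg (fun v => bf J v x) eu
  simp only [bf_add_left, bf_smul_left, h1x, hx1, h1z, hxz, mul_zero, add_zero, zero_add] at p1 p2
  have k1 : kap = lam := (mul_right_cancel₀ h1 p1).symm
  have k2 : kap = mu := (mul_right_cancel₀ hx p2).symm
  rw [← k1, ← k2]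

/-- a selfadjoint non-scalar matrix has a non-singular vector which is not an eigenvector -/
theorem exists_noneigen (hJ : OrthG J) (h2 : (2 : F) ≠ 0) (hb : 3 ≤ b) (σ : Matrix (Fin b) (Fin b) F)
    (hσ : ∀ w w', bf J (σ *ᵥ w) w' = bf J w (σ *ᵥ w')) (hns : ∀ c : F, σ ≠ c • (1 : Matrix (Fin b) (Fin b) F)) :
    ∃ w : Fin b → F, bf J w w ≠ 0 ∧ ∀ c : F, σ *ᵥ w ≠ c • w := by
  by_contra hcon
  push Not at hcon
  obtain ⟨w₁, hw₁⟩ := exists_nonsing hJ h2 (by omega : 0 < b)
  obtain ⟨lam, e1⟩ := hcon w₁ hw₁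
  -- every non-singular vector has the eigenvalue `lam`
  have hA : ∀ x : Fin b → F, bf J x x ≠ 0 → σ *ᵥ x = lam • x := by
    intro x hx
    obtain ⟨mu, ex⟩ := hcon x hx
    suffices h : mu = lam by rw [ex, h]
    by_cases h1x : bf J w₁ x = 0
    · obtain ⟨z, hz1, hzx, hzz⟩ := exists_nonsing_perp2 hJ h2 hb w₁ x h1x hw₁ hx
      obtain ⟨nu, ez⟩ := hcon z hzz
      have hx1 : bf J x w₁ = 0 := by rw [hJ.symm]; exact h1x
      have hxz' : bf J x z = 0 := by rw [hJ.symm]; exact hzx
      have h1z' : bf J w₁ z = 0 := by rw [hJ.symm]; exact hz1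
      by_cases hq : bf J w₁ w₁ + bf J x x = 0
      · have hu : bf J (w₁ + x + (1 : F) • z) (w₁ + x + (1 : F) • z) ≠ 0 := by
          simp only [bf_add_left, bf_add_right, bf_smul_left, bf_smul_right, h1x, hx1, hz1, hzx, hxz', h1z',
            mul_zero, add_zero, zero_add, one_mul]
          intro h0
          apply hzz
          linear_combination h0 - hq
        obtain ⟨kap, eu⟩ := hcon _ hu
        exact eig_eq_aux hJ σ w₁ x z 1 lam mu nu kap h1x hz1 hzx hw₁ hx e1 ex ez eu
      · have hu : bf J (w₁ + x + (0 : F) • z) (w₁ + x + (0 : F) • z) ≠ 0 := by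
          simp only [bf_add_left, bf_add_right, bf_smul_left, bf_smul_right, h1x, hx1, hz1, hzx, hxz', h1z',
            mul_zero, add_zero, zero_add, zero_mul]
          exact hq
        obtain ⟨kap, eu⟩ := hcon _ hu
        exact eig_eq_aux hJ σ w₁ x z 0 lam mu nu kap h1x hz1 hzx hw₁ hx e1 ex ez eu
    · have h3 := hσ w₁ x
      rw [e1, ex, bf_smul_left, bf_smul_right] at h3
      exact (mul_right_cancel₀ h1x h3).symm
  -- every vector has the eigenvalue `lam`
  have hB : ∀ x : Fin b → F, σ *ᵥ x = lam • x := by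
    intro x
    by_cases hx : bf J x x = 0
    · have hs : ∃ s : F, bf J (x + s • w₁) (x + s • w₁) ≠ 0 := by
        by_contra hno
        push Not at hno
        have a1 := hno 1
        have a2 := hno (-1)
        simp only [bf_add_left, bf_add_right, bf_smul_left, bf_smul_right, hx, hJ.symm w₁ x] at a1 a2
        apply hw₁
        have h4 : 2 * bf J w₁ w₁ = 0 := by linear_combination a1 + a2
        exact (mul_eq_zero.1 h4).resolve_left h2
      obtain ⟨s, hs⟩ := hs
      have h5 := hA _ hs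
      rw [Matrix.mulVec_add, Matrix.mulVec_smul, e1, smul_add] at h5
      have h6 : σ *ᵥ x = (σ *ᵥ x + s • lam • w₁) - s • lam • w₁ := by abel
      rw [h6, h5, smul_comm lam s w₁]
      abel
    · exact hA x hx
  apply hns lam
  apply mat_ext_mulVec
  intro x
  rw [hB x, Matrix.smul_mulVec, Matrix.one_mulVec]

/-- **Step 1** `σ - r_w σ r_w = (2 / Q(w)) • (w ∘ y₀)`, `y₀ = σ w - (f(σ w, w) / Q(w)) w` -/
theorem refl_diff (σ : Matrix (Fin b) (Fin b) F)
    (hσ : ∀ w w', bf J (σ *ᵥ w) w' = bf J w (σ *ᵥ w')) (w : Fin b → F) :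
    σ - reflM J w * σ * reflM J w =
      (2 / bf J w w) • oo J w (σ *ᵥ w - (bf J (σ *ᵥ w) w / bf J w w) • w) := by
  apply mat_ext_mulVec
  intro x
  have h1 : bf J (σ *ᵥ x) w = bf J x (σ *ᵥ w) := hσ x w
  rw [Matrix.sub_mulVec, ← Matrix.mulVec_mulVec, ← Matrix.mulVec_mulVec, reflM_mulVec J w x, Matrix.mulVec_sub,
    Matrix.mulVec_smul, reflM_mulVec, Matrix.smul_mulVec]
  unfold oo
  rw [Matrix.add_mulVec, E_mulVec, E_mulVec]
  simp only [bf_sub_left, bf_sub_right, bf_smul_left, bf_smul_right, h1]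
  module

/-! ### isotropic vectors -/

/-- `α² a + β² c + d = 0` is solvable over a finite field of odd characteristic -/
theorem exists_isotropic [Fintype F] (h2 : (2 : F) ≠ 0) (a c d : F) (ha : a ≠ 0) (hc : c ≠ 0) :
    ∃ α β : F, α ^ 2 * a + β ^ 2 * c + d = 0 := by
  have hchar : ringChar F ≠ 2 := by
    intro h
    apply h2
    have := CharP.cast_eq_zero F (ringChar F)
    rw [h] at this
    exact_mod_cast this
  have hodd := FiniteField.odd_card_of_char_ne_two hchar
  have hf : (Polynomial.C a * Polynomial.X ^ 2 + Polynomial.C 0 * Polynomial.X + Polynomial.C d).degree = 2 :=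
    Polynomial.degree_quadratic ha
  have hg : (Polynomial.C c * Polynomial.X ^ 2 + Polynomial.C 0 * Polynomial.X + Polynomial.C 0).degree = 2 :=
    Polynomial.degree_quadratic hc
  obtain ⟨α, β, h⟩ := FiniteField.exists_root_sum_quadratic hf hg hodd
  refine ⟨α, β, ?_⟩
  simp only [Polynomial.eval_add, Polynomial.eval_mul, Polynomial.eval_C, Polynomial.eval_pow, Polynomial.eval_X,
    zero_mul, add_zero] at h
  linear_combination h

end Cfsg.Agent.Lib.Helper19.S5666EOJ
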