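import Mathlib
import Cfsg.Agent.Lib.Helper13.TensSODefs
import Cfsg.Agent.Lib.Helper20.S5666ExitDefs
import Cfsg.Agent.Lib.Helper19.S5666EOJA

/-!
# S5666 EXIT (helper20's sub-skeleton), T3-OJ: `oj_rank_one` (helper19)

`S` an `F`-subspace of `f₂`-selfadjoint matrices containing `1`, stable under `O(W)`-conjugation and under helper6's Jordan rule,
containing a non-scalar matrix: then `S` contains `c • E J2 k k` with `k ≠ 0` singular, `c ≠ 0`.
-/

set_option autoImplicit false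

namespace Cfsg.Agent.Lib.Helper19.S5666EOJ

open Matrix Module
open Cfsg.Agent.Lib.Helper13.TensSO
open Cfsg.Agent.Lib.Helper3.SpT (bf E E_mulVec E_mul_E mat_ext_mulVec bf_add_left bf_add_right bf_smul_left
  bf_smul_right bf_sub_left bf_sub_right bf_neg_left bf_neg_right bf_zero_left bf_zero_right E_add_left E_add_right
  E_smul_left E_smul_right conj_E)
open Cfsg.Agent.Lib.Helper20.S5666Exit

variable {F : Type*} [Field F] {b : ℕ} {J2 : Matrix (Fin b) (Fin b) F}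

/-- a finite field of odd characteristic with more than three elements has `t ≠ 0` with `t² ≠ 1` -/
theorem exists_sq_ne_one [Fintype F] (h2 : (2 : F) ≠ 0) (hcard : Fintype.card F ≠ 3) :
    ∃ t : F, t ≠ 0 ∧ t ^ 2 ≠ 1 := by
  classical
  by_contra hcon
  push Not at hcon
  apply hcard
  have hall : ∀ t : F, t = 0 ∨ t = 1 ∨ t = -1 := by
    intro t
    by_cases ht : t = 0
    · exact Or.inl ht
    · right
      have h1 := hcon t ht
      have h3 : (t - 1) * (t + 1) = 0 := by linear_combination h1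
      rcases mul_eq_zero.1 h3 with h | h
      · left; exact sub_eq_zero.1 h
      · right; exact eq_neg_of_add_eq_zero_left h
  have huniv : (Finset.univ : Finset F) = {0, 1, -1} := by
    ext t
    simp only [Finset.mem_univ, Finset.mem_insert, Finset.mem_singleton, true_iff]
    exact hall t
  rw [← Finset.card_univ, huniv]
  have h01 : (0 : F) ≠ 1 := zero_ne_one
  have h0m : (0 : F) ≠ -1 := by
    intro h
    exact one_ne_zero (neg_eq_zero.1 h.symm)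
  have h1m : (1 : F) ≠ -1 := by
    intro h
    apply h2
    linear_combination h
  rw [Finset.card_insert_of_notMem, Finset.card_insert_of_notMem, Finset.card_singleton]
  · simp only [Finset.mem_singleton]; exact h1m
  · simp only [Finset.mem_insert, Finset.mem_singleton, not_or]; exact ⟨h01, h0m⟩

section closure

variable (S : Submodule F (Matrix (Fin b) (Fin b) F))

/-- **Lemma B** `p, y, y₂` pairwise orthogonal, `p`, `y₂` non-singular, `p ∘ y`, `p ∘ y₂ ∈ S`: then `y y^†`, `y ∘ y₂ ∈ S` -/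
theorem lemmaB (hJ2 : OrthG J2)
    (hJ : ∀ σ ∈ S, ∀ τ ∈ S, τ * σ * τ = 0 → σ * τ + τ * σ ∈ S ∧ σ * τ * τ * σ ∈ S)
    (p y y2 : Fin b → F) (hpy : bf J2 p y = 0) (hpy2 : bf J2 p y2 = 0) (hyy2 : bf J2 y y2 = 0)
    (hp : bf J2 p p ≠ 0) (hy2 : bf J2 y2 y2 ≠ 0) (h1 : oo J2 p y ∈ S) (h2 : oo J2 p y2 ∈ S) :
    E J2 y y ∈ S ∧ oo J2 y y2 ∈ S := by
  have hyp : bf J2 y p = 0 := by rw [hJ2.symm]; exact hpy
  have hy2p : bf J2 y2 p = 0 := by rw [hJ2.symm]; exact hpy2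
  have hy2y : bf J2 y2 y = 0 := by rw [hJ2.symm]; exact hyy2
  have e1 : oo J2 p y * oo J2 p y2 = bf J2 p p • E J2 y y2 := by
    rw [oo_mul_oo, hpy, hy2y, hy2p, zero_smul, zero_smul, zero_smul, zero_add, zero_add, add_zero]
  have e2 : oo J2 p y2 * oo J2 p y = bf J2 p p • E J2 y2 y := by
    rw [oo_mul_oo, hpy2, hyy2, hyp, zero_smul, zero_smul, zero_smul, zero_add, zero_add, add_zero]
  have e3 : oo J2 p y2 * oo J2 p y * oo J2 p y2 = 0 := by
    rw [e2]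
    unfold oo
    rw [Matrix.smul_mul, mul_add, E_mul_E, E_mul_E, hpy, hy2y, zero_smul, zero_smul, add_zero, smul_zero]
  obtain ⟨r1, r2⟩ := hJ _ h1 _ h2 e3
  constructor
  · have e4 : oo J2 p y * oo J2 p y2 * oo J2 p y2 * oo J2 p y =
        (bf J2 p p * bf J2 p p * bf J2 y2 y2) • E J2 y y := by
      rw [mul_assoc (oo J2 p y * oo J2 p y2), e1, e2, Matrix.smul_mul, Matrix.mul_smul, E_mul_E, smul_smul,
        smul_smul]
    rw [e4] at r2
    have hc : bf J2 p p * bf J2 p p * bf J2 y2 y2 ≠ 0 := mul_ne_zero (mul_ne_zero hp hp) hy2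
    have h3 := S.smul_mem (bf J2 p p * bf J2 p p * bf J2 y2 y2)⁻¹ r2
    rwa [smul_smul, inv_mul_cancel₀ hc, one_smul] at h3
  · rw [e1, e2, ← smul_add] at r1
    have h3 := S.smul_mem (bf J2 p p)⁻¹ r1
    rwa [smul_smul, inv_mul_cancel₀ hp, one_smul] at h3

/-- the second reflection: from `w ∘ y₀ ∈ S` to `w ∘ v ∈ S` for `v ⟂ w` non-singular, not orthogonal to `y₀` -/
theorem refl_step (hJ2 : OrthG J2) (h2 : (2 : F) ≠ 0)
    (hconj : ∀ B : GL (Fin b) F,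
      (∀ x y, bf J2 ((B : Matrix (Fin b) (Fin b) F) *ᵥ x) ((B : Matrix (Fin b) (Fin b) F) *ᵥ y) = bf J2 x y) →
      ∀ σ ∈ S, (B : Matrix (Fin b) (Fin b) F) * σ * ((B⁻¹ : GL (Fin b) F) : Matrix (Fin b) (Fin b) F) ∈ S)
    (w y0 v : Fin b → F) (hwv : bf J2 w v = 0) (hv : bf J2 v v ≠ 0) (hy0v : bf J2 y0 v ≠ 0)
    (h : oo J2 w y0 ∈ S) : oo J2 w v ∈ S := by
  have hiso : ∀ x y, bf J2 ((reflGL J2 v hv : Matrix (Fin b) (Fin b) F) *ᵥ x)
      ((reflGL J2 v hv : Matrix (Fin b) (Fin b) F) *ᵥ y) = bf J2 x y := by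
    intro x y
    rw [reflGL_val]
    exact reflM_iso hJ2 v hv x y
  have h1 := hconj (reflGL J2 v hv) hiso _ h
  rw [conj_oo _ hiso, reflGL_val, reflM_mulVec, reflM_mulVec, hwv, mul_zero, zero_smul, sub_zero,
    oo_sub_smul_right] at h1
  have h3 : (2 / bf J2 v v * bf J2 y0 v) • oo J2 w v ∈ S := by
    have h4 := S.sub_mem h h1
    rwa [sub_sub_cancel] at h4
  have ha : 2 / bf J2 v v * bf J2 y0 v ≠ 0 := mul_ne_zero (div_ne_zero h2 hv) hy0v
  have h5 := S.smul_mem (2 / bf J2 v v * bf J2 y0 v)⁻¹ h3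
  rwa [smul_smul, inv_mul_cancel₀ ha, one_smul] at h5

/-- the singular case: `R = w ∘ k`, `R³ = 0`, `R² = Q(w) k k^†` -/
theorem sing_case (hJ2 : OrthG J2)
    (hJ : ∀ σ ∈ S, ∀ τ ∈ S, τ * σ * τ = 0 → σ * τ + τ * σ ∈ S ∧ σ * τ * τ * σ ∈ S)
    (w k : Fin b → F) (hwk : bf J2 w k = 0) (hk : bf J2 k k = 0) (h : oo J2 w k ∈ S) :
    (2 * bf J2 w w) • E J2 k k ∈ S := by
  have hkw : bf J2 k w = 0 := by rw [hJ2.symm]; exact hwk
  have e1 : oo J2 w k * oo J2 w k = bf J2 w w • E J2 k k := by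
    rw [oo_mul_oo, hwk, hk, hkw, zero_smul, zero_smul, zero_smul, zero_add, zero_add, add_zero]
  have e3 : oo J2 w k * oo J2 w k * oo J2 w k = 0 := by
    rw [e1]
    unfold oo
    rw [Matrix.smul_mul, mul_add, E_mul_E, E_mul_E, hwk, hk, zero_smul, zero_smul, add_zero, smul_zero]
  obtain ⟨r1, -⟩ := hJ _ h _ h e3
  rw [e1, ← two_smul F, smul_smul] at r1
  exact r1

end closure

variable [Fintype F]

/-- **T3-OJ** the abstract rank-one lemma, singular centre -/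
theorem oj_rank_one (hJ2 : OrthG J2) (h2 : (2 : F) ≠ 0) (hb : 3 ≤ b) (hex : ¬ (Fintype.card F = 3 ∧ b = 3))
    (S : Submodule F (Matrix (Fin b) (Fin b) F))
    (hadj : ∀ σ ∈ S, ∀ w w', bf J2 (σ *ᵥ w) w' = bf J2 w (σ *ᵥ w'))
    (hone : (1 : Matrix (Fin b) (Fin b) F) ∈ S)
    (hconj : ∀ B : GL (Fin b) F,
      (∀ x y, bf J2 ((B : Matrix (Fin b) (Fin b) F) *ᵥ x) ((B : Matrix (Fin b) (Fin b) F) *ᵥ y) = bf J2 x y) →
      ∀ σ ∈ S, (B : Matrix (Fin b) (Fin b) F) * σ * ((B⁻¹ : GL (Fin b) F) : Matrix (Fin b) (Fin b) F) ∈ S)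
    (hJ : ∀ σ ∈ S, ∀ τ ∈ S, τ * σ * τ = 0 → σ * τ + τ * σ ∈ S ∧ σ * τ * τ * σ ∈ S)
    (σ₀ : Matrix (Fin b) (Fin b) F) (hσ₀ : σ₀ ∈ S) (hns : ∀ c : F, σ₀ ≠ c • (1 : Matrix (Fin b) (Fin b) F)) :
    ∃ (w : Fin b → F) (c : F), w ≠ 0 ∧ bf J2 w w = 0 ∧ c ≠ 0 ∧ c • E J2 w w ∈ S := by
  -- Step 1
  obtain ⟨w, hw, hne⟩ := exists_noneigen hJ2 h2 hb σ₀ (hadj σ₀ hσ₀) hns
  set y0 : Fin b → F := σ₀ *ᵥ w - (bf J2 (σ₀ *ᵥ w) w / bf J2 w w) • w with hy0
  have hy0ne : y0 ≠ 0 := by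
    intro h0
    exact hne (bf J2 (σ₀ *ᵥ w) w / bf J2 w w) (sub_eq_zero.1 h0)
  have hwy0 : bf J2 w y0 = 0 := by
    rw [hy0, bf_sub_right, bf_smul_right, hJ2.symm w (σ₀ *ᵥ w), div_mul_cancel₀ _ hw, sub_self]
  have hy0w : bf J2 y0 w = 0 := by rw [hJ2.symm]; exact hwy0
  have h1 : oo J2 w y0 ∈ S := by
    have hr : reflM J2 w * σ₀ * reflM J2 w ∈ S := by
      have h3 := hconj (reflGL J2 w hw) (fun x y => by rw [reflGL_val]; exact reflM_iso hJ2 w hw x y) σ₀ hσ₀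
      rwa [reflGL_inv, reflGL_val] at h3
    have h3 := S.sub_mem hσ₀ hr
    rw [refl_diff σ₀ (hadj σ₀ hσ₀) w] at h3
    have hc : (2 / bf J2 w w) ≠ 0 := div_ne_zero h2 hw
    have h4 := S.smul_mem (2 / bf J2 w w)⁻¹ h3
    rwa [smul_smul, inv_mul_cancel₀ hc, one_smul] at h4
  by_cases hy0s : bf J2 y0 y0 = 0
  · exact ⟨y0, 2 * bf J2 w w, hy0ne, hy0s, mul_ne_zero h2 hw, sing_case S hJ2 hJ w y0 hwy0 hy0s h1⟩
  -- (II) the third vector
  have hII : ∃ (z0 : Fin b → F) (t : F), bf J2 z0 w = 0 ∧ bf J2 z0 y0 = 0 ∧ bf J2 z0 z0 ≠ 0 ∧ t ≠ 0 ∧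
      bf J2 z0 z0 + t ^ 2 * bf J2 y0 y0 ≠ 0 := by
    obtain ⟨z1, hz1w, hz1y, hz1⟩ := exists_nonsing_perp2 hJ2 h2 hb w y0 hwy0 hw hy0s
    by_cases hq1 : bf J2 z1 z1 + bf J2 y0 y0 = 0
    · by_cases hb4 : 4 ≤ b
      · have hwz1 : bf J2 w z1 = 0 := by rw [hJ2.symm]; exact hz1w
        have hy0z1 : bf J2 y0 z1 = 0 := by rw [hJ2.symm]; exact hz1y
        obtain ⟨z2, hz2w, hz2y, hz2z1, hz2⟩ :=
          exists_nonsing_perp3 hJ2 h2 hb4 w y0 z1 hwy0 hwz1 hy0z1 hw hy0s hz1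
        by_cases hq2 : bf J2 z2 z2 + bf J2 y0 y0 = 0
        · have hz1z2 : bf J2 z1 z2 = 0 := by rw [hJ2.symm]; exact hz2z1
          have hQ : bf J2 (z1 + z2) (z1 + z2) = bf J2 z1 z1 + bf J2 z2 z2 := by
            rw [bf_add_left, bf_add_right, bf_add_right, hz1z2, hz2z1]; ring
          refine ⟨z1 + z2, 1, ?_, ?_, ?_, one_ne_zero, ?_⟩
          · rw [bf_add_left, hz1w, hz2w, add_zero]
          · rw [bf_add_left, hz1y, hz2y, add_zero]
          · rw [hQ]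
            intro h0
            apply hy0s
            have h5 : 2 * bf J2 y0 y0 = 0 := by linear_combination hq1 + hq2 - h0
            exact (mul_eq_zero.1 h5).resolve_left h2
          · rw [hQ]
            intro h0
            apply hy0s
            linear_combination hq1 + hq2 - h0
        · exact ⟨z2, 1, hz2w, hz2y, hz2, one_ne_zero, by rw [one_pow, one_mul]; exact hq2⟩
      · have hb3 : b = 3 := by omega
        have hcard : Fintype.card F ≠ 3 := fun h => hex ⟨h, hb3⟩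
        obtain ⟨t0, ht0, ht1⟩ := exists_sq_ne_one h2 hcard
        refine ⟨z1, t0, hz1w, hz1y, hz1, ht0, ?_⟩
        intro h0
        have h5 : (t0 ^ 2 - 1) * bf J2 y0 y0 = 0 := by linear_combination h0 - hq1
        rcases mul_eq_zero.1 h5 with h | h
        · exact ht1 (sub_eq_zero.1 h)
        · exact hy0s h
    · exact ⟨z1, 1, hz1w, hz1y, hz1, one_ne_zero, by rw [one_pow, one_mul]; exact hq1⟩
  obtain ⟨z0, t, hz0w, hz0y, hz0, ht, hq⟩ := hII
  have hwz0 : bf J2 w z0 = 0 := by rw [hJ2.symm]; exact hz0w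
  have hy0z0 : bf J2 y0 z0 = 0 := by rw [hJ2.symm]; exact hz0y
  -- (III) `w ∘ z0 ∈ S`
  have hwz0S : oo J2 w z0 ∈ S := by
    have hwv : bf J2 w (z0 + t • y0) = 0 := by
      rw [bf_add_right, bf_smul_right, hwz0, hwy0, mul_zero, add_zero]
    have hvv : bf J2 (z0 + t • y0) (z0 + t • y0) ≠ 0 := by
      have e : bf J2 (z0 + t • y0) (z0 + t • y0) = bf J2 z0 z0 + t ^ 2 * bf J2 y0 y0 := by
        rw [bf_add_left, bf_add_right, bf_add_right, bf_smul_left, bf_smul_left, bf_smul_right, bf_smul_right,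
          hz0y, hy0z0]
        ring
      rw [e]; exact hq
    have hy0v : bf J2 y0 (z0 + t • y0) ≠ 0 := by
      rw [bf_add_right, bf_smul_right, hy0z0, zero_add]
      exact mul_ne_zero ht hy0s
    have h3 := refl_step S hJ2 h2 hconj w y0 (z0 + t • y0) hwv hvv hy0v h1
    rw [oo_add_right, oo_smul_right] at h3
    have h4 := S.sub_mem h3 (S.smul_mem t h1)
    rwa [add_sub_cancel_right] at h4
  -- (IV) all six basic matrices
  obtain ⟨hEy0, hy0z0S⟩ := lemmaB S hJ2 hJ w y0 z0 hwy0 hwz0 hy0z0 hw hz0 h1 hwz0S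
  obtain ⟨hEz0, -⟩ := lemmaB S hJ2 hJ w z0 y0 hwz0 hwy0 hz0y hw hy0s hwz0S h1
  have h1' : oo J2 y0 w ∈ S := by rw [oo_comm]; exact h1
  obtain ⟨hEw, -⟩ := lemmaB S hJ2 hJ y0 w z0 hy0w hy0z0 hwz0 hy0s hz0 h1' hy0z0S
  -- (V) a singular vector
  obtain ⟨α, β, hαβ⟩ := exists_isotropic h2 (bf J2 w w) (bf J2 y0 y0) (bf J2 z0 z0) hw hy0s
  refine ⟨α • w + β • y0 + z0, 1, ?_, ?_, one_ne_zero, ?_⟩
  · intro h0
    have h5 := congrArg (fun v => bf J2 v z0) h0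
    simp only [bf_add_left, bf_smul_left, hwz0, hy0z0, mul_zero, zero_add, bf_zero_left] at h5
    exact hz0 h5
  · simp only [bf_add_left, bf_add_right, bf_smul_left, bf_smul_right, hwy0, hy0w, hwz0, hz0w, hy0z0, hz0y,
      mul_zero, add_zero, zero_add]
    linear_combination hαβ
  · rw [one_smul]
    have e : E J2 (α • w + β • y0 + z0) (α • w + β • y0 + z0) =
        (α ^ 2) • E J2 w w + (β ^ 2) • E J2 y0 y0 + E J2 z0 z0 + (α * β) • oo J2 w y0 + α • oo J2 w z0 +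
          β • oo J2 y0 z0 := by
      unfold oo
      simp only [E_add_left, E_add_right, E_smul_left, E_smul_right, smul_add, smul_smul]
      module
    rw [e]
    exact S.add_mem (S.add_mem (S.add_mem (S.add_mem (S.add_mem (S.smul_mem _ hEw) (S.smul_mem _ hEy0)) hEz0)
      (S.smul_mem _ h1)) (S.smul_mem _ hwz0S)) (S.smul_mem _ hy0z0S)

end Cfsg.Agent.Lib.Helper19.S5666EOJ
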