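import Mathlib
import Cfsg.Prelude.Def_GeometricClasses
import Cfsg.Agent.Lib.Helper16.GeoTRDefs

/-!
# GeoTR, group TR-D (decompositions, class 2)  (helper19, for helper16's block TR)
-/

set_option autoImplicit false
set_option linter.unusedSectionVars false

namespace Cfsg.Agent.Lib.Helper19.GeoTR

open Matrix Cfsg.Geo Cfsg.Agent.Lib.Helper16.GeoTR
open scoped Kronecker

variable {κ ι : Type} [Fintype κ] [DecidableEq κ] [Fintype ι] [DecidableEq ι] {F : Type*} [Field F]

/-- `tW e` as an order isomorphism -/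
theorem tW_eq_orderIso (e : κ ≃ ι) (W : Submodule F (κ → F)) :
    tW e W = Submodule.orderIsoMapComap (rv (F := F) e) W := by
  rw [Submodule.orderIsoMapComap_apply', ← Submodule.map_equiv_eq_comap_symm]
  rfl

/-- the action of `glReindex e g` on transported subspaces -/
theorem map_toLin'_tW (e : κ ≃ ι) (g : GL κ F) (W : Submodule F (κ → F)) :
    (tW e W).map (Matrix.toLin' ((glReindex e g : GL ι F) : Matrix ι ι F)) =
      tW e (W.map (Matrix.toLin' (g : Matrix κ κ F))) := by
  ext v
  rw [mem_tW, Submodule.mem_map, Submodule.mem_map]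
  constructor
  · rintro ⟨w, hw, rfl⟩
    rw [mem_tW] at hw
    refine ⟨w ∘ e, hw, ?_⟩
    rw [Matrix.toLin'_apply, Matrix.toLin'_apply, glReindex_mulVec_comp]
  · rintro ⟨u, hu, huv⟩
    refine ⟨rv e u, ?_, ?_⟩
    · rw [mem_tW, rv_comp']
      exact hu
    · rw [Matrix.toLin'_apply] at huv ⊢
      rw [glReindex_mulVec_rv, huv, rv_comp]

theorem isMDecomposition_tW (e : κ ≃ ι) {t k : ℕ} {D : Fin t → Submodule F (κ → F)} (h : IsMDecomposition k D) :
    IsMDecomposition k (fun i => tW e (D i)) := by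
  refine ⟨h.two_le, h.pos, ?_, ?_, ?_⟩
  · intro i
    have : Module.finrank F (tW e (D i)) = Module.finrank F (D i) := by
      unfold tW
      exact LinearEquiv.finrank_map_eq (rv e) (D i)
    rw [this]
    exact h.finrank_eq i
  · have h1 : (fun i => tW e (D i)) = (Submodule.orderIsoMapComap (rv (F := F) e)) ∘ D := by
      funext i
      exact tW_eq_orderIso e (D i)
    rw [h1]
    exact h.indep.map_orderIso _
  · have h1 : (⨆ i, tW e (D i)) = tW e (⨆ i, D i) := by
      unfold tW
      rw [Submodule.map_iSup]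
    rw [h1, h.iSup_eq_top]
    ext v
    rw [mem_tW]
    simp

theorem isNondegenerateMDecomposition_tW (e : κ ≃ ι) {f : (κ → F) → (κ → F) → F} {t k : ℕ}
    {D : Fin t → Submodule F (κ → F)} (h : IsNondegenerateMDecomposition f k D) :
    IsNondegenerateMDecomposition (tf e f) k (fun i => tW e (D i)) := by
  refine ⟨isMDecomposition_tW e h.decomp, ?_, ?_⟩
  · intro i w hw hw0
    rw [mem_tW] at hw
    have hw0' : w ∘ e ≠ 0 := by
      intro h0
      apply hw0
      funext j
      have := congrFun h0 (e.symm j)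
      simpa using this
    obtain ⟨⟨x, hx, hx'⟩, ⟨y, hy, hy'⟩⟩ := h.nondegenerate i (w ∘ e) hw hw0'
    refine ⟨⟨rv e x, ?_, ?_⟩, ⟨rv e y, ?_, ?_⟩⟩
    · rw [mem_tW, rv_comp']
      exact hx
    · rw [tf_apply, rv_comp']
      exact hx'
    · rw [mem_tW, rv_comp']
      exact hy
    · rw [tf_apply, rv_comp']
      exact hy'
  · intro i j hij u hu v hv
    rw [mem_tW] at hu hv
    exact h.orthogonal i j hij _ hu _ hv

theorem mem_decompositionStabilizer_tW (e : κ ≃ ι) {t : ℕ} {D : Fin t → Submodule F (κ → F)} {g : GL κ F}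
    (h : g ∈ decompositionStabilizer D) : glReindex e g ∈ decompositionStabilizer (fun i => tW e (D i)) := by
  obtain ⟨σ, hσ⟩ := h
  refine ⟨σ, fun i => ?_⟩
  change (tW e (D i)).map (Matrix.toLin' ((glReindex e g : GL ι F) : Matrix ι ι F)) = tW e (D (σ i))
  rw [map_toLin'_tW, hσ i]

end Cfsg.Agent.Lib.Helper19.GeoTR
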