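import Mathlib
import Cfsg.Prelude.Def_GeometricClasses
import Cfsg.Agent.Lib.Helper16.GeoTRDefs

/-!
# GeoTR, group TR-Q (class 8: similarity groups)  (helper19, for helper16's block TR)
-/

set_option autoImplicit false
set_option linter.unusedSectionVars false

namespace Cfsg.Agent.Lib.Helper19.GeoTR

open Matrix Cfsg.Geo Cfsg.Agent.Lib.Helper16.GeoTR
open scoped Kronecker

variable {κ ι : Type} [Fintype κ] [DecidableEq κ] [Fintype ι] [DecidableEq ι] {F : Type*} [Field F]

theorem mem_quadSimilarityGroup_tq (e : κ ≃ ι) {Q : (κ → F) → F} {g : GL κ F} (h : g ∈ quadSimilarityGroup Q) :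
    glReindex e g ∈ quadSimilarityGroup (tq e Q) := by
  obtain ⟨c, hc⟩ := h
  refine ⟨c, fun v => ?_⟩
  rw [tq_apply, tq_apply, glReindex_mulVec_comp]
  exact hc (v ∘ e)

theorem mem_similarityGroup_tf (e : κ ≃ ι) {f : (κ → F) → (κ → F) → F} {g : GL κ F} (h : g ∈ similarityGroup f) :
    glReindex e g ∈ similarityGroup (tf e f) := by
  obtain ⟨c, hc⟩ := h
  refine ⟨c, fun u v => ?_⟩
  rw [tf_apply, tf_apply, glReindex_mulVec_comp, glReindex_mulVec_comp]
  exact hc (u ∘ e) (v ∘ e)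

end Cfsg.Agent.Lib.Helper19.GeoTR
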