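import Mathlib
import Cfsg.Prelude.Def_GeometricClasses
import Cfsg.Agent.Lib.Helper16.GeoTRDefs

/-!
# GeoTR, group TR-W (subspaces, class 1)  (helper19, for helper16's block TR)
-/

set_option autoImplicit false
set_option linter.unusedSectionVars false

namespace Cfsg.Agent.Lib.Helper19.GeoTR

open Matrix Cfsg.Geo Cfsg.Agent.Lib.Helper16.GeoTR
open scoped Kronecker

variable {κ ι : Type} [Fintype κ] [DecidableEq κ] [Fintype ι] [DecidableEq ι] {F : Type*} [Field F]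

theorem tW_bot (e : κ ≃ ι) : tW e (⊥ : Submodule F (κ → F)) = ⊥ := by
  unfold tW
  exact Submodule.map_bot _

theorem tW_top (e : κ ≃ ι) : tW e (⊤ : Submodule F (κ → F)) = ⊤ := by
  ext v
  rw [mem_tW]
  simp

theorem tW_ne_bot (e : κ ≃ ι) {W : Submodule F (κ → F)} (h : W ≠ ⊥) : tW e W ≠ ⊥ := by
  intro h'
  apply h
  rw [← tW_symm_tW e W, h', tW_bot]

theorem tW_ne_top (e : κ ≃ ι) {W : Submodule F (κ → F)} (h : W ≠ ⊤) : tW e W ≠ ⊤ := by
  intro h'
  apply h
  rw [← tW_symm_tW e W, h', tW_top]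

theorem finrank_tW (e : κ ≃ ι) (W : Submodule F (κ → F)) : Module.finrank F (tW e W) = Module.finrank F W := by
  unfold tW
  exact LinearEquiv.finrank_map_eq (rv e) W

theorem isTotallySingularFor_tW (e : κ ≃ ι) {f : (κ → F) → (κ → F) → F} {W : Submodule F (κ → F)}
    (h : IsTotallySingularFor f W) : IsTotallySingularFor (tf e f) (tW e W) := by
  intro u hu v hv
  rw [mem_tW] at hu hv
  exact h _ hu _ hv

theorem isNondegenerateOn_tW (e : κ ≃ ι) {f : (κ → F) → (κ → F) → F} {W : Submodule F (κ → F)}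
    (h : IsNondegenerateOn f W) : IsNondegenerateOn (tf e f) (tW e W) := by
  intro w hw hw0
  rw [mem_tW] at hw
  have hw0' : w ∘ e ≠ 0 := by
    intro h0
    apply hw0
    funext i
    have := congrFun h0 (e.symm i)
    simpa using this
  obtain ⟨⟨x, hx, hx'⟩, ⟨y, hy, hy'⟩⟩ := h (w ∘ e) hw hw0'
  refine ⟨⟨rv e x, ?_, ?_⟩, ⟨rv e y, ?_, ?_⟩⟩
  · rw [mem_tW, rv_comp']
    exact hx
  · rw [tf_apply, rv_comp']
    exact hx'
  · rw [mem_tW, rv_comp']
    exact hy
  · rw [tf_apply, rv_comp']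
    exact hy'

theorem mem_subspaceStabilizer_iff {W : Submodule F (ι → F)} {g : GL ι F} :
    g ∈ subspaceStabilizer W ↔ ∀ v, v ∈ W ↔ (g : Matrix ι ι F) *ᵥ v ∈ W := Iff.rfl

theorem mem_subspaceStabilizer_tW (e : κ ≃ ι) {W : Submodule F (κ → F)} {g : GL κ F} (h : g ∈ subspaceStabilizer W) :
    glReindex e g ∈ subspaceStabilizer (tW e W) := by
  rw [mem_subspaceStabilizer_iff] at h ⊢
  intro v
  rw [mem_tW, mem_tW, glReindex_mulVec_comp]
  exact h (v ∘ e)

end Cfsg.Agent.Lib.Helper19.GeoTR
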