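import Mathlib
import Cfsg.Prelude.Def_GeometricClasses
import Cfsg.Agent.Lib.Helper16.GeoTRDefs
import Cfsg.Agent.Lib.Helper19.GeoTRW
import Cfsg.Agent.Lib.Helper19.GeoTRD
import Cfsg.Agent.Lib.Helper19.GeoTRQ

/-!
# GeoTR, group TR-R (class 6)  (helper19, for helper16's block TR)
-/

set_option autoImplicit false
set_option linter.unusedSectionVars false

namespace Cfsg.Agent.Lib.Helper19.GeoTR

open Matrix Cfsg.Geo Cfsg.Agent.Lib.Helper16.GeoTR
open scoped Kronecker

/-! ### generic transport along a multiplicative equivalence -/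

theorem isMulCommutative_of_mulEquiv {A B : Type*} [Mul A] [Mul B] (E : A ≃* B) (h : IsMulCommutative A) :
    IsMulCommutative B := by
  refine ⟨⟨fun x y => ?_⟩⟩
  have h1 : E.symm x * E.symm y = E.symm y * E.symm x := h.is_comm.comm (E.symm x) (E.symm y)
  have h2 := congrArg E h1
  simpa using h2

theorem characteristic_map_equiv {G G' : Type*} [Group G] [Group G'] (E : G ≃* G') (A : Subgroup G)
    (hA : A.Characteristic) : (A.map E.toMonoidHom).Characteristic := by
  rw [Subgroup.characteristic_iff_map_le]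
  intro ϕ
  have h1 := (Subgroup.characteristic_iff_map_eq.mp hA) ((E.trans ϕ).trans E.symm)
  rintro _ ⟨_, ⟨a, ha, rfl⟩, rfl⟩
  refine ⟨E.symm (ϕ (E a)), ?_, ?_⟩
  · rw [← h1]
    exact ⟨a, ha, rfl⟩
  · simp

/-- the three group-theoretic clauses of `IsSymplecticTypeGroup` and `IsOfMinusType` pass along an isomorphism -/
theorem transport_clauses {G G' : Type*} [Group G] [Group G'] (E : G ≃* G')
    (hc : ∀ A : Subgroup G, A.Characteristic → IsMulCommutative A → IsCyclic A) :
    ∀ A : Subgroup G', A.Characteristic → IsMulCommutative A → IsCyclic A := by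
  intro A' hA' hcomm
  have h1 : (A'.map E.symm.toMonoidHom).Characteristic := characteristic_map_equiv E.symm A' hA'
  have h2 : IsMulCommutative (A'.map E.symm.toMonoidHom) :=
    isMulCommutative_of_mulEquiv (E.symm.subgroupMap A') hcomm
  have h3 : IsCyclic (A'.map (E.symm : G' →* G)) := hc _ h1 h2
  exact isCyclic_of_surjective (E.symm.subgroupMap A').symm.toMonoidHom
    (E.symm.subgroupMap A').symm.surjective

theorem transport_minus {G G' : Type*} [Group G] [Group G'] (E : G ≃* G') (n : ℕ)
    (hc : ∀ A : Subgroup G, IsMulCommutative A → (∀ x ∈ A, x * x = 1) → Nat.card A < n) :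
    ∀ A : Subgroup G', IsMulCommutative A → (∀ x ∈ A, x * x = 1) → Nat.card A < n := by
  intro A' hcomm hsq
  have h2 : IsMulCommutative (A'.map E.symm.toMonoidHom) :=
    isMulCommutative_of_mulEquiv (E.symm.subgroupMap A') hcomm
  have h3 : ∀ x ∈ A'.map E.symm.toMonoidHom, x * x = 1 := by
    rintro _ ⟨y, hy, rfl⟩
    have := hsq y hy
    simp only [MulEquiv.toMonoidHom_eq_coe, MonoidHom.coe_coe]
    rw [← map_mul, this, map_one]
  have h4 := hc _ h2 h3
  have h5 : Nat.card A' = Nat.card (A'.map E.symm.toMonoidHom) := Nat.card_congr (E.symm.subgroupMap A').toEquiv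
  rw [h5]
  exact h4

variable {κ ι : Type} [Fintype κ] [DecidableEq κ] [Fintype ι] [DecidableEq ι] {F : Type*} [Field F]

theorem mem_subgroupNormalizer_map (e : κ ≃ ι) (R : Subgroup (GL κ F)) {g : GL κ F} (h : g ∈ subgroupNormalizer R) :
    glReindex e g ∈ subgroupNormalizer (R.map (glReindex (F := F) e).toMonoidHom) := by
  unfold subgroupNormalizer at h ⊢
  rw [Subgroup.mem_normalizer_iff] at h ⊢
  intro x
  change x ∈ R.map (glReindex (F := F) e).toMonoidHom ↔
    glReindex e g * x * (glReindex e g)⁻¹ ∈ R.map (glReindex (F := F) e).toMonoidHom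
  rw [mem_map_glReindex, mem_map_glReindex, map_mul, map_mul, map_inv, glReindex_symm_glReindex]
  exact h (glReindex e.symm x)

theorem isSymplecticTypeGroup_map (e : κ ≃ ι) (r : ℕ) (R : Subgroup (GL κ F)) (h : IsSymplecticTypeGroup r R) :
    IsSymplecticTypeGroup r (R.map (glReindex (F := F) e).toMonoidHom) := by
  refine ⟨h.prime, h.pGroup.of_equiv ((glReindex (F := F) e).subgroupMap R), ?_, ?_⟩
  · exact transport_clauses ((glReindex (F := F) e).subgroupMap R) h.cyclic_of_characteristic
  · have h5 : Monoid.exponent R = Monoid.exponent (R.map (glReindex (F := F) e).toMonoidHom) :=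
      Monoid.exponent_eq_of_mulEquiv ((glReindex (F := F) e).subgroupMap R)
    rw [← h5]
    exact h.exponent_eq

theorem tW_mono (e : κ ≃ ι) {W W' : Submodule F (κ → F)} (h : W ≤ W') : tW e W ≤ tW e W' := by
  intro v hv
  rw [mem_tW] at hv ⊢
  exact h hv

theorem tW_tW_symm (e : κ ≃ ι) (W : Submodule F (ι → F)) : tW e (tW e.symm W) = W :=
  tW_symm_tW e.symm W

theorem actsIrreducibly_map (e : κ ≃ ι) (R : Subgroup (GL κ F)) (h : ActsIrreducibly (matrixSet R)) :
    ActsIrreducibly (matrixSet (R.map (glReindex (F := F) e).toMonoidHom)) := by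
  intro W' hW'
  have h1 : ∀ s ∈ matrixSet R, (tW e.symm W').map (Matrix.toLin' s) ≤ tW e.symm W' := by
    rintro _ ⟨g, hg, rfl⟩
    have h2 := hW' ((glReindex e g : GL ι F) : Matrix ι ι F) ⟨glReindex e g, ⟨g, hg, rfl⟩, rfl⟩
    have h3 := map_toLin'_tW e.symm (glReindex e g) W'
    rw [glReindex_symm_glReindex] at h3
    change (tW e.symm W').map (Matrix.toLin' (g : Matrix κ κ F)) ≤ tW e.symm W'
    rw [h3]
    exact tW_mono e.symm h2
  rcases h _ h1 with h4 | h4
  · left
    by_contra hne
    exact tW_ne_bot e.symm hne h4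
  · right
    by_contra hne
    exact tW_ne_top e.symm hne h4

theorem reindex_symm_mul (e : κ ≃ ι) (M N : Matrix ι ι F) :
    Matrix.reindex e.symm e.symm (M * N) = Matrix.reindex e.symm e.symm M * Matrix.reindex e.symm e.symm N := by
  simp only [Matrix.reindex_apply, Equiv.symm_symm]
  rw [Matrix.submatrix_mul_equiv]

theorem actsAbsolutelyIrreducibly_map (e : κ ≃ ι) (R : Subgroup (GL κ F)) (h : ActsAbsolutelyIrreducibly (matrixSet R)) :
    ActsAbsolutelyIrreducibly (matrixSet (R.map (glReindex (F := F) e).toMonoidHom)) := by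
  refine ⟨actsIrreducibly_map e R h.1, ?_⟩
  intro M' hM'
  have h1 : ∀ s ∈ matrixSet R, Matrix.reindex e.symm e.symm M' * s = s * Matrix.reindex e.symm e.symm M' := by
    rintro _ ⟨g, hg, rfl⟩
    have h2 := hM' ((glReindex e g : GL ι F) : Matrix ι ι F) ⟨glReindex e g, ⟨g, hg, rfl⟩, rfl⟩
    have h3 := congrArg (Matrix.reindex e.symm e.symm) h2
    rw [reindex_symm_mul, reindex_symm_mul] at h3
    have h4 : Matrix.reindex e.symm e.symm ((glReindex e g : GL ι F) : Matrix ι ι F) = (g : Matrix κ κ F) := by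
      ext i j
      simp [glReindex_apply]
    rw [h4] at h3
    exact h3
  obtain ⟨c, hc⟩ := h.2 _ h1
  refine ⟨c, ?_⟩
  ext i j
  have := congrFun (congrFun hc (e.symm i)) (e.symm j)
  simpa [Matrix.one_apply] using this

theorem map_le_similarityGroup (e : κ ≃ ι) (R : Subgroup (GL κ F)) {f : (κ → F) → (κ → F) → F}
    (h : R ≤ similarityGroup f) : R.map (glReindex (F := F) e).toMonoidHom ≤ similarityGroup (tf e f) := by
  rintro _ ⟨g, hg, rfl⟩
  exact mem_similarityGroup_tf e (h hg)

theorem card_map (e : κ ≃ ι) (R : Subgroup (GL κ F)) :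
    Nat.card (R.map (glReindex (F := F) e).toMonoidHom) = Nat.card R :=
  (Nat.card_congr ((glReindex (F := F) e).subgroupMap R).toEquiv).symm

theorem card_center_map (e : κ ≃ ι) (R : Subgroup (GL κ F)) :
    Nat.card (Subgroup.center (R.map (glReindex (F := F) e).toMonoidHom)) = Nat.card (Subgroup.center R) :=
  (Nat.card_congr (Subgroup.centerCongr ((glReindex (F := F) e).subgroupMap R)).toEquiv).symm

theorem isOfMinusType_map (e : κ ≃ ι) (k : ℕ) (R : Subgroup (GL κ F)) (h : IsOfMinusType k R) :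
    IsOfMinusType k (R.map (glReindex (F := F) e).toMonoidHom) :=
  transport_minus ((glReindex (F := F) e).subgroupMap R) (2 ^ (k + 1)) h

end Cfsg.Agent.Lib.Helper19.GeoTR
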