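import Mathlib
import Cfsg.Prelude.Def_GeometricClasses
import Cfsg.Agent.Lib.Helper16.GeoTRDefs

/-!
# GeoTR, group TR-S (subfields, class 5)  (helper19, for helper16's block TR)
-/

set_option autoImplicit false
set_option linter.unusedSectionVars false

namespace Cfsg.Agent.Lib.Helper19.GeoTR

open Matrix Cfsg.Geo Cfsg.Agent.Lib.Helper16.GeoTR
open scoped Kronecker

variable {κ ι : Type} [Fintype κ] [DecidableEq κ] [Fintype ι] [DecidableEq ι] {F : Type*} [Field F]

theorem mem_scalars_glReindex (e : κ ≃ ι) {g : GL κ F} (h : g ∈ scalars κ F) : glReindex e g ∈ scalars ι F := by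
  rw [mem_scalars_iff] at h ⊢
  obtain ⟨c, hc⟩ := h
  refine ⟨c, ?_⟩
  ext i j
  rw [glReindex_apply, hc]
  simp [Matrix.one_apply]

/-- the converse of `mem_scalars_glReindex` -/
theorem mem_scalars_of_glReindex (e : κ ≃ ι) {g : GL κ F} (h : glReindex e g ∈ scalars ι F) : g ∈ scalars κ F := by
  have := mem_scalars_glReindex e.symm h
  rwa [glReindex_symm_glReindex] at this

theorem mem_scalars_glReindex_iff (e : κ ≃ ι) {g : GL κ F} : glReindex e g ∈ scalars ι F ↔ g ∈ scalars κ F :=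
  ⟨mem_scalars_of_glReindex e, mem_scalars_glReindex e⟩

/-- reindexing commutes with the base change of invertible matrices from the subfield -/
theorem glReindex_map_subtype (e : κ ≃ ι) (F₀ : Subfield F) (a : GL κ F₀) :
    glReindex e (Matrix.GeneralLinearGroup.map (F₀.subtype : F₀ →+* F) a) =
      Matrix.GeneralLinearGroup.map (F₀.subtype : F₀ →+* F) (glReindex e a) := by
  apply Units.ext
  ext i j
  rfl

theorem mem_rational_sup_scalars_glReindex (e : κ ≃ ι) (F₀ : Subfield F) {h : GL κ F}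
    (hh : h ∈ (Matrix.GeneralLinearGroup.map (F₀.subtype : F₀ →+* F)).range ⊔ scalars κ F) :
    glReindex e h ∈ (Matrix.GeneralLinearGroup.map (F₀.subtype : F₀ →+* F)).range ⊔ scalars ι F := by
  have h1 : ((Matrix.GeneralLinearGroup.map (F₀.subtype : F₀ →+* F)).range ⊔ scalars κ F).map
      (glReindex (F := F) e).toMonoidHom ≤
      (Matrix.GeneralLinearGroup.map (F₀.subtype : F₀ →+* F)).range ⊔ scalars ι F := by
    rw [Subgroup.map_sup]
    apply sup_le_sup
    · rintro _ ⟨_, ⟨a, rfl⟩, rfl⟩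
      exact ⟨glReindex e a, (glReindex_map_subtype e F₀ a).symm⟩
    · rintro _ ⟨g, hg, rfl⟩
      exact mem_scalars_glReindex e hg
  exact h1 ⟨h, hh, rfl⟩

theorem mem_subfieldSubgroup_glReindex (e : κ ≃ ι) (F₀ : Subfield F) (P : GL κ F) {g : GL κ F}
    (h : g ∈ subfieldSubgroup F₀ P) : glReindex e g ∈ subfieldSubgroup F₀ (glReindex e P) := by
  obtain ⟨h0, hh0, rfl⟩ := h
  refine ⟨glReindex e h0, mem_rational_sup_scalars_glReindex e F₀ hh0, ?_⟩
  simp only [MulEquiv.toMonoidHom_eq_coe, MonoidHom.coe_coe, MulAut.conj_apply, map_mul, map_inv]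

theorem comp_mem_subfield (e : κ ≃ ι) (F₀ : Subfield F) {u : ι → F} (hu : ∀ i, u i ∈ F₀) : ∀ i, (u ∘ e) i ∈ F₀ :=
  fun i => hu (e i)

theorem isFormRationalStructure_tf (e : κ ≃ ι) {f : (κ → F) → (κ → F) → F} (F₀ : Subfield F) (ζ : F) (P : GL κ F)
    (h : IsFormRationalStructure f F₀ ζ P) : IsFormRationalStructure (tf e f) F₀ ζ (glReindex e P) := by
  intro u v hu hv
  rw [tf_apply, glReindex_mulVec_comp, glReindex_mulVec_comp]
  exact h (u ∘ e) (v ∘ e) (comp_mem_subfield e F₀ hu) (comp_mem_subfield e F₀ hv)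

theorem realisableOver_map (e : κ ≃ ι) (F₀ : Subfield F) (R : Subgroup (GL κ F)) (h : RealisableOver F₀ (matrixSet R)) :
    RealisableOver F₀ (matrixSet (R.map (glReindex (F := F) e).toMonoidHom)) := by
  obtain ⟨B, hB⟩ := h
  refine ⟨glReindex e B, ?_⟩
  rintro s ⟨g', ⟨g, hg, rfl⟩, rfl⟩ i j
  have h1 := hB (g : Matrix κ κ F) ⟨g, hg, rfl⟩ (e.symm i) (e.symm j)
  have h2 : ((glReindex e B : GL ι F) : Matrix ι ι F) * (((glReindex (F := F) e).toMonoidHom g : GL ι F) : Matrix ι ι F) *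
      (((glReindex e B)⁻¹ : GL ι F) : Matrix ι ι F) = ((glReindex e (B * g * B⁻¹) : GL ι F) : Matrix ι ι F) := by
    simp only [MulEquiv.toMonoidHom_eq_coe, MonoidHom.coe_coe, map_mul, map_inv, Units.val_mul]
  rw [h2, glReindex_apply]
  simpa only [Units.val_mul] using h1

/-- the converse of `realisableOver_map` -/
theorem realisableOver_of_map (e : κ ≃ ι) (F₀ : Subfield F) (R : Subgroup (GL κ F))
    (h : RealisableOver F₀ (matrixSet (R.map (glReindex (F := F) e).toMonoidHom))) :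
    RealisableOver F₀ (matrixSet R) := by
  have := realisableOver_map e.symm F₀ _ h
  rwa [map_map_symm] at this

end Cfsg.Agent.Lib.Helper19.GeoTR
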