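import Mathlib
import Cfsg.Prelude.Def_GeometricClasses
import Cfsg.Agent.Lib.Helper16.GeoTRDefs
import Cfsg.Agent.Lib.Helper19.GeoTRS
import Cfsg.Agent.Lib.Helper19.GeoTRR

/-!
# GeoTR, group TR-C (the residual core)  (helper19, for helper16's block TR)
-/

set_option autoImplicit false
set_option linter.unusedSectionVars false

namespace Cfsg.Agent.Lib.Helper19.GeoTR

open Matrix Cfsg.Geo Cfsg.Agent.Lib.Helper16.GeoTR
open scoped Kronecker

variable {κ ι : Type} [Fintype κ] [DecidableEq κ] [Fintype ι] [DecidableEq ι] {F : Type*} [Field F]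

/-- the isomorphism `P ≃* P.map (glReindex e)` -/
def mapEquiv (e : κ ≃ ι) (P : Subgroup (GL κ F)) : P ≃* (P.map (glReindex (F := F) e).toMonoidHom) :=
  (glReindex (F := F) e).subgroupMap P

/-- the scalar subgroups of `P` and of its image correspond under the isomorphism `P ≃* P.map (glReindex e)` -/
theorem map_scalars_subgroupOf (e : κ ≃ ι) (P : Subgroup (GL κ F)) :
    ((scalars κ F).subgroupOf P).map (mapEquiv e P : P →* (P.map (glReindex (F := F) e).toMonoidHom)) =
      (scalars ι F).subgroupOf (P.map (glReindex (F := F) e).toMonoidHom) := by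
  ext x
  constructor
  · rintro ⟨y, hy, rfl⟩
    have hy' : (y : GL κ F) ∈ scalars κ F := Subgroup.mem_subgroupOf.mp hy
    rw [Subgroup.mem_subgroupOf]
    exact mem_scalars_glReindex e hy'
  · intro hx
    rw [Subgroup.mem_subgroupOf] at hx
    obtain ⟨x, hxP⟩ := x
    obtain ⟨y, hy, rfl⟩ := hxP
    refine ⟨⟨y, hy⟩, ?_, rfl⟩
    have : (⟨y, hy⟩ : P) ∈ (scalars κ F).subgroupOf P := by
      rw [Subgroup.mem_subgroupOf]
      exact mem_scalars_of_glReindex e hx
    exact this

/-- the quotients by the scalars are isomorphic -/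
noncomputable def quotientScalarsEquiv (e : κ ≃ ι) (P : Subgroup (GL κ F)) :
    (P ⧸ (scalars κ F).subgroupOf P) ≃*
      ((P.map (glReindex (F := F) e).toMonoidHom) ⧸ (scalars ι F).subgroupOf (P.map (glReindex (F := F) e).toMonoidHom)) :=
  QuotientGroup.congr _ _ (mapEquiv e P) (map_scalars_subgroupOf e P)

theorem isResidualCore_map (e : κ ≃ ι) (H P : Subgroup (GL κ F)) (h : IsResidualCore H P) :
    IsResidualCore (H.map (glReindex (F := F) e).toMonoidHom) (P.map (glReindex (F := F) e).toMonoidHom) := by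
  refine ⟨Subgroup.map_mono h.le, ?_, ?_, ?_, ?_, ?_, actsAbsolutelyIrreducibly_map e P h.absIrred, ?_⟩
  · rintro _ ⟨h0, hh0, rfl⟩ _ ⟨x0, hx0, rfl⟩
    refine ⟨h0 * x0 * h0⁻¹, h.normal h0 hh0 x0 hx0, ?_⟩
    simp only [map_mul, map_inv]
  · rw [← Subgroup.map_commutator, h.perfect]
  · have := h.simple
    exact (quotientScalarsEquiv e P).symm.isSimpleGroup
  · intro hcomm
    exact h.nonabelian (isMulCommutative_of_mulEquiv (quotientScalarsEquiv e P).symm hcomm)
  · rintro _ ⟨h0, hh0, rfl⟩ hcent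
    apply mem_scalars_glReindex e
    apply h.centralizer_scalar h0 hh0
    intro x hx
    have h1 := hcent ((glReindex (F := F) e).toMonoidHom x) ⟨x, hx, rfl⟩
    apply mem_scalars_of_glReindex e
    simpa only [MulEquiv.toMonoidHom_eq_coe, MonoidHom.coe_coe, map_mul, map_inv] using h1
  · intro F₀ hF₀ hreal
    exact h.no_subfield F₀ hF₀ (realisableOver_of_map e F₀ P hreal)

end Cfsg.Agent.Lib.Helper19.GeoTR
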