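import Mathlib
import Cfsg.Prelude.Def_GeometricClasses
import Cfsg.Agent.Lib.Helper16.GeoTRDefs

/-!
# GeoTR, group TR-F (forms): transport of the form vocabulary along `e : κ ≃ ι`  (helper19, for helper16's block TR)
-/

set_option autoImplicit false
set_option linter.unusedSectionVars false

namespace Cfsg.Agent.Lib.Helper19.GeoTR

open Matrix Cfsg.Geo Cfsg.Agent.Lib.Helper16.GeoTR
open scoped Kronecker

variable {κ ι : Type} [Fintype κ] [DecidableEq κ] [Fintype ι] [DecidableEq ι] {F : Type*} [Field F]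

/-- `(v ∘ e.symm) ∘ e = v` -/
theorem comp_symm_comp (e : κ ≃ ι) (v : κ → F) : (v ∘ e.symm) ∘ e = v := by
  funext i
  simp

/-- `(v ∘ e) ∘ e.symm = v` -/
theorem comp_comp_symm (e : κ ≃ ι) (v : ι → F) : (v ∘ e) ∘ e.symm = v := by
  funext i
  simp

theorem comp_ne_zero (e : κ ≃ ι) {v : ι → F} (hv : v ≠ 0) : v ∘ e ≠ 0 := by
  intro h
  apply hv
  funext i
  have := congrFun h (e.symm i)
  simpa using this

theorem isBilinearForm_tf (e : κ ≃ ι) {f : (κ → F) → (κ → F) → F} (hf : IsBilinearForm f) : IsBilinearForm (tf e f) := by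
  refine ⟨?_, ?_, ?_, ?_⟩
  · intro x y v
    exact hf.add_left (x ∘ e) (y ∘ e) (v ∘ e)
  · intro c x v
    exact hf.smul_left c (x ∘ e) (v ∘ e)
  · intro v x y
    exact hf.add_right (v ∘ e) (x ∘ e) (y ∘ e)
  · intro c v x
    exact hf.smul_right c (v ∘ e) (x ∘ e)

theorem isNondegenerateForm_tf (e : κ ≃ ι) {f : (κ → F) → (κ → F) → F} (hf : IsNondegenerateForm f) :
    IsNondegenerateForm (tf e f) := by
  intro v hv
  obtain ⟨⟨x, hx⟩, ⟨y, hy⟩⟩ := hf (v ∘ e) (comp_ne_zero e hv)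
  refine ⟨⟨x ∘ e.symm, ?_⟩, ⟨y ∘ e.symm, ?_⟩⟩
  · rw [tf_apply, comp_symm_comp]
    exact hx
  · rw [tf_apply, comp_symm_comp]
    exact hy

theorem isSymplecticForm_tf (e : κ ≃ ι) {f : (κ → F) → (κ → F) → F} (hf : IsSymplecticForm f) : IsSymplecticForm (tf e f) := by
  refine ⟨isBilinearForm_tf e hf.bilinear, ?_, ?_, isNondegenerateForm_tf e hf.nondegenerate⟩
  · intro v w
    exact hf.skew (v ∘ e) (w ∘ e)
  · intro v
    exact hf.alternating (v ∘ e)

theorem isSymmetricForm_tf (e : κ ≃ ι) {f : (κ → F) → (κ → F) → F} (hf : IsSymmetricForm f) : IsSymmetricForm (tf e f) := by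
  refine ⟨isBilinearForm_tf e hf.bilinear, ?_, isNondegenerateForm_tf e hf.nondegenerate⟩
  intro u v
  exact hf.symm (u ∘ e) (v ∘ e)

theorem isUnitaryForm_tf (e : κ ≃ ι) (σ : F ≃+* F) {f : (κ → F) → (κ → F) → F} (hf : IsUnitaryForm σ f) :
    IsUnitaryForm σ (tf e f) := by
  refine ⟨hf.ne_refl, hf.involutive, ?_, ?_, ?_, isNondegenerateForm_tf e hf.nondegenerate⟩
  · intro x y v
    exact hf.add_left (x ∘ e) (y ∘ e) (v ∘ e)
  · intro c x v
    exact hf.smul_left c (x ∘ e) (v ∘ e)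
  · intro v w
    exact hf.herm (v ∘ e) (w ∘ e)

theorem polar_tq (e : κ ≃ ι) (Q : (κ → F) → F) (u v : ι → F) :
    QuadraticMap.polar (tq e Q) u v = QuadraticMap.polar Q (u ∘ e) (v ∘ e) := by
  rfl

theorem polar_tq_eq (e : κ ≃ ι) (Q : (κ → F) → F) :
    QuadraticMap.polar (tq e Q) = tf e (QuadraticMap.polar Q) := by
  funext u v
  rfl

theorem isNondegenerateQuadraticForm_tq (e : κ ≃ ι) {Q : (κ → F) → F} (hQ : IsNondegenerateQuadraticForm Q) :
    IsNondegenerateQuadraticForm (tq e Q) := by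
  refine ⟨?_, ?_, ?_⟩
  · intro c v
    exact hQ.smul c (v ∘ e)
  · rw [polar_tq_eq]
    exact isBilinearForm_tf e hQ.polar_bilinear
  · rw [polar_tq_eq]
    exact isNondegenerateForm_tf e hQ.nondegenerate

/-- the matrix of `glReindex e.symm g` -/
theorem glReindex_symm_val (e : κ ≃ ι) (g : GL ι F) :
    ((glReindex e.symm g : GL κ F) : Matrix κ κ F) = Matrix.reindex e.symm e.symm (g : Matrix ι ι F) := rfl

/-- the matrix sets correspond -/
theorem mem_matrixSet_map (e : κ ≃ ι) (R : Subgroup (GL κ F)) (s : Matrix ι ι F) :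
    s ∈ matrixSet (R.map (glReindex (F := F) e).toMonoidHom) ↔ Matrix.reindex e.symm e.symm s ∈ matrixSet R := by
  constructor
  · rintro ⟨g, hg, rfl⟩
    have hg' : g ∈ R.map (glReindex (F := F) e).toMonoidHom := hg
    rw [mem_map_glReindex] at hg'
    exact ⟨glReindex e.symm g, hg', rfl⟩
  · rintro ⟨g, hg, hgs⟩
    refine ⟨glReindex e g, ⟨g, hg, rfl⟩, ?_⟩
    change Matrix.reindex e e (g : Matrix κ κ F) = s
    have hgs' : (g : Matrix κ κ F) = Matrix.reindex e.symm e.symm s := hgs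
    rw [hgs']
    ext i j
    simp

/-- a member of the transported matrix set is the reindexing of a member of the original one -/
theorem exists_of_mem_matrixSet_map (e : κ ≃ ι) (R : Subgroup (GL κ F)) {s : Matrix ι ι F}
    (hs : s ∈ matrixSet (R.map (glReindex (F := F) e).toMonoidHom)) :
    ∃ g ∈ R, s = ((glReindex e g : GL ι F) : Matrix ι ι F) := by
  obtain ⟨g', ⟨g, hg, rfl⟩, rfl⟩ := hs
  exact ⟨g, hg, rfl⟩

theorem fixesForm_map (e : κ ≃ ι) (R : Subgroup (GL κ F)) {f : (κ → F) → (κ → F) → F} (h : FixesForm (matrixSet R) f) :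
    FixesForm (matrixSet (R.map (glReindex (F := F) e).toMonoidHom)) (tf e f) := by
  intro s hs u v
  obtain ⟨g, hg, rfl⟩ := exists_of_mem_matrixSet_map e R hs
  rw [tf_apply, tf_apply, glReindex_mulVec_comp, glReindex_mulVec_comp]
  exact h _ ⟨g, hg, rfl⟩ (u ∘ e) (v ∘ e)

theorem fixesQuadForm_map (e : κ ≃ ι) (R : Subgroup (GL κ F)) {Q : (κ → F) → F} (h : FixesQuadForm (matrixSet R) Q) :
    FixesQuadForm (matrixSet (R.map (glReindex (F := F) e).toMonoidHom)) (tq e Q) := by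
  intro s hs v
  obtain ⟨g, hg, rfl⟩ := exists_of_mem_matrixSet_map e R hs
  rw [tq_apply, tq_apply, glReindex_mulVec_comp]
  exact h _ ⟨g, hg, rfl⟩ (v ∘ e)

end Cfsg.Agent.Lib.Helper19.GeoTR
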