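import Mathlib
import Cfsg.Agent.Lib.Helper15.S5670T4Defs
import Cfsg.Agent.Lib.Helper6.SUSimple

/-!
# S5670 FO-T4 (helper15's sub-skeleton), piece T4-RICH: `rich_iso` (helper19)

`w ≠ 0` isotropic in the standard hermitian space `F^b`, `b ≥ 3`: the isotropic vectors `z` with `h(w,z) ≠ 0` of trace zero generate
additively the `F_q`-hyperplane `{w' | tr h(w,w') = 0}`.
-/

set_option autoImplicit false

namespace Cfsg.Agent.Lib.Helper19.S5670T4RICH

open Matrix Module
open Cfsg.Agent.Lib.Helper6 Cfsg.Agent.Lib.Helper6.SUG Cfsg.Agent.S0779 Cfsg.Agent.S0781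

variable {F : Type*} [Field F] [Fintype F] {b q : ℕ}

local notation "hW" => Cfsg.hermForm b F q

/-- solve `ε x^q - ε x = c` for `c` in the fixed field (`ε ≠ 0` of trace zero) -/
theorem exists_solve (hF : Fintype.card F = q ^ 2) (ε : F) (hε0 : ε ≠ 0) (hε : ε ^ q = -ε) (c : F)
    (hc : c ^ q = c) : ∃ x : F, ε * x ^ q - ε * x = c := by
  obtain ⟨t, ht⟩ := exists_trace (conjQ hF) (conjQ_ne_id hF) (conjQ_conjQ hF) c (by rw [conjQ_apply, hc])
  rw [conjQ_apply] at ht
  refine ⟨-t / ε, ?_⟩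
  have h1 : ε * (-t / ε) = -t := by field_simp
  have h2 : ε * (-t / ε) ^ q = t ^ q := by
    rw [div_pow, neg_pow_q hF, hε]
    field_simp
  rw [h2, h1]
  linear_combination ht

/-- the generating set -/
def GG (q' : ℕ) (w : Fin b → F) : Set (Fin b → F) :=
  {z : Fin b → F | Cfsg.hermForm b F q' z z = 0 ∧ Cfsg.hermForm b F q' w z ≠ 0 ∧
    Cfsg.hermForm b F q' w z + (Cfsg.hermForm b F q' w z) ^ q' = 0}

section

variable (hF : Fintype.card F = q ^ 2) (w ws : Fin b → F) (hww : Cfsg.hermForm b F q w w = 0)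
  (hsw : Cfsg.hermForm b F q ws w = 1) (hws : Cfsg.hermForm b F q w ws = 1) (hss : Cfsg.hermForm b F q ws ws = 0)
  (ε : F) (hε0 : ε ≠ 0) (hε : ε ^ q = -ε)

include hF hww hsw hws hss hε0 hε

/-- membership criterion for `x • w + ε • w* + d`, `d ⟂ w, w*` -/
theorem mem_GG (x : F) (d : Fin b → F) (hdw : hW d w = 0) (hds : hW d ws = 0)
    (hx : ε * x ^ q - ε * x + hW d d = 0) : x • w + ε • ws + d ∈ GG q w := by
  have hwd : hW w d = 0 := herm_swap_zero hF hdw
  have hsd : hW ws d = 0 := herm_swap_zero hF hds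
  have e1 : hW w (x • w + ε • ws + d) = -ε := by
    rw [herm_add_right hF, herm_add_right hF, herm_smul_right, herm_smul_right, hww, hws, hwd, hε]
    ring
  refine ⟨?_, ?_, ?_⟩
  · simp only [herm_add_left, herm_add_right hF, herm_smul_left, herm_smul_right, hww, hws, hsw, hss, hwd, hsd,
      hdw, hds, hε]
    linear_combination hx
  · rw [e1]
    exact neg_ne_zero.mpr hε0
  · rw [e1, neg_pow_q hF, hε]
    ring

/-- (1) `ξ • w + δ` is in the closure for `δ ≠ 0`, `δ ⟂ w, w*` -/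
theorem step1 (δ : Fin b → F) (hδw : hW δ w = 0) (hδs : hW δ ws = 0) (hδ0 : δ ≠ 0) (ξ : F) :
    ξ • w + δ ∈ AddSubgroup.closure (GG q w) := by
  have hwδ : hW w δ = 0 := herm_swap_zero hF hδw
  have hsδ : hW ws δ = 0 := herm_swap_zero hF hδs
  -- `y` not orthogonal to `δ`
  obtain ⟨y, hy⟩ : ∃ y, hW y δ ≠ 0 := by
    by_contra hcon
    push Not at hcon
    apply hδ0
    apply herm_nondeg hF
    intro y
    exact herm_swap_zero hF (hcon y)
  set d₁ : Fin b → F := y - (hW y ws) • w - (hW y w) • ws with hd₁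
  have hd₁w : hW d₁ w = 0 := by
    rw [hd₁, herm_sub_left', herm_sub_left', herm_smul_left, herm_smul_left, hww, hsw]; ring
  have hd₁s : hW d₁ ws = 0 := by
    rw [hd₁, herm_sub_left', herm_sub_left', herm_smul_left, herm_smul_left, hws, hss]; ring
  have hd₁δ : hW d₁ δ = hW y δ := by
    rw [hd₁, herm_sub_left', herm_sub_left', herm_smul_left, herm_smul_left, hwδ, hsδ]; ring
  have hc₁ : hW d₁ δ ≠ 0 := by rw [hd₁δ]; exact hy
  -- the scalar `λ`
  have ht₀ : (-(hW δ δ) - (ε * ξ ^ q - ε * ξ)) ^ q = -(hW δ δ) - (ε * ξ ^ q - ε * ξ) := by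
    have e : -(hW δ δ) - (ε * ξ ^ q - ε * ξ) = -(hW δ δ) + (-(ε * ξ ^ q) + ε * ξ) := by ring
    rw [e, add_pow_q hF, add_pow_q hF, neg_pow_q hF, neg_pow_q hF, herm_self_fixed hF, mul_pow, mul_pow, pow_q_q hF,
      hε]
    ring
  obtain ⟨μ, hμ⟩ := exists_trace (conjQ hF) (conjQ_ne_id hF) (conjQ_conjQ hF) _
    (by rw [conjQ_apply]; exact ht₀)
  rw [conjQ_apply] at hμ
  set lam : F := μ / hW d₁ δ with hlam
  set d₀ : Fin b → F := lam • d₁ with hd₀
  have hd₀w : hW d₀ w = 0 := by rw [hd₀, herm_smul_left, hd₁w, mul_zero]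
  have hd₀s : hW d₀ ws = 0 := by rw [hd₀, herm_smul_left, hd₁s, mul_zero]
  have hd₀δ : hW d₀ δ = μ := by
    rw [hd₀, herm_smul_left, hlam, div_mul_cancel₀ _ hc₁]
  have hδd₀ : hW δ d₀ = μ ^ q := by rw [← herm_conj hF, hd₀δ]
  obtain ⟨x₂, hx₂⟩ := exists_solve hF ε hε0 hε (-(hW d₀ d₀)) (by rw [neg_pow_q hF, herm_self_fixed hF])
  have hz₂ : x₂ • w + ε • ws + d₀ ∈ GG q w :=
    mem_GG hF w ws hww hsw hws hss ε hε0 hε x₂ d₀ hd₀w hd₀s (by rw [hx₂]; ring)
  have hz₁ : (x₂ + ξ) • w + ε • ws + (d₀ + δ) ∈ GG q w := by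
    apply mem_GG hF w ws hww hsw hws hss ε hε0 hε (x₂ + ξ) (d₀ + δ)
    · rw [herm_add_left, hd₀w, hδw, add_zero]
    · rw [herm_add_left, hd₀s, hδs, add_zero]
    · rw [add_pow_q hF, herm_add_left, herm_add_right hF, herm_add_right hF, hd₀δ, hδd₀]
      linear_combination hx₂ + hμ
  have hsub := (AddSubgroup.closure (GG q w)).sub_mem (AddSubgroup.subset_closure hz₁)
    (AddSubgroup.subset_closure hz₂)
  have e : (x₂ + ξ) • w + ε • ws + (d₀ + δ) - (x₂ • w + ε • ws + d₀) = ξ • w + δ := by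
    rw [add_smul]; abel
  rwa [e] at hsub

/-- a non-zero vector orthogonal to `w` and `w*` (`b ≥ 3`) -/
theorem exists_perp (hb : 3 ≤ b) : ∃ δ : Fin b → F, δ ≠ 0 ∧ hW δ w = 0 ∧ hW δ ws = 0 := by
  let φ : (Fin b → F) →ₗ[F] (F × F) :=
    { toFun := fun y => (hW y w, hW y ws)
      map_add' := fun x y => by rw [herm_add_left, herm_add_left]; rfl
      map_smul' := fun c x => by rw [herm_smul_left, herm_smul_left]; rfl }
  have hker : LinearMap.ker φ ≠ ⊥ := by
    apply LinearMap.ker_ne_bot_of_finrank_lt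
    rw [Module.finrank_prod, Module.finrank_self, Module.finrank_fin_fun]
    omega
  obtain ⟨δ, hδker, hδ0⟩ := Submodule.exists_mem_ne_zero_of_ne_bot hker
  have h1 : φ δ = 0 := LinearMap.mem_ker.1 hδker
  exact ⟨δ, hδ0, congrArg Prod.fst h1, congrArg Prod.snd h1⟩

/-- (2) every multiple of `w` is in the closure -/
theorem step2 (hb : 3 ≤ b) (ξ : F) : ξ • w ∈ AddSubgroup.closure (GG q w) := by
  obtain ⟨δ, hδ0, hδw, hδs⟩ := exists_perp hF w ws hww hsw hws hss ε hε0 hε hb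
  have h1 := step1 hF w ws hww hsw hws hss ε hε0 hε δ hδw hδs hδ0 ξ
  have h2 := step1 hF w ws hww hsw hws hss ε hε0 hε δ hδw hδs hδ0 0
  have h3 := (AddSubgroup.closure (GG q w)).sub_mem h1 h2
  have e : ξ • w + δ - ((0 : F) • w + δ) = ξ • w := by rw [zero_smul]; abel
  rwa [e] at h3

/-- (3) trace-zero multiples of `w*` are in the closure -/
theorem step3 (τ : F) (hτ : τ ^ q + τ = 0) : τ • ws ∈ AddSubgroup.closure (GG q w) := by
  by_cases hτ0 : τ = 0
  · rw [hτ0, zero_smul]; exact (AddSubgroup.closure (GG q w)).zero_mem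
  · apply AddSubgroup.subset_closure
    refine ⟨?_, ?_, ?_⟩
    · rw [herm_smul_left, herm_smul_right, hss, mul_zero, mul_zero]
    · rw [herm_smul_right, hws, mul_one]
      exact pow_ne_zero q hτ0
    · rw [herm_smul_right, hws, mul_one, pow_q_q hF]
      exact hτ

/-- (4) the closure is the whole trace-zero hyperplane -/
theorem step4 (hb : 3 ≤ b) (w' : Fin b → F) (h : hW w w' + (hW w w') ^ q = 0) :
    w' ∈ AddSubgroup.closure (GG q w) := by
  set α : F := hW w' ws with hα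
  set τ : F := hW w' w with hτ
  set d : Fin b → F := w' - α • w - τ • ws with hd
  have hdw : hW d w = 0 := by
    rw [hd, herm_sub_left', herm_sub_left', herm_smul_left, herm_smul_left, hww, hsw, ← hτ]; ring
  have hds : hW d ws = 0 := by
    rw [hd, herm_sub_left', herm_sub_left', herm_smul_left, herm_smul_left, hws, hss, ← hα]; ring
  have hττ : τ ^ q + τ = 0 := by
    have e : hW w w' = τ ^ q := by rw [hτ, herm_conj hF]
    rw [e, pow_q_q hF] at h
    exact h
  have h1 : α • w ∈ AddSubgroup.closure (GG q w) := step2 hF w ws hww hsw hws hss ε hε0 hε hb α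
  have h2 : τ • ws ∈ AddSubgroup.closure (GG q w) := step3 hF w ws hww hsw hws hss ε hε0 hε τ hττ
  have h3 : d ∈ AddSubgroup.closure (GG q w) := by
    by_cases hd0 : d = 0
    · rw [hd0]; exact (AddSubgroup.closure (GG q w)).zero_mem
    · have h4 := step1 hF w ws hww hsw hws hss ε hε0 hε d hdw hds hd0 0
      rwa [zero_smul, zero_add] at h4
  have e : w' = α • w + τ • ws + d := by rw [hd]; abel
  rw [e]
  exact (AddSubgroup.closure (GG q w)).add_mem ((AddSubgroup.closure (GG q w)).add_mem h1 h2) h3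

end

/-- **T4-RICH** the isotropic vectors `z` with `h(w,z)` nonzero of trace zero generate additively the
`F_q`-hyperplane `{w' | tr h(w,w') = 0}` (`w` isotropic, `b ≥ 3`) -/
theorem rich_iso (hF : Fintype.card F = q ^ 2) (hb : 3 ≤ b) (w : Fin b → F) (hw0 : w ≠ 0) (hw : hW w w = 0)
    (w' : Fin b → F) (h : hW w w' + (hW w w') ^ q = 0) :
    w' ∈ AddSubgroup.closure {z : Fin b → F | hW z z = 0 ∧ hW w z ≠ 0 ∧ hW w z + (hW w z) ^ q = 0} := by
  obtain ⟨ws, hsw, hws, hss⟩ := exists_herm_partner hF w hw0 hw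
  obtain ⟨ε, hε0, hε⟩ := exists_trace_zero hF
  exact step4 hF w ws hw hsw hws hss ε hε0 hε hb w' h

end Cfsg.Agent.Lib.Helper19.S5670T4RICH
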