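import Mathlib
import Cfsg.Prelude.Def_GeometricClasses
import Cfsg.Agent.Lib.Helper7.AschDefs
import Cfsg.Agent.Lib.Helper22.AschC7Defs
import Cfsg.Agent.Lib.Helper16.SpADefs

/-!
# S5662, block SpI7, piece C7-STD `sp_c7_std`  (helper19, for helper16)

`q` odd: the tensor-power Gram matrix `c • pt (fun _ => B)` with `B` skew and invertible gives class 7 (`InSp.tensorPower`)
with `f₁ := formOfGram id B`.
-/

set_option autoImplicit false
set_option linter.unusedSectionVars false
set_option linter.unusedVariables false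

namespace Cfsg.Agent.Lib.Helper19.S5662C7STD

open Matrix Cfsg.Geo Cfsg.Agent.Lib.Helper7.Asch Cfsg.Agent.Lib.Helper16.SpA Cfsg.Agent.Lib.Helper22.AschC7
open scoped Kronecker commutatorElement

section generic

variable {F : Type*} [Field F] {κ : Type} [Fintype κ] [DecidableEq κ]

theorem formOfGram_id_eq_dot (G : Matrix κ κ F) (x y : κ → F) : formOfGram id G x y = x ⬝ᵥ (G *ᵥ y) := by
  simp only [formOfGram, dotProduct, Matrix.mulVec, Finset.mul_sum, mul_assoc, id]

theorem isBilinearForm_formOfGram (G : Matrix κ κ F) : IsBilinearForm (formOfGram id G) := by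
  refine ⟨?_, ?_, ?_, ?_⟩
  · intro x y v
    simp only [formOfGram_id_eq_dot, add_dotProduct]
  · intro c x v
    simp only [formOfGram_id_eq_dot, smul_dotProduct, smul_eq_mul]
  · intro v x y
    simp only [formOfGram_id_eq_dot, Matrix.mulVec_add, dotProduct_add]
  · intro c v x
    simp only [formOfGram_id_eq_dot, Matrix.mulVec_smul, dotProduct_smul, smul_eq_mul]

theorem formOfGram_skew (G : Matrix κ κ F) (hskew : Gᵀ = -G) (x y : κ → F) :
    formOfGram id G x y = - formOfGram id G y x := by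
  rw [formOfGram_id_eq_dot, formOfGram_id_eq_dot, Matrix.dotProduct_mulVec, dotProduct_comm, ← Matrix.mulVec_transpose,
    hskew, Matrix.neg_mulVec, dotProduct_neg]

theorem gramMatrix_formOfGram_id (G : Matrix κ κ F) : gramMatrix (formOfGram id G) = G := by
  ext a b
  simp [gramMatrix, formOfGram_id_eq_dot]

theorem mulVec_ne_zero_of_isUnit_det (G : Matrix κ κ F) (hG : IsUnit G.det) {v : κ → F} (hv : v ≠ 0) : G *ᵥ v ≠ 0 := by
  intro h
  apply hv
  have h1 : G⁻¹ *ᵥ (G *ᵥ v) = v := by
    rw [Matrix.mulVec_mulVec, Matrix.nonsing_inv_mul G hG, Matrix.one_mulVec]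
  rw [← h1, h, Matrix.mulVec_zero]

theorem isSymplecticForm_formOfGram (h2 : (2 : F) ≠ 0) (G : Matrix κ κ F) (hG : IsUnit G.det) (hskew : Gᵀ = -G) :
    IsSymplecticForm (formOfGram id G) := by
  refine ⟨isBilinearForm_formOfGram G, formOfGram_skew G hskew, ?_, ?_⟩
  · intro v
    have h := formOfGram_skew G hskew v v
    have h' : (2 : F) * formOfGram id G v v = 0 := by
      rw [two_mul]
      nth_rewrite 1 [h]
      exact neg_add_cancel _
    rcases mul_eq_zero.mp h' with h0 | h0
    · exact absurd h0 h2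
    · exact h0
  · intro v hv
    have h1 := mulVec_ne_zero_of_isUnit_det G hG hv
    obtain ⟨a, ha⟩ : ∃ a, (G *ᵥ v) a ≠ 0 := by
      by_contra hcon
      push Not at hcon
      exact h1 (funext hcon)
    have h3 : formOfGram id G (Pi.single a 1) v ≠ 0 := by
      rw [formOfGram_id_eq_dot, single_one_dotProduct]
      exact ha
    refine ⟨⟨Pi.single a 1, h3⟩, ⟨Pi.single a 1, ?_⟩⟩
    rw [formOfGram_skew G hskew]
    exact neg_ne_zero.mpr h3

end generic

variable {F : Type*} [Field F] [Fintype F] {n : ℕ} {f : (Fin n → F) → (Fin n → F) → F}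

theorem two_ne_zero_of_odd_card (hq : Odd (Fintype.card F)) : (2 : F) ≠ 0 := by
  intro h2
  have hchar : ringChar F = 2 := CharP.ringChar_of_prime_eq_zero Nat.prime_two (by exact_mod_cast h2)
  have h3 := FiniteField.even_card_iff_char_two.mp hchar
  rw [Nat.odd_iff] at hq
  omega

/-- **C7-STD** (`TFP f e P G` of the skeleton is stated unfolded in `hT`) -/
theorem sp_c7_std (hf : IsSymplecticForm f) (hq : Odd (Fintype.card F)) (H : Subgroup (GL (Fin n) F)) {m t : ℕ}
    (e : Fin n ≃ (Fin t → Fin m)) (P : GL (Fin n) F) (B : Matrix (Fin m) (Fin m) F) (c : F) (hc : c ≠ 0)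
    (hB : IsUnit B.det) (hskew : Bᵀ = -B) (hto : Odd t) (h3 : 3 ≤ t) (hex : ¬ (Fintype.card F = 3 ∧ m = 2))
    (hT : ∀ x y : (Fin t → Fin m) → F,
      f ((P : Matrix (Fin n) (Fin n) F) *ᵥ (x ∘ e)) ((P : Matrix (Fin n) (Fin n) F) *ᵥ (y ∘ e)) =
        formOfGram id (c • pt (fun _ : Fin t => B)) x y)
    (hle : H ≤ tensorWreathSubgroup m t e P) : InSp f H := by
  refine InSp.tensorPower m t e P (formOfGram id B) hq hto h3 hex
    (isSymplecticForm_formOfGram (two_ne_zero_of_odd_card hq) B hB hskew) ?_ hle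
  refine ⟨c, hc, fun x y => ?_⟩
  rw [hT x y, gramMatrix_formOfGram_id]
  simp only [formOfGram, Matrix.smul_apply, pt_apply, smul_eq_mul, Finset.mul_sum]
  refine Finset.sum_congr rfl fun a _ => Finset.sum_congr rfl fun b _ => ?_
  ring

end Cfsg.Agent.Lib.Helper19.S5662C7STD
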