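import Mathlib
import Cfsg.Prelude.Def_GeometricClasses
import Cfsg.Agent.Lib.Helper7.AschDefs
import Cfsg.Agent.Lib.Helper14.S5630CoreAB
import Cfsg.Agent.Lib.Helper16.AschC6ADefs

/-!
# S5630 block I6, half A (helper16's sub-skeleton): pieces A1, A2, A3, A4, A5, A10 (helper19)

The class-two power map `x ↦ x ^ kk r` on `G = N ⊔ scalars`, the subgroup `Ω = {x ∈ G | x ^ kk r = 1}`, `G = Ω · scalars`, `r ∣ q - 1`.
-/

set_option autoImplicit false

namespace Cfsg.Agent.Lib.Helper19.S5630I6A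

open Matrix Cfsg.Geo Cfsg.Agent.Lib.Helper7.Asch Cfsg.Agent.Lib.Helper16.AschC6A
open scoped commutatorElement

section abstract

variable {G : Type*} [Group G]

/-- `y x = c x y` with `c` central: `y^m x = c^m x y^m` -/
theorem pow_mul_of_central (x y c : G) (hc : ∀ g : G, Commute g c) (h : y * x = c * x * y) (m : ℕ) :
    y ^ m * x = c ^ m * x * y ^ m := by
  induction m with
  | zero => simp
  | succ m ih =>
    have hcm : Commute y (c ^ m) := (hc y).pow_right m
    calc y ^ (m + 1) * x = y * (y ^ m * x) := by rw [pow_succ', mul_assoc]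
      _ = y * (c ^ m * x * y ^ m) := by rw [ih]
      _ = (y * c ^ m) * x * y ^ m := by simp only [mul_assoc]
      _ = (c ^ m * y) * x * y ^ m := by rw [hcm.eq]
      _ = c ^ m * (y * x) * y ^ m := by simp only [mul_assoc]
      _ = c ^ m * (c * x * y) * y ^ m := by rw [h]
      _ = c ^ (m + 1) * x * y ^ (m + 1) := by rw [pow_succ, pow_succ']; simp only [mul_assoc]

/-- `y x = c x y` with `c` central: `(x y)^m = x^m y^m c^(0 + 1 + ... + (m-1))` -/
theorem mul_pow_of_central (x y c : G) (hc : ∀ g : G, Commute g c) (h : y * x = c * x * y) (m : ℕ) :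
    (x * y) ^ m = x ^ m * y ^ m * c ^ (∑ i ∈ Finset.range m, i) := by
  induction m with
  | zero => simp
  | succ m ih =>
    have h1 := pow_mul_of_central x y c hc h m
    have hcm : ∀ g : G, Commute g (c ^ m) := fun g => (hc g).pow_right m
    set T := ∑ i ∈ Finset.range m, i with hT
    have hcT : ∀ g : G, Commute g (c ^ T) := fun g => (hc g).pow_right _
    have e1 : c ^ (∑ i ∈ Finset.range (m + 1), i) = c ^ T * c ^ m := by
      rw [Finset.sum_range_succ, pow_add]
    rw [e1]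
    calc (x * y) ^ (m + 1) = x ^ m * y ^ m * c ^ T * (x * y) := by rw [pow_succ, ih]
      _ = x ^ m * y ^ m * (c ^ T * (x * y)) := by simp only [mul_assoc]
      _ = x ^ m * y ^ m * ((x * y) * c ^ T) := by rw [(hcT (x * y)).eq]
      _ = x ^ m * (y ^ m * x) * y * c ^ T := by simp only [mul_assoc]
      _ = x ^ m * (c ^ m * x * y ^ m) * y * c ^ T := by rw [h1]
      _ = x ^ m * (c ^ m * (x * y ^ m * y)) * c ^ T := by simp only [mul_assoc]
      _ = x ^ m * ((x * y ^ m * y) * c ^ m) * c ^ T := by rw [(hcm (x * y ^ m * y)).eq]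
      _ = (x ^ m * x) * (y ^ m * y) * (c ^ m * c ^ T) := by simp only [mul_assoc]
      _ = x ^ (m + 1) * y ^ (m + 1) * (c ^ T * c ^ m) := by
          rw [← pow_succ, ← pow_succ, ((hcT (c ^ m)).eq)]

end abstract

section sg

variable {F : Type*} [Field F] {n : ℕ} {H N G R : Subgroup (GL (Fin n) F)} {r : ℕ}

/-- scalar matrices are central -/
theorem scal_comm (z : GL (Fin n) F) (hz : z ∈ scalars (Fin n) F) (g : GL (Fin n) F) : Commute g z := by
  obtain ⟨c, hc⟩ := (mem_scalars_iff z).1 hz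
  apply Units.ext
  rw [Units.val_mul, Units.val_mul, hc, Matrix.mul_smul, Matrix.smul_mul, mul_one, one_mul]

theorem kk_two : kk 2 = 4 := rfl

theorem kk_odd (hr : Odd r) : kk r = r := by
  unfold kk
  rw [show Nat.gcd 2 r = 1 from Nat.coprime_two_left.2 hr, mul_one]

theorem comm_rel (x y : GL (Fin n) F) : y * x = ⁅y, x⁆ * x * y := by
  rw [commutatorElement_def]; group

/-- the commutator of two elements of `G` has order dividing `r` -/
theorem comm_pow_eq_one (hG : SG H G r) (x y : GL (Fin n) F) (hx : x ∈ G) (hy : y ∈ G) : ⁅y, x⁆ ^ r = 1 := by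
  have hcS : ⁅y, x⁆ ∈ scalars (Fin n) F := hG.comm y hy x hx
  have h1 := pow_mul_of_central x y ⁅y, x⁆ (scal_comm _ hcS) (comm_rel x y) r
  have h2 : y ^ r * x = x * y ^ r := ((scal_comm _ (hG.pow y hy)) x).eq.symm
  rw [h2, mul_assoc] at h1
  exact mul_right_cancel (b := x * y ^ r) (by rw [one_mul]; exact h1.symm)

/-- **A1** `G` is not commutative -/
theorem sg_not_comm (hn : 2 ≤ n) (hG : SG H G r) : ∃ x ∈ G, ∃ y ∈ G, x * y ≠ y * x := by
  by_contra hcon
  push Not at hcon
  exact Cfsg.Agent.Lib.Helper14.S5630Core.not_absIrr_of_comm hn G hcon hG.absIrr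

/-- **A2** `x ↦ x ^ kk r` is multiplicative on `G` -/
theorem sg_mul_pow_kk (hG : SG H G r) (x y : GL (Fin n) F) (hx : x ∈ G) (hy : y ∈ G) :
    (x * y) ^ kk r = x ^ kk r * y ^ kk r := by
  have hcS : ⁅y, x⁆ ∈ scalars (Fin n) F := hG.comm y hy x hx
  have hcr : ⁅y, x⁆ ^ r = 1 := comm_pow_eq_one hG x y hx hy
  rw [mul_pow_of_central x y ⁅y, x⁆ (scal_comm _ hcS) (comm_rel x y)]
  suffices h : ⁅y, x⁆ ^ (∑ i ∈ Finset.range (kk r), i) = 1 by rw [h, mul_one]
  rcases hG.prime.eq_two_or_odd' with h2 | hodd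
  · have h3 : (∑ i ∈ Finset.range (kk r), i) = r * 3 := by
      rw [h2]; decide
    rw [h3, pow_mul, hcr, one_pow]
  · rw [kk_odd hodd]
    obtain ⟨j, hj⟩ := hodd
    have h3 : (∑ i ∈ Finset.range r, i) = r * j := by
      have h4 := Finset.sum_range_id_mul_two r
      have h5 : r - 1 = 2 * j := by omega
      rw [h5] at h4
      have h6 : (∑ i ∈ Finset.range r, i) * 2 = (r * j) * 2 := by rw [h4]; ring
      exact Nat.eq_of_mul_eq_mul_right (by norm_num) h6
    rw [h3, pow_mul, hcr, one_pow]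

/-- **A3** `Ω` exists -/
theorem sg_exists_omega (hG : SG H G r) : ∃ R : Subgroup (GL (Fin n) F), IsOmega G R r := by
  refine ⟨{ carrier := {x | x ∈ G ∧ x ^ kk r = 1}, one_mem' := ⟨G.one_mem, one_pow _⟩,
            mul_mem' := ?_, inv_mem' := ?_ }, fun x => Iff.rfl⟩
  · rintro a b ⟨ha, ha1⟩ ⟨hb, hb1⟩
    exact ⟨G.mul_mem ha hb, by rw [sg_mul_pow_kk hG a b ha hb, ha1, hb1, one_mul]⟩
  · rintro a ⟨ha, ha1⟩
    exact ⟨G.inv_mem ha, by rw [inv_pow, ha1, inv_one]⟩

/-- **A4** `Ω` is normalised by `H` -/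
theorem omega_norm (hG : SG H G r) (hR : IsOmega G R r) : NormBy H R := by
  intro h hh x hx
  obtain ⟨hxG, hx1⟩ := (hR x).1 hx
  refine (hR _).2 ⟨hG.norm h hh x hxG, ?_⟩
  rw [conj_pow, hx1, mul_one, mul_inv_cancel]

/-- **A10** `r ∣ q - 1` -/
theorem sg_dvd [Fintype F] (hn : 2 ≤ n) (hG : SG H G r) : r ∣ Fintype.card F - 1 := by
  classical
  obtain ⟨x, hx, y, hy, hxy⟩ := sg_not_comm hn hG
  have hcS : ⁅y, x⁆ ∈ scalars (Fin n) F := hG.comm y hy x hx
  have hcr : ⁅y, x⁆ ^ r = 1 := comm_pow_eq_one hG x y hx hy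
  have hc1 : ⁅y, x⁆ ≠ 1 := by
    intro h1
    apply hxy
    have := comm_rel x y
    rw [h1, one_mul] at this; exact this.symm
  obtain ⟨u, hu⟩ := hcS
  have : Nonempty (Fin n) := ⟨⟨0, by omega⟩⟩
  have hinj : Function.Injective
      (Units.map (Matrix.scalar (Fin n) : F →+* Matrix (Fin n) (Fin n) F).toMonoidHom) := by
    apply Units.map_injective
    intro a b hab
    exact Matrix.scalar_inj.1 hab
  have hur : u ^ r = 1 := hinj (by rw [map_pow, hu, hcr, map_one])
  have hu1 : u ≠ 1 := by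
    rintro rfl
    exact hc1 (by rw [← hu, map_one])
  have hord : orderOf u = r := by
    have := Fact.mk hG.prime
    exact orderOf_eq_prime hur hu1
  rw [← hord, ← Fintype.card_units]
  exact orderOf_dvd_card

/-- the group of scalar matrices over a finite field is cyclic -/
theorem isCyclic_scalars [Fintype F] : IsCyclic (scalars (Fin n) F) := by
  unfold scalars
  exact isCyclic_of_surjective _ (MonoidHom.rangeRestrict_surjective _)

/-- **A5** `G = Ω · scalars` -/
theorem le_sup [Fintype F] (hn : 2 ≤ n) (hG : SG H G r) (hR : IsOmega G R r) : G ≤ R ⊔ scalars (Fin n) F := by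
  have hRG : R ≤ G := fun x hx => ((hR x).1 hx).1
  have hKG : R ⊔ scalars (Fin n) F ≤ G := sup_le hRG hG.scal_le
  have hKn : NormBy H (R ⊔ scalars (Fin n) F) := by
    intro h hh x hx
    obtain ⟨a, ha, s, hs, rfl⟩ := Subgroup.mem_sup_of_normal_right.1 hx
    have e : h * (a * s) * h⁻¹ = (h * a * h⁻¹) * (h * s * h⁻¹) := by group
    rw [e]
    exact Subgroup.mul_mem_sup (omega_norm hG hR h hh a ha) (scalars_normal.conj_mem s hs h)
  rcases hG.minimal _ hKG hKn with h1 | h1
  · exfalso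
    have hRS : R ≤ scalars (Fin n) F := le_trans le_sup_left h1
    obtain ⟨x, hx, y, hy, hxy⟩ := sg_not_comm hn hG
    have : IsCyclic (scalars (Fin n) F) := isCyclic_scalars
    have hpowS : ∀ g ∈ G, g ^ kk r ∈ scalars (Fin n) F := fun g hg => by
      unfold kk; rw [pow_mul]; exact Subgroup.pow_mem _ (hG.pow g hg) _
    let f : G →* scalars (Fin n) F :=
      { toFun := fun g => ⟨(g : GL (Fin n) F) ^ kk r, hpowS g g.2⟩
        map_one' := Subtype.ext (one_pow _)
        map_mul' := fun a b => Subtype.ext (sg_mul_pow_kk hG a b a.2 b.2) }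
    have hker : f.ker ≤ Subgroup.center G := by
      intro g hg
      rw [MonoidHom.mem_ker] at hg
      have hg1 : (g : GL (Fin n) F) ^ kk r = 1 := congrArg Subtype.val hg
      have hgS : (g : GL (Fin n) F) ∈ scalars (Fin n) F := hRS ((hR _).2 ⟨g.2, hg1⟩)
      rw [Subgroup.mem_center_iff]
      intro a
      exact Subtype.ext (scal_comm _ hgS a).eq
    have h2 := commutative_of_cyclic_center_quotient f hker ⟨x, hx⟩ ⟨y, hy⟩
    exact hxy (congrArg Subtype.val h2)
  · rwa [sup_assoc, sup_idem] at h1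

end sg

end Cfsg.Agent.Lib.Helper19.S5630I6A
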