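import Mathlib
import Cfsg.Prelude.Def_GeometricClasses
import Cfsg.Agent.Lib.Helper7.AschDefs
import Cfsg.Agent.Lib.Helper12.AschG1
import Cfsg.Agent.Lib.Helper3.AschC6Defs
import Cfsg.Agent.Lib.Helper3.AschC6Basic

/-!
# S5630 block I6, half B (helper3's sub-skeleton): GEN-MAXAB, R-SPAN, R-IND (helper19)
-/

set_option autoImplicit false

namespace Cfsg.Agent.Lib.Helper19.S5630I6B

open Matrix Cfsg.Geo Cfsg.Agent.Lib.Helper7.Asch Cfsg.Agent.Lib.Helper3.AschC6
open scoped commutatorElement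

/-- **GEN-MAXAB** a finite group has a self-centralising abelian subgroup inside any subgroup `R` -/
theorem exists_maxAbelian {G : Type*} [Group G] [Finite G] (R : Subgroup G) :
    ∃ A : Subgroup G, A ≤ R ∧ (∀ x ∈ A, ∀ y ∈ A, x * y = y * x) ∧
      ∀ t ∈ R, (∀ a ∈ A, t * a = a * t) → t ∈ A := by
  have h0 : (⊥ : Subgroup G) ≤ R ∧ ∀ x ∈ (⊥ : Subgroup G), ∀ y ∈ (⊥ : Subgroup G), x * y = y * x := by
    refine ⟨bot_le, ?_⟩
    intro x hx y hy
    rw [Subgroup.mem_bot] at hx hy
    rw [hx, hy]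
  obtain ⟨A, -, hA⟩ := Finite.exists_le_maximal
    (p := fun A : Subgroup G => A ≤ R ∧ ∀ x ∈ A, ∀ y ∈ A, x * y = y * x) h0
  refine ⟨A, hA.prop.1, hA.prop.2, ?_⟩
  intro t ht hta
  set S : Set G := (A : Set G) ∪ {t} with hS
  have hSS : ∀ s ∈ S, ∀ s' ∈ S, s * s' = s' * s := by
    rintro s (hs | hs) s' (hs' | hs')
    · exact hA.prop.2 s hs s' hs'
    · rw [Set.mem_singleton_iff] at hs'
      rw [hs']; exact (hta s hs).symm
    · rw [Set.mem_singleton_iff] at hs
      rw [hs]; exact hta s' hs'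
    · rw [Set.mem_singleton_iff] at hs hs'
      rw [hs, hs']
  have h1 : ∀ s ∈ S, Subgroup.closure S ≤ Subgroup.centralizer {s} := by
    intro s hs
    rw [Subgroup.closure_le]
    intro s' hs'
    rw [SetLike.mem_coe, Subgroup.mem_centralizer_iff]
    intro m hm
    rw [Set.mem_singleton_iff] at hm
    rw [hm]; exact hSS s hs s' hs'
  have h2 : ∀ y ∈ Subgroup.closure S, Subgroup.closure S ≤ Subgroup.centralizer {y} := by
    intro y hy
    rw [Subgroup.closure_le]
    intro s hs
    rw [SetLike.mem_coe, Subgroup.mem_centralizer_iff]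
    intro m hm
    rw [Set.mem_singleton_iff] at hm
    rw [hm]
    have := h1 s hs hy
    rw [Subgroup.mem_centralizer_iff] at this
    exact (this s rfl).symm
  have hP : Subgroup.closure S ≤ R ∧ ∀ x ∈ Subgroup.closure S, ∀ y ∈ Subgroup.closure S, x * y = y * x := by
    refine ⟨?_, ?_⟩
    · rw [Subgroup.closure_le]
      rintro s (hs | hs)
      · exact hA.prop.1 hs
      · rw [Set.mem_singleton_iff] at hs
        rw [hs]; exact ht
    · intro x hx y hy
      have := h2 x hx hy
      rw [Subgroup.mem_centralizer_iff] at this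
      exact this x rfl
  have hle : A ≤ Subgroup.closure S := fun a ha => Subgroup.subset_closure (Or.inl ha)
  exact hA.le_of_ge hP hle (Subgroup.subset_closure (Or.inr rfl))

variable {F : Type*} [Field F] {n : ℕ}

variable [Fintype F] {H R : Subgroup (GL (Fin n) F)} {r : ℕ}

/-- **R-SPAN** representatives of `R` modulo its centre span the matrix algebra (Burnside) -/
theorem span_rep (hR : SympCore H R r) : Submodule.span F (Set.range (rep R)) = ⊤ := by
  rw [eq_top_iff, ← Cfsg.Agent.Lib.Helper12.AschG1.span_matrixSet_eq_top R hR.absIrr, Submodule.span_le]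
  rintro M ⟨g, hg, rfl⟩
  obtain ⟨z, hz⟩ := QuotientGroup.mk_out_eq_mul (Subgroup.center R) (⟨g, hg⟩ : R)
  have hzS : ((z⁻¹ : Subgroup.center R) : R).1 ∈ scalars (Fin n) F :=
    (mem_center_iff hR _).1 (z⁻¹).2
  obtain ⟨c, hc⟩ := (mem_scalars_iff _).1 hzS
  have e1 : (⟨g, hg⟩ : R) = (QuotientGroup.mk (s := Subgroup.center R) (⟨g, hg⟩ : R)).out *
      ((z⁻¹ : Subgroup.center R) : R) := by
    rw [hz]; simp
  have e2 : g = ((QuotientGroup.mk (s := Subgroup.center R) (⟨g, hg⟩ : R)).out : R).1 *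
      ((z⁻¹ : Subgroup.center R) : R).1 := congrArg Subtype.val e1
  have e3 : (g : Matrix (Fin n) (Fin n) F) =
      (c : F) • rep R (QuotientGroup.mk (s := Subgroup.center R) (⟨g, hg⟩ : R)) := by
    conv_lhs => rw [e2]
    rw [Units.val_mul, hc, Matrix.mul_smul, mul_one]
    rfl
  change (g : Matrix (Fin n) (Fin n) F) ∈ _
  rw [e3]
  exact Submodule.smul_mem _ _ (Submodule.subset_span ⟨_, rfl⟩)

/-- a scalar matrix is its `(i, i)` entry times `1` -/
theorem scalar_eq_entry (z : GL (Fin n) F) (hz : z ∈ scalars (Fin n) F) (i : Fin n) :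
    (z : Matrix (Fin n) (Fin n) F) = ((z : Matrix (Fin n) (Fin n) F) i i) • (1 : Matrix (Fin n) (Fin n) F) := by
  obtain ⟨c, hc⟩ := (mem_scalars_iff z).1 hz
  rw [hc]
  simp

/-- conjugation by `y` as an endomorphism of the matrix algebra -/
def conjEnd (y : GL (Fin n) F) : Module.End F (Matrix (Fin n) (Fin n) F) :=
  (LinearMap.mulLeft F (y : Matrix (Fin n) (Fin n) F)).comp
    (LinearMap.mulRight F ((y⁻¹ : GL (Fin n) F) : Matrix (Fin n) (Fin n) F))

theorem conjEnd_apply (y : GL (Fin n) F) (X : Matrix (Fin n) (Fin n) F) :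
    conjEnd y X = (y : Matrix (Fin n) (Fin n) F) * (X * ((y⁻¹ : GL (Fin n) F) : Matrix (Fin n) (Fin n) F)) := rfl

/-- **R-IND** representatives of `R` modulo its centre are linearly independent -/
theorem linearIndependent_rep (hn : 2 ≤ n) (hR : SympCore H R r) : LinearIndependent F (rep R) := by
  have i0 : Fin n := ⟨0, by omega⟩
  have hnz : ∀ g : GL (Fin n) F, (g : Matrix (Fin n) (Fin n) F) ≠ 0 := by
    intro g h0
    have h1 : (1 : Matrix (Fin n) (Fin n) F) = 0 := by
      rw [← Units.mul_inv g, h0, zero_mul]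
    have := congrFun (congrFun h1 i0) i0
    simp at this
  refine linearIndependent_of_separating (K := F) (κ := R)
    (fun y : R => conjEnd (y : GL (Fin n) F)) (rep R)
    (fun (y : R) (q : R ⧸ Subgroup.center R) =>
      ((⁅(y : GL (Fin n) F), ((q.out : R) : GL (Fin n) F)⁆ : GL (Fin n) F) : Matrix (Fin n) (Fin n) F) i0 i0)
    (fun q => hnz _) ?_ ?_
  · intro y q
    have hS : ⁅(y : GL (Fin n) F), ((q.out : R) : GL (Fin n) F)⁆ ∈ scalars (Fin n) F :=
      hR.comm _ y.2 _ (q.out).2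
    have e1 := scalar_eq_entry _ hS i0
    have e2 : (y : GL (Fin n) F) * ((q.out : R) : GL (Fin n) F) * (y : GL (Fin n) F)⁻¹ =
        ⁅(y : GL (Fin n) F), ((q.out : R) : GL (Fin n) F)⁆ * ((q.out : R) : GL (Fin n) F) := by
      rw [commutatorElement_def]; group
    have e3 := congrArg (fun g : GL (Fin n) F => (g : Matrix (Fin n) (Fin n) F)) e2
    simp only [Units.val_mul] at e3
    rw [conjEnd_apply, ← mul_assoc]
    unfold rep
    rw [e3]
    conv_lhs => rw [e1]
    rw [Matrix.smul_mul, one_mul]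
  · intro q q' hqq'
    by_contra hcon
    push Not at hcon
    set t : R := q.out with ht
    set t' : R := q'.out with ht'
    have hw : t⁻¹ * t' ∉ Subgroup.center R := by
      intro hmem
      apply hqq'
      have := (QuotientGroup.eq (s := Subgroup.center R) (a := t) (b := t')).2 hmem
      rw [ht, ht', QuotientGroup.out_eq', QuotientGroup.out_eq'] at this
      exact this
    rw [Subgroup.mem_center_iff] at hw
    push Not at hw
    obtain ⟨y, hy⟩ := hw
    have hSt : ⁅(y : GL (Fin n) F), (t : GL (Fin n) F)⁆ ∈ scalars (Fin n) F := hR.comm _ y.2 _ t.2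
    have hSt' : ⁅(y : GL (Fin n) F), (t' : GL (Fin n) F)⁆ ∈ scalars (Fin n) F := hR.comm _ y.2 _ t'.2
    have hSw : ⁅(y : GL (Fin n) F), ((t⁻¹ * t' : R) : GL (Fin n) F)⁆ ∈ scalars (Fin n) F :=
      hR.comm _ y.2 _ (t⁻¹ * t').2
    have heq : ⁅(y : GL (Fin n) F), (t : GL (Fin n) F)⁆ = ⁅(y : GL (Fin n) F), (t' : GL (Fin n) F)⁆ := by
      apply Units.ext
      rw [scalar_eq_entry _ hSt i0, scalar_eq_entry _ hSt' i0]
      congr 1
      exact hcon y
    have e4 : ⁅(y : GL (Fin n) F), (t' : GL (Fin n) F)⁆ =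
        ⁅(y : GL (Fin n) F), (t : GL (Fin n) F)⁆ *
          ((t : GL (Fin n) F) * ⁅(y : GL (Fin n) F), ((t⁻¹ * t' : R) : GL (Fin n) F)⁆ * (t : GL (Fin n) F)⁻¹) := by
      simp only [commutatorElement_def, Subgroup.coe_mul, Subgroup.coe_inv]; group
    rw [scalar_comm _ (t : GL (Fin n) F) hSw, mul_inv_cancel_right, ← heq] at e4
    have e5 : ⁅(y : GL (Fin n) F), ((t⁻¹ * t' : R) : GL (Fin n) F)⁆ = 1 := by
      have := e4.symm
      exact mul_eq_left.mp this
    rw [commutatorElement_eq_one_iff_mul_comm] at e5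
    apply hy
    apply Subtype.ext
    rw [Subgroup.coe_mul, Subgroup.coe_mul]
    exact e5

end Cfsg.Agent.Lib.Helper19.S5630I6B
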