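import Mathlib
import Cfsg.Prelude.Def_GeometricClasses
import Cfsg.Agent.Lib.Helper7.AschDefs
import Cfsg.Agent.Lib.Helper22.AschC7Defs
import Cfsg.Agent.Lib.Helper22.S5630I7A
import Cfsg.Agent.Lib.Helper16.SpADefs
import Cfsg.Agent.Lib.Helper16.GeoTRDefs
import Cfsg.Agent.Lib.Helper10.S5707L4b
import Cfsg.Agent.Lib.Helper19.S5662C7STD

/-!
# S5662, block SpI7, piece C7-EV `sp_c7_even`  (helper19, for helper16)

`q` even: the tensor-power Gram matrix `c • pt (fun _ => B)` with `B` symmetric of zero diagonal; the quadratic form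
`Q v := c · x ⬝ᵥ (pt (B with the strictly upper triangular part `U` in position 0)) *ᵥ x`, `v = P (x ∘ e)`, has polar form `f`,
vanishes on pure tensors, and is invariant under `H` (the tensor-wreath group maps pure tensors to pure tensors): class 8.
-/

set_option autoImplicit false
set_option linter.unusedSectionVars false
set_option linter.unusedVariables false

namespace Cfsg.Agent.Lib.Helper19.S5662C7EV

open Matrix Cfsg.Geo Cfsg.Agent.Lib.Helper7.Asch Cfsg.Agent.Lib.Helper16.SpA Cfsg.Agent.Lib.Helper22.AschC7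
open Cfsg.Agent.Lib.Helper19.S5662C7STD
open scoped Kronecker commutatorElement

section generic

variable {F : Type*} [Field F] {κ : Type} [Fintype κ] [DecidableEq κ]

/-- the quadratic function `x ↦ x ⬝ᵥ T *ᵥ x` -/
def qT (T : Matrix κ κ F) (x : κ → F) : F := x ⬝ᵥ (T *ᵥ x)

theorem dot_mulVec_comm (T : Matrix κ κ F) (x y : κ → F) : y ⬝ᵥ (T *ᵥ x) = x ⬝ᵥ (Tᵀ *ᵥ y) := by
  rw [Matrix.mulVec_transpose, dotProduct_comm x, ← Matrix.dotProduct_mulVec]

theorem qT_add (T : Matrix κ κ F) (x y : κ → F) :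
    qT T (x + y) = qT T x + qT T y + x ⬝ᵥ ((T + Tᵀ) *ᵥ y) := by
  unfold qT
  rw [Matrix.mulVec_add, add_dotProduct, dotProduct_add, dotProduct_add, Matrix.add_mulVec, dotProduct_add,
    dot_mulVec_comm T x y]
  ring

theorem qT_smul (T : Matrix κ κ F) (a : F) (x : κ → F) : qT T (a • x) = a ^ 2 * qT T x := by
  unfold qT
  rw [Matrix.mulVec_smul, smul_dotProduct, dotProduct_smul, smul_eq_mul, smul_eq_mul]
  ring

theorem qT_zero (T : Matrix κ κ F) : qT T 0 = 0 := by
  unfold qT
  rw [zero_dotProduct]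

end generic

section upper

variable {F : Type*} [Field F] {m : ℕ}

/-- the strictly upper triangular part -/
def upper (B : Matrix (Fin m) (Fin m) F) : Matrix (Fin m) (Fin m) F := fun a b => if a < b then B a b else 0

theorem upper_add_transpose (B : Matrix (Fin m) (Fin m) F) (hsym : Bᵀ = B) (hdiag : ∀ a, B a a = 0) :
    upper B + (upper B)ᵀ = B := by
  ext a b
  rw [Matrix.add_apply, Matrix.transpose_apply]
  unfold upper
  rcases lt_trichotomy a b with h | h | h
  · rw [if_pos h, if_neg (not_lt.mpr h.le), add_zero]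
  · subst h
    rw [if_neg (lt_irrefl a), add_zero, hdiag]
  · rw [if_neg (not_lt.mpr h.le), if_pos h, zero_add]
    have := congrFun (congrFun hsym a) b
    rw [Matrix.transpose_apply] at this
    exact this

theorem qT_eq_zero_of_sym_diag (h2 : (2 : F) = 0) (B : Matrix (Fin m) (Fin m) F) (hsym : Bᵀ = B)
    (hdiag : ∀ a, B a a = 0) (u : Fin m → F) : qT B u = 0 := by
  have h1 : qT B u = qT (upper B) u + qT (upper B)ᵀ u := by
    unfold qT
    rw [← dotProduct_add, ← Matrix.add_mulVec, upper_add_transpose B hsym hdiag]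
  have h3 : qT (upper B)ᵀ u = qT (upper B) u := by
    unfold qT
    rw [← dot_mulVec_comm]
  rw [h1, h3, ← two_mul, h2, zero_mul]

end upper

section pure

variable {F : Type*} [Field F] {m t : ℕ}

open Cfsg.Agent.Lib.Helper25.Spin

theorem pt_eq_pureMat (as : Fin t → Matrix (Fin m) (Fin m) F) : pt as = pureMat as := rfl

theorem pureVec_dot (vs ws : Fin t → Fin m → F) : pureVec vs ⬝ᵥ pureVec ws = ∏ s, vs s ⬝ᵥ ws s := by
  simp only [dotProduct, Cfsg.Agent.Lib.Helper10.S5707L1a.pureVec_apply]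
  rw [Finset.prod_univ_sum, Fintype.piFinset_univ]
  refine Finset.sum_congr rfl fun x _ => ?_
  rw [Finset.prod_mul_distrib]

/-- the product formula on pure tensors -/
theorem qT_pt_pureVec (as : Fin t → Matrix (Fin m) (Fin m) F) (vs : Fin t → Fin m → F) :
    qT (pt as) (pureVec vs) = ∏ s, qT (as s) (vs s) := by
  unfold qT
  rw [pt_eq_pureMat, Cfsg.Agent.Lib.Helper10.S5707L1a.pureMat_mulVec, pureVec_dot]

end pure

variable {F : Type*} [Field F] [Fintype F] {n : ℕ} {f : (Fin n → F) → (Fin n → F) → F}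

theorem two_eq_zero_of_not_odd_card (hq : ¬ Odd (Fintype.card F)) : (2 : F) = 0 := by
  have h : Fintype.card F % 2 = 0 := by
    rw [Nat.odd_iff] at hq
    omega
  have hchar := FiniteField.even_card_iff_char_two.mpr h
  have h3 := ringChar.Nat.cast_ringChar (R := F)
  rw [hchar] at h3
  exact_mod_cast h3

section coords

variable {m t : ℕ}

/-- the tensor coordinates of `v`: `v = P (co v ∘ e)` -/
def co (e : Fin n ≃ (Fin t → Fin m)) (P : GL (Fin n) F) (v : Fin n → F) : (Fin t → Fin m) → F :=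
  (((P⁻¹ : GL (Fin n) F) : Matrix (Fin n) (Fin n) F) *ᵥ v) ∘ e.symm

theorem co_add (e : Fin n ≃ (Fin t → Fin m)) (P : GL (Fin n) F) (u v : Fin n → F) :
    co e P (u + v) = co e P u + co e P v := by
  unfold co
  rw [Matrix.mulVec_add]
  rfl

theorem co_smul (e : Fin n ≃ (Fin t → Fin m)) (P : GL (Fin n) F) (a : F) (v : Fin n → F) :
    co e P (a • v) = a • co e P v := by
  unfold co
  rw [Matrix.mulVec_smul]
  rfl

theorem P_co (e : Fin n ≃ (Fin t → Fin m)) (P : GL (Fin n) F) (v : Fin n → F) :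
    (P : Matrix (Fin n) (Fin n) F) *ᵥ ((co e P v) ∘ e) = v := by
  unfold co
  have h1 : ((((P⁻¹ : GL (Fin n) F) : Matrix (Fin n) (Fin n) F) *ᵥ v) ∘ e.symm) ∘ e =
      ((P⁻¹ : GL (Fin n) F) : Matrix (Fin n) (Fin n) F) *ᵥ v := by
    funext i
    simp
  rw [h1, Matrix.mulVec_mulVec, ← Units.val_mul, mul_inv_cancel, Units.val_one, Matrix.one_mulVec]

theorem co_P (e : Fin n ≃ (Fin t → Fin m)) (P : GL (Fin n) F) (x : (Fin t → Fin m) → F) :
    co e P ((P : Matrix (Fin n) (Fin n) F) *ᵥ (x ∘ e)) = x := by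
  unfold co
  rw [Matrix.mulVec_mulVec, ← Units.val_mul, inv_mul_cancel, Units.val_one, Matrix.one_mulVec]
  funext a
  simp

/-- the quadratic form in tensor coordinates -/
def QQ (e : Fin n ≃ (Fin t → Fin m)) (P : GL (Fin n) F) (c : F) (T : Matrix (Fin t → Fin m) (Fin t → Fin m) F)
    (v : Fin n → F) : F := c * qT T (co e P v)

theorem QQ_smul (e : Fin n ≃ (Fin t → Fin m)) (P : GL (Fin n) F) (c : F) (T : Matrix (Fin t → Fin m) (Fin t → Fin m) F)
    (a : F) (v : Fin n → F) : QQ e P c T (a • v) = a ^ 2 * QQ e P c T v := by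
  unfold QQ
  rw [co_smul, qT_smul]
  ring

theorem QQ_add (e : Fin n ≃ (Fin t → Fin m)) (P : GL (Fin n) F) (c : F) (T : Matrix (Fin t → Fin m) (Fin t → Fin m) F)
    (u v : Fin n → F) :
    QQ e P c T (u + v) = QQ e P c T u + QQ e P c T v + c * (co e P u ⬝ᵥ ((T + Tᵀ) *ᵥ co e P v)) := by
  unfold QQ
  rw [co_add, qT_add]
  ring

/-- the action of an element of the tensor-wreath subgroup in tensor coordinates -/
theorem wreath_mulVec (e : Fin n ≃ (Fin t → Fin m)) (P : GL (Fin n) F) (g : GL (Fin t → Fin m) F)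
    (x : (Fin t → Fin m) → F) :
    (((MulAut.conj P).toMonoidHom ((glReindex (F := F) e.symm).toMonoidHom g) : GL (Fin n) F) : Matrix (Fin n) (Fin n) F) *ᵥ
      ((P : Matrix (Fin n) (Fin n) F) *ᵥ (x ∘ e)) =
      (P : Matrix (Fin n) (Fin n) F) *ᵥ (((g : Matrix (Fin t → Fin m) (Fin t → Fin m) F) *ᵥ x) ∘ e) := by
  have h1 : (((MulAut.conj P).toMonoidHom ((glReindex (F := F) e.symm).toMonoidHom g) : GL (Fin n) F) :
      Matrix (Fin n) (Fin n) F) = (P : Matrix (Fin n) (Fin n) F) *
        ((glReindex e.symm g : GL (Fin n) F) : Matrix (Fin n) (Fin n) F) *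
        ((P⁻¹ : GL (Fin n) F) : Matrix (Fin n) (Fin n) F) := by
    simp only [MulEquiv.toMonoidHom_eq_coe, MonoidHom.coe_coe, MulAut.conj_apply, Units.val_mul]
  rw [h1, Matrix.mulVec_mulVec, mul_assoc, mul_assoc, ← Units.val_mul, inv_mul_cancel, Units.val_one, mul_one,
    ← Matrix.mulVec_mulVec, Cfsg.Agent.Lib.Helper16.GeoTR.glReindex_mulVec]
  have hx : (x ∘ e) ∘ e.symm.symm.symm = x := by
    funext a
    simp
  have hx' : (x ∘ e) ∘ e.symm = x := hx
  rw [hx']
  congr 1

end coords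

/-- **C7-EV** (`TFP f e P G` of the skeleton is stated unfolded in `hT`) -/
theorem sp_c7_even (hf : IsSymplecticForm f) (hq : ¬ Odd (Fintype.card F)) (H : Subgroup (GL (Fin n) F))
    (hHI : H ≤ Iso f) {m t : ℕ} (ht : 2 ≤ t) (e : Fin n ≃ (Fin t → Fin m)) (P : GL (Fin n) F)
    (B : Matrix (Fin m) (Fin m) F) (c : F) (hc : c ≠ 0) (hsym : Bᵀ = B) (hdiag : ∀ a, B a a = 0)
    (hT : ∀ x y : (Fin t → Fin m) → F,
      f ((P : Matrix (Fin n) (Fin n) F) *ᵥ (x ∘ e)) ((P : Matrix (Fin n) (Fin n) F) *ᵥ (y ∘ e)) =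
        formOfGram id (c • pt (fun _ : Fin t => B)) x y)
    (hle : H ≤ tensorWreathSubgroup m t e P) : InSp f H := by
  have h2 : (2 : F) = 0 := two_eq_zero_of_not_odd_card hq
  -- the two positions
  set i₀ : Fin t := ⟨0, by omega⟩ with hi₀
  set i₁ : Fin t := ⟨1, by omega⟩ with hi₁
  have h01 : i₁ ≠ i₀ := by
    intro h
    have := congrArg Fin.val h
    simp [hi₀, hi₁] at this
  -- the matrix `T`
  set As : Fin t → Matrix (Fin m) (Fin m) F := Function.update (fun _ => B) i₀ (upper B) with hAs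
  set T : Matrix (Fin t → Fin m) (Fin t → Fin m) F := pt As with hTdef
  have hTT : T + Tᵀ = pt (fun _ : Fin t => B) := by
    have h1 : Tᵀ = pt (Function.update (fun _ => B) i₀ (upper B)ᵀ) := by
      rw [hTdef, Cfsg.Agent.Lib.Helper22.S5630I7A.pt_transpose]
      congr 1
      funext i
      rw [hAs]
      by_cases hi : i = i₀
      · subst hi
        rw [Function.update_self, Function.update_self]
      · rw [Function.update_of_ne hi, Function.update_of_ne hi, hsym]
    rw [h1, hTdef, hAs, ← Cfsg.Agent.Lib.Helper22.S5630I7A.pt_update_add, upper_add_transpose B hsym hdiag,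
      Function.update_eq_self_iff.mpr rfl]
  -- the quadratic form
  set Q : (Fin n → F) → F := QQ e P c T with hQdef
  have hpolar : ∀ u v, QuadraticMap.polar Q u v = f u v := by
    intro u v
    unfold QuadraticMap.polar
    rw [hQdef, QQ_add, hTT]
    have h3 := hT (co e P u) (co e P v)
    rw [P_co, P_co, formOfGram_id_eq_dot, Matrix.smul_mulVec, dotProduct_smul, smul_eq_mul] at h3
    rw [h3]
    ring
  have hpolar' : QuadraticMap.polar Q = f := by
    funext u v
    exact hpolar u v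
  have hQ : IsNondegenerateQuadraticForm Q := by
    refine ⟨fun a v => QQ_smul e P c T a v, ?_, ?_⟩
    · rw [hpolar']
      exact hf.bilinear
    · rw [hpolar']
      exact hf.nondegenerate
  have hQadd : ∀ u v, Q (u + v) = Q u + Q v + f u v := by
    intro u v
    rw [← hpolar u v]
    unfold QuadraticMap.polar
    ring
  -- `Q` vanishes on pure tensors
  have hQpure : ∀ vs : Fin t → Fin m → F,
      Q ((P : Matrix (Fin n) (Fin n) F) *ᵥ (Cfsg.Agent.Lib.Helper25.Spin.pureVec vs ∘ e)) = 0 := by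
    intro vs
    rw [hQdef]
    unfold QQ
    rw [co_P, hTdef, qT_pt_pureVec]
    have h3 : qT (As i₁) (vs i₁) = 0 := by
      rw [hAs, Function.update_of_ne h01]
      exact qT_eq_zero_of_sym_diag h2 B hsym hdiag (vs i₁)
    rw [Finset.prod_eq_zero (Finset.mem_univ i₁) h3, mul_zero]
  -- invariance
  have hinv : ∀ h ∈ H, ∀ v, Q ((h : Matrix (Fin n) (Fin n) F) *ᵥ v) = Q v := by
    intro h hh
    obtain ⟨_, ⟨g, hg, rfl⟩, rfl⟩ := hle hh
    set hm := (MulAut.conj P).toMonoidHom ((glReindex (F := F) e.symm).toMonoidHom g) with hhm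
    have hiso := hHI hh
    rw [mem_Iso] at hiso
    let K : Submodule F (Fin n → F) :=
      { carrier := {v | Q ((hm : Matrix (Fin n) (Fin n) F) *ᵥ v) = Q v}
        add_mem' := by
          intro u v hu hv
          change Q ((hm : Matrix (Fin n) (Fin n) F) *ᵥ (u + v)) = Q (u + v)
          have hu' : Q ((hm : Matrix (Fin n) (Fin n) F) *ᵥ u) = Q u := hu
          have hv' : Q ((hm : Matrix (Fin n) (Fin n) F) *ᵥ v) = Q v := hv
          rw [Matrix.mulVec_add, hQadd, hQadd, hu', hv', hiso u v]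
        zero_mem' := by
          change Q ((hm : Matrix (Fin n) (Fin n) F) *ᵥ 0) = Q 0
          rw [Matrix.mulVec_zero]
        smul_mem' := by
          intro a v hv
          change Q ((hm : Matrix (Fin n) (Fin n) F) *ᵥ (a • v)) = Q (a • v)
          have hv' : Q ((hm : Matrix (Fin n) (Fin n) F) *ᵥ v) = Q v := hv
          rw [Matrix.mulVec_smul, hQ.smul, hQ.smul, hv'] }
    have hbasis : ∀ a : Fin t → Fin m, (P : Matrix (Fin n) (Fin n) F) *ᵥ ((Pi.single a (1 : F)) ∘ e) ∈ K := by
      intro a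
      change Q ((hm : Matrix (Fin n) (Fin n) F) *ᵥ ((P : Matrix (Fin n) (Fin n) F) *ᵥ ((Pi.single a (1 : F)) ∘ e))) =
        Q ((P : Matrix (Fin n) (Fin n) F) *ᵥ ((Pi.single a (1 : F)) ∘ e))
      rw [← Cfsg.Agent.Lib.Helper10.S5707L1a.pureVec_single a, hhm, wreath_mulVec]
      obtain ⟨vs', hvs'⟩ := Cfsg.Agent.Lib.Helper10.S5707L4b.wreath_mulVec_pure m t g hg
        (fun s => (Pi.single (a s) (1 : F) : Fin m → F))
      rw [hvs', hQpure, hQpure]
    intro v
    have hv : v ∈ K := by
      have h3 : v = ∑ a : Fin t → Fin m, (co e P v a) • ((P : Matrix (Fin n) (Fin n) F) *ᵥ ((Pi.single a (1 : F)) ∘ e)) := by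
        have h4 : co e P v = ∑ a : Fin t → Fin m, (co e P v a) • (Pi.single a (1 : F) : (Fin t → Fin m) → F) := by
          funext b
          rw [Finset.sum_apply]
          simp [Pi.single_apply]
        have h5 : (co e P v) ∘ e = ∑ a : Fin t → Fin m, (co e P v a) • ((Pi.single a (1 : F) : (Fin t → Fin m) → F) ∘ e) := by
          nth_rewrite 1 [h4]
          funext i
          simp only [Function.comp_apply, Finset.sum_apply, Pi.smul_apply]
        conv_lhs => rw [← P_co e P v, h5]
        rw [Matrix.mulVec_sum]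
        refine Finset.sum_congr rfl fun a _ => ?_
        rw [Matrix.mulVec_smul]
      rw [h3]
      exact Submodule.sum_mem K fun a _ => Submodule.smul_mem K _ (hbasis a)
    exact hv
  refine InSp.quadratic Q hq hQ hpolar ?_
  intro h hh
  refine ⟨1, fun v => ?_⟩
  rw [Units.val_one, one_mul]
  exact hinv h hh v

end Cfsg.Agent.Lib.Helper19.S5662C7EV
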