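import Cfsg.Agent.Lib.Helper19.ONMM3Glue
import Cfsg.Agent.Lib.Helper18.ONM.Defs

set_option autoImplicit false
set_option maxRecDepth 100000
set_option linter.unusedVariables false

/-! S2052-[MODEL] (architect helper18): the covering group `PO` of the O'Nan group acts on 368280 points
(three over each coset of `⟨a, …, f⟩ = L₃(7):2`); the three words `R5`, `R6`, `R7`, which are only central in
`PO`, all act as the fixed-point-free central shift of the fibres, of order 3. -/

namespace Cfsg.Agent.Lib.Helper18.ONM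

open Cfsg Cfsg.Agent.Helper4.TC Cfsg.Agent.Lib.Helper19.CentModel

namespace Helper19M

theorem cov : coveredBy Cfsg.Agent.Lib.Helper19.ONMM3.basesM exactO = true := by
  decide +kernel

theorem rho_eq : Cfsg.Agent.Lib.Helper19.ONMM3.rhoW = R5 := by decide +kernel

theorem mem6 : R6 ++ invW R5 ∈ Cfsg.Agent.Lib.Helper19.ONMM3.basesM := by decide +kernel

theorem mem7 : R7 ++ invW R5 ∈ Cfsg.Agent.Lib.Helper19.ONMM3.basesM := by decide +kernel

end Helper19M

/-- the model: a homomorphism of `PO` in which `R5` has order exactly 3 -/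
theorem exists_hom_odd : ∃ (Δ : Type) (_ : Group Δ) (φ : PO →* Δ),
    φ (evc (PresentedGroup.of (rels := RO)) dec R5) ≠ 1 ∧
      φ (evc (PresentedGroup.of (rels := RO)) dec R5) ^ 3 = 1 := by
  have hcod : Coding dec enc Cfsg.Agent.Lib.Helper19.ONMM3.mdata.nc := ONCod.coding
  have hm := Cfsg.Agent.Lib.Helper19.ONMM3.model_ok
  have hone : ∀ b ∈ exactO, evc (permG hm hcod) dec b = 1 :=
    evc_eq_one_of_covered hcod hm _ Helper19M.cov
  have h6 : evc (permG hm hcod) dec R6 = evc (permG hm hcod) dec R5 :=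
    evc_eq_of_mem_invW hcod hm R6 R5 Helper19M.mem6
  have h7 : evc (permG hm hcod) dec R7 = evc (permG hm hcod) dec R5 :=
    evc_eq_of_mem_invW hcod hm R7 R5 Helper19M.mem7
  obtain ⟨Δ, hΔ, φ, h1, h2, h3⟩ := exists_hom_central2 hcod hm z3
    Cfsg.Agent.Lib.Helper19.ONMM3.rhoW
    (lettersOK_sound _ _ Cfsg.Agent.Lib.Helper19.ONMM3.rhoc_ok)
    Cfsg.Agent.Lib.Helper19.ONMM3.z_ok 3 z3_iter (by decide)
    exactO centO gensL hone
    (fun ρ hρ => by
      rw [Helper19M.rho_eq]
      left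
      rcases List.mem_cons.mp hρ with rfl | h
      · rfl
      · rcases List.mem_cons.mp h with rfl | h
        · exact h6
        · rcases List.mem_singleton.mp h with rfl
          exact h7)
  rw [Helper19M.rho_eq] at h1 h2
  exact ⟨Δ, hΔ, φ, h1, h2⟩

/-- the shape used by the assembly -/
theorem exists_model_odd : ∃ (Δ : Type) (_ : Group Δ) (φ : PO →* Δ),
    φ (evc (PresentedGroup.of (rels := RO)) dec R5) ≠ 1 := by
  obtain ⟨Δ, hΔ, φ, h1, _⟩ := exists_hom_odd
  exact ⟨Δ, hΔ, φ, h1⟩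

/-- the same with the word written as an element of the presented group -/
theorem exists_hom_odd_mk : ∃ (Δ : Type) (_ : Group Δ) (φ : PO →* Δ),
    φ (PresentedGroup.mk RO (wordF dec R5)) ≠ 1 ∧ φ (PresentedGroup.mk RO (wordF dec R5)) ^ 3 = 1 := by
  obtain ⟨Δ, hΔ, φ, h1, h2⟩ := exists_hom_odd
  rw [evc_of] at h1 h2
  exact ⟨Δ, hΔ, φ, h1, h2⟩

end Cfsg.Agent.Lib.Helper18.ONM
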