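import Mathlib

/-!
# Element orders of the alternating group of degree 5

Shared lemmas for S3448, S3449.
-/

set_option autoImplicit false

namespace Cfsg.Agent.Lib.Helper19

open Equiv

theorem a5_pow_cases :
    ∀ g : alternatingGroup (Fin 5), g ^ 2 = 1 ∨ g ^ 3 = 1 ∨ g ^ 5 = 1 := by
  decide +kernel

theorem a5_exists_two : ∃ g : alternatingGroup (Fin 5), g ^ 2 = 1 ∧ g ≠ 1 := by
  decide +kernel

theorem a5_exists_three : ∃ g : alternatingGroup (Fin 5), g ^ 3 = 1 ∧ g ≠ 1 := by
  decide +kernel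

theorem a5_exists_five : ∃ g : alternatingGroup (Fin 5), g ^ 5 = 1 ∧ g ≠ 1 := by
  decide +kernel

theorem a5_exists_orderOf_two : ∃ g : alternatingGroup (Fin 5), orderOf g = 2 := by
  obtain ⟨g, h1, h2⟩ := a5_exists_two
  haveI : Fact (Nat.Prime 2) := ⟨Nat.prime_two⟩
  exact ⟨g, orderOf_eq_prime h1 h2⟩

theorem a5_exists_orderOf_three : ∃ g : alternatingGroup (Fin 5), orderOf g = 3 := by
  obtain ⟨g, h1, h2⟩ := a5_exists_three
  haveI : Fact (Nat.Prime 3) := ⟨Nat.prime_three⟩
  exact ⟨g, orderOf_eq_prime h1 h2⟩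

theorem a5_exists_orderOf_five : ∃ g : alternatingGroup (Fin 5), orderOf g = 5 := by
  obtain ⟨g, h1, h2⟩ := a5_exists_five
  haveI : Fact (Nat.Prime 5) := ⟨Nat.prime_five⟩
  exact ⟨g, orderOf_eq_prime h1 h2⟩

theorem a5_orderOf_cases (g : alternatingGroup (Fin 5)) :
    orderOf g = 1 ∨ orderOf g = 2 ∨ orderOf g = 3 ∨ orderOf g = 5 := by
  rcases a5_pow_cases g with h | h | h
  · have := orderOf_dvd_of_pow_eq_one h
    rcases (Nat.dvd_prime Nat.prime_two).1 this with h' | h' <;> simp [h']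
  · have := orderOf_dvd_of_pow_eq_one h
    rcases (Nat.dvd_prime Nat.prime_three).1 this with h' | h' <;> simp [h']
  · have := orderOf_dvd_of_pow_eq_one h
    rcases (Nat.dvd_prime Nat.prime_five).1 this with h' | h' <;> simp [h']

theorem a5_spectrum :
    Set.range (orderOf : alternatingGroup (Fin 5) → ℕ) = {1, 2, 3, 5} := by
  ext n
  simp only [Set.mem_range, Set.mem_insert_iff, Set.mem_singleton_iff]
  constructor
  · rintro ⟨g, rfl⟩
    exact a5_orderOf_cases g
  · rintro (rfl | rfl | rfl | rfl)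
    · exact ⟨1, orderOf_one⟩
    · exact a5_exists_orderOf_two
    · exact a5_exists_orderOf_three
    · exact a5_exists_orderOf_five

end Cfsg.Agent.Lib.Helper19
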