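import Mathlib

/-!
# Element orders of the alternating group of degree 6

Shared lemmas for S3488, S3491.
-/

set_option autoImplicit false

namespace Cfsg.Agent.Lib.Helper19

theorem a6_pow_cases :
    ∀ g : alternatingGroup (Fin 6), g ^ 4 = 1 ∨ g ^ 3 = 1 ∨ g ^ 5 = 1 := by
  decide +kernel

theorem a6_exists_two : ∃ g : alternatingGroup (Fin 6), g ^ 2 = 1 ∧ g ≠ 1 := by
  decide +kernel

theorem a6_exists_three : ∃ g : alternatingGroup (Fin 6), g ^ 3 = 1 ∧ g ≠ 1 := by
  decide +kernel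

theorem a6_exists_five : ∃ g : alternatingGroup (Fin 6), g ^ 5 = 1 ∧ g ≠ 1 := by
  decide +kernel

theorem a6_exists_four : ∃ g : alternatingGroup (Fin 6), g ^ 4 = 1 ∧ g ^ 2 ≠ 1 := by
  decide +kernel

theorem a6_orderOf_cases (g : alternatingGroup (Fin 6)) :
    orderOf g = 1 ∨ orderOf g = 2 ∨ orderOf g = 3 ∨ orderOf g = 4 ∨ orderOf g = 5 := by
  rcases a6_pow_cases g with h | h | h
  · have h1 := orderOf_dvd_of_pow_eq_one h
    have h2 : orderOf g ∈ Nat.divisors 4 := Nat.mem_divisors.2 ⟨h1, by norm_num⟩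
    have h3 : Nat.divisors 4 = {1, 2, 4} := by decide
    rw [h3] at h2
    simp only [Finset.mem_insert, Finset.mem_singleton] at h2
    rcases h2 with h' | h' | h' <;> simp [h']
  · have := orderOf_dvd_of_pow_eq_one h
    rcases (Nat.dvd_prime Nat.prime_three).1 this with h' | h' <;> simp [h']
  · have := orderOf_dvd_of_pow_eq_one h
    rcases (Nat.dvd_prime Nat.prime_five).1 this with h' | h' <;> simp [h']

theorem a6_spectrum :
    Set.range (orderOf : alternatingGroup (Fin 6) → ℕ) = {1, 2, 3, 4, 5} := by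
  ext n
  simp only [Set.mem_range, Set.mem_insert_iff, Set.mem_singleton_iff]
  constructor
  · rintro ⟨g, rfl⟩
    exact a6_orderOf_cases g
  · rintro (rfl | rfl | rfl | rfl | rfl)
    · exact ⟨1, orderOf_one⟩
    · obtain ⟨g, h1, h2⟩ := a6_exists_two
      have : Fact (Nat.Prime 2) := ⟨Nat.prime_two⟩
      exact ⟨g, orderOf_eq_prime h1 h2⟩
    · obtain ⟨g, h1, h2⟩ := a6_exists_three
      have : Fact (Nat.Prime 3) := ⟨Nat.prime_three⟩
      exact ⟨g, orderOf_eq_prime h1 h2⟩
    · obtain ⟨g, h1, h2⟩ := a6_exists_four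
      have : Fact (Nat.Prime 2) := ⟨Nat.prime_two⟩
      have := orderOf_eq_prime_pow (x := g) (p := 2) (n := 1) (by simpa using h2)
        (by simpa using h1)
      exact ⟨g, by simpa using this⟩
    · obtain ⟨g, h1, h2⟩ := a6_exists_five
      have : Fact (Nat.Prime 5) := ⟨Nat.prime_five⟩
      exact ⟨g, orderOf_eq_prime h1 h2⟩

end Cfsg.Agent.Lib.Helper19
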