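import Mathlib

/-!
# The affine group `F₄² ⋊ SL(2, 4)` inside `SL(3, F₄)` and its element orders

Shared lemmas for S3488, S3491.
-/

set_option autoImplicit false

namespace Cfsg.Agent.Lib.Helper19

variable {F : Type*} [Field F]

/-- The last row of a `3 × 3` matrix is `(0, 0, 1)`. -/
def LastRow (M : Matrix (Fin 3) (Fin 3) F) : Prop := M 2 0 = 0 ∧ M 2 1 = 0 ∧ M 2 2 = 1

theorem lastRow_one : LastRow (1 : Matrix (Fin 3) (Fin 3) F) := by
  refine ⟨?_, ?_, ?_⟩ <;> simp

theorem lastRow_mul {M N : Matrix (Fin 3) (Fin 3) F} (hM : LastRow M) (hN : LastRow N) :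
    LastRow (M * N) := by
  obtain ⟨a, b, c⟩ := hM
  obtain ⟨a', b', c'⟩ := hN
  refine ⟨?_, ?_, ?_⟩ <;> simp [Matrix.mul_apply, Fin.sum_univ_three, a, b, c, a', b', c']

theorem lastRow_of_mul_eq_one {M B : Matrix (Fin 3) (Fin 3) F} (hM : LastRow M)
    (h : M * B = 1) : LastRow B := by
  obtain ⟨a, b, c⟩ := hM
  have h0 := congrFun (congrFun h 2) 0
  have h1 := congrFun (congrFun h 2) 1
  have h2 := congrFun (congrFun h 2) 2
  simp [Matrix.mul_apply, Fin.sum_univ_three, a, b, c] at h0 h1 h2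
  exact ⟨h0, h1, h2⟩

theorem det_of_lastRow {M : Matrix (Fin 3) (Fin 3) F} (hM : LastRow M) :
    M.det = M 0 0 * M 1 1 - M 0 1 * M 1 0 := by
  obtain ⟨a, b, c⟩ := hM
  rw [Matrix.det_fin_three, a, b, c]
  ring

theorem cubic {M : Matrix (Fin 3) (Fin 3) F} (hM : LastRow M) (hdet : M.det = 1) :
    M ^ 3 = (M 0 0 + M 1 1 + 1) • M ^ 2 - (M 0 0 + M 1 1 + 1) • M + 1 := by
  rw [det_of_lastRow hM] at hdet
  obtain ⟨a, b, c⟩ := hM
  ext i j
  fin_cases i <;> fin_cases j <;>
    simp [pow_succ, Matrix.mul_apply, Fin.sum_univ_three, a, b, c]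
  · linear_combination (1 - M 0 0) * hdet
  · linear_combination (- M 0 1) * hdet
  · linear_combination (- M 0 2) * hdet
  · linear_combination (- M 1 0) * hdet
  · linear_combination (1 - M 1 1) * hdet
  · linear_combination (- M 1 2) * hdet


theorem pow_five_of_cubic {M : Matrix (Fin 3) (Fin 3) F} {s : F} (hs : s ^ 2 + s + 1 = 0)
    (h2 : (2 : F) = 0) (h3 : M ^ 3 = s • M ^ 2 - s • M + 1) : M ^ 5 = 1 := by
  have h4 : M ^ 4 = (s ^ 2 - s) • M ^ 2 - s ^ 2 • M + s • (1 : Matrix (Fin 3) (Fin 3) F) + M := by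
    have : M ^ 4 = M ^ 3 * M := by rw [← pow_succ]
    rw [this, h3]
    simp only [add_mul, sub_mul, smul_mul_assoc, one_mul, ← pow_succ, ← pow_two]
    rw [h3]
    module
  have h5 : M ^ 5 = M ^ 4 * M := by rw [← pow_succ]
  rw [h5, h4]
  simp only [add_mul, sub_mul, smul_mul_assoc, one_mul, ← pow_succ, ← pow_two]
  rw [h3]
  linear_combination (norm := module)
    hs • ((s - 3) • M ^ 2 + (2 - s) • M + (1 : Matrix (Fin 3) (Fin 3) F)) +
    h2 • ((s + 2) • M ^ 2 - M - (s + 1) • (1 : Matrix (Fin 3) (Fin 3) F))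

theorem two_eq_zero_of_card [Fintype F] (hF : Fintype.card F = 4) : (2 : F) = 0 := by
  have h4 : (4 : F) = 0 := by
    have := Nat.cast_card_eq_zero F
    rw [hF] at this
    exact_mod_cast this
  have : (2 : F) * 2 = 0 := by
    rw [← h4]; norm_num
  exact mul_self_eq_zero.1 this

theorem trace_cases [Fintype F] (hF : Fintype.card F = 4) (t : F) :
    t = 0 ∨ t = 1 ∨ t ^ 2 + t + 1 = 0 := by
  have h := FiniteField.pow_card t
  rw [hF] at h
  have : t * (t - 1) * (t ^ 2 + t + 1) = 0 := by linear_combination h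
  rcases mul_eq_zero.1 this with h1 | h1
  · rcases mul_eq_zero.1 h1 with h2 | h2
    · left; exact h2
    · right; left; exact sub_eq_zero.1 h2
  · right; right; exact h1

theorem pow_four_of_trace {M : Matrix (Fin 3) (Fin 3) F}
    (hM : LastRow M) (hdet : M.det = 1) (h : M 0 0 + M 1 1 = 0) : M ^ 4 = 1 := by
  have h3 := cubic hM hdet
  rw [h, zero_add, one_smul, one_smul] at h3
  have : M ^ 4 = M ^ 3 * M := by rw [← pow_succ]
  rw [this, h3]
  simp only [add_mul, sub_mul, one_mul, ← pow_succ, ← pow_two]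
  rw [h3]
  abel

theorem pow_three_of_trace (h2 : (2 : F) = 0) {M : Matrix (Fin 3) (Fin 3) F}
    (hM : LastRow M) (hdet : M.det = 1) (h : M 0 0 + M 1 1 = 1) : M ^ 3 = 1 := by
  have h3 := cubic hM hdet
  rw [h] at h3
  have : (1 + 1 : F) = 0 := by rw [one_add_one_eq_two]; exact h2
  rw [this, zero_smul, zero_smul, sub_zero, zero_add] at h3
  exact h3

theorem pow_five_of_trace (h2 : (2 : F) = 0) {M : Matrix (Fin 3) (Fin 3) F}
    (hM : LastRow M) (hdet : M.det = 1)
    (h : (M 0 0 + M 1 1) ^ 2 + (M 0 0 + M 1 1) + 1 = 0) : M ^ 5 = 1 := by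
  have h3 := cubic hM hdet
  have hs : (M 0 0 + M 1 1 + 1) ^ 2 + (M 0 0 + M 1 1 + 1) + 1 = 0 := by
    linear_combination h + (M 0 0 + M 1 1 + 1) * h2
  exact pow_five_of_cubic hs h2 h3

theorem pow_cases [Fintype F] (hF : Fintype.card F = 4) {M : Matrix (Fin 3) (Fin 3) F}
    (hM : LastRow M) (hdet : M.det = 1) : M ^ 4 = 1 ∨ M ^ 3 = 1 ∨ M ^ 5 = 1 := by
  have h2 := two_eq_zero_of_card hF
  rcases trace_cases hF (M 0 0 + M 1 1) with h | h | h
  · left; exact pow_four_of_trace hM hdet h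
  · right; left; exact pow_three_of_trace h2 hM hdet h
  · right; right; exact pow_five_of_trace h2 hM hdet h

/-- The generating set of the affine group inside `SL(3, F)`. -/
def affSet (F : Type*) [Field F] : Set (Matrix.SpecialLinearGroup (Fin 3) F) :=
  {M | (M : Matrix (Fin 3) (Fin 3) F) 2 0 = 0 ∧ (M : Matrix (Fin 3) (Fin 3) F) 2 1 = 0 ∧
    (M : Matrix (Fin 3) (Fin 3) F) 2 2 = 1}

theorem lastRow_of_mem_closure {g : Matrix.SpecialLinearGroup (Fin 3) F}
    (hg : g ∈ Subgroup.closure (affSet F)) : LastRow (g : Matrix (Fin 3) (Fin 3) F) := by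
  induction hg using Subgroup.closure_induction with
  | mem x hx => exact hx
  | one => exact lastRow_one
  | mul x y _ _ hx hy =>
    rw [Matrix.SpecialLinearGroup.coe_mul]
    exact lastRow_mul hx hy
  | inv x _ hx =>
    apply lastRow_of_mul_eq_one hx
    rw [← Matrix.SpecialLinearGroup.coe_mul, mul_inv_cancel, Matrix.SpecialLinearGroup.coe_one]

theorem sl_pow_cases [Fintype F] (hF : Fintype.card F = 4)
    (g : Matrix.SpecialLinearGroup (Fin 3) F)
    (hg : LastRow (g : Matrix (Fin 3) (Fin 3) F)) : g ^ 4 = 1 ∨ g ^ 3 = 1 ∨ g ^ 5 = 1 := by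
  rcases pow_cases hF hg g.det_coe with h | h | h
  · left; apply Subtype.ext; rw [Matrix.SpecialLinearGroup.coe_pow, h]; rfl
  · right; left; apply Subtype.ext; rw [Matrix.SpecialLinearGroup.coe_pow, h]; rfl
  · right; right; apply Subtype.ext; rw [Matrix.SpecialLinearGroup.coe_pow, h]; rfl


theorem orderOf_mem_of_pow_cases {G : Type*} [Group G] (g : G)
    (h : g ^ 4 = 1 ∨ g ^ 3 = 1 ∨ g ^ 5 = 1) :
    orderOf g = 1 ∨ orderOf g = 2 ∨ orderOf g = 3 ∨ orderOf g = 4 ∨ orderOf g = 5 := by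
  rcases h with h | h | h
  · have h1 := orderOf_dvd_of_pow_eq_one h
    have h2 : orderOf g ∈ Nat.divisors 4 := Nat.mem_divisors.2 ⟨h1, by norm_num⟩
    have h3 : Nat.divisors 4 = {1, 2, 4} := by decide
    rw [h3] at h2
    simp only [Finset.mem_insert, Finset.mem_singleton] at h2
    rcases h2 with h' | h' | h' <;> simp [h']
  · have := orderOf_dvd_of_pow_eq_one h
    rcases (Nat.dvd_prime Nat.prime_three).1 this with h' | h' <;> simp [h']
  · have := orderOf_dvd_of_pow_eq_one h
    rcases (Nat.dvd_prime Nat.prime_five).1 this with h' | h' <;> simp [h']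

section elements

theorem exists_omega [Fintype F] (hF : Fintype.card F = 4) : ∃ w : F, w ^ 2 + w + 1 = 0 := by
  classical
  have hlt : ({0, 1} : Finset F).card < (Finset.univ : Finset F).card := by
    rw [Finset.card_univ, hF]
    exact lt_of_le_of_lt (Finset.card_le_two) (by norm_num)
  obtain ⟨w, -, hw⟩ := Finset.exists_mem_notMem_of_card_lt_card hlt
  simp only [Finset.mem_insert, Finset.mem_singleton, not_or] at hw
  rcases trace_cases hF w with h | h | h
  · exact absurd h hw.1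
  · exact absurd h hw.2
  · exact ⟨w, h⟩

/-- A matrix with prescribed entries in the first two rows and last row `(0, 0, 1)`. -/
def affMat (a b c d u v : F) : Matrix (Fin 3) (Fin 3) F := !![a, b, u; c, d, v; 0, 0, 1]

theorem affMat_lastRow (a b c d u v : F) : LastRow (affMat a b c d u v) := by
  refine ⟨?_, ?_, ?_⟩ <;> simp [affMat]

theorem affMat_det (a b c d u v : F) : (affMat a b c d u v).det = a * d - b * c := by
  rw [det_of_lastRow (affMat_lastRow a b c d u v)]
  simp [affMat]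

/-- The corresponding element of `SL(3, F)`. -/
def affSL (a b c d u v : F) (h : a * d - b * c = 1) : Matrix.SpecialLinearGroup (Fin 3) F :=
  ⟨affMat a b c d u v, by rw [affMat_det, h]⟩

theorem affSL_mem (a b c d u v : F) (h : a * d - b * c = 1) :
    affSL a b c d u v h ∈ affSet F := affMat_lastRow a b c d u v

theorem exists_orderOf_two [Fintype F] (hF : Fintype.card F = 4) :
    ∃ g ∈ affSet F, orderOf g = 2 := by
  have h2 := two_eq_zero_of_card hF
  refine ⟨affSL 1 0 0 1 1 0 (by ring), affSL_mem _ _ _ _ _ _ _, ?_⟩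
  have : Fact (Nat.Prime 2) := ⟨Nat.prime_two⟩
  apply orderOf_eq_prime
  · apply Subtype.ext
    rw [Matrix.SpecialLinearGroup.coe_pow]
    show (affMat 1 0 0 1 1 0) ^ 2 = (1 : Matrix (Fin 3) (Fin 3) F)
    ext i j
    fin_cases i <;> fin_cases j <;>
      simp [affMat, pow_two, Matrix.mul_apply, Fin.sum_univ_three, one_add_one_eq_two, h2]
  · intro h
    have := congrArg (fun g : Matrix.SpecialLinearGroup (Fin 3) F =>
      (g : Matrix (Fin 3) (Fin 3) F) 0 2) h
    simp [affSL, affMat] at this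

theorem exists_orderOf_four [Fintype F] (hF : Fintype.card F = 4) :
    ∃ g ∈ affSet F, orderOf g = 4 := by
  have h2 := two_eq_zero_of_card hF
  refine ⟨affSL 1 1 0 1 0 1 (by ring), affSL_mem _ _ _ _ _ _ _, ?_⟩
  have : Fact (Nat.Prime 2) := ⟨Nat.prime_two⟩
  have := orderOf_eq_prime_pow (x := affSL (F := F) 1 1 0 1 0 1 (by ring)) (p := 2) (n := 1) ?_ ?_
  · simpa using this
  · intro h
    have h' : (affMat (F := F) 1 1 0 1 0 1) ^ 2 = 1 := by
      rw [pow_one] at h
      have h'' := congrArg (fun g : Matrix.SpecialLinearGroup (Fin 3) F =>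
        (g : Matrix (Fin 3) (Fin 3) F)) h
      simp only [Matrix.SpecialLinearGroup.coe_pow, Matrix.SpecialLinearGroup.coe_one] at h''
      exact h''
    have := congrFun (congrFun h' 0) 2
    simp [affMat, pow_two, Matrix.mul_apply, Fin.sum_univ_three] at this
  · apply Subtype.ext
    rw [Matrix.SpecialLinearGroup.coe_pow]
    show (affMat 1 1 0 1 0 1) ^ 2 ^ (1 + 1) = (1 : Matrix (Fin 3) (Fin 3) F)
    have : (affMat (F := F) 1 1 0 1 0 1) ^ 4 = 1 :=
      pow_four_of_trace (affMat_lastRow _ _ _ _ _ _) (by rw [affMat_det]; ring)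
        (by simp [affMat, one_add_one_eq_two, h2])
    exact this

theorem exists_orderOf_three [Fintype F] (hF : Fintype.card F = 4) :
    ∃ g ∈ affSet F, orderOf g = 3 := by
  have h2 := two_eq_zero_of_card hF
  have hdet : (0 : F) * 1 - 1 * 1 = 1 := by linear_combination -h2
  refine ⟨affSL 0 1 1 1 0 0 hdet, affSL_mem _ _ _ _ _ _ _, ?_⟩
  have : Fact (Nat.Prime 3) := ⟨Nat.prime_three⟩
  apply orderOf_eq_prime
  · apply Subtype.ext
    rw [Matrix.SpecialLinearGroup.coe_pow]
    show (affMat 0 1 1 1 0 0) ^ 3 = (1 : Matrix (Fin 3) (Fin 3) F)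
    exact pow_three_of_trace h2 (affMat_lastRow _ _ _ _ _ _) (by rw [affMat_det]; exact hdet)
      (by simp [affMat])
  · intro h
    have := congrArg (fun g : Matrix.SpecialLinearGroup (Fin 3) F =>
      (g : Matrix (Fin 3) (Fin 3) F) 0 1) h
    simp [affSL, affMat] at this

theorem exists_orderOf_five [Fintype F] (hF : Fintype.card F = 4) :
    ∃ g ∈ affSet F, orderOf g = 5 := by
  have h2 := two_eq_zero_of_card hF
  obtain ⟨w, hw⟩ := exists_omega hF
  have hdet : (0 : F) * w - 1 * 1 = 1 := by linear_combination -h2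
  refine ⟨affSL 0 1 1 w 0 0 hdet, affSL_mem _ _ _ _ _ _ _, ?_⟩
  have : Fact (Nat.Prime 5) := ⟨Nat.prime_five⟩
  apply orderOf_eq_prime
  · apply Subtype.ext
    rw [Matrix.SpecialLinearGroup.coe_pow]
    show (affMat 0 1 1 w 0 0) ^ 5 = (1 : Matrix (Fin 3) (Fin 3) F)
    exact pow_five_of_trace h2 (affMat_lastRow _ _ _ _ _ _) (by rw [affMat_det]; exact hdet)
      (by simp only [affMat]; simp; exact hw)
  · intro h
    have := congrArg (fun g : Matrix.SpecialLinearGroup (Fin 3) F =>
      (g : Matrix (Fin 3) (Fin 3) F) 0 1) h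
    simp [affSL, affMat] at this

end elements

/-- The spectrum of the affine group `F₄² ⋊ SL(2, 4)`. -/
theorem affine_spectrum [Fintype F] (hF : Fintype.card F = 4) :
    Set.range (orderOf : Subgroup.closure (affSet F) → ℕ) = {1, 2, 3, 4, 5} := by
  ext n
  simp only [Set.mem_range, Set.mem_insert_iff, Set.mem_singleton_iff]
  constructor
  · rintro ⟨x, rfl⟩
    rw [← Subgroup.orderOf_coe]
    exact orderOf_mem_of_pow_cases _ (sl_pow_cases hF _ (lastRow_of_mem_closure x.2))
  · have key : ∀ m, (∃ g ∈ affSet F, orderOf g = m) →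
        ∃ y : Subgroup.closure (affSet F), orderOf y = m := by
      rintro m ⟨g, hg, rfl⟩
      exact ⟨⟨g, Subgroup.subset_closure hg⟩, (Subgroup.orderOf_coe _).symm⟩
    rintro (rfl | rfl | rfl | rfl | rfl)
    · exact ⟨1, orderOf_one⟩
    · exact key _ (exists_orderOf_two hF)
    · exact key _ (exists_orderOf_three hF)
    · exact key _ (exists_orderOf_four hF)
    · exact key _ (exists_orderOf_five hF)

end Cfsg.Agent.Lib.Helper19
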