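import Mathlib
import Cfsg.Prelude.Def_GeometricClasses
import Cfsg.Agent.Lib.Helper7.AschDefs
import Cfsg.Agent.Lib.Helper8.S5630I1
import Cfsg.Agent.Lib.Helper23.S5630I5
import Cfsg.Agent.Lib.Helper1.OEDefs
import Cfsg.Agent.Lib.Helper14.OEReducible
import Cfsg.Agent.Lib.Helper18.OE2
import Cfsg.Agent.Lib.Helper17.AschOE4Main
import Cfsg.Agent.Lib.Helper3.FormC6
import Cfsg.Agent.Lib.Helper3.OEC6
import Cfsg.Agent.Lib.Helper22.OE7
import Cfsg.Agent.Lib.Helper12.OE8

/-!
# THE EVEN-DIMENSIONAL ORTHOGONAL HUB: `mainOE : HubOE Q` (helper19, hub architect; TOP-LEVEL ASSEMBLY, no stubs)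

Aschbacher's theorem for the isometry group `I = isometryGroup F Q` of a non-degenerate quadratic form `Q` on `F^n`, `n ≥ 3`,
EVERY `q` (both parities): every `H ≤ I` lies in a member of helper1's `Cfsg.Agent.Lib.Helper1.OE.InOEClass Q` or is in the
frozen `InOrthogonalResidualClass`.  This is the hub of the rows S5826, S5847, S5850, S5871, S5874 (no frozen hub row exists).

Blocks (all REAL, on main): OE1 reducible = helper14 (`OEReducible.reducible_cases`); OE2 field = helper18 (`OE2.inClassOE_of_not_absIrr`,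
on `FormFieldQ.field_exit`); OE4 Clifford = helper17 (`AschOE.cliffordOE`; `q` odd helper17, `q` even helper16, field exit helper18,
on helper11's `clifford_form`); OE6 symplectic type = helper3 (`FormC6`, wired here); OE7 tensor-induced = helper22 (`OE7.c7_caseOE`);
OE8 almost simple / descent = helper12 (`OE8.s_case_core`); dichotomy = helper23 (`S5630I5.group_dichotomy`).
-/

set_option autoImplicit false

namespace Cfsg.Agent.Lib.Helper19.AschOE

open Matrix Cfsg Cfsg.Geo Cfsg.Agent.Lib.Helper7.Asch Cfsg.Agent.Lib.Helper1.OE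
open scoped commutatorElement

variable {F : Type*} [Field F] [Fintype F] {n : ℕ} {Q : (Fin n → F) → F}

/-- **OE1** reducible groups: classes (1a), (1b), (1c) (helper14's `reducible_cases`) -/
theorem oe_reducible (hQ : IsNondegenerateQuadraticForm Q) (H : Subgroup (GL (Fin n) F))
    (hHI : H ≤ isometryGroup F Q) (h : ¬ Irr H) : InClassOE Q H := by
  rcases Cfsg.Agent.Lib.Helper14.OEReducible.reducible_cases hQ H hHI h with
    ⟨W, h0, hW, hle⟩ | ⟨W, h0, h1, hW, hle⟩ | ⟨hq, v, hv, hle⟩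
  · exact InClassOE.of_singular H hHI W h0 hW hle
  · exact InClassOE.of_nondeg H hHI W h0 h1 hW hle
  · exact InClassOE.of_nonsingular H hHI hq v hv hle

/-- elements normalising `N` lie in `subgroupNormalizer N` -/
theorem le_subgroupNormalizer_of_normBy {H N : Subgroup (GL (Fin n) F)} (hnorm : NormBy H N) :
    H ≤ subgroupNormalizer N := by
  intro h hh
  unfold subgroupNormalizer
  rw [Subgroup.mem_normalizer_iff]
  intro x
  constructor
  · intro hx
    exact hnorm h hh x hx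
  · intro hx
    have := hnorm h⁻¹ (H.inv_mem hh) _ hx
    simpa [mul_assoc] using this

/-- **OE6** the symplectic-type case: class (6) (helper3's `FormC6` for `f = polar Q`: `r = 2`, `2 ≠ 0`, `N` of symplectic type) -/
theorem oe_c6 (hQ : IsNondegenerateQuadraticForm Q) (hn : 3 ≤ n) (H N : Subgroup (GL (Fin n) F)) (r : ℕ)
    (hHI : H ≤ isometryGroup F Q) (hQP : QP H) (hNH : N ≤ H) (hnorm : NormBy H N)
    (hNs : ¬ N ≤ scalars (Fin n) F)
    (hmin : ∀ K : Subgroup (GL (Fin n) F), K ≤ N → NormBy H K → K ≤ scalars (Fin n) F ∨ K = N) (hr : r.Prime)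
    (hpow : ∀ x ∈ N, x ^ r ∈ scalars (Fin n) F) (hcomm : ∀ x ∈ N, ∀ y ∈ N, ⁅x, y⁆ ∈ scalars (Fin n) F) :
    InClassOE Q H := by
  have hNabs : AbsIrr N := (hQP N hNH hnorm).resolve_left hNs
  have hN : Cfsg.Agent.Lib.Helper3.AschC6.ClassTwo N := ⟨hNabs, hcomm⟩
  have hNI : N ≤ isometryGroup F Q := hNH.trans hHI
  have hNI' : N ≤ Cfsg.Agent.Lib.Helper16.SpA.Iso (QuadraticMap.polar Q) :=
    hNI.trans Cfsg.Agent.Lib.Helper3.OEC6.isometryGroup_le_iso
  have hb := hQ.polar_bilinear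
  have hnd := hQ.nondegenerate
  have hn2 : 2 ≤ n := by omega
  have hr2 := Cfsg.Agent.Lib.Helper3.FormC6.r_eq_two hb hnd hn2 hNI' hN r hr hpow
  subst hr2
  have h2 : (2 : F) ≠ 0 := Cfsg.Agent.Lib.Helper3.FormC6.two_ne_zero' hb hnd hn2 hNI' hN
  have hodd : Odd (Fintype.card F) := Cfsg.Agent.Lib.Helper14.OEReducible.odd_card_iff_two_ne_zero.2 h2
  have hsym := Cfsg.Agent.Lib.Helper3.FormC6.isSymplecticTypeGroup hb hnd hn2 hNI' hN hpow H hnorm hmin
  exact InClassOE.of_symplecticType H hHI N hodd hsym hNabs hNI (le_subgroupNormalizer_of_normBy hnorm)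

/-- **OE8** the almost simple case: class (5) or the residual class (helper12's `s_case_core`) -/
theorem oe_s (hQ : IsNondegenerateQuadraticForm Q) (hn : 3 ≤ n) (H L : Subgroup (GL (Fin n) F))
    (hHI : H ≤ isometryGroup F Q) (hQP : QP H)
    (hLH : L ≤ H) (hLs : ¬ L ≤ scalars (Fin n) F) (hperf : ⁅L, L⁆ = L) (hqs : SimpleModScal L)
    (hnorm : NormBy H L) : InClassOE Q H ∨ InOrthogonalResidualClass H := by
  rcases Cfsg.Agent.Lib.Helper12.OE8.s_case_core hQ (by omega) H L hHI hQP hLH hLs hperf hqs hnorm with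
    ⟨F₁, r, P, ζ, hr, hc, hζ, hrat, hle⟩ | h
  · exact Or.inl (InClassOE.of_subfield H hHI F₁ r P ζ hr hc hζ hrat hle)
  · exact Or.inr h

/-- **Aschbacher's theorem for the isometry group of a non-degenerate quadratic form on `F^n`, `n ≥ 3`, every `q`** -/
theorem mainOE (hQ : IsNondegenerateQuadraticForm Q) (hn : 3 ≤ n) (H : Subgroup (GL (Fin n) F))
    (hHI : H ≤ isometryGroup F Q) : InClassOE Q H ∨ InOrthogonalResidualClass H := by
  by_cases h1 : Irr H
  swap
  · exact Or.inl (oe_reducible hQ H hHI h1)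
  by_cases h2 : AbsIrr H
  swap
  · exact Or.inl (Cfsg.Agent.Lib.Helper18.OE2.inClassOE_of_not_absIrr hQ hn H hHI h1 h2)
  by_cases h4 : QP H
  swap
  · unfold QP at h4
    push Not at h4
    obtain ⟨N, hNH, hnorm, hns, hna⟩ := h4
    rcases Cfsg.Agent.Lib.Helper17.AschOE.cliffordOE hQ hn H N h2 hHI hNH hnorm with h | h | h
    · exact Or.inl h
    · exact absurd h hns
    · exact absurd h hna
  have hHs : ¬ H ≤ scalars (Fin n) F := Cfsg.Agent.Lib.Helper8.S5630I1.not_scalar_of_irr (by omega) H h1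
  rcases Cfsg.Agent.Lib.Helper23.S5630I5.group_dichotomy H hHs with
    ⟨N, r, hNH, hnorm, hNs, hmin, hr, hpow, hcomm⟩ | ⟨L, hLH, hLs, hperf, hqs, hconj⟩
  · exact Or.inl (oe_c6 hQ hn H N r hHI h4 hNH hnorm hNs hmin hr hpow hcomm)
  · by_cases hnL : NormBy H L
    · exact oe_s hQ hn H L hHI h4 hLH hLs hperf hqs hnL
    · exact Or.inl (Cfsg.Agent.Lib.Helper22.OE7.c7_caseOE hQ hn H L h2 hHI h4 hLH hLs hperf hqs hconj hnL)

/-- the hub in helper1's `Prop` form -/
theorem hubOE (hQ : IsNondegenerateQuadraticForm Q) (hn : 3 ≤ n) : HubOE Q :=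
  fun H hHI => mainOE hQ hn H hHI

end Cfsg.Agent.Lib.Helper19.AschOE
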