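import Cfsg.Agent.Lib.Helper4.TC.Strict
import Cfsg.Agent.Lib.Helper4.TC.Schur3

set_option autoImplicit false
set_option linter.unusedVariables false
set_option linter.unusedSectionVars false

/-! A checked permutation model (helper4's packed tables) in which one word `rho` acts as an explicit
central map `z` of the points: the exact relators are traced at every point, `rho` is compared with
`z` at every point and `z` is compared with every column; this gives a homomorphism from the group in
which the relators `exactL` hold and the words `centL` are central, into the centraliser of the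
permutation of `rho`. -/

namespace Cfsg.Agent.Lib.Helper19.CentModel

open Cfsg Cfsg.Agent.Helper4.TC

/-- `z` commutes with the first `c` columns at the point `k` -/
noncomputable def zRow (m : MData) (z : ℕ → ℕ) (k c : ℕ) : Bool :=
  Nat.rec (motive := fun _ => Bool) true
    (fun c ih => force (m.at c k) (fun v => Nat.beq (m.at c (z k)) (z v)) && ih) c

theorem zRow_succ (m : MData) (z : ℕ → ℕ) (k c : ℕ) :
    zRow m z k (c + 1) =
      (force (m.at c k) (fun v => Nat.beq (m.at c (z k)) (z v)) && zRow m z k c) := rfl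

theorem zRow_sound (m : MData) (z : ℕ → ℕ) (k c : ℕ) (h : zRow m z k c = true) :
    ∀ c', c' < c → m.at c' (z k) = z (m.at c' k) := by
  induction c with
  | zero => intro c' hc'; omega
  | succ c ih =>
    rw [zRow_succ, force_eq] at h
    simp only [Bool.and_eq_true] at h
    obtain ⟨h1, h2⟩ := h
    intro c' hc'
    rcases Nat.lt_succ_iff_lt_or_eq.mp hc' with hlt | rfl
    · exact ih h2 c' hlt
    · exact Nat.eq_of_beq_eq_true h1

/-- at the point `k` the word `rho` acts as `z`, and `z` commutes with all columns -/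
noncomputable def zPt (m : MData) (z : ℕ → ℕ) (rho : List ℕ) (k : ℕ) : Bool :=
  Nat.beq (mtrace m rho k) (z k) && zRow m z k m.nc

theorem zPt_sound (m : MData) (z : ℕ → ℕ) (rho : List ℕ) (k : ℕ) (h : zPt m z rho k = true) :
    mtrace m rho k = z k ∧ ∀ c, c < m.nc → m.at c (z k) = z (m.at c k) := by
  unfold zPt at h
  simp only [Bool.and_eq_true] at h
  exact ⟨Nat.eq_of_beq_eq_true h.1, zRow_sound m z k m.nc h.2⟩

theorem zRange_sound (m : MData) (z : ℕ → ℕ) (rho : List ℕ) (f k : ℕ)
    (h : rangeS (zPt m z rho) f k = true) :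
    ∀ j, k ≤ j → j < k + f →
      mtrace m rho j = z j ∧ ∀ c, c < m.nc → m.at c (z j) = z (m.at c j) := by
  intro j h1 h2
  rw [rangeS_eq] at h
  exact zPt_sound m z rho j
    (range_sound (zPt m z rho) (rangeL (zPt m z rho)) (fun _ => rfl) (rangeL_succ _) f k h j h1 h2)

/-- the word `rho` acts as the map `z`, which commutes with the columns -/
structure ZOK (m : MData) (z : ℕ → ℕ) (rho : List ℕ) : Prop where
  pt : ∀ k, k < m.n → mtrace m rho k = z k ∧ ∀ c, c < m.nc → m.at c (z k) = z (m.at c k)

/-- the shift of the fibres `{3i, 3i+1, 3i+2}` -/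
def z3 (k : ℕ) : ℕ :=
  Bool.rec (motive := fun _ => ℕ) (Nat.succ k) (Nat.sub k 2) (Nat.beq (Nat.mod k 3) 2)

theorem z3_eq (k : ℕ) : z3 k = if k % 3 = 2 then k - 2 else k + 1 := by
  unfold z3
  by_cases h : k % 3 = 2
  · rw [if_pos h]
    have : Nat.beq (Nat.mod k 3) 2 = true := by
      show Nat.beq (k % 3) 2 = true
      rw [h]; rfl
    rw [this]
    rfl
  · rw [if_neg h]
    have : Nat.beq (Nat.mod k 3) 2 = false := by
      cases hb : Nat.beq (Nat.mod k 3) 2
      · rfl
      · exact absurd (Nat.eq_of_beq_eq_true hb) h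
    rw [this]

theorem z3_iter (k : ℕ) : z3^[3] k = k := by
  simp only [Function.iterate_succ, Function.iterate_zero, Function.comp_apply, id_eq]
  rw [z3_eq, z3_eq, z3_eq]
  split_ifs <;> omega

/-- the swap of the fibres `{2i, 2i+1}` -/
def z2 (k : ℕ) : ℕ := Nat.xor k 1

theorem z2_iter (k : ℕ) : z2^[2] k = k := by
  simp only [Function.iterate_succ, Function.iterate_zero, Function.comp_apply, id_eq]
  exact xor_xor_one k

section Hom

variable {α : Type} {dec : ℕ → Letter α} {enc : α → ℕ} {m : MData} {bases : List (List ℕ)}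

theorem evc_eq_one_of_mem (hcod : Coding dec enc m.nc) (hm : ModelOK m bases []) (b : List ℕ)
    (hb : b ∈ bases) : evc (permG hm hcod) dec b = 1 := by
  ext k
  rw [evc_permG_apply hm hcod b (hm.relc b hb) k, hm.rel k.val k.2 b hb]
  rfl

/-- move the last letter of a word to the front -/
def rot (b : List ℕ) : List ℕ :=
  match b.reverse with
  | [] => []
  | c :: r => c :: r.reverse

theorem evc_rot {P : Type*} [Group P] (f : α → P) (b : List ℕ) (h : evc f dec (rot b) = 1) :
    evc f dec b = 1 := by
  unfold rot at h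
  cases hr : b.reverse with
  | nil =>
    have : b = [] := List.reverse_eq_nil_iff.mp hr
    rw [this]
    rfl
  | cons c r =>
    rw [hr] at h
    have hb : b = r.reverse ++ [c] := by
      have := congrArg List.reverse hr
      rw [List.reverse_reverse, List.reverse_cons] at this
      exact this
    rw [hb, evc_append]
    rw [evc_cons] at h
    have h1 : evc f dec [c] = gl f (dec c) := by
      rw [evc_cons, evc_nil, one_mul]
    rw [h1]
    have h2 : gl f (dec c) = (evc f dec r.reverse)⁻¹ := eq_inv_of_mul_eq_one_right h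
    rw [h2, inv_mul_cancel]

/-- every word of `L` is a word of `bases` or a word of `bases` with the first letter moved to
the end -/
def coveredBy (bases L : List (List ℕ)) : Bool :=
  L.all fun b => bases.contains b || bases.contains (rot b)

theorem evc_eq_one_of_covered (hcod : Coding dec enc m.nc) (hm : ModelOK m bases [])
    (L : List (List ℕ)) (hL : coveredBy bases L = true) (b : List ℕ) (hb : b ∈ L) :
    evc (permG hm hcod) dec b = 1 := by
  unfold coveredBy at hL
  rw [List.all_eq_true] at hL
  have := hL b hb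
  rw [Bool.or_eq_true] at this
  rcases this with h | h
  · exact evc_eq_one_of_mem hcod hm b (List.contains_iff_mem.mp h)
  · exact evc_rot _ b (evc_eq_one_of_mem hcod hm (rot b) (List.contains_iff_mem.mp h))

theorem exists_hom_central (hcod : Coding dec enc m.nc) (hm : ModelOK m bases []) (z : ℕ → ℕ)
    (rho : List ℕ) (hrho : ∀ c ∈ rho, c < m.nc) (hz : ZOK m z rho) (N : ℕ)
    (hzN : ∀ k, z^[N] k = k) (hz0 : z 0 ≠ 0)
    (exactL centL gensL : List (List ℕ))
    (hex : ∀ b ∈ exactL, evc (permG hm hcod) dec b = 1)
    (hce : ∀ ρ ∈ centL, ρ = rho ∨ evc (permG hm hcod) dec ρ = 1) :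
    ∃ (Δ : Type) (_ : Group Δ)
      (φ : PresentedGroup (relSet dec (exactL ++ Schur.weakify0 gensL centL)) →* Δ),
      φ (evc (PresentedGroup.of (rels := relSet dec (exactL ++ Schur.weakify0 gensL centL))) dec rho) ≠ 1 ∧
      φ (evc (PresentedGroup.of (rels := relSet dec (exactL ++ Schur.weakify0 gensL centL))) dec rho) ^ N = 1 ∧
      ∀ b : List ℕ, evc (permG hm hcod) dec b = 1 →
        φ (evc (PresentedGroup.of (rels := relSet dec (exactL ++ Schur.weakify0 gensL centL))) dec b) = 1 := by
  classical
  set f : α → Equiv.Perm (Fin m.n) := permG hm hcod with hf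
  set R : Equiv.Perm (Fin m.n) := evc f dec rho with hR
  have hRv : ∀ k : Fin m.n, (R k).val = z k.val := by
    intro k
    rw [hR, hf, evc_permG_apply hm hcod rho hrho k]
    exact (hz.pt k.val k.2).1
  have hfv : ∀ (x : α) (k : Fin m.n), (f x k).val = m.at (enc x) k.val := by
    intro x k
    exact permC_apply hm hcod.nc_even (enc x) (hcod.enc_lt x) k
  have hcomm : ∀ x : α, R * f x = f x * R := by
    intro x
    ext k
    rw [Equiv.Perm.mul_apply, Equiv.Perm.mul_apply, hRv, hfv, hfv, hRv]
    exact ((hz.pt k.val k.2).2 (enc x) (hcod.enc_lt x)).symm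
  let Δ : Subgroup (Equiv.Perm (Fin m.n)) := Subgroup.centralizer ({R} : Set (Equiv.Perm (Fin m.n)))
  have hRmem : R ∈ Δ := by
    rw [Subgroup.mem_centralizer_iff]
    intro h hh
    rw [Set.mem_singleton_iff] at hh
    rw [hh]
  have hfmem : ∀ x, f x ∈ Δ := by
    intro x
    rw [Subgroup.mem_centralizer_iff]
    intro h hh
    rw [Set.mem_singleton_iff] at hh
    rw [hh]
    exact hcomm x
  let ζ : Δ := ⟨R, hRmem⟩
  let f' : α → Δ := fun x => ⟨f x, hfmem x⟩
  have hζc : ζ ∈ Subgroup.center Δ := by
    rw [Subgroup.mem_center_iff]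
    intro g
    apply Subtype.ext
    have := g.2
    rw [Subgroup.mem_centralizer_iff] at this
    have h2 := this R (Set.mem_singleton R)
    show (g : Equiv.Perm (Fin m.n)) * R = R * (g : Equiv.Perm (Fin m.n))
    exact h2.symm
  have hZc : Subgroup.zpowers ζ ≤ Subgroup.center Δ := by
    rw [Subgroup.zpowers_le]
    exact hζc
  have hval : ∀ w : List ℕ, ((evc f' dec w : Δ) : Equiv.Perm (Fin m.n)) = evc f dec w := by
    intro w
    have := Schur.map_evc (dec := dec) (Subgroup.subtype Δ) f' w
    exact this
  have hex' : ∀ b ∈ exactL, evc f' dec b = 1 := by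
    intro b hb
    apply Subtype.ext
    rw [hval]
    exact hex b hb
  have hrho' : evc f' dec rho = ζ := by
    apply Subtype.ext
    rw [hval]
  have hce' : ∀ ρ ∈ centL, evc f' dec ρ ∈ Subgroup.zpowers ζ := by
    intro ρ hρ
    rcases hce ρ hρ with rfl | hb
    · rw [hrho']
      exact Subgroup.mem_zpowers ζ
    · have : evc f' dec ρ = 1 := by
        apply Subtype.ext
        rw [hval]
        exact hb
      rw [this]
      exact Subgroup.one_mem _
  obtain ⟨φ, hφ⟩ := Schur.exists_hom_weak0 hcod (Subgroup.zpowers ζ) hZc f' exactL centL gensL hex' hce'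
  have hφw : ∀ w : List ℕ,
      φ (evc (PresentedGroup.of (rels := relSet dec (exactL ++ Schur.weakify0 gensL centL))) dec w) =
        evc f' dec w := by
    intro w
    rw [Schur.map_evc]
    congr 1
    funext x
    exact hφ x
  have hpow : ∀ (j : ℕ) (k : Fin m.n), ((R ^ j) k).val = z^[j] k.val := by
    intro j
    induction j with
    | zero => intro k; rfl
    | succ j ih =>
      intro k
      rw [pow_succ, Equiv.Perm.mul_apply, ih, hRv, Function.iterate_succ_apply]
  refine ⟨Δ, inferInstance, φ, ?_, ?_, ?_⟩
  · rw [hφw, hrho']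
    intro h1
    have h2 : R = 1 := congrArg Subtype.val h1
    have h3 := hRv ⟨0, hm.npos⟩
    rw [h2] at h3
    exact hz0 h3.symm
  · rw [hφw, hrho']
    apply Subtype.ext
    show R ^ N = 1
    ext k
    rw [hpow, hzN]
    rfl
  · intro b hb
    rw [hφw]
    apply Subtype.ext
    rw [hval]
    exact hb

end Hom

end Cfsg.Agent.Lib.Helper19.CentModel
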