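import Cfsg.Agent.Lib.Helper19.CentModel

set_option autoImplicit false
set_option linter.unusedVariables false
set_option linter.unusedSectionVars false

/-! A variant of `CentModel.exists_hom_central` in which several words of `centL` may act as the same
central map as `rho` (used for the triple cover of the O'Nan group, where three relators of the
presentation all lift to the same central element). Also: two words of which the concatenation with
an inverse is a checked relator act equally. -/

namespace Cfsg.Agent.Lib.Helper19.CentModel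

open Cfsg Cfsg.Agent.Helper4.TC

section Hom2

variable {α : Type} {dec : ℕ → Letter α} {enc : α → ℕ} {m : MData} {bases : List (List ℕ)}

/-- if the word `u ++ invW v` is a checked relator, then `u` and `v` act equally -/
theorem evc_eq_of_mem_invW (hcod : Coding dec enc m.nc) (hm : ModelOK m bases []) (u v : List ℕ)
    (hb : u ++ invW v ∈ bases) : evc (permG hm hcod) dec u = evc (permG hm hcod) dec v := by
  have h := evc_eq_one_of_mem hcod hm _ hb
  rw [evc_append, evc_invW _ hcod] at h
  exact (inv_mul_eq_one.mp h).symm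

theorem exists_hom_central2 (hcod : Coding dec enc m.nc) (hm : ModelOK m bases []) (z : ℕ → ℕ)
    (rho : List ℕ) (hrho : ∀ c ∈ rho, c < m.nc) (hz : ZOK m z rho) (N : ℕ)
    (hzN : ∀ k, z^[N] k = k) (hz0 : z 0 ≠ 0)
    (exactL centL gensL : List (List ℕ))
    (hex : ∀ b ∈ exactL, evc (permG hm hcod) dec b = 1)
    (hce : ∀ ρ ∈ centL, evc (permG hm hcod) dec ρ = evc (permG hm hcod) dec rho ∨
      evc (permG hm hcod) dec ρ = 1) :
    ∃ (Δ : Type) (_ : Group Δ)
      (φ : PresentedGroup (relSet dec (exactL ++ Schur.weakify0 gensL centL)) →* Δ),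
      φ (evc (PresentedGroup.of (rels := relSet dec (exactL ++ Schur.weakify0 gensL centL))) dec rho) ≠ 1 ∧
      φ (evc (PresentedGroup.of (rels := relSet dec (exactL ++ Schur.weakify0 gensL centL))) dec rho) ^ N = 1 ∧
      ∀ b : List ℕ, evc (permG hm hcod) dec b = 1 →
        φ (evc (PresentedGroup.of (rels := relSet dec (exactL ++ Schur.weakify0 gensL centL))) dec b) = 1 := by
  classical
  set f : α → Equiv.Perm (Fin m.n) := permG hm hcod with hf
  set R : Equiv.Perm (Fin m.n) := evc f dec rho with hR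
  have hRv : ∀ k : Fin m.n, (R k).val = z k.val := by
    intro k
    rw [hR, hf, evc_permG_apply hm hcod rho hrho k]
    exact (hz.pt k.val k.2).1
  have hfv : ∀ (x : α) (k : Fin m.n), (f x k).val = m.at (enc x) k.val := by
    intro x k
    exact permC_apply hm hcod.nc_even (enc x) (hcod.enc_lt x) k
  have hcomm : ∀ x : α, R * f x = f x * R := by
    intro x
    ext k
    rw [Equiv.Perm.mul_apply, Equiv.Perm.mul_apply, hRv, hfv, hfv, hRv]
    exact ((hz.pt k.val k.2).2 (enc x) (hcod.enc_lt x)).symm
  let Δ : Subgroup (Equiv.Perm (Fin m.n)) := Subgroup.centralizer ({R} : Set (Equiv.Perm (Fin m.n)))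
  have hRmem : R ∈ Δ := by
    rw [Subgroup.mem_centralizer_iff]
    intro h hh
    rw [Set.mem_singleton_iff] at hh
    rw [hh]
  have hfmem : ∀ x, f x ∈ Δ := by
    intro x
    rw [Subgroup.mem_centralizer_iff]
    intro h hh
    rw [Set.mem_singleton_iff] at hh
    rw [hh]
    exact hcomm x
  let ζ : Δ := ⟨R, hRmem⟩
  let f' : α → Δ := fun x => ⟨f x, hfmem x⟩
  have hζc : ζ ∈ Subgroup.center Δ := by
    rw [Subgroup.mem_center_iff]
    intro g
    apply Subtype.ext
    have := g.2
    rw [Subgroup.mem_centralizer_iff] at this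
    have h2 := this R (Set.mem_singleton R)
    show (g : Equiv.Perm (Fin m.n)) * R = R * (g : Equiv.Perm (Fin m.n))
    exact h2.symm
  have hZc : Subgroup.zpowers ζ ≤ Subgroup.center Δ := by
    rw [Subgroup.zpowers_le]
    exact hζc
  have hval : ∀ w : List ℕ, ((evc f' dec w : Δ) : Equiv.Perm (Fin m.n)) = evc f dec w := by
    intro w
    have := Schur.map_evc (dec := dec) (Subgroup.subtype Δ) f' w
    exact this
  have hex' : ∀ b ∈ exactL, evc f' dec b = 1 := by
    intro b hb
    apply Subtype.ext
    rw [hval]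
    exact hex b hb
  have hrho' : evc f' dec rho = ζ := by
    apply Subtype.ext
    rw [hval]
  have hce' : ∀ ρ ∈ centL, evc f' dec ρ ∈ Subgroup.zpowers ζ := by
    intro ρ hρ
    rcases hce ρ hρ with hb | hb
    · have : evc f' dec ρ = ζ := by
        apply Subtype.ext
        rw [hval]
        exact hb
      rw [this]
      exact Subgroup.mem_zpowers ζ
    · have : evc f' dec ρ = 1 := by
        apply Subtype.ext
        rw [hval]
        exact hb
      rw [this]
      exact Subgroup.one_mem _
  obtain ⟨φ, hφ⟩ := Schur.exists_hom_weak0 hcod (Subgroup.zpowers ζ) hZc f' exactL centL gensL hex' hce'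
  have hφw : ∀ w : List ℕ,
      φ (evc (PresentedGroup.of (rels := relSet dec (exactL ++ Schur.weakify0 gensL centL))) dec w) =
        evc f' dec w := by
    intro w
    rw [Schur.map_evc]
    congr 1
    funext x
    exact hφ x
  have hpow : ∀ (j : ℕ) (k : Fin m.n), ((R ^ j) k).val = z^[j] k.val := by
    intro j
    induction j with
    | zero => intro k; rfl
    | succ j ih =>
      intro k
      rw [pow_succ, Equiv.Perm.mul_apply, ih, hRv, Function.iterate_succ_apply]
  refine ⟨Δ, inferInstance, φ, ?_, ?_, ?_⟩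
  · rw [hφw, hrho']
    intro h1
    have h2 : R = 1 := congrArg Subtype.val h1
    have h3 := hRv ⟨0, hm.npos⟩
    rw [h2] at h3
    exact hz0 h3.symm
  · rw [hφw, hrho']
    apply Subtype.ext
    show R ^ N = 1
    ext k
    rw [hpow, hzN]
    rfl
  · intro b hb
    rw [hφw]
    apply Subtype.ext
    rw [hval]
    exact hb


/-- the relators are traced at the point `3 * j` only -/
noncomputable def relsRep (m : MData) (bases : List (List ℕ)) (j : ℕ) : Bool :=
  relsAt m (Nat.mul 3 j) bases

theorem relsRepRange_sound (m : MData) (bases : List (List ℕ)) (f k : ℕ)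
    (h : rangeS (relsRep m bases) f k = true) :
    ∀ j, k ≤ j → j < k + f → ∀ b ∈ bases, mtrace m b (3 * j) = 3 * j := by
  intro j h1 h2
  rw [rangeS_eq] at h
  exact relsAt_sound m (3 * j) bases
    (range_sound (relsRep m bases) (rangeL (relsRep m bases)) (fun _ => rfl) (rangeL_succ _) f k h j h1 h2)

theorem z3_lt (n k : ℕ) (hn : 3 ∣ n) (hk : k < n) : z3 k < n := by
  rw [z3_eq]
  obtain ⟨q, rfl⟩ := hn
  split_ifs <;> omega

/-- a word commutes with the shift of the fibres when every column does -/
theorem mtrace_z3 (m : MData) (hn : 3 ∣ m.n)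
    (hinv : ∀ k, k < m.n → ∀ c, c < m.nc → m.at c k < m.n)
    (hz : ∀ k, k < m.n → ∀ c, c < m.nc → m.at c (z3 k) = z3 (m.at c k))
    (b : List ℕ) (hb : ∀ c ∈ b, c < m.nc) (k : ℕ) (hk : k < m.n) :
    mtrace m b (z3 k) = z3 (mtrace m b k) := by
  induction b generalizing k with
  | nil => rfl
  | cons c cs ih =>
    rw [mtrace_cons, mtrace_cons, hz k hk c (hb c List.mem_cons_self)]
    exact ih (fun c' hc' => hb c' (List.mem_cons_of_mem _ hc')) _
      (hinv k hk c (hb c List.mem_cons_self))

/-- the relators hold at every point when they hold at the points `3 * j` and the columns commute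
with the shift of the fibres -/
theorem rel_of_reps (m : MData) (bases : List (List ℕ)) (hn : 3 ∣ m.n)
    (hinv : ∀ k, k < m.n → ∀ c, c < m.nc → m.at c k < m.n)
    (hz : ∀ k, k < m.n → ∀ c, c < m.nc → m.at c (z3 k) = z3 (m.at c k))
    (hrelc : ∀ b ∈ bases, ∀ c ∈ b, c < m.nc)
    (hrep : ∀ j, 3 * j < m.n → ∀ b ∈ bases, mtrace m b (3 * j) = 3 * j) :
    ∀ k, k < m.n → ∀ b ∈ bases, mtrace m b k = k := by
  intro k hk b hb
  obtain ⟨q, hq⟩ := hn
  have h0 : 3 * (k / 3) < m.n := by omega
  have e0 := hrep (k / 3) h0 b hb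
  have hz0 : z3 (3 * (k / 3)) = 3 * (k / 3) + 1 := by
    rw [z3_eq]; split_ifs <;> omega
  have h1 : 3 * (k / 3) + 1 < m.n := by omega
  have e1 : mtrace m b (3 * (k / 3) + 1) = 3 * (k / 3) + 1 := by
    rw [← hz0, mtrace_z3 m ⟨q, hq⟩ hinv hz b (hrelc b hb) _ h0, e0]
  have hz1 : z3 (3 * (k / 3) + 1) = 3 * (k / 3) + 2 := by
    rw [z3_eq]; split_ifs <;> omega
  have h2 : 3 * (k / 3) + 2 < m.n := by omega
  have e2 : mtrace m b (3 * (k / 3) + 2) = 3 * (k / 3) + 2 := by
    rw [← hz1, mtrace_z3 m ⟨q, hq⟩ hinv hz b (hrelc b hb) _ h1, e1]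
  rcases (by omega : k = 3 * (k / 3) ∨ k = 3 * (k / 3) + 1 ∨ k = 3 * (k / 3) + 2) with h | h | h
  · rw [h]; exact e0
  · rw [h]; exact e1
  · rw [h]; exact e2

end Hom2

end Cfsg.Agent.Lib.Helper19.CentModel
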