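import Mathlib
import Cfsg.Prelude.Def_CaseTheorems
import Cfsg.Prelude.Def_Transfer
import Cfsg.Agent.Lib.Helper16.Amalgam2
import Cfsg.Agent.Lib.Helper1.ExtraspecialRep

/-!
# Transport of "the centraliser of an involution has shape `p^{1+2n}.S`" along an isomorphism (helper19)

Generic: if `e : G ≃* K` and some `t : K` of order `m` has
`IsExtraspecial p (O_p(C_K(t)))`, `|O_p(C_K(t))| = N` and `C_K(t) / O_p(C_K(t)) ≃* S`, then the same holds for
`e.symm t : G`.
-/

set_option autoImplicit false

namespace Cfsg.Agent.Lib.Helper19.CentShape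

open Cfsg

section

variable {G K : Type*} [Group G] [Group K]

/-- the isomorphism of the centralisers -/
noncomputable def centEquiv (e : G ≃* K) (t : K) :
    ↥(Subgroup.centralizer ({e.symm t} : Set G)) ≃* ↥(Subgroup.centralizer ({t} : Set K)) :=
  (e.subgroupMap (Subgroup.centralizer ({e.symm t} : Set G))).trans
    (MulEquiv.subgroupCongr (by
      ext x
      rw [Subgroup.mem_map, Subgroup.mem_centralizer_iff]
      constructor
      · rintro ⟨y, hy, rfl⟩ z hz
        rw [Set.mem_singleton_iff] at hz
        subst hz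
        rw [Subgroup.mem_centralizer_iff] at hy
        have := hy (e.symm z) rfl
        have h2 := congrArg e this
        simpa using h2
      · intro hx
        refine ⟨e.symm x, ?_, by simp⟩
        rw [Subgroup.mem_centralizer_iff]
        intro z hz
        rw [Set.mem_singleton_iff] at hz
        subst hz
        have := hx t rfl
        rw [← map_mul, ← map_mul, this]))

/-- the isomorphism of the `p`-cores of two isomorphic groups -/
noncomputable def pCoreEquiv {A B : Type*} [Group A] [Group B] (p : ℕ) (f : A ≃* B) :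
    ↥(pCore p A) ≃* ↥(pCore p B) :=
  (f.subgroupMap (pCore p A)).trans
    (MulEquiv.subgroupCongr (Cfsg.Agent.Lib.Helper16.pCore_map_equiv (p := p) f))

/-- the isomorphism of the quotients by the `p`-cores -/
noncomputable def quotEquiv {A B : Type*} [Group A] [Group B] (p : ℕ) (f : A ≃* B) :
    A ⧸ pCore p A ≃* B ⧸ pCore p B :=
  QuotientGroup.congr (pCore p A) (pCore p B) f (Cfsg.Agent.Lib.Helper16.pCore_map_equiv (p := p) f)

/-- transport of the shape of a centraliser along an isomorphism -/
theorem transport {S : Type*} [Group S] (e : G ≃* K) (p m N : ℕ)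
    (h : ∃ t : K, orderOf t = m ∧
      IsExtraspecial p (pCore p ↥(Subgroup.centralizer ({t} : Set K))) ∧
      Nat.card (pCore p ↥(Subgroup.centralizer ({t} : Set K))) = N ∧
      Nonempty (↥(Subgroup.centralizer ({t} : Set K)) ⧸ pCore p ↥(Subgroup.centralizer ({t} : Set K)) ≃* S)) :
    ∃ t : G, orderOf t = m ∧
      IsExtraspecial p (pCore p ↥(Subgroup.centralizer ({t} : Set G))) ∧
      Nat.card (pCore p ↥(Subgroup.centralizer ({t} : Set G))) = N ∧
      Nonempty (↥(Subgroup.centralizer ({t} : Set G)) ⧸ pCore p ↥(Subgroup.centralizer ({t} : Set G)) ≃* S) := by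
  obtain ⟨t, ht, hE, hN, ⟨ψ⟩⟩ := h
  refine ⟨e.symm t, ?_, ?_, ?_, ?_⟩
  · rw [MulEquiv.orderOf_eq]; exact ht
  · exact Cfsg.Agent.Lib.Helper1.ESRep.isExtraspecial_of_mulEquiv (pCoreEquiv p (centEquiv e t)).symm hE
  · rw [← hN]
    exact Nat.card_congr (pCoreEquiv p (centEquiv e t)).toEquiv
  · exact ⟨(quotEquiv p (centEquiv e t)).trans ψ⟩

end

end Cfsg.Agent.Lib.Helper19.CentShape
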