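import Mathlib

/-!
# The centraliser of a double transposition in `A₆` is dihedral of order 8 (helper19, for S3261)
-/

set_option autoImplicit false

namespace Cfsg.Agent.Lib.Helper19.D8A6

open Equiv

/-- The standard double transposition `(0 1)(2 3)`. -/
def a0 : Perm (Fin 6) := swap 0 1 * swap 2 3

/-- `(0 2 1 3)(4 5)`. -/
def R0 : Perm (Fin 6) := swap 0 2 * swap 2 1 * swap 1 3 * swap 4 5

/-- `(0 1)(4 5)`. -/
def S0 : Perm (Fin 6) := swap 0 1 * swap 4 5

/-- The embedding of the dihedral group of order 8. -/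
def f0 : DihedralGroup 4 → Perm (Fin 6)
  | DihedralGroup.r i => R0 ^ i.val
  | DihedralGroup.sr i => S0 * R0 ^ i.val

theorem f0_mul : ∀ x y : DihedralGroup 4, f0 (x * y) = f0 x * f0 y := by decide +kernel

theorem f0_one : f0 1 = 1 := by decide +kernel

theorem f0_inj : ∀ x y : DihedralGroup 4, f0 x = f0 y → x = y := by decide +kernel

theorem f0_mem : ∀ x : DihedralGroup 4, Perm.sign (f0 x) = 1 ∧ f0 x * a0 = a0 * f0 x := by
  decide +kernel

theorem f0_surj : ∀ p : Perm (Fin 6), Perm.sign p = 1 → p * a0 = a0 * p → ∃ x, f0 x = p := by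
  decide +kernel

/-- `f0` as a monoid hom. -/
def F0 : DihedralGroup 4 →* Perm (Fin 6) where
  toFun := f0
  map_one' := f0_one
  map_mul' := f0_mul

theorem F0_injective : Function.Injective F0 := fun x y h => f0_inj x y h

theorem a0_order : orderOf a0 = 2 := by
  apply orderOf_eq_prime
  · decide +kernel
  · decide +kernel

theorem a0_support : a0.support.card = 4 := by decide +kernel

/-- An element of order 2 moving 4 points has cycle type `{2, 2}`. -/
theorem cycleType_of {σ : Perm (Fin 6)} (h2 : orderOf σ = 2) (h4 : σ.support.card = 4) :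
    σ.cycleType = Multiset.replicate 2 2 := by
  obtain ⟨n, hn⟩ := Perm.cycleType_prime_order (σ := σ) (by rw [h2]; exact Nat.prime_two)
  rw [h2] at hn
  have h1 := Perm.sum_cycleType σ
  rw [hn, Multiset.sum_replicate, h4, smul_eq_mul] at h1
  have : n + 1 = 2 := by omega
  rw [hn, this]

/-- Any two such elements are conjugate in `S₆`. -/
theorem exists_conj {σ : Perm (Fin 6)} (h2 : orderOf σ = 2) (h4 : σ.support.card = 4) :
    ∃ g : Perm (Fin 6), g * a0 * g⁻¹ = σ := by
  have h : IsConj a0 σ := by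
    rw [Perm.isConj_iff_cycleType_eq, cycleType_of h2 h4, cycleType_of a0_order a0_support]
  exact isConj_iff.mp h

/-- The centraliser in `A₆` of a double transposition is dihedral of order 8. -/
theorem nonempty_equiv (αt : ↥(alternatingGroup (Fin 6))) (hαt : orderOf αt = 2)
    (hsupp : (αt : Perm (Fin 6)).support.card = 4) :
    Nonempty (↥(Subgroup.centralizer ({αt} : Set ↥(alternatingGroup (Fin 6)))) ≃*
      DihedralGroup 4) := by
  have h2 : orderOf (αt : Perm (Fin 6)) = 2 := by rw [Subgroup.orderOf_coe, hαt]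
  obtain ⟨g, hg⟩ := exists_conj h2 hsupp
  -- the conjugated embedding
  let F : DihedralGroup 4 →* Perm (Fin 6) := (MulAut.conj g).toMonoidHom.comp F0
  have hFinj : Function.Injective F := (MulAut.conj g).injective.comp F0_injective
  have hFapp : ∀ x, F x = g * f0 x * g⁻¹ := fun x => rfl
  let C := Subgroup.centralizer ({αt} : Set ↥(alternatingGroup (Fin 6)))
  -- image of the centraliser in `Perm (Fin 6)`
  have hmap : C.map (alternatingGroup (Fin 6)).subtype = F.range := by
    ext p
    constructor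
    · rintro ⟨x, hx, rfl⟩
      have hx1 : Perm.sign (x : Perm (Fin 6)) = 1 := Perm.mem_alternatingGroup.mp x.2
      have hx2 : αt * x = x * αt := Subgroup.mem_centralizer_iff.mp hx αt rfl
      have hx3 : (αt : Perm (Fin 6)) * (x : Perm (Fin 6)) = (x : Perm (Fin 6)) * αt := by
        have := congrArg Subtype.val hx2
        simpa using this
      -- conjugate back
      have hs : Perm.sign (g⁻¹ * (x : Perm (Fin 6)) * g) = 1 := by
        rw [map_mul, map_mul, map_inv, hx1]
        simp
      have hc : (g⁻¹ * (x : Perm (Fin 6)) * g) * a0 = a0 * (g⁻¹ * (x : Perm (Fin 6)) * g) := by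
        have ha : a0 = g⁻¹ * (αt : Perm (Fin 6)) * g := by rw [← hg]; group
        rw [ha]
        calc g⁻¹ * (x : Perm (Fin 6)) * g * (g⁻¹ * (αt : Perm (Fin 6)) * g)
            = g⁻¹ * ((x : Perm (Fin 6)) * αt) * g := by group
          _ = g⁻¹ * ((αt : Perm (Fin 6)) * x) * g := by rw [hx3]
          _ = g⁻¹ * (αt : Perm (Fin 6)) * g * (g⁻¹ * (x : Perm (Fin 6)) * g) := by group
      obtain ⟨y, hy⟩ := f0_surj _ hs hc
      refine ⟨y, ?_⟩
      rw [hFapp, hy]
      show g * (g⁻¹ * (x : Perm (Fin 6)) * g) * g⁻¹ = (x : Perm (Fin 6))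
      group
    · rintro ⟨y, rfl⟩
      obtain ⟨hy1, hy2⟩ := f0_mem y
      have hs : Perm.sign (F y) = 1 := by
        rw [hFapp, map_mul, map_mul, map_inv, hy1]
        simp
      have hc : (αt : Perm (Fin 6)) * F y = F y * αt := by
        rw [hFapp, ← hg]
        calc g * a0 * g⁻¹ * (g * f0 y * g⁻¹) = g * (a0 * f0 y) * g⁻¹ := by group
          _ = g * (f0 y * a0) * g⁻¹ := by rw [hy2]
          _ = g * f0 y * g⁻¹ * (g * a0 * g⁻¹) := by group
      refine ⟨⟨F y, Perm.mem_alternatingGroup.mpr hs⟩, ?_, rfl⟩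
      show (⟨F y, _⟩ : ↥(alternatingGroup (Fin 6))) ∈ Subgroup.centralizer {αt}
      rw [Subgroup.mem_centralizer_iff]
      intro h hh
      rw [Set.mem_singleton_iff] at hh
      subst hh
      apply Subtype.ext
      exact hc
  have e1 : C ≃* C.map (alternatingGroup (Fin 6)).subtype :=
    C.equivMapOfInjective _ (Subgroup.subtype_injective _)
  have e2 : C.map (alternatingGroup (Fin 6)).subtype ≃* F.range := MulEquiv.subgroupCongr hmap
  have e3 : DihedralGroup 4 ≃* F.range := MonoidHom.ofInjective hFinj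
  exact ⟨(e1.trans e2).trans e3.symm⟩

end Cfsg.Agent.Lib.Helper19.D8A6
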