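import Mathlib
import Cfsg.Agent.S0848
import Cfsg.Agent.S0107
import Cfsg.Agent.Lib.Helper17.PResidual

/-!
# Groups with a 2-central involution whose centraliser is dihedral of order 8 (helper19, for S3261)

If `G` has no subgroup of index 2 and `C_G(α) ≅ D₈` for a 2-central involution `α`, then `G` is
simple of order 168 or 360.
-/

set_option autoImplicit false

namespace Cfsg.Agent.Lib.Helper19.D8Char

open Subgroup DihedralGroup

theorem d4_center' : ∀ g : DihedralGroup 4, (∀ k : DihedralGroup 4, k * g = g * k) →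
    g = 1 ∨ g = r 2 := by decide

theorem d4_prod : ∀ g : DihedralGroup 4, ∃ a b : DihedralGroup 4, a * a = 1 ∧ b * b = 1 ∧
    g = a * b := by decide

theorem d4_noncomm : (r 1 : DihedralGroup 4) * sr 0 ≠ sr 0 * r 1 := by decide

theorem d4_sr0 : (sr 0 : DihedralGroup 4) * sr 0 = 1 ∧ (sr 0 : DihedralGroup 4) ≠ 1 ∧
    (sr 0 : DihedralGroup 4) ≠ r 2 := by decide

variable {G : Type*} [Group G]

/-- An involution acting without fixed points on a finite normal subgroup inverts it. -/
theorem inverts_of_fpf [Finite G] (M : Subgroup G) [hM : M.Normal] {t : G} (ht : t * t = 1)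
    (hfix : ∀ x ∈ M, x * t = t * x → x = 1) : ∀ x ∈ M, t * x * t⁻¹ = x⁻¹ := by
  have hti : t⁻¹ = t := inv_eq_of_mul_eq_one_left ht
  let φ : M → M := fun y => ⟨(y : G)⁻¹ * (t * (y : G) * t⁻¹),
    M.mul_mem (M.inv_mem y.2) (hM.conj_mem _ y.2 t)⟩
  have hinj : Function.Injective φ := by
    intro y w hyw
    have h1 : (y : G)⁻¹ * (t * (y : G) * t⁻¹) = (w : G)⁻¹ * (t * (w : G) * t⁻¹) :=
      congrArg Subtype.val hyw
    have h2 : ((w : G) * (y : G)⁻¹) * t = t * ((w : G) * (y : G)⁻¹) := by
      have h3 : (w : G) * ((y : G)⁻¹ * (t * (y : G) * t⁻¹)) * t * (y : G)⁻¹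
          = (w : G) * ((w : G)⁻¹ * (t * (w : G) * t⁻¹)) * t * (y : G)⁻¹ := by rw [h1]
      have h4 : (w : G) * ((y : G)⁻¹ * (t * (y : G) * t⁻¹)) * t * (y : G)⁻¹
          = ((w : G) * (y : G)⁻¹) * t := by group
      have h5 : (w : G) * ((w : G)⁻¹ * (t * (w : G) * t⁻¹)) * t * (y : G)⁻¹
          = t * ((w : G) * (y : G)⁻¹) := by group
      rw [← h4, h3, h5]
    have h6 := hfix _ (M.mul_mem w.2 (M.inv_mem y.2)) h2
    have h7 : (w : G) = (y : G) := by
      calc (w : G) = ((w : G) * (y : G)⁻¹) * (y : G) := by group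
        _ = (y : G) := by rw [h6, one_mul]
    exact (Subtype.ext h7).symm
  have hsurj : Function.Surjective φ := Finite.injective_iff_surjective.mp hinj
  intro x hx
  obtain ⟨y, hy⟩ := hsurj ⟨x, hx⟩
  have hxy : x = (y : G)⁻¹ * (t * (y : G) * t⁻¹) := (congrArg Subtype.val hy).symm
  rw [hxy, hti]
  have h8 : t * ((y : G)⁻¹ * (t * (y : G) * t)) * t = (t * (y : G)⁻¹ * t) * (y : G) * (t * t) := by
    group
  have h9 : ((y : G)⁻¹ * (t * (y : G) * t))⁻¹ = t⁻¹ * (y : G)⁻¹ * t⁻¹ * (y : G) := by group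
  rw [h8, h9, ht, mul_one, hti]

/-- If `G` has no subgroup of index 2 then `O^2(G) = G`. -/
theorem pResidual_eq_top [Finite G] (hG : ∀ H : Subgroup G, H.index ≠ 2) :
    Cfsg.pResidual 2 G = ⊤ := by
  haveI : Fact (Nat.Prime 2) := ⟨Nat.prime_two⟩
  by_contra hne
  set R := Cfsg.pResidual 2 G with hR
  haveI : R.Normal := Cfsg.Agent.Lib.Helper17.pResidual_normal
  have hQ : IsPGroup 2 (G ⧸ R) := Cfsg.Agent.Lib.Helper17.quotient_pResidual_isPGroup
  obtain ⟨k, hk⟩ := IsPGroup.iff_card.mp hQ
  have hk0 : k ≠ 0 := by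
    intro h0
    rw [h0, pow_zero] at hk
    apply hne
    rw [← Subgroup.index_eq_one]
    exact hk
  obtain ⟨K, hK⟩ := Sylow.exists_subgroup_card_pow_prime (G := G ⧸ R) 2 (n := k - 1)
    (by rw [hk]; exact pow_dvd_pow 2 (by omega))
  have hidx : K.index = 2 := by
    have h1 := K.card_mul_index
    rw [hK, hk] at h1
    have h2 : (2 : ℕ) ^ k = 2 ^ (k - 1) * 2 := by
      rw [← pow_succ]; congr 1; omega
    rw [h2] at h1
    exact Nat.eq_of_mul_eq_mul_left (pow_pos (by norm_num) _) h1
  apply hG (K.comap (QuotientGroup.mk' R))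
  rw [Subgroup.index_comap_of_surjective _ (QuotientGroup.mk'_surjective R), hidx]

theorem main [Finite G] (hG : ∀ H : Subgroup G, H.index ≠ 2) (α : G) (hα : orderOf α = 2)
    (S : Sylow 2 G) (hαS : α ∈ (S : Subgroup G))
    (hαc : ∀ s ∈ (S : Subgroup G), s * α = α * s)
    (e : ↥(centralizer ({α} : Set G)) ≃* DihedralGroup 4) :
    IsSimpleGroup G ∧ (Nat.card G = 168 ∨ Nat.card G = 360) := by
  haveI : Fact (Nat.Prime 2) := ⟨Nat.prime_two⟩
  have hα1 : α ≠ 1 := by
    intro h
    rw [h, orderOf_one] at hα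
    omega
  have hαα : α * α = 1 := by
    rw [← pow_two, ← hα]; exact pow_orderOf_eq_one α
  have hαi : α⁻¹ = α := inv_eq_of_mul_eq_one_left hαα
  -- (A) the centraliser is the Sylow subgroup
  have hle : (S : Subgroup G) ≤ centralizer ({α} : Set G) := by
    intro s hs
    rw [mem_centralizer_iff]
    intro h hh
    rw [Set.mem_singleton_iff] at hh
    subst hh
    exact (hαc s hs).symm
  have hcard : Nat.card (centralizer ({α} : Set G)) = 8 := by
    rw [Nat.card_congr e.toEquiv, Nat.card_eq_fintype_card, DihedralGroup.card]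
  have hp : IsPGroup 2 (centralizer ({α} : Set G)) :=
    IsPGroup.of_card (n := 3) (by rw [hcard]; norm_num)
  have hCS : centralizer ({α} : Set G) = (S : Subgroup G) := S.3 hp hle
  -- (B)
  let eS : ↥(S : Subgroup G) ≃* DihedralGroup 4 := (MulEquiv.subgroupCongr hCS.symm).trans e
  -- (C), (D)
  have hO := pResidual_eq_top hG
  have hconj : ∀ x y : G, orderOf x = 2 → orderOf y = 2 → ∃ g : G, g * x * g⁻¹ = y := by
    intro x y hx hy
    exact Cfsg.Agent.S0107.result S 2 (le_refl 2) ⟨eS⟩ hO x y hx hy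
  -- the image of `α` is the central involution
  have hcen : ∀ (z : G) (hz : z ∈ (S : Subgroup G)), (∀ s ∈ (S : Subgroup G), s * z = z * s) →
      z = 1 ∨ eS ⟨z, hz⟩ = r 2 := by
    intro z hz hzc
    have h1 : ∀ k : DihedralGroup 4, k * eS ⟨z, hz⟩ = eS ⟨z, hz⟩ * k := by
      intro k
      obtain ⟨s, rfl⟩ := eS.surjective k
      rw [← map_mul, ← map_mul]
      congr 1
      apply Subtype.ext
      exact hzc s s.2
    rcases d4_center' _ h1 with h | h
    · left
      have : (⟨z, hz⟩ : (S : Subgroup G)) = 1 := eS.injective (by rw [h, map_one])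
      exact congrArg Subtype.val this
    · right; exact h
  have hαr : eS ⟨α, hαS⟩ = r 2 := by
    rcases hcen α hαS hαc with h | h
    · exact absurd h hα1
    · exact h
  have hcen' : ∀ z ∈ (S : Subgroup G), (∀ s ∈ (S : Subgroup G), s * z = z * s) →
      z = 1 ∨ z = α := by
    intro z hz hzc
    rcases hcen z hz hzc with h | h
    · left; exact h
    · right
      have : (⟨z, hz⟩ : (S : Subgroup G)) = ⟨α, hαS⟩ := eS.injective (by rw [h, hαr])
      exact congrArg Subtype.val this
  -- (E) the Sylow subgroup is self-normalising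
  have hNS : normalizer ((S : Subgroup G) : Set G) ≤ (S : Subgroup G) := by
    intro g hg
    have hg' : g⁻¹ ∈ normalizer ((S : Subgroup G) : Set G) := Subgroup.inv_mem _ hg
    have h1 : g * α * g⁻¹ ∈ (S : Subgroup G) := (mem_normalizer_iff.mp hg α).mp hαS
    have h2 : ∀ s ∈ (S : Subgroup G), s * (g * α * g⁻¹) = (g * α * g⁻¹) * s := by
      intro s hs
      have h3 : g⁻¹ * s * g⁻¹⁻¹ ∈ (S : Subgroup G) := (mem_normalizer_iff.mp hg' s).mp hs
      have h4 := hαc _ h3
      calc s * (g * α * g⁻¹) = g * ((g⁻¹ * s * g⁻¹⁻¹) * α) * g⁻¹ := by group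
        _ = g * (α * (g⁻¹ * s * g⁻¹⁻¹)) * g⁻¹ := by rw [h4]
        _ = (g * α * g⁻¹) * s := by group
    rcases hcen' _ h1 h2 with h | h
    · exfalso
      apply hα1
      calc α = g⁻¹ * (g * α * g⁻¹) * g := by group
        _ = 1 := by rw [h]; group
    · rw [← hCS, mem_centralizer_iff]
      intro x hx
      rw [Set.mem_singleton_iff] at hx
      rw [hx]
      calc α * g = (g * α * g⁻¹)⁻¹⁻¹ * g := by rw [h]; group
        _ = g * α := by group
  -- (F) Frattini
  have hfrat : ∀ M : Subgroup G, M.Normal → (S : Subgroup G) ≤ M → M = ⊤ := by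
    intro M hM hSM
    have h1 := Sylow.normalizer_sup_eq_top' S hSM
    rw [← top_le_iff, ← h1]
    rw [← Sylow.coe_coe]
    exact sup_le (hNS.trans hSM) le_rfl
  -- (G) a normal subgroup with an involution contains `S`
  have hinv : ∀ M : Subgroup G, M.Normal → (∃ t ∈ M, orderOf t = 2) → (S : Subgroup G) ≤ M := by
    intro M hM ⟨t, htM, ht⟩ x hx
    have hsq : ∀ a : G, a * a = 1 → a ∈ M := by
      intro a ha
      by_cases ha1 : a = 1
      · rw [ha1]; exact M.one_mem
      · have hao : orderOf a = 2 := orderOf_eq_prime (by rw [pow_two]; exact ha) ha1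
        obtain ⟨g, hg⟩ := hconj t a ht hao
        rw [← hg]
        exact hM.conj_mem t htM g
    obtain ⟨a, b, ha, hb, hab⟩ := d4_prod (eS ⟨x, hx⟩)
    have hx' : (⟨x, hx⟩ : (S : Subgroup G)) = eS.symm a * eS.symm b := by
      apply eS.injective
      rw [map_mul, MulEquiv.apply_symm_apply, MulEquiv.apply_symm_apply, hab]
    have ha' : ((eS.symm a : (S : Subgroup G)) : G) * (eS.symm a : (S : Subgroup G)) = 1 := by
      have : eS.symm a * eS.symm a = 1 := by rw [← map_mul, ha, map_one]
      exact congrArg Subtype.val this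
    have hb' : ((eS.symm b : (S : Subgroup G)) : G) * (eS.symm b : (S : Subgroup G)) = 1 := by
      have : eS.symm b * eS.symm b = 1 := by rw [← map_mul, hb, map_one]
      exact congrArg Subtype.val this
    have hx'' : x = ((eS.symm a : (S : Subgroup G)) : G) * (eS.symm b : (S : Subgroup G)) :=
      congrArg Subtype.val hx'
    rw [hx'']
    exact M.mul_mem (hsq _ ha') (hsq _ hb')
  -- (H) a normal subgroup without involutions is trivial
  have hnoinv : ∀ M : Subgroup G, M.Normal → (¬ ∃ t ∈ M, orderOf t = 2) → M = ⊥ := by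
    intro M hM hno
    -- fixed points of `α` on `M`
    have hfixα : ∀ x ∈ M, x * α = α * x → x = 1 := by
      intro x hxM hxα
      have hxS : x ∈ centralizer ({α} : Set G) := by
        rw [mem_centralizer_iff]
        intro h hh
        rw [Set.mem_singleton_iff] at hh
        subst hh
        exact hxα.symm
      obtain ⟨k, hk⟩ := (IsPGroup.iff_orderOf.mp hp) ⟨x, hxS⟩
      rw [Subgroup.orderOf_mk] at hk
      by_contra hx1
      have hk0 : k ≠ 0 := by
        intro h0
        rw [h0, pow_zero] at hk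
        exact hx1 (orderOf_eq_one_iff.mp hk)
      have h2 : 2 ∣ orderOf x := by rw [hk]; exact dvd_pow_self 2 hk0
      have h3 : orderOf (x ^ (orderOf x / 2)) = 2 :=
        orderOf_pow_orderOf_div (orderOf_pos x).ne' h2
      exact hno ⟨_, M.pow_mem hxM _, h3⟩
    have hfix : ∀ t : G, orderOf t = 2 → ∀ x ∈ M, x * t = t * x → x = 1 := by
      intro t ht x hxM hxt
      obtain ⟨g, hg⟩ := hconj α t hα ht
      have h1 : g⁻¹ * x * g⁻¹⁻¹ ∈ M := hM.conj_mem x hxM g⁻¹
      have h2 : (g⁻¹ * x * g⁻¹⁻¹) * α = α * (g⁻¹ * x * g⁻¹⁻¹) := by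
        have : α = g⁻¹ * t * g := by rw [← hg]; group
        rw [this]
        calc g⁻¹ * x * g⁻¹⁻¹ * (g⁻¹ * t * g) = g⁻¹ * (x * t) * g := by group
          _ = g⁻¹ * (t * x) * g := by rw [hxt]
          _ = g⁻¹ * t * g * (g⁻¹ * x * g⁻¹⁻¹) := by group
      have h3 := hfixα _ h1 h2
      calc x = g * (g⁻¹ * x * g⁻¹⁻¹) * g⁻¹ := by group
        _ = 1 := by rw [h3]; group
    -- a second involution of `S`
    obtain ⟨hs1, hs2, hs3⟩ := d4_sr0
    set b : G := ((eS.symm (sr 0) : (S : Subgroup G)) : G) with hb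
    have hbS : b ∈ (S : Subgroup G) := (eS.symm (sr 0)).2
    have hbb : b * b = 1 := by
      have : eS.symm (sr 0) * eS.symm (sr 0) = 1 := by rw [← map_mul, hs1, map_one]
      exact congrArg Subtype.val this
    have hb1 : b ≠ 1 := by
      intro h
      apply hs2
      have : eS.symm (sr 0) = 1 := Subtype.ext h
      have h2 := congrArg eS this
      rwa [MulEquiv.apply_symm_apply, map_one] at h2
    have hbα : b ≠ α := by
      intro h
      apply hs3
      have : eS.symm (sr 0) = ⟨α, hαS⟩ := Subtype.ext h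
      have h2 := congrArg eS this
      rwa [MulEquiv.apply_symm_apply, hαr] at h2
    have hbo : orderOf b = 2 := orderOf_eq_prime (by rw [pow_two]; exact hbb) hb1
    have hcomm : b * α = α * b := hαc b hbS
    have hab1 : α * b ≠ 1 := by
      intro h
      apply hbα
      calc b = α⁻¹ * (α * b) := by group
        _ = α := by rw [h, mul_one, hαi]
    have habab : (α * b) * (α * b) = 1 := by
      calc (α * b) * (α * b) = α * (b * α) * b := by group
        _ = α * (α * b) * b := by rw [hcomm]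
        _ = (α * α) * (b * b) := by group
        _ = 1 := by rw [hαα, hbb, one_mul]
    have habo : orderOf (α * b) = 2 := orderOf_eq_prime (by rw [pow_two]; exact habab) hab1
    have iα := inverts_of_fpf M hαα (hfix α hα)
    have ib := inverts_of_fpf M hbb (hfix b hbo)
    have iab := inverts_of_fpf M habab (hfix (α * b) habo)
    rw [Subgroup.eq_bot_iff_forall]
    intro x hxM
    have h1 : (α * b) * x * (α * b)⁻¹ = x := by
      calc (α * b) * x * (α * b)⁻¹ = α * (b * x * b⁻¹) * α⁻¹ := by group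
        _ = α * x⁻¹ * α⁻¹ := by rw [ib x hxM]
        _ = (α * x * α⁻¹)⁻¹ := by group
        _ = x := by rw [iα x hxM, inv_inv]
    have h2 : x = x⁻¹ := by rw [← iab x hxM, h1]
    have hxx : x * x = 1 := by
      calc x * x = x * x⁻¹ := by rw [← h2]
        _ = 1 := mul_inv_cancel x
    by_contra hx1
    exact hno ⟨x, hxM, orderOf_eq_prime (by rw [pow_two]; exact hxx) hx1⟩
  -- (I) simplicity
  haveI : Nontrivial G := ⟨⟨α, 1, hα1⟩⟩
  have hsimple : IsSimpleGroup G := by
    refine ⟨fun M hM => ?_⟩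
    by_cases hex : ∃ t ∈ M, orderOf t = 2
    · right
      exact hfrat M hM (hinv M hM hex)
    · left
      exact hnoinv M hM hex
  refine ⟨hsimple, ?_⟩
  -- (J) perfect
  have hperf : commutator G = ⊤ := by
    rcases hsimple.eq_bot_or_eq_top_of_normal (commutator G) inferInstance with h | h
    · exfalso
      apply d4_noncomm
      have hc : ∀ a c : G, a * c = c * a := by
        intro a c
        have h1 : a ∈ Subgroup.center G := by
          rw [(_root_.commutator_eq_bot_iff_center_eq_top G).mp h]; exact mem_top a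
        exact (Subgroup.mem_center_iff.mp h1 c).symm
      have h2 : eS.symm (r 1) * eS.symm (sr 0) = eS.symm (sr 0) * eS.symm (r 1) :=
        Subtype.ext (hc _ _)
      have h3 := congrArg eS h2
      simpa using h3
    · exact h
  exact Cfsg.Agent.S0848.result hperf α hα e

end Cfsg.Agent.Lib.Helper19.D8Char
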