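import Mathlib

/-!
# Involutions with dihedral centraliser of order 8: basic set-up (helper19, for S3035)

`f : DihedralGroup 4 →* G` injective with image `C_G(z)`, `z = f (r 2)`.
-/

set_option autoImplicit false
set_option linter.unusedSectionVars false
set_option linter.style.haveILetI false

namespace Cfsg.Agent.Lib.Helper19.D8Inv

open Subgroup DihedralGroup

theorem d4_center : ∀ g : DihedralGroup 4, (∀ k : DihedralGroup 4, k * g = g * k) →
    g = 1 ∨ g = r 2 := by decide

theorem d4_invol : ∀ g : DihedralGroup 4, g * g = 1 →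
    g = 1 ∨ g = r 2 ∨ g = sr 0 ∨ g = sr 1 ∨ g = sr 2 ∨ g = sr 3 := by decide

theorem d4_r2_central : ∀ g : DihedralGroup 4, g * r 2 = r 2 * g := by decide

theorem d4_pow8 : ∀ g : DihedralGroup 4, g ^ 8 = 1 := by decide

theorem d4_gen : ∀ d : DihedralGroup 4, d = 1 ∨ d = sr 0 ∨ d = sr 1 ∨ d = sr 0 * sr 1 ∨
    d = sr 1 * sr 0 ∨ d = sr 0 * sr 1 * sr 0 ∨ d = sr 1 * sr 0 * sr 1 ∨
    d = sr 0 * sr 1 * sr 0 * sr 1 := by decide

theorem d4_sr2 : (sr 2 : DihedralGroup 4) = r 1 * sr 0 * (r 1)⁻¹ := by decide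

theorem d4_sr3 : (sr 3 : DihedralGroup 4) = r 1 * sr 1 * (r 1)⁻¹ := by decide

theorem d4_card : Nat.card (DihedralGroup 4) = 8 := by
  rw [DihedralGroup.nat_card]

variable {G : Type*} [Group G]

/-- The set-up: `f` is an injective homomorphism from `D₈` onto the centraliser of `f (r 2)`. -/
structure Setup (f : DihedralGroup 4 →* G) : Prop where
  inj : Function.Injective f
  cent : ∀ x : G, x * f (r 2) = f (r 2) * x → ∃ d, f d = x

/-- An isomorphism `C_G(z) ≃* D₈` gives a set-up with `f (r 2) = z`. -/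
theorem exists_setup (z : G) (hz : orderOf z = 2)
    (e : ↥(centralizer ({z} : Set G)) ≃* DihedralGroup 4) :
    ∃ f : DihedralGroup 4 →* G, Setup f ∧ f (r 2) = z := by
  have hz1 : z ≠ 1 := by
    intro h
    rw [h, orderOf_one] at hz
    omega
  let f : DihedralGroup 4 →* G := (centralizer ({z} : Set G)).subtype.comp e.symm.toMonoidHom
  have hfe : ∀ d, f d = ((e.symm d : ↥(centralizer ({z} : Set G))) : G) := fun d => rfl
  have hzmem : z ∈ centralizer ({z} : Set G) := by
    rw [mem_centralizer_iff]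
    intro h hh
    rw [Set.mem_singleton_iff] at hh
    rw [hh]
  have hcz : ∀ k : DihedralGroup 4, k * e ⟨z, hzmem⟩ = e ⟨z, hzmem⟩ * k := by
    intro k
    have h1 : (e.symm k : ↥(centralizer ({z} : Set G))) * ⟨z, hzmem⟩
        = ⟨z, hzmem⟩ * e.symm k := by
      apply Subtype.ext
      have h2 := (e.symm k).2
      rw [mem_centralizer_iff] at h2
      have h3 := h2 z (Set.mem_singleton z)
      simp only [Subgroup.coe_mul]
      exact h3.symm
    have h4 := congrArg e h1
    rw [map_mul, map_mul, MulEquiv.apply_symm_apply] at h4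
    exact h4
  have hez : e ⟨z, hzmem⟩ = r 2 := by
    rcases d4_center _ hcz with h | h
    · exfalso
      apply hz1
      have h5 : (⟨z, hzmem⟩ : ↥(centralizer ({z} : Set G))) = 1 := by
        rw [← e.map_eq_one_iff]
        exact h
      exact congrArg Subtype.val h5
    · exact h
  have hfz : f (r 2) = z := by
    rw [hfe, ← hez, MulEquiv.symm_apply_apply]
  refine ⟨f, ⟨?_, ?_⟩, hfz⟩
  · intro a b hab
    have h1 : e.symm a = e.symm b := Subtype.ext hab
    exact e.symm.injective h1
  · intro x hx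
    rw [hfz] at hx
    have hxm : x ∈ centralizer ({z} : Set G) := by
      rw [mem_centralizer_iff]
      intro h hh
      rw [Set.mem_singleton_iff] at hh
      rw [hh]
      exact hx.symm
    refine ⟨e ⟨x, hxm⟩, ?_⟩
    rw [hfe, MulEquiv.symm_apply_apply]

namespace Setup

variable {f : DihedralGroup 4 →* G} (h : Setup f)

include h

theorem comm (d : DihedralGroup 4) : f d * f (r 2) = f (r 2) * f d := by
  rw [← map_mul, ← map_mul, d4_r2_central]

theorem z_ne_one : f (r 2) ≠ 1 := by
  intro h1
  have h2 : f (r 2) = f 1 := by rw [h1, map_one]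
  have h3 := h.inj h2
  revert h3
  decide

theorem z_sq : f (r 2) * f (r 2) = 1 := by
  rw [← map_mul]
  have : (r 2 : DihedralGroup 4) * r 2 = 1 := by decide
  rw [this, map_one]

theorem orderOf_z : orderOf (f (r 2)) = 2 := by
  apply orderOf_eq_prime
  · rw [pow_two]; exact h.z_sq
  · exact h.z_ne_one

theorem z_inv : (f (r 2))⁻¹ = f (r 2) := inv_eq_of_mul_eq_one_left h.z_sq

theorem centralizer_eq_range : centralizer ({f (r 2)} : Set G) = f.range := by
  ext x
  rw [mem_centralizer_iff, MonoidHom.mem_range]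
  constructor
  · intro hx
    exact h.cent x (hx _ (Set.mem_singleton _)).symm
  · rintro ⟨d, rfl⟩ y hy
    rw [Set.mem_singleton_iff] at hy
    rw [hy]
    exact (h.comm d).symm

theorem card_range : Nat.card f.range = 8 := by
  rw [← d4_card]
  exact (Nat.card_congr (Equiv.ofInjective f h.inj)).symm

theorem card_centralizer : Nat.card (centralizer ({f (r 2)} : Set G)) = 8 := by
  rw [h.centralizer_eq_range, h.card_range]

/-- The centraliser is a Sylow 2-subgroup. -/
theorem exists_sylow [Finite G] : ∃ S : Sylow 2 G,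
    (S : Subgroup G) = centralizer ({f (r 2)} : Set G) := by
  haveI : Fact (Nat.Prime 2) := ⟨Nat.prime_two⟩
  have hT2 : IsPGroup 2 (f.range) := by
    apply IsPGroup.of_card (n := 3)
    rw [h.card_range]; norm_num
  obtain ⟨S, hS⟩ := hT2.exists_le_sylow
  refine ⟨S, ?_⟩
  rw [h.centralizer_eq_range]
  apply le_antisymm _ hS
  -- the centre of `S` is nontrivial
  haveI : Nontrivial (S : Subgroup G) := by
    refine ⟨⟨⟨f (r 2), hS ⟨r 2, rfl⟩⟩, 1, ?_⟩⟩
    intro h1
    exact h.z_ne_one (congrArg Subtype.val h1)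
  haveI := IsPGroup.center_nontrivial S.2
  obtain ⟨c, hc⟩ := exists_ne (1 : center (S : Subgroup G))
  have hcc : ∀ s ∈ (S : Subgroup G), s * ((c : (S : Subgroup G)) : G) = ((c : (S : Subgroup G)) : G) * s := by
    intro s hs
    have h1 := c.2
    rw [Subgroup.mem_center_iff] at h1
    have h2 := h1 ⟨s, hs⟩
    exact congrArg Subtype.val h2
  -- `c` lies in the range and is central there, so `c = z`
  obtain ⟨d, hd⟩ := h.cent ((c : (S : Subgroup G)) : G)
    (hcc _ (hS ⟨r 2, rfl⟩)).symm
  have hdc : ∀ k : DihedralGroup 4, k * d = d * k := by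
    intro k
    apply h.inj
    rw [map_mul, map_mul, hd]
    exact hcc _ (hS ⟨k, rfl⟩)
  have hd2 : d = r 2 := by
    rcases d4_center d hdc with h1 | h1
    · exfalso
      apply hc
      apply Subtype.ext
      apply Subtype.ext
      rw [← hd, h1, map_one]
      rfl
    · exact h1
  intro s hs
  have h3 := hcc s hs
  rw [← hd, hd2] at h3
  obtain ⟨d', hd'⟩ := h.cent s h3
  exact ⟨d', hd'⟩

theorem factorization_card [Finite G] : (Nat.card G).factorization 2 = 3 := by
  haveI : Fact (Nat.Prime 2) := ⟨Nat.prime_two⟩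
  obtain ⟨S, hS⟩ := h.exists_sylow
  have h1 := S.card_eq_multiplicity
  have h2 : Nat.card (S : Subgroup G) = 8 := by
    rw [hS]; exact h.card_centralizer
  rw [h2] at h1
  have h3 : (2 : ℕ) ^ 3 = 2 ^ (Nat.card G).factorization 2 := by
    rw [← h1]; norm_num
  exact (Nat.pow_right_injective (le_refl 2) h3).symm

end Setup

end Cfsg.Agent.Lib.Helper19.D8Inv
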