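import Mathlib
import Cfsg.Agent.S0215
import Cfsg.Agent.Lib.Helper19.D8InvA

/-!
# Involutions with dihedral centraliser of order 8: the isolated case and the fully fused case
(helper19, for S3035)
-/

set_option autoImplicit false
set_option linter.unusedSectionVars false
set_option linter.style.haveILetI false

namespace Cfsg.Agent.Lib.Helper19.D8Inv

open Subgroup DihedralGroup

variable {G : Type*} [Group G]

theorem d4_r1_sq : (r 1 : DihedralGroup 4) ^ 2 = r 2 := by decide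

namespace Setup

variable {f : DihedralGroup 4 →* G} (h : Setup f)

include h

/-- A conjugate of `z` lying in `C(z)` is `z` or is conjugate to `f (sr 0)` or `f (sr 1)`. -/
theorem conj_cases (g : G) (hg : g * f (r 2) * g⁻¹ * f (r 2) = f (r 2) * (g * f (r 2) * g⁻¹)) :
    g * f (r 2) * g⁻¹ = f (r 2) ∨ (∃ k : G, k * f (r 2) * k⁻¹ = f (sr 0)) ∨
      (∃ k : G, k * f (r 2) * k⁻¹ = f (sr 1)) := by
  obtain ⟨d, hd⟩ := h.cent _ hg
  have hdd : d * d = 1 := by
    apply h.inj
    rw [map_mul, hd, map_one]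
    have : g * f (r 2) * g⁻¹ * (g * f (r 2) * g⁻¹) = g * (f (r 2) * f (r 2)) * g⁻¹ := by group
    rw [this, h.z_sq]; group
  have hd1 : d ≠ 1 := by
    intro h1
    rw [h1, map_one] at hd
    apply h.z_ne_one
    have : f (r 2) = g⁻¹ * (g * f (r 2) * g⁻¹) * g := by group
    rw [this, ← hd]; group
  rcases d4_invol d hdd with h1 | h1 | h1 | h1 | h1 | h1
  · exact absurd h1 hd1
  · left; rw [← hd, h1]
  · right; left; exact ⟨g, by rw [← hd, h1]⟩
  · right; right; exact ⟨g, by rw [← hd, h1]⟩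
  · right; left
    refine ⟨(f (r 1))⁻¹ * g, ?_⟩
    have h2 : f (sr 0) = (f (r 1))⁻¹ * f (sr 2) * f (r 1) := by
      rw [d4_sr2, map_mul, map_mul, map_inv]; group
    rw [h2, ← h1, hd]; group
  · right; right
    refine ⟨(f (r 1))⁻¹ * g, ?_⟩
    have h2 : f (sr 1) = (f (r 1))⁻¹ * f (sr 3) * f (r 1) := by
      rw [d4_sr3, map_mul, map_mul, map_inv]; group
    rw [h2, ← h1, hd]; group

/-- The isolated case: `G = C(z) O(G)` by Glauberman's `Z*`-theorem. -/
theorem case_isolated [Finite G]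
    (hA : ¬ ∃ g : G, g * f (r 2) * g⁻¹ = f (sr 0))
    (hB : ¬ ∃ g : G, g * f (r 2) * g⁻¹ = f (sr 1)) :
    centralizer ({f (r 2)} : Set G) ⊔ Cfsg.oddCore G = ⊤ := by
  haveI : Fact (Nat.Prime 2) := ⟨Nat.prime_two⟩
  set z := f (r 2) with hz
  obtain ⟨S, hS⟩ := h.exists_sylow
  have hzS : z ∈ (S : Subgroup G) := by
    rw [hS, mem_centralizer_iff]
    intro y hy
    rw [Set.mem_singleton_iff] at hy
    rw [hy]
  have hiso : ∀ g : G, g * z * g⁻¹ ∈ S → g * z * g⁻¹ = z := by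
    intro g hg
    have hg' : g * z * g⁻¹ ∈ (S : Subgroup G) := hg
    rw [hS, mem_centralizer_iff] at hg'
    have h1 := hg' z (Set.mem_singleton z)
    rcases h.conj_cases g h1.symm with h2 | h2 | h2
    · exact h2
    · exact absurd h2 hA
    · exact absurd h2 hB
  obtain ⟨N, hNn, hNodd, hN⟩ := Cfsg.Agent.S0215.result S z h.orderOf_z hzS hiso
  have hNle : N ≤ Cfsg.oddCore G := by
    apply le_sSup
    refine ⟨hNn, ?_⟩
    exact Nat.Coprime.symm (Nat.coprime_two_left.mpr hNodd)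
  rw [eq_top_iff]
  intro g _
  have hzi : z⁻¹ = z := h.z_inv
  have hzz : z * z = 1 := h.z_sq
  -- y = g z g⁻¹ z⁻¹ lies in N and is inverted by z
  set y := g * z * g⁻¹ * z with hy
  have hyN : y ∈ N := by
    have h1 := hN g
    have h2 : y = (z * g * z⁻¹ * g⁻¹)⁻¹ := by
      rw [hy, hzi]
      have : (z * g * z * g⁻¹)⁻¹ = g * z⁻¹ * g⁻¹ * z⁻¹ := by group
      rw [this, hzi]
    rw [h2]
    exact N.inv_mem h1
  have hyinv : z * y * z⁻¹ = y⁻¹ := by
    rw [hy, hzi]
    have : (g * z * g⁻¹ * z)⁻¹ = z⁻¹ * g * z⁻¹ * g⁻¹ := by group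
    rw [this, hzi]
    have h3 : z * (g * z * g⁻¹ * z) * z = z * g * z * g⁻¹ * (z * z) := by group
    rw [h3, hzz, mul_one]
  -- the order of y is odd
  have hyodd : Odd (orderOf y) := by
    have h1 : orderOf y ∣ Nat.card N := by
      have := orderOf_dvd_natCard (⟨y, hyN⟩ : N)
      rwa [Subgroup.orderOf_mk] at this
    exact Odd.of_dvd_nat hNodd h1
  obtain ⟨k, hk⟩ := hyodd
  set w := y ^ (k + 1) with hw
  have hww : w * w = y := by
    rw [hw, ← pow_add]
    have : k + 1 + (k + 1) = orderOf y + 1 := by omega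
    rw [this, pow_succ, pow_orderOf_eq_one, one_mul]
  have hwN : w ∈ N := N.pow_mem hyN _
  have hwinv : z * w * z⁻¹ = w⁻¹ := by
    rw [hw]
    have h1 : z * y ^ (k + 1) * z⁻¹ = (z * y * z⁻¹) ^ (k + 1) := by
      rw [conj_pow]
    rw [h1, hyinv, inv_pow]
  have hconj : w * z * w⁻¹ = g * z * g⁻¹ := by
    have h1 : w * z * w⁻¹ = w * (z * w * z⁻¹)⁻¹ * z := by
      rw [hzi]
      have : (z * w * z)⁻¹ = z⁻¹ * w⁻¹ * z⁻¹ := by group
      rw [this, hzi]
      have h2 : w * (z * w⁻¹ * z) * z = w * z * w⁻¹ * (z * z) := by group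
      rw [h2, hzz, mul_one]
    rw [h1, hwinv, inv_inv, hww, hy]
    have h3 : g * z * g⁻¹ * z * z = g * z * g⁻¹ * (z * z) := by group
    rw [h3, hzz, mul_one]
  have hcent : w⁻¹ * g ∈ centralizer ({z} : Set G) := by
    rw [mem_centralizer_iff]
    intro x hx
    rw [Set.mem_singleton_iff] at hx
    rw [hx]
    have h1 : z = w⁻¹ * (g * z * g⁻¹) * w := by
      rw [← hconj]; group
    calc z * (w⁻¹ * g) = w⁻¹ * (g * z * g⁻¹) * w * (w⁻¹ * g) := by rw [← h1]
      _ = w⁻¹ * g * z := by group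
  have hg : g = w * (w⁻¹ * g) := by group
  rw [hg]
  exact (centralizer ({z} : Set G) ⊔ Cfsg.oddCore G).mul_mem
    ((le_sup_right : Cfsg.oddCore G ≤ _) (hNle hwN))
    ((le_sup_left : centralizer ({z} : Set G) ≤ _) hcent)

/-- The fully fused case: no subgroup of index two. -/
theorem case_full [Finite G]
    (hA : ∃ g : G, g * f (r 2) * g⁻¹ = f (sr 0))
    (hB : ∃ g : G, g * f (r 2) * g⁻¹ = f (sr 1)) :
    ∀ H : Subgroup G, H.index ≠ 2 := by
  intro H hH
  haveI : H.Normal := Subgroup.normal_of_index_eq_two hH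
  have hz : f (r 2) ∈ H := by
    have h1 := Subgroup.sq_mem_of_index_two hH (f (r 1))
    rwa [← map_pow, d4_r1_sq] at h1
  obtain ⟨g0, hg0⟩ := hA
  obtain ⟨g1, hg1⟩ := hB
  have h0 : f (sr 0) ∈ H := by
    rw [← hg0]; exact ‹H.Normal›.conj_mem _ hz g0
  have h1 : f (sr 1) ∈ H := by
    rw [← hg1]; exact ‹H.Normal›.conj_mem _ hz g1
  have hall : ∀ d : DihedralGroup 4, f d ∈ H := by
    intro d
    rcases d4_gen d with rfl | rfl | rfl | rfl | rfl | rfl | rfl | rfl
    · rw [map_one]; exact H.one_mem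
    · exact h0
    · exact h1
    · rw [map_mul]; exact H.mul_mem h0 h1
    · rw [map_mul]; exact H.mul_mem h1 h0
    · rw [map_mul, map_mul]; exact H.mul_mem (H.mul_mem h0 h1) h0
    · rw [map_mul, map_mul]; exact H.mul_mem (H.mul_mem h1 h0) h1
    · rw [map_mul, map_mul, map_mul]; exact H.mul_mem (H.mul_mem (H.mul_mem h0 h1) h0) h1
  have hle : f.range ≤ H := by
    rintro _ ⟨d, rfl⟩
    exact hall d
  have h8 : 8 ∣ Nat.card H := by
    rw [← h.card_range]
    exact Subgroup.card_dvd_of_le hle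
  have h16 : 2 ^ 4 ∣ Nat.card G := by
    rw [← H.card_mul_index, hH]
    obtain ⟨m, hm⟩ := h8
    exact ⟨m, by rw [hm]; ring⟩
  have h4 := (Nat.prime_two.pow_dvd_iff_le_factorization Nat.card_pos.ne').mp h16
  rw [h.factorization_card] at h4
  omega

end Setup

end Cfsg.Agent.Lib.Helper19.D8Inv
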