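import Mathlib
import Cfsg.Agent.S3225
import Cfsg.Agent.Lib.Helper19.D8InvA

set_option autoImplicit false
set_option linter.unusedSectionVars false
set_option linter.style.haveILetI false

namespace Cfsg.Agent.Lib.Helper19.D8Inv

open Subgroup DihedralGroup

/-- The four-subgroup `{1, r 2, sr i, sr (i+2)}` of `D₈`. -/
def Mi (i : ZMod 4) : Subgroup (DihedralGroup 4) where
  carrier := {d | d = 1 ∨ d = r 2 ∨ d = sr i ∨ d = sr (i + 2)}
  mul_mem' := by
    intro a b ha hb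
    simp only [Set.mem_ofPred_eq] at ha hb ⊢
    revert i a b
    decide
  one_mem' := Or.inl rfl
  inv_mem' := by
    intro a ha
    simp only [Set.mem_ofPred_eq] at ha ⊢
    revert i a
    decide

theorem mem_Mi (i : ZMod 4) (d : DihedralGroup 4) :
    d ∈ Mi i ↔ d = 1 ∨ d = r 2 ∨ d = sr i ∨ d = sr (i + 2) := Iff.rfl

instance (i : ZMod 4) : DecidablePred (· ∈ Mi i) := fun d =>
  decidable_of_iff _ (mem_Mi i d).symm

theorem d4_Mi_sq : ∀ i : ZMod 4, ∀ d ∈ Mi i, d * d = 1 := by decide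

theorem d4_Mi_comm : ∀ i : ZMod 4, ∀ d ∈ Mi i, ∀ d' ∈ Mi i, d * d' = d' * d := by decide

theorem d4_Mi_normal : ∀ i : ZMod 4, ∀ d : DihedralGroup 4, ∀ m ∈ Mi i, d * m * d⁻¹ ∈ Mi i := by
  decide

theorem d4_Mi_cases : ∀ i : ZMod 4, ∀ d : DihedralGroup 4,
    d ∈ Mi i ∨ ∃ m ∈ Mi i, d = sr (i + 1) * m := by decide

theorem d4_Mi_xor : ∀ i : ZMod 4, ∀ d : DihedralGroup 4,
    (d * sr (i + 1) ∈ Mi i ∧ d ∉ Mi i) ∨ (d ∈ Mi i ∧ d * sr (i + 1) ∉ Mi i) := by decide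

theorem d4_Mi_noncomm : ∀ i : ZMod 4, ∀ d : DihedralGroup 4, d ∉ Mi i → ∀ m ∈ Mi i, m ≠ 1 → m ≠ r 2 →
    d * m ≠ m * d := by decide

theorem d4_sr_mem : ∀ i : ZMod 4, sr i ∈ Mi i ∧ sr (i + 2) ∈ Mi i ∧ r 2 ∈ Mi i ∧ sr (i + 1) ∉ Mi i := by
  decide

theorem d4_sr_conj : ∀ i : ZMod 4, (sr (i + 1) : DihedralGroup 4) * sr i * (sr (i + 1))⁻¹ = sr (i + 2) ∧
    (sr (i + 1) : DihedralGroup 4)⁻¹ * sr i * sr (i + 1) = sr (i + 2) := by decide

theorem d4_sr_ne : ∀ i : ZMod 4, (sr i : DihedralGroup 4) ≠ r 2 ∧ (sr (i + 2) : DihedralGroup 4) ≠ r 2 ∧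
    (sr i : DihedralGroup 4) ≠ 1 ∧ (sr (i + 1) : DihedralGroup 4) ≠ 1 ∧
    (sr (i + 1) : DihedralGroup 4) * sr (i + 1) = 1 := by decide

theorem Mi_index (i : ZMod 4) : (Mi i).index = 2 := by
  rw [Subgroup.index_eq_two_iff]
  exact ⟨sr (i + 1), d4_Mi_xor i⟩

theorem Mi_card (i : ZMod 4) : Nat.card (Mi i) = 4 := by
  have h1 := (Mi i).card_mul_index
  rw [Mi_index, d4_card] at h1
  omega

variable {G : Type*} [Group G]

/-- The four-subgroup `M = f (Mi i)` of `G`. -/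
def MG (f : DihedralGroup 4 →* G) (i : ZMod 4) : Subgroup G := (Mi i).map f

namespace Setup

variable {f : DihedralGroup 4 →* G} (h : Setup f) (i : ZMod 4)

include h

theorem mem_MG_iff (d : DihedralGroup 4) : f d ∈ MG f i ↔ d ∈ Mi i :=
  Subgroup.mem_map_iff_mem h.inj

theorem MG_le_range : MG f i ≤ f.range := by
  rintro _ ⟨d, _, rfl⟩
  exact ⟨d, rfl⟩

theorem MG_card : Nat.card (MG f i) = 4 := by
  rw [MG, Subgroup.card_map_of_injective h.inj, Mi_card]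

theorem MG_sq (x : G) (hx : x ∈ MG f i) : x * x = 1 := by
  obtain ⟨d, hd, rfl⟩ := hx
  rw [← map_mul, d4_Mi_sq i d hd, map_one]

theorem MG_comm (x y : G) (hx : x ∈ MG f i) (hy : y ∈ MG f i) : x * y = y * x := by
  obtain ⟨d, hd, rfl⟩ := hx
  obtain ⟨d', hd', rfl⟩ := hy
  rw [← map_mul, ← map_mul, d4_Mi_comm i d hd d' hd']

theorem z_mem_MG : f (r 2) ∈ MG f i := (h.mem_MG_iff i _).mpr (d4_sr_mem i).2.2.1

theorem a_mem_MG : f (sr i) ∈ MG f i := (h.mem_MG_iff i _).mpr (d4_sr_mem i).1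

theorem u_not_mem_MG : f (sr (i + 1)) ∉ MG f i := fun hu =>
  (d4_sr_mem i).2.2.2 ((h.mem_MG_iff i _).mp hu)

theorem MG_conj_T (d : DihedralGroup 4) (x : G) (hx : x ∈ MG f i) :
    f d * x * (f d)⁻¹ ∈ MG f i := by
  obtain ⟨m, hm, rfl⟩ := hx
  rw [← map_inv, ← map_mul, ← map_mul]
  exact (h.mem_MG_iff i _).mpr (d4_Mi_normal i d m hm)

theorem range_cases (x : G) (hx : x ∈ f.range) :
    x ∈ MG f i ∨ ∃ m ∈ MG f i, x = f (sr (i + 1)) * m := by
  obtain ⟨d, rfl⟩ := hx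
  rcases d4_Mi_cases i d with hd | ⟨m, hm, rfl⟩
  · left; exact (h.mem_MG_iff i _).mpr hd
  · right
    exact ⟨f m, (h.mem_MG_iff i _).mpr hm, by rw [map_mul]⟩

theorem noncomm (d : DihedralGroup 4) (hd : d ∉ Mi i) (x : G) (hx : x ∈ MG f i) (hx1 : x ≠ 1)
    (hxz : x ≠ f (r 2)) : f d * x ≠ x * f d := by
  obtain ⟨m, hm, rfl⟩ := hx
  have hm1 : m ≠ 1 := by
    rintro rfl
    exact hx1 (map_one f)
  have hm2 : m ≠ r 2 := by
    rintro rfl
    exact hxz rfl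
  intro h1
  rw [← map_mul, ← map_mul] at h1
  exact d4_Mi_noncomm i d hd m hm hm1 hm2 (h.inj h1)

/-- every non-identity element of `M` is conjugate to `z` when `z ~ f (sr i)` -/
theorem MG_conj (hA : ∃ g : G, g * f (r 2) * g⁻¹ = f (sr i)) (x : G) (hx : x ∈ MG f i)
    (hx1 : x ≠ 1) : ∃ g : G, g * f (r 2) * g⁻¹ = x := by
  obtain ⟨g0, hg0⟩ := hA
  obtain ⟨d, hd, rfl⟩ := hx
  rcases (mem_Mi i d).mp hd with rfl | rfl | rfl | rfl
  · exact absurd (map_one f) hx1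
  · exact ⟨1, by group⟩
  · exact ⟨g0, hg0⟩
  · refine ⟨f (sr (i + 1)) * g0, ?_⟩
    have h1 : f (sr (i + 2)) = f (sr (i + 1)) * f (sr i) * (f (sr (i + 1)))⁻¹ := by
      rw [← map_inv, ← map_mul, ← map_mul, (d4_sr_conj i).1]
    rw [h1, ← hg0]; group

theorem u_sq : f (sr (i + 1)) * f (sr (i + 1)) = 1 := by
  rw [← map_mul, (d4_sr_ne i).2.2.2.2, map_one]

theorem u_ne_one : f (sr (i + 1)) ≠ 1 := by
  intro h1
  have h2 : f (sr (i + 1)) = f 1 := by rw [h1, map_one]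
  exact (d4_sr_ne i).2.2.2.1 (h.inj h2)

theorem orderOf_u : orderOf (f (sr (i + 1))) = 2 := by
  apply orderOf_eq_prime
  · rw [pow_two]; exact h.u_sq i
  · exact h.u_ne_one i

/-- Thompson transfer: if `z ~ f (sr i)` but `z ≁ f (sr (i+1))` there is a subgroup of index 2. -/
theorem exists_index_two [Finite G] (hA : ∃ g : G, g * f (r 2) * g⁻¹ = f (sr i))
    (hB : ¬ ∃ g : G, g * f (r 2) * g⁻¹ = f (sr (i + 1))) : ∃ H : Subgroup G, H.index = 2 := by
  by_contra hno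
  push_neg at hno
  obtain ⟨S, hS⟩ := h.exists_sylow
  have hSr : (S : Subgroup G) = f.range := by rw [hS, h.centralizer_eq_range]
  have hev : Even (Nat.card G) := by
    rw [even_iff_two_dvd, ← h.orderOf_z]
    exact orderOf_dvd_natCard _
  have hMS : MG f i ≤ (S : Subgroup G) := by
    rw [hSr]; exact h.MG_le_range i
  have huS : f (sr (i + 1)) ∈ (S : Subgroup G) := by
    rw [hSr]; exact ⟨_, rfl⟩
  have hM : (MG f i).relIndex (S : Subgroup G) = 2 := by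
    rw [Subgroup.relIndex, Subgroup.index_eq_two_iff]
    refine ⟨⟨f (sr (i + 1)), huS⟩, ?_⟩
    intro b
    have hb : (b : G) ∈ f.range := by rw [← hSr]; exact b.2
    obtain ⟨d, hd⟩ := hb
    rw [Subgroup.mem_subgroupOf, Subgroup.mem_subgroupOf]
    simp only [Subgroup.coe_mul]
    rw [← hd, ← map_mul, h.mem_MG_iff, h.mem_MG_iff]
    exact d4_Mi_xor i d
  have hord : ∀ y ∈ (S : Subgroup G), y ∉ MG f i → 2 ^ (1 - 1) < orderOf y := by
    intro y _ hy
    have hy1 : y ≠ 1 := by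
      rintro rfl
      exact hy (MG f i).one_mem
    have h1 : orderOf y ≠ 1 := by
      rw [Ne, orderOf_eq_one_iff]; exact hy1
    have h2 : 0 < orderOf y := orderOf_pos y
    simp only [Nat.sub_self, pow_zero]
    omega
  obtain ⟨g, hg⟩ := Cfsg.Agent.S3225.result hev hno S (MG f i) hMS hM 1 le_rfl hord
    (f (sr (i + 1))) huS (by rw [h.orderOf_u i, pow_one])
  have hg1 : g * f (sr (i + 1)) * g⁻¹ ≠ 1 := by
    intro h1
    apply h.u_ne_one i
    have : f (sr (i + 1)) = g⁻¹ * (g * f (sr (i + 1)) * g⁻¹) * g := by group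
    rw [this, h1]; group
  obtain ⟨k, hk⟩ := h.MG_conj i hA _ hg hg1
  apply hB
  refine ⟨g⁻¹ * k, ?_⟩
  have : f (sr (i + 1)) = g⁻¹ * (g * f (sr (i + 1)) * g⁻¹) * g := by group
  rw [this, ← hk]; group

end Setup

/-- The configuration after passing to a subgroup `H` of index two. -/
structure Cfg (f : DihedralGroup 4 →* G) (i : ZMod 4) (H : Subgroup G) : Prop where
  setup : Setup f
  idx : H.index = 2
  zmem : f (r 2) ∈ H
  Mle : MG f i ≤ H
  cent : ∀ x ∈ H, x * f (r 2) = f (r 2) * x → x ∈ MG f i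
  fus : ∃ k ∈ H, k * f (r 2) * k⁻¹ ∈ MG f i ∧ k * f (r 2) * k⁻¹ ≠ f (r 2)
  conj : ∀ x ∈ MG f i, x ≠ 1 → ∃ g : G, g * f (r 2) * g⁻¹ = x
  unot : f (sr (i + 1)) ∉ H

namespace Setup

variable {f : DihedralGroup 4 →* G} (h : Setup f) (i : ZMod 4)

include h

theorem cfg_of_index_two [Finite G] (hA : ∃ g : G, g * f (r 2) * g⁻¹ = f (sr i))
    (H : Subgroup G) (hH : H.index = 2) : Cfg f i H := by
  haveI : H.Normal := Subgroup.normal_of_index_eq_two hH
  have hz : f (r 2) ∈ H := by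
    have h1 := Subgroup.sq_mem_of_index_two hH (f (r 1))
    have h2 : (r 1 : DihedralGroup 4) ^ 2 = r 2 := by decide
    rwa [← map_pow, h2] at h1
  have hMle : MG f i ≤ H := by
    intro x hx
    by_cases hx1 : x = 1
    · rw [hx1]; exact H.one_mem
    · obtain ⟨g, rfl⟩ := h.MG_conj i hA x hx hx1
      exact ‹H.Normal›.conj_mem _ hz g
  have hu : f (sr (i + 1)) ∉ H := by
    intro hu
    have hle : f.range ≤ H := by
      intro x hx
      rcases h.range_cases i x hx with h1 | ⟨m, hm, rfl⟩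
      · exact hMle h1
      · exact H.mul_mem hu (hMle hm)
    have h8 : 8 ∣ Nat.card H := by
      rw [← h.card_range]
      exact Subgroup.card_dvd_of_le hle
    have h16 : 2 ^ 4 ∣ Nat.card G := by
      rw [← H.card_mul_index, hH]
      obtain ⟨m, hm⟩ := h8
      exact ⟨m, by rw [hm]; ring⟩
    have h4 := (Nat.prime_two.pow_dvd_iff_le_factorization Nat.card_pos.ne').mp h16
    rw [h.factorization_card] at h4
    omega
  refine ⟨h, hH, hz, hMle, ?_, ?_, h.MG_conj i hA, hu⟩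
  · intro x hxH hxz
    obtain ⟨d, rfl⟩ := h.cent x hxz
    rcases h.range_cases i (f d) ⟨d, rfl⟩ with h1 | ⟨m, hm, h2⟩
    · exact h1
    · exfalso
      apply hu
      have h3 : f (sr (i + 1)) = f d * m⁻¹ := by rw [h2]; group
      rw [h3]
      exact H.mul_mem hxH (H.inv_mem (hMle hm))
  · obtain ⟨g0, hg0⟩ := hA
    by_cases hg : g0 ∈ H
    · refine ⟨g0, hg, ?_, ?_⟩
      · rw [hg0]; exact h.a_mem_MG i
      · rw [hg0]
        intro h1
        exact (d4_sr_ne i).1 (h.inj h1)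
    · have hu' : (f (sr (i + 1)))⁻¹ ∉ H := fun h1 => hu (by simpa using H.inv_mem h1)
      have hk : (f (sr (i + 1)))⁻¹ * g0 ∈ H := by
        rw [Subgroup.mul_mem_iff_of_index_two hH]
        exact ⟨fun h1 => absurd h1 hu', fun h1 => absurd h1 hg⟩
      have hconj : (f (sr (i + 1)))⁻¹ * g0 * f (r 2) * ((f (sr (i + 1)))⁻¹ * g0)⁻¹
          = f (sr (i + 2)) := by
        have h1 : (f (sr (i + 1)))⁻¹ * g0 * f (r 2) * ((f (sr (i + 1)))⁻¹ * g0)⁻¹
            = (f (sr (i + 1)))⁻¹ * (g0 * f (r 2) * g0⁻¹) * f (sr (i + 1)) := by group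
        rw [h1, hg0, ← map_inv, ← map_mul, ← map_mul, (d4_sr_conj i).2]
      refine ⟨_, hk, ?_, ?_⟩
      · rw [hconj]; exact (h.mem_MG_iff i _).mpr (d4_sr_mem i).2.1
      · rw [hconj]
        intro h1
        exact (d4_sr_ne i).2.1 (h.inj h1)

end Setup

end Cfsg.Agent.Lib.Helper19.D8Inv
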