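import Mathlib
import Cfsg.Prelude.Def_Transfer
import Cfsg.Agent.Lib.Helper19.D8InvC

/-!
# Involutions with dihedral centraliser of order 8: inside the subgroup of index two
(helper19, for S3035)
-/

set_option autoImplicit false
set_option linter.unusedSectionVars false
set_option linter.style.haveILetI false

namespace Cfsg.Agent.Lib.Helper19.D8Inv

open Subgroup DihedralGroup

variable {G : Type*} [Group G]

namespace Cfg

variable {f : DihedralGroup 4 →* G} {i : ZMod 4} {H : Subgroup G} (c : Cfg f i H)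

include c

theorem card_H [Finite G] : Nat.card H * 2 = Nat.card G := by
  rw [← c.idx]; exact H.card_mul_index

theorem factorization_H [Finite G] : (Nat.card H).factorization 2 = 2 := by
  have h1 := c.setup.factorization_card
  rw [← c.card_H, Nat.factorization_mul Nat.card_pos.ne' (by norm_num)] at h1
  simp only [Finsupp.add_apply, Nat.prime_two.factorization_self] at h1
  omega

theorem centralizer_eq :
    centralizer ({(⟨f (r 2), c.zmem⟩ : H)} : Set H) = (MG f i).subgroupOf H := by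
  ext x
  rw [mem_centralizer_iff, mem_subgroupOf]
  constructor
  · intro hx
    have h1 := hx _ (Set.mem_singleton _)
    have h2 : f (r 2) * (x : G) = (x : G) * f (r 2) := congrArg Subtype.val h1
    exact c.cent _ x.2 h2.symm
  · intro hx y hy
    rw [Set.mem_singleton_iff] at hy
    rw [hy]
    apply Subtype.ext
    simp only [Subgroup.coe_mul]
    obtain ⟨d, hd⟩ := c.setup.MG_le_range i hx
    rw [← hd]
    exact (c.setup.comm d).symm

theorem card_centralizer :
    Nat.card (centralizer ({(⟨f (r 2), c.zmem⟩ : H)} : Set H)) = 4 := by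
  rw [c.centralizer_eq, Nat.card_congr (Subgroup.subgroupOfEquivOfLe c.Mle).toEquiv,
    c.setup.MG_card]

theorem sq_centralizer (x : H)
    (hx : x ∈ centralizer ({(⟨f (r 2), c.zmem⟩ : H)} : Set H)) : x ^ 2 = 1 := by
  rw [c.centralizer_eq, mem_subgroupOf] at hx
  apply Subtype.ext
  rw [pow_two]
  simp only [Subgroup.coe_mul, Subgroup.coe_one]
  exact c.setup.MG_sq i _ hx

theorem orderOf_zH : orderOf (⟨f (r 2), c.zmem⟩ : H) = 2 := by
  rw [Subgroup.orderOf_mk]
  exact c.setup.orderOf_z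

/-- `H` has no normal 2-complement. -/
theorem no_complement [Finite G] : ¬ Cfsg.HasNormalPComplement 2 ↥H := by
  haveI : Fact (Nat.Prime 2) := ⟨Nat.prime_two⟩
  rintro ⟨P, N, hN, hNP⟩
  obtain ⟨k, hkH, hkM, hkz⟩ := c.fus
  have hP4 : Nat.card (P : Subgroup H) = 4 := by
    rw [P.card_eq_multiplicity, c.factorization_H]; norm_num
  have hidx : N.index = 2 ^ 2 := by
    rw [hNP.symm.index_eq_card, hP4]; norm_num
  haveI := hN
  have hcardQ : Nat.card (H ⧸ N) = 2 ^ 2 := hidx
  have hcomm' := IsPGroup.isMulCommutative_of_card_eq_prime_sq hcardQ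
  have hcomm : ∀ a b : H ⧸ N, a * b = b * a := fun a b => hcomm'.is_comm.comm a b
  set zH : H := ⟨f (r 2), c.zmem⟩ with hzH
  set kH : H := ⟨k, hkH⟩ with hkH'
  have h1 := hcomm (QuotientGroup.mk kH) (QuotientGroup.mk zH)
  have hcN : kH * zH * kH⁻¹ * zH⁻¹ ∈ N := by
    rw [← QuotientGroup.eq_one_iff]
    simp only [QuotientGroup.mk_mul, QuotientGroup.mk_inv]
    rw [h1]; group
  -- the commutator is an element of M of order dividing 2
  have hcM : (k * f (r 2) * k⁻¹) * (f (r 2))⁻¹ ∈ MG f i :=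
    (MG f i).mul_mem hkM ((MG f i).inv_mem (c.setup.z_mem_MG i))
  have hsq : (kH * zH * kH⁻¹ * zH⁻¹) ^ 2 = 1 := by
    apply Subtype.ext
    rw [pow_two]
    simp only [Subgroup.coe_mul, Subgroup.coe_inv, Subgroup.coe_one, hzH, hkH']
    exact c.setup.MG_sq i _ hcM
  have hodd : ¬ 2 ∣ Nat.card N := by
    intro h2
    obtain ⟨m, hm⟩ := h2
    have h8 : 2 ^ 3 ∣ Nat.card H := ⟨m, by rw [← hNP.card_mul_card, hP4, hm]; ring⟩
    have h9 := (Nat.prime_two.pow_dvd_iff_le_factorization Nat.card_pos.ne').mp h8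
    rw [c.factorization_H] at h9
    omega
  have hord : orderOf (kH * zH * kH⁻¹ * zH⁻¹) ∣ 2 := orderOf_dvd_of_pow_eq_one hsq
  rcases (Nat.dvd_prime Nat.prime_two).mp hord with h2 | h2
  · rw [orderOf_eq_one_iff] at h2
    apply hkz
    have h3 : (k * f (r 2) * k⁻¹) * (f (r 2))⁻¹ = 1 := by
      have := congrArg Subtype.val h2
      simpa [hzH, hkH'] using this
    calc k * f (r 2) * k⁻¹ = (k * f (r 2) * k⁻¹) * (f (r 2))⁻¹ * f (r 2) := by group
      _ = f (r 2) := by rw [h3, one_mul]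
  · apply hodd
    have h3 := orderOf_dvd_natCard (⟨kH * zH * kH⁻¹ * zH⁻¹, hcN⟩ : N)
    rw [Subgroup.orderOf_mk, h2] at h3
    exact h3

/-- `H` has no normal subgroup of order two. -/
theorem no_card_two (E : Subgroup H) (hE : E.Normal) : Nat.card E ≠ 2 := by
  intro h2
  haveI : H.Normal := Subgroup.normal_of_index_eq_two c.idx
  obtain ⟨k, hkH, hkM, hkz⟩ := c.fus
  obtain ⟨c0, hc0, huniq⟩ := (Nat.card_eq_two_iff' (1 : E)).mp h2
  have hcent : ∀ x : H, x * (c0 : H) * x⁻¹ = (c0 : H) := by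
    intro x
    have hmem : x * (c0 : H) * x⁻¹ ∈ E := hE.conj_mem _ c0.2 x
    have hne : (⟨x * (c0 : H) * x⁻¹, hmem⟩ : E) ≠ 1 := by
      intro h1
      apply hc0
      have h3 : x * (c0 : H) * x⁻¹ = 1 := congrArg Subtype.val h1
      apply Subtype.ext
      have h4 : (c0 : H) = x⁻¹ * (x * (c0 : H) * x⁻¹) * x := by group
      rw [h4, h3]; simp
    have h5 := huniq ⟨_, hmem⟩ hne
    exact congrArg Subtype.val h5
  have hcentG : ∀ x ∈ H, x * ((c0 : H) : G) * x⁻¹ = ((c0 : H) : G) := by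
    intro x hx
    have h1 := hcent ⟨x, hx⟩
    have h2 := congrArg Subtype.val h1
    simpa using h2
  have hc0M : ((c0 : H) : G) ∈ MG f i := by
    apply c.cent _ (c0 : H).2
    have h1 := hcentG _ c.zmem
    calc ((c0 : H) : G) * f (r 2) = (f (r 2) * ((c0 : H) : G) * (f (r 2))⁻¹) * f (r 2) := by rw [h1]
      _ = f (r 2) * ((c0 : H) : G) := by group
  have hc01 : ((c0 : H) : G) ≠ 1 := by
    intro h1
    apply hc0
    apply Subtype.ext
    apply Subtype.ext
    exact h1
  have hc0z : ((c0 : H) : G) ≠ f (r 2) := by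
    intro h1
    apply hkz
    have h3 := hcentG k hkH
    rw [h1] at h3
    exact h3
  obtain ⟨g, hg⟩ := c.conj _ hc0M hc01
  have hk' : g * k * g⁻¹ ∈ H := ‹H.Normal›.conj_mem _ hkH g
  have h6 := hcentG _ hk'
  rw [← hg] at h6
  apply hkz
  calc k * f (r 2) * k⁻¹
      = g⁻¹ * (g * k * g⁻¹ * (g * f (r 2) * g⁻¹) * (g * k * g⁻¹)⁻¹) * g := by group
    _ = g⁻¹ * (g * f (r 2) * g⁻¹) * g := by rw [h6]
    _ = f (r 2) := by group

end Cfg

end Cfsg.Agent.Lib.Helper19.D8Inv
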