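import Mathlib
import Cfsg.Agent.S2119
import Cfsg.Agent.Lib.Helper19.D8InvD

/-!
# Involutions with dihedral centraliser of order 8: the `S₅` case (helper19, for S3035)
-/

set_option autoImplicit false
set_option linter.unusedSectionVars false
set_option linter.style.haveILetI false

namespace Cfsg.Agent.Lib.Helper19.D8Inv

open Subgroup DihedralGroup

variable {G : Type*} [Group G]

theorem card_A5 : Nat.card (alternatingGroup (Fin 5)) = 60 := by
  have h1 := two_mul_card_alternatingGroup (α := Fin 5)
  rw [Fintype.card_perm, Fintype.card_fin] at h1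
  rw [Nat.card_eq_fintype_card]
  have h2 : Nat.factorial 5 = 120 := by decide
  omega

theorem card_S5 : Nat.card (Equiv.Perm (Fin 5)) = 120 := by
  rw [Nat.card_eq_fintype_card, Fintype.card_perm, Fintype.card_fin]
  decide

namespace Cfg

variable {f : DihedralGroup 4 →* G} {i : ZMod 4} {H : Subgroup G} (c : Cfg f i H)

include c

/-- If `H ≅ A₅` then `G ≅ S₅`. -/
theorem s5 [Finite G] (eA : ↥H ≃* ↥(alternatingGroup (Fin 5))) :
    Nonempty (G ≃* Equiv.Perm (Fin 5)) := by
  haveI : H.Normal := Subgroup.normal_of_index_eq_two c.idx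
  have hH60 : Nat.card H = 60 := by
    rw [Nat.card_congr eA.toEquiv, card_A5]
  have hG120 : Nat.card G = 120 := by
    rw [← c.card_H, hH60]
  obtain ⟨k, hkH, hkM, hkz⟩ := c.fus
  haveI : IsSimpleGroup (alternatingGroup (Fin 5)) := alternatingGroup.isSimpleGroup_five
  haveI : IsSimpleGroup H := eA.isSimpleGroup
  have hcenter : center H = ⊥ := by
    rcases IsSimpleGroup.eq_bot_or_eq_top_of_normal (center H) inferInstance with h1 | h1
    · exact h1
    · exfalso
      apply hkz
      have h2 : (⟨f (r 2), c.zmem⟩ : H) ∈ center H := by rw [h1]; exact mem_top _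
      rw [mem_center_iff] at h2
      have h3 := h2 ⟨k, hkH⟩
      have h4 : k * f (r 2) = f (r 2) * k := congrArg Subtype.val h3
      rw [h4]; group
  let φ : G →* MulAut H := MulAut.conjNormal
  have hφ : Function.Injective φ := by
    rw [injective_iff_map_eq_one]
    intro g hg
    have hcomm : ∀ x ∈ H, g * x * g⁻¹ = x := by
      intro x hx
      have h1 : φ g ⟨x, hx⟩ = (1 : MulAut H) ⟨x, hx⟩ := by rw [hg]
      have h2 := congrArg Subtype.val h1
      simpa [φ, MulAut.conjNormal_apply] using h2
    have hgz : g * f (r 2) = f (r 2) * g := by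
      have h1 := hcomm _ c.zmem
      calc g * f (r 2) = (g * f (r 2) * g⁻¹) * g := by group
        _ = f (r 2) * g := by rw [h1]
    obtain ⟨d, rfl⟩ := c.setup.cent g hgz
    by_cases hd : d ∈ Mi i
    · have hdH : f d ∈ H := c.Mle ((c.setup.mem_MG_iff i d).mpr hd)
      have h2 : (⟨f d, hdH⟩ : H) ∈ center H := by
        rw [mem_center_iff]
        intro x
        apply Subtype.ext
        simp only [Subgroup.coe_mul]
        have h3 := hcomm _ x.2
        calc (x : G) * f d = (f d * (x : G) * (f d)⁻¹) * f d := by rw [h3]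
          _ = f d * (x : G) := by group
      rw [hcenter, mem_bot] at h2
      exact congrArg Subtype.val h2
    · exfalso
      have ha := c.setup.a_mem_MG i
      have ha1 : f (sr i) ≠ 1 := by
        intro h1
        have h2 : f (sr i) = f 1 := by rw [h1, map_one]
        exact (d4_sr_ne i).2.2.1 (c.setup.inj h2)
      have haz : f (sr i) ≠ f (r 2) := fun h1 => (d4_sr_ne i).1 (c.setup.inj h1)
      apply c.setup.noncomm i d hd _ ha ha1 haz
      have h3 := hcomm _ (c.Mle ha)
      calc f d * f (sr i) = (f d * f (sr i) * (f d)⁻¹) * f d := by group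
        _ = f (sr i) * f d := by rw [h3]
  let ψ : MulAut H ≃* MulAut (alternatingGroup (Fin 5)) := MulAut.congr eA
  have hbij := Cfsg.Agent.S2119.result 5 (by norm_num) (by norm_num)
  let θ : Equiv.Perm (Fin 5) ≃* MulAut (alternatingGroup (Fin 5)) :=
    MulEquiv.ofBijective _ hbij
  let F : G →* Equiv.Perm (Fin 5) := θ.symm.toMonoidHom.comp (ψ.toMonoidHom.comp φ)
  have hF : Function.Injective F := by
    intro a b hab
    apply hφ
    apply ψ.injective
    apply θ.symm.injective
    exact hab
  have hbijF : Function.Bijective F := by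
    rw [Nat.bijective_iff_injective_and_card]
    exact ⟨hF, by rw [hG120, card_S5]⟩
  exact ⟨MulEquiv.ofBijective F hbijF⟩

end Cfg

end Cfsg.Agent.Lib.Helper19.D8Inv
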