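import Mathlib
import Cfsg.Agent.Lib.Helper16.S4Recog
import Cfsg.Agent.Lib.Helper19.D8InvD

/-!
# Involutions with dihedral centraliser of order 8: the `S₄` case (helper19, for S3035)
-/

set_option autoImplicit false
set_option linter.unusedSectionVars false
set_option linter.style.haveILetI false

namespace Cfsg.Agent.Lib.Helper19.D8Inv

open Subgroup DihedralGroup

variable {G : Type*} [Group G]

namespace Cfg

variable {f : DihedralGroup 4 →* G} {i : ZMod 4} {H : Subgroup G} (c : Cfg f i H)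

include c

/-- elements commuting with a non-identity element of `M` are 2-elements -/
theorem pow_eight_of_commute (m : G) (hm : m ∈ MG f i) (hm1 : m ≠ 1) (v : G)
    (hv : v * m = m * v) : v ^ 8 = 1 := by
  obtain ⟨k, hk⟩ := c.conj m hm hm1
  have h1 : (k⁻¹ * v * k) * f (r 2) = f (r 2) * (k⁻¹ * v * k) := by
    have h2 : f (r 2) = k⁻¹ * m * k := by rw [← hk]; group
    rw [h2]
    calc k⁻¹ * v * k * (k⁻¹ * m * k) = k⁻¹ * (v * m) * k := by group
      _ = k⁻¹ * (m * v) * k := by rw [hv]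
      _ = k⁻¹ * m * k * (k⁻¹ * v * k) := by group
  obtain ⟨d, hd⟩ := c.setup.cent _ h1
  have h3 : v = k * f d * k⁻¹ := by rw [hd]; group
  rw [h3, conj_pow, ← map_pow, d4_pow8, map_one]; group

/-- If `M` is normal in `H` then `M` is normal in `G`. -/
theorem MG_normal_of (hMH : ∀ x ∈ H, ∀ m ∈ MG f i, x * m * x⁻¹ ∈ MG f i) :
    ∀ g : G, ∀ m ∈ MG f i, g * m * g⁻¹ ∈ MG f i := by
  intro g m hm
  by_cases hg : g ∈ H
  · exact hMH g hg m hm
  · have hu' : (f (sr (i + 1)))⁻¹ ∉ H := fun h1 => c.unot (by simpa using H.inv_mem h1)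
    have hk : (f (sr (i + 1)))⁻¹ * g ∈ H := by
      rw [Subgroup.mul_mem_iff_of_index_two c.idx]
      exact ⟨fun h1 => absurd h1 hu', fun h1 => absurd h1 hg⟩
    have h1 := hMH _ hk m hm
    have h2 := c.setup.MG_conj_T i (sr (i + 1)) _ h1
    have h3 : g * m * g⁻¹ = f (sr (i + 1)) *
        ((f (sr (i + 1)))⁻¹ * g * m * ((f (sr (i + 1)))⁻¹ * g)⁻¹) * (f (sr (i + 1)))⁻¹ := by
      group
    rw [h3]; exact h2

/-- If `M` is normal in `G` then `G` has order 24. -/
theorem card_of_normal [Finite G] (hMG : ∀ g : G, ∀ m ∈ MG f i, g * m * g⁻¹ ∈ MG f i) :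
    Nat.card G = 24 := by
  set C := centralizer ({f (r 2)} : Set G) with hC
  have hC8 : Nat.card C = 8 := c.setup.card_centralizer
  have hmemC : ∀ x : G, x ∈ C ↔ x * f (r 2) = f (r 2) * x := by
    intro x
    rw [hC, mem_centralizer_iff]
    constructor
    · intro h1; exact (h1 _ (Set.mem_singleton _)).symm
    · intro h1 y hy
      rw [Set.mem_singleton_iff] at hy
      rw [hy]; exact h1.symm
  let q : G ⧸ C → MG f i := fun x => Quotient.liftOn' x
    (fun g => (⟨g * f (r 2) * g⁻¹, hMG g _ (c.setup.z_mem_MG i)⟩ : MG f i))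
    (by
      intro a b hab
      rw [QuotientGroup.leftRel_apply, hmemC] at hab
      apply Subtype.ext
      show a * f (r 2) * a⁻¹ = b * f (r 2) * b⁻¹
      calc a * f (r 2) * a⁻¹ = a * (f (r 2) * (a⁻¹ * b)) * b⁻¹ := by group
        _ = a * ((a⁻¹ * b) * f (r 2)) * b⁻¹ := by rw [hab]
        _ = b * f (r 2) * b⁻¹ := by group)
  have hq : Function.Injective q := by
    intro x y
    refine Quotient.inductionOn₂' x y ?_
    intro a b hab
    have h1 : a * f (r 2) * a⁻¹ = b * f (r 2) * b⁻¹ := congrArg Subtype.val hab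
    apply Quotient.sound'
    rw [QuotientGroup.leftRel_apply, hmemC]
    calc a⁻¹ * b * f (r 2) = a⁻¹ * (b * f (r 2) * b⁻¹) * b := by group
      _ = a⁻¹ * (a * f (r 2) * a⁻¹) * b := by rw [h1]
      _ = f (r 2) * (a⁻¹ * b) := by group
  have hidx : C.index ≤ 4 := by
    have h1 := Nat.card_le_card_of_injective q hq
    rw [c.setup.MG_card] at h1
    exact h1
  have hcard : C.index * 8 = Nat.card G := by
    rw [← hC8, mul_comm]; exact C.card_mul_index
  have hfac := c.setup.factorization_card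
  have hidx0 : C.index ≠ 0 := Subgroup.index_ne_zero_of_finite
  have h16 : ¬ 2 ^ 4 ∣ Nat.card G := by
    intro h1
    have h2 := (Nat.prime_two.pow_dvd_iff_le_factorization Nat.card_pos.ne').mp h1
    omega
  obtain ⟨k, hkH, hkM, hkz⟩ := c.fus
  have hidx1 : C.index ≠ 1 := by
    intro h1
    rw [Subgroup.index_eq_one] at h1
    apply hkz
    have h2 : k ∈ C := by rw [h1]; exact mem_top _
    rw [hmemC] at h2
    rw [h2]; group
  have hidx2 : C.index ≠ 2 := by
    intro h1
    apply h16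
    rw [← hcard, h1]; norm_num
  have hidx4 : C.index ≠ 4 := by
    intro h1
    apply h16
    rw [← hcard, h1]; norm_num
  have hidx3 : C.index = 3 := by omega
  rw [← hcard, hidx3]

/-- If `M` is normal in `G` then `G` has no element of order six. -/
theorem no_order_six [Finite G] (hMG : ∀ g : G, ∀ m ∈ MG f i, g * m * g⁻¹ ∈ MG f i)
    (g : G) : orderOf g ≠ 6 := by
  haveI : Fact (Nat.Prime 2) := ⟨Nat.prime_two⟩
  intro hg6
  set w := g ^ 3 with hw
  set y := g ^ 2 with hy
  have how : orderOf w = 2 := by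
    rw [hw, orderOf_pow' g (by norm_num : 3 ≠ 0), hg6]; decide
  have hoy : orderOf y = 3 := by
    rw [hy, orderOf_pow' g (by norm_num : 2 ≠ 0), hg6]; decide
  have hwy : w * y = y * w := by
    rw [hw, hy, ← pow_add, ← pow_add]
  have hw1 : w ≠ 1 := by
    intro h1
    rw [h1, orderOf_one] at how
    omega
  have hy8 : ∀ v : G, orderOf v = 3 → v ^ 8 ≠ 1 := by
    intro v hv h1
    have h2 := orderOf_dvd_of_pow_eq_one h1
    rw [hv] at h2
    omega
  -- w is not in M
  have hwM : w ∉ MG f i := by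
    intro h1
    exact hy8 y hoy (c.pow_eight_of_commute w h1 hw1 y hwy.symm)
  -- conjugate w into the Sylow subgroup
  obtain ⟨S, hS⟩ := c.setup.exists_sylow
  have hw2 : IsPGroup 2 (zpowers w) := by
    apply IsPGroup.of_card (n := 1)
    rw [Nat.card_zpowers, how, pow_one]
  obtain ⟨Q, hQ⟩ := hw2.exists_le_sylow
  obtain ⟨x, hx⟩ := MulAction.exists_smul_eq G Q S
  have hwS : x * w * x⁻¹ ∈ (S : Subgroup G) := by
    rw [← hx, Sylow.coe_subgroup_smul]
    have h1 := Subgroup.smul_mem_pointwise_smul w (MulAut.conj x) (Q : Subgroup G)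
      (hQ (mem_zpowers w))
    simpa [MulAut.smul_def] using h1
  rw [hS, c.setup.centralizer_eq_range] at hwS
  obtain ⟨d, hd⟩ := hwS
  have hdM : d ∉ Mi i := by
    intro h1
    apply hwM
    have h2 : f d ∈ MG f i := (c.setup.mem_MG_iff i d).mpr h1
    have h3 := hMG x⁻¹ _ h2
    rw [hd] at h3
    have h4 : x⁻¹ * (x * w * x⁻¹) * x⁻¹⁻¹ = w := by group
    rwa [h4] at h3
  set y' := x * y * x⁻¹ with hy'
  have hoy' : orderOf y' = 3 := by
    rw [hy']
    have : x * y * x⁻¹ = MulAut.conj x y := by simp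
    rw [this, MulEquiv.orderOf_eq, hoy]
  have hcomm' : f d * y' = y' * f d := by
    rw [hd, hy']
    calc x * w * x⁻¹ * (x * y * x⁻¹) = x * (w * y) * x⁻¹ := by group
      _ = x * (y * w) * x⁻¹ := by rw [hwy]
      _ = x * y * x⁻¹ * (x * w * x⁻¹) := by group
  set z1 := y' * f (r 2) * y'⁻¹ with hz1
  have hz1M : z1 ∈ MG f i := hMG y' _ (c.setup.z_mem_MG i)
  have hz11 : z1 ≠ 1 := by
    intro h1
    apply c.setup.z_ne_one
    have h2 : f (r 2) = y'⁻¹ * z1 * y' := by rw [hz1]; group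
    rw [h2, h1]; group
  have hz1z : z1 ≠ f (r 2) := by
    intro h1
    apply hy8 y' hoy'
    apply c.pow_eight_of_commute (f (r 2)) (c.setup.z_mem_MG i) c.setup.z_ne_one
    calc y' * f (r 2) = (y' * f (r 2) * y'⁻¹) * y' := by group
      _ = f (r 2) * y' := by rw [← hz1, h1]
  apply c.setup.noncomm i d hdM z1 hz1M hz11 hz1z
  rw [hz1]
  calc f d * (y' * f (r 2) * y'⁻¹) = (f d * y') * f (r 2) * y'⁻¹ := by group
    _ = y' * (f d * f (r 2)) * y'⁻¹ := by rw [hcomm']; group
    _ = y' * (f (r 2) * f d) * y'⁻¹ := by rw [c.setup.comm d]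
    _ = y' * f (r 2) * y'⁻¹ * (y' * f d) * y'⁻¹ := by group
    _ = y' * f (r 2) * y'⁻¹ * (f d * y') * y'⁻¹ := by rw [hcomm']
    _ = y' * f (r 2) * y'⁻¹ * f d := by group

/-- If `H` has a normal subgroup of order four then `G ≅ S₄`. -/
theorem s4 [Finite G] (E : Subgroup H) (hE : E.Normal) (hE4 : Nat.card E = 4) :
    Nonempty (G ≃* Equiv.Perm (Fin 4)) := by
  haveI : Fact (Nat.Prime 2) := ⟨Nat.prime_two⟩
  have h4 : 4 = 2 ^ (Nat.card H).factorization 2 := by rw [c.factorization_H]; norm_num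
  set MH := (MG f i).subgroupOf H with hMH
  have hMH4 : Nat.card MH = 4 := by
    rw [hMH, Nat.card_congr (Subgroup.subgroupOfEquivOfLe c.Mle).toEquiv, c.setup.MG_card]
  let PE : Sylow 2 H := Sylow.ofCard E (by rw [hE4]; exact h4)
  let PM : Sylow 2 H := Sylow.ofCard MH (by rw [hMH4]; exact h4)
  have hPE : (PE : Subgroup H) = E := Sylow.coe_ofCard _ _
  have hPM : (PM : Subgroup H) = MH := Sylow.coe_ofCard _ _
  haveI : (PE : Subgroup H).Normal := by rw [hPE]; exact hE
  haveI := Sylow.unique_of_normal PE inferInstance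
  have hEM : E = MH := by
    rw [← hPE, ← hPM]
    exact congrArg _ (Subsingleton.elim PE PM)
  have hMHn : ∀ x ∈ H, ∀ m ∈ MG f i, x * m * x⁻¹ ∈ MG f i := by
    intro x hx m hm
    have h1 : (⟨m, c.Mle hm⟩ : H) ∈ E := by
      rw [hEM, hMH, mem_subgroupOf]; exact hm
    have h2 := hE.conj_mem _ h1 ⟨x, hx⟩
    rw [hEM, hMH, mem_subgroupOf] at h2
    simpa using h2
  have hMG := c.MG_normal_of hMHn
  exact Cfsg.Agent.Lib.Helper16.s4_of_card_24 (c.card_of_normal hMG) (c.no_order_six hMG)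

end Cfg

end Cfsg.Agent.Lib.Helper19.D8Inv
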