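import Mathlib
import Cfsg.Agent.S3277
import Cfsg.Agent.Lib.Helper19.D8InvE
import Cfsg.Agent.Lib.Helper19.D8InvF

/-!
# Involutions with dihedral centraliser of order 8: `z` fused to exactly one non-central class
(helper19, for S3035)
-/

set_option autoImplicit false
set_option linter.unusedSectionVars false
set_option linter.style.haveILetI false

namespace Cfsg.Agent.Lib.Helper19.D8Inv

open Subgroup DihedralGroup

variable {G : Type*} [Group G]

namespace Setup

variable {f : DihedralGroup 4 →* G} (h : Setup f) (i : ZMod 4)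

include h

/-- If `z` is conjugate to `f (sr i)` but not to `f (sr (i+1))` then `G ≅ S₄` or `G ≅ S₅`. -/
theorem case_one_class [Finite G] (hA : ∃ g : G, g * f (r 2) * g⁻¹ = f (sr i))
    (hB : ¬ ∃ g : G, g * f (r 2) * g⁻¹ = f (sr (i + 1))) :
    Nonempty (G ≃* Equiv.Perm (Fin 4)) ∨ Nonempty (G ≃* Equiv.Perm (Fin 5)) := by
  obtain ⟨H, hH⟩ := h.exists_index_two i hA hB
  have c := h.cfg_of_index_two i hA H hH
  by_cases hne : ∀ E : Subgroup H, E.Normal → Cfsg.IsElementaryAbelian 2 E →
      Nat.card E ≠ 2 ∧ Nat.card E ≠ 4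
  · right
    obtain ⟨eA⟩ := Cfsg.Agent.S3277.result (⟨f (r 2), c.zmem⟩ : H) c.orderOf_zH
      c.card_centralizer (fun x hx => c.sq_centralizer x hx) c.no_complement hne
    exact c.s5 eA
  · left
    push Not at hne
    obtain ⟨E, hE, _, hcard⟩ := hne
    exact c.s4 E hE (hcard (c.no_card_two E hE))

end Setup

end Cfsg.Agent.Lib.Helper19.D8Inv
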