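import Mathlib
import Cfsg.Agent.Lib.Helper19.Derangement

/-!
# The index of the derangement subgroup

Shared lemmas for S3548, S3549.
-/

set_option autoImplicit false

namespace Cfsg.Agent.Lib.Helper19

open MulAction

section

variable {G Ω : Type*} [Group G] [Finite G] [MulAction G Ω] [Finite Ω]

/-- an element fixing two distinct points lies in the derangement subgroup -/
theorem inf_stabilizer_le_derSubgroup [IsPretransitive G Ω] {α β : Ω} (hαβ : α ≠ β) :
    stabilizer G α ⊓ stabilizer G β ≤ derSubgroup G Ω := by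
  intro g hg
  rw [Subgroup.mem_inf, mem_stabilizer_iff, mem_stabilizer_iff] at hg
  apply mem_derSubgroup_of_card_fixedBy_ne_one
  intro h1
  rw [Nat.card_eq_one_iff_unique] at h1
  obtain ⟨hs, _⟩ := h1
  have := hs.elim (⟨α, hg.1⟩ : fixedBy Ω g) ⟨β, hg.2⟩
  exact hαβ (congrArg Subtype.val this)

theorem stabilizer_sup_derSubgroup [IsPretransitive G Ω] (α : Ω) :
    stabilizer G α ⊔ derSubgroup G Ω = ⊤ := by
  rw [eq_top_iff]
  intro g _
  have hD : IsPretransitive (derSubgroup G Ω) Ω := derSubgroup_pretransitive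
  obtain ⟨d, hd⟩ := hD.exists_smul_eq α (g • α)
  have hd' : (d : G) • α = g • α := hd
  have h1 : (d : G)⁻¹ * g ∈ stabilizer G α := by
    rw [mem_stabilizer_iff, mul_smul, ← hd', inv_smul_smul]
  have : g = (d : G) * ((d : G)⁻¹ * g) := by group
  rw [this]
  exact Subgroup.mul_mem _ (Subgroup.mem_sup_right d.2) (Subgroup.mem_sup_left h1)

theorem relIndex_derSubgroup_stabilizer [IsPretransitive G Ω] (α : Ω) :
    (derSubgroup G Ω).relIndex (stabilizer G α) = (derSubgroup G Ω).index := by
  have : (derSubgroup G Ω).Normal := derSubgroup_normal G Ω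
  rw [← Subgroup.relIndex_sup_right, stabilizer_sup_derSubgroup, Subgroup.relIndex_top_right]

omit [Finite G] [Finite Ω] in
theorem stabilizer_stabilizer (α β : Ω) :
    stabilizer (stabilizer G α) β = (stabilizer G β).subgroupOf (stabilizer G α) := by
  ext h
  rw [mem_stabilizer_iff, Subgroup.mem_subgroupOf, mem_stabilizer_iff]
  rfl

omit [Finite G] [Finite Ω] in
theorem ncard_orbit_stabilizer (α β : Ω) :
    (orbit (stabilizer G α) β).ncard = (stabilizer G β).relIndex (stabilizer G α) := by
  rw [← index_stabilizer, stabilizer_stabilizer]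
  rfl

/-- the size of a suborbit, factored through the derangement subgroup -/
theorem ncard_orbit_stabilizer_eq [IsPretransitive G Ω] {α β : Ω} (hβ : β ≠ α) :
    (orbit (stabilizer G α) β).ncard =
      (stabilizer G α ⊓ stabilizer G β).relIndex (derSubgroup G Ω ⊓ stabilizer G α) *
        (derSubgroup G Ω).index := by
  rw [ncard_orbit_stabilizer, ← relIndex_derSubgroup_stabilizer α,
    ← Subgroup.inf_relIndex_right (derSubgroup G Ω) (stabilizer G α),
    Subgroup.relIndex_mul_relIndex _ _ _ _ inf_le_right, Subgroup.inf_relIndex_left]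
  exact le_inf (inf_stabilizer_le_derSubgroup hβ.symm) inf_le_left

theorem index_dvd_ncard_orbit_stabilizer [IsPretransitive G Ω] {α β : Ω} (hβ : β ≠ α) :
    (derSubgroup G Ω).index ∣ (orbit (stabilizer G α) β).ncard := by
  rw [ncard_orbit_stabilizer_eq hβ]
  exact Dvd.intro_left _ rfl

/-- A subset of `Ω` not containing `α` and stable under the stabilizer of `α`
has cardinality divisible by the index of the derangement subgroup. -/
theorem index_dvd_ncard_of_invariant [IsPretransitive G Ω] (α : Ω) (S : Set Ω) (hα : α ∉ S)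
    (hS : ∀ g ∈ stabilizer G α, ∀ x ∈ S, g • x ∈ S) :
    (derSubgroup G Ω).index ∣ S.ncard := by
  classical
  -- induction on the cardinality of S
  have hfin : S.Finite := Set.toFinite S
  induction' hn : S.ncard using Nat.strong_induction_on with n ih generalizing S
  rcases S.eq_empty_or_nonempty with hemp | ⟨β, hβS⟩
  · subst hemp
    rw [← hn, Set.ncard_empty]
    exact dvd_zero _
  · have hβα : β ≠ α := fun h => hα (h ▸ hβS)
    set O := orbit (stabilizer G α) β with hO
    have hOS : O ⊆ S := by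
      rintro x ⟨h, rfl⟩
      exact hS h.1 h.2 β hβS
    have hOne : O.Nonempty := ⟨β, mem_orbit_self β⟩
    set S' := S \ O with hS'
    have hlt : S'.ncard < n := by
      rw [← hn]
      apply Set.ncard_lt_ncard _ hfin
      constructor
      · exact Set.sdiff_subset
      · intro hsub
        have := hsub hβS
        exact this.2 (mem_orbit_self β)
    have hα' : α ∉ S' := fun h => hα h.1
    have hS'inv : ∀ g ∈ stabilizer G α, ∀ x ∈ S', g • x ∈ S' := by
      intro g hg x hx
      refine ⟨hS g hg x hx.1, ?_⟩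
      intro hgx
      apply hx.2
      have : x = (⟨g, hg⟩ : stabilizer G α)⁻¹ • ((⟨g, hg⟩ : stabilizer G α) • x) := by
        rw [inv_smul_smul]
      rw [this]
      exact mem_orbit_of_mem_orbit _ hgx
    have h1 := ih S'.ncard hlt S' hα' hS'inv (Set.toFinite S') rfl
    have h2 : (derSubgroup G Ω).index ∣ O.ncard := index_dvd_ncard_orbit_stabilizer hβα
    have h3 : S.ncard = S'.ncard + O.ncard := by
      rw [hS', Set.ncard_sdiff_add_ncard_of_subset hOS hfin]
    rw [← hn, h3]
    exact dvd_add h1 h2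

theorem index_dvd_card_sub_one [IsPretransitive G Ω] [Nonempty Ω] :
    (derSubgroup G Ω).index ∣ Nat.card Ω - 1 := by
  obtain ⟨α⟩ := ‹Nonempty Ω›
  have h := index_dvd_ncard_of_invariant (G := G) α ({α}ᶜ : Set Ω) (by simp) (by
    intro g hg x hx hgx
    apply hx
    rw [Set.mem_singleton_iff] at hgx ⊢
    rw [mem_stabilizer_iff] at hg
    calc x = g⁻¹ • (g • x) := by rw [inv_smul_smul]
      _ = g⁻¹ • α := by rw [hgx]
      _ = α := by rw [inv_smul_eq_iff, hg])
  have : ({α}ᶜ : Set Ω).ncard = Nat.card Ω - 1 := by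
    rw [Set.ncard_compl, Set.ncard_singleton]
  rwa [this] at h

/-- If the index of the derangement subgroup is `|Ω| - 1` (and `2 ≤ |Ω|`), point stabilizers in
the derangement subgroup are trivial and each point stabilizer is transitive on the other points. -/
theorem sharp_of_index_eq [IsPretransitive G Ω] [FaithfulSMul G Ω] (hΩ : 2 ≤ Nat.card Ω)
    (hk : (derSubgroup G Ω).index = Nat.card Ω - 1) (α : Ω) :
    derSubgroup G Ω ⊓ stabilizer G α = ⊥ ∧
      ∀ β γ : Ω, β ≠ α → γ ≠ α → ∃ h ∈ stabilizer G α, h • β = γ := by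
  classical
  have hkpos : 1 ≤ (derSubgroup G Ω).index := by omega
  -- every suborbit has size exactly k
  have horb : ∀ β : Ω, β ≠ α → (orbit (stabilizer G α) β).ncard = (derSubgroup G Ω).index ∧
      (stabilizer G α ⊓ stabilizer G β).relIndex (derSubgroup G Ω ⊓ stabilizer G α) = 1 := by
    intro β hβ
    have h1 := ncard_orbit_stabilizer_eq (G := G) hβ
    have hsub : orbit (stabilizer G α) β ⊆ ({α}ᶜ : Set Ω) := by
      rintro x ⟨h, rfl⟩ hx
      rw [Set.mem_singleton_iff] at hx
      apply hβ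
      have h2 : (h : G) • β = α := hx
      have h3 : (h : G) • α = α := h.2
      calc β = (h : G)⁻¹ • ((h : G) • β) := by rw [inv_smul_smul]
        _ = (h : G)⁻¹ • α := by rw [h2]
        _ = α := by rw [inv_smul_eq_iff, h3]
    have hle : (orbit (stabilizer G α) β).ncard ≤ (derSubgroup G Ω).index := by
      have := Set.ncard_le_ncard hsub (Set.toFinite _)
      rw [Set.ncard_compl, Set.ncard_singleton] at this
      omega
    have hpos : 0 < (orbit (stabilizer G α) β).ncard := by
      rw [Set.ncard_pos]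
      exact ⟨β, mem_orbit_self β⟩
    rw [h1] at hle hpos
    set r := (stabilizer G α ⊓ stabilizer G β).relIndex (derSubgroup G Ω ⊓ stabilizer G α) with hr
    have hr1 : r = 1 := by
      have hrpos : 0 < r := by
        by_contra h0
        have : r = 0 := by omega
        rw [this, zero_mul] at hpos
        exact lt_irrefl _ hpos
      by_contra hne
      have : 2 ≤ r := by omega
      have : 2 * (derSubgroup G Ω).index ≤ r * (derSubgroup G Ω).index := Nat.mul_le_mul_right _ this
      omega
    refine ⟨?_, hr1⟩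
    rw [h1, hr1, one_mul]
  have hbot : derSubgroup G Ω ⊓ stabilizer G α = ⊥ := by
    rw [eq_bot_iff]
    intro d hd
    rw [Subgroup.mem_bot]
    apply FaithfulSMul.eq_of_smul_eq_smul (α := Ω)
    intro β
    rw [one_smul]
    by_cases hβ : β = α
    · rw [hβ]
      exact (Subgroup.mem_inf.mp hd).2
    · have := (horb β hβ).2
      rw [Subgroup.relIndex_eq_one] at this
      have := this hd
      exact (Subgroup.mem_inf.mp this).2
  refine ⟨hbot, ?_⟩
  intro β γ hβ hγ
  have hsub : orbit (stabilizer G α) β ⊆ ({α}ᶜ : Set Ω) := by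
    rintro x ⟨h, rfl⟩ hx
    rw [Set.mem_singleton_iff] at hx
    apply hβ
    have h2 : (h : G) • β = α := hx
    have h3 : (h : G) • α = α := h.2
    calc β = (h : G)⁻¹ • ((h : G) • β) := by rw [inv_smul_smul]
      _ = (h : G)⁻¹ • α := by rw [h2]
      _ = α := by rw [inv_smul_eq_iff, h3]
  have heq : orbit (stabilizer G α) β = ({α}ᶜ : Set Ω) := by
    apply Set.eq_of_subset_of_ncard_le hsub _ (Set.toFinite _)
    rw [(horb β hβ).1, Set.ncard_compl, Set.ncard_singleton]
    omega
  have hγmem : γ ∈ orbit (stabilizer G α) β := by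
    rw [heq]
    exact hγ
  obtain ⟨h, hh⟩ := hγmem
  exact ⟨h.1, h.2, hh⟩

theorem isPrimePow_of_index_eq [IsPretransitive G Ω] [FaithfulSMul G Ω] (hΩ : 2 ≤ Nat.card Ω)
    (hk : (derSubgroup G Ω).index = Nat.card Ω - 1) : IsPrimePow (Nat.card Ω) := by
  classical
  have hne : Nonempty Ω := by
    by_contra h
    rw [not_nonempty_iff] at h
    rw [Nat.card_of_isEmpty] at hΩ
    omega
  obtain ⟨α⟩ := hne
  set D := derSubgroup G Ω with hD
  have hDn : D.Normal := derSubgroup_normal G Ω
  obtain ⟨hbot, htr⟩ := sharp_of_index_eq (G := G) hΩ hk α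
  have hDtr : IsPretransitive D Ω := derSubgroup_pretransitive
  -- |D| = |Ω|
  have hcardD : Nat.card D = Nat.card Ω := by
    have hstab : stabilizer D α = ⊥ := by
      rw [eq_bot_iff]
      intro d hd
      rw [mem_stabilizer_iff] at hd
      have : (d : G) ∈ D ⊓ stabilizer G α := ⟨d.2, hd⟩
      rw [hbot, Subgroup.mem_bot] at this
      rw [Subgroup.mem_bot]
      exact Subtype.ext this
    have h1 := Subgroup.card_mul_index (stabilizer D α)
    rw [index_stabilizer_of_transitive, hstab, Subgroup.card_bot, one_mul] at h1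
    exact h1.symm
  -- nonidentity elements of D are conjugate
  have hconj : ∀ d₁ d₂ : G, d₁ ∈ D → d₂ ∈ D → d₁ ≠ 1 → d₂ ≠ 1 → orderOf d₁ = orderOf d₂ := by
    intro d₁ d₂ h₁ h₂ hn₁ hn₂
    have hm₁ : d₁ • α ≠ α := by
      intro h
      apply hn₁
      have : d₁ ∈ D ⊓ stabilizer G α := ⟨h₁, h⟩
      rwa [hbot, Subgroup.mem_bot] at this
    have hm₂ : d₂ • α ≠ α := by
      intro h
      apply hn₂
      have : d₂ ∈ D ⊓ stabilizer G α := ⟨h₂, h⟩
      rwa [hbot, Subgroup.mem_bot] at this
    obtain ⟨h, hh, hmap⟩ := htr _ _ hm₁ hm₂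
    rw [mem_stabilizer_iff] at hh
    have hinv : h⁻¹ • α = α := by rw [inv_smul_eq_iff, hh]
    have hmem : d₂⁻¹ * (h * d₁ * h⁻¹) ∈ D ⊓ stabilizer G α := by
      refine Subgroup.mem_inf.mpr ⟨D.mul_mem (D.inv_mem h₂) (hDn.conj_mem d₁ h₁ h), ?_⟩
      rw [mem_stabilizer_iff, mul_smul, mul_smul, mul_smul, hinv, hmap, inv_smul_smul]
    rw [hbot, Subgroup.mem_bot] at hmem
    have : d₂ = h * d₁ * h⁻¹ := by
      have := congrArg (fun z => d₂ * z) hmem
      simp only [mul_one, mul_inv_cancel_left] at this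
      exact this.symm
    rw [this]
    have : h * d₁ * h⁻¹ = MulAut.conj h d₁ := by simp [MulAut.conj_apply]
    rw [this, MulEquiv.orderOf_eq]
  -- a prime dividing |D|
  have hDgt : 1 < Nat.card D := by omega
  obtain ⟨p, hp, hpd⟩ := Nat.exists_prime_and_dvd (Nat.ne_of_gt hDgt)
  have : Fact p.Prime := ⟨hp⟩
  obtain ⟨d₀, hd₀⟩ := exists_prime_orderOf_dvd_card' p hpd
  have hd₀1 : d₀ ≠ 1 := by
    intro h
    rw [h, orderOf_one] at hd₀
    exact hp.one_lt.ne hd₀
  have hpg : IsPGroup p D := by
    intro d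
    by_cases hd1 : d = 1
    · exact ⟨0, by rw [hd1]; simp⟩
    · refine ⟨1, ?_⟩
      have h1 : (d : G) ≠ 1 := fun h => hd1 (Subtype.ext h)
      have h2 : (d₀ : G) ≠ 1 := fun h => hd₀1 (Subtype.ext h)
      have := hconj d d₀ d.2 d₀.2 h1 h2
      rw [Subgroup.orderOf_coe, Subgroup.orderOf_coe, hd₀] at this
      rw [pow_one, ← this]
      exact pow_orderOf_eq_one d
  obtain ⟨a, ha⟩ := IsPGroup.iff_card.mp hpg
  rw [← hcardD, ha]
  have ha0 : a ≠ 0 := by
    intro h
    rw [h, pow_zero] at ha
    omega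
  exact ⟨p, a, hp.prime, Nat.pos_of_ne_zero ha0, rfl⟩

end

end Cfsg.Agent.Lib.Helper19
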