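import Cfsg.Agent.Lib.Helper19.Fi22MM2Model

set_option autoImplicit false
set_option maxRecDepth 100000
set_option linter.unusedVariables false
set_option Elab.async false

namespace Cfsg.Agent.Lib.Helper19.Fi22MM2

open Cfsg.Agent.Helper4.TC Cfsg.Agent.Lib.Helper19.CentModel

theorem rel0 : relsRange mdata basesM 483 0 = true := relsRange_strict mdata basesM 483 0 (by decide +kernel)
theorem rel1 : relsRange mdata basesM 483 483 = true := relsRange_strict mdata basesM 483 483 (by decide +kernel)
theorem rel2 : relsRange mdata basesM 483 966 = true := relsRange_strict mdata basesM 483 966 (by decide +kernel)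
theorem rel3 : relsRange mdata basesM 483 1449 = true := relsRange_strict mdata basesM 483 1449 (by decide +kernel)
theorem rel4 : relsRange mdata basesM 483 1932 = true := relsRange_strict mdata basesM 483 1932 (by decide +kernel)
theorem rel5 : relsRange mdata basesM 483 2415 = true := relsRange_strict mdata basesM 483 2415 (by decide +kernel)
theorem rel6 : relsRange mdata basesM 483 2898 = true := relsRange_strict mdata basesM 483 2898 (by decide +kernel)
theorem rel7 : relsRange mdata basesM 483 3381 = true := relsRange_strict mdata basesM 483 3381 (by decide +kernel)

end Cfsg.Agent.Lib.Helper19.Fi22MM2
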