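import Cfsg.Agent.Lib.Helper19.Fi22MM2Model

set_option autoImplicit false
set_option maxRecDepth 100000
set_option linter.unusedVariables false
set_option Elab.async false

namespace Cfsg.Agent.Lib.Helper19.Fi22MM2

open Cfsg.Agent.Helper4.TC Cfsg.Agent.Lib.Helper19.CentModel

theorem inv8 : invRange mdata 2962 23696 = true := invRange_strict mdata 2962 23696 (by decide +kernel)
theorem inv9 : invRange mdata 1502 26658 = true := invRange_strict mdata 1502 26658 (by decide +kernel)
theorem tree0 : treeRange mdata 26666 1 = true := treeRange_strict mdata 26666 1 (by decide +kernel)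
theorem tree1 : treeRange mdata 1493 26667 = true := treeRange_strict mdata 1493 26667 (by decide +kernel)
theorem relc_ok : wordsLettersOK 18 basesM = true := by decide +kernel
theorem rhoc_ok : lettersOK 18 rhoW = true := by decide +kernel

end Cfsg.Agent.Lib.Helper19.Fi22MM2
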