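import Cfsg.Agent.Lib.Helper19.Fi22MM2Model

set_option autoImplicit false
set_option maxRecDepth 100000
set_option linter.unusedVariables false
set_option Elab.async false

namespace Cfsg.Agent.Lib.Helper19.Fi22MM2

open Cfsg.Agent.Helper4.TC Cfsg.Agent.Lib.Helper19.CentModel

theorem rel16 : relsRange mdata basesM 483 7728 = true := relsRange_strict mdata basesM 483 7728 (by decide +kernel)
theorem rel17 : relsRange mdata basesM 483 8211 = true := relsRange_strict mdata basesM 483 8211 (by decide +kernel)
theorem rel18 : relsRange mdata basesM 483 8694 = true := relsRange_strict mdata basesM 483 8694 (by decide +kernel)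
theorem rel19 : relsRange mdata basesM 483 9177 = true := relsRange_strict mdata basesM 483 9177 (by decide +kernel)
theorem rel20 : relsRange mdata basesM 483 9660 = true := relsRange_strict mdata basesM 483 9660 (by decide +kernel)
theorem rel21 : relsRange mdata basesM 483 10143 = true := relsRange_strict mdata basesM 483 10143 (by decide +kernel)
theorem rel22 : relsRange mdata basesM 483 10626 = true := relsRange_strict mdata basesM 483 10626 (by decide +kernel)
theorem rel23 : relsRange mdata basesM 483 11109 = true := relsRange_strict mdata basesM 483 11109 (by decide +kernel)

end Cfsg.Agent.Lib.Helper19.Fi22MM2
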