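import Cfsg.Agent.Lib.Helper19.Fi22MM2Model

set_option autoImplicit false
set_option maxRecDepth 100000
set_option linter.unusedVariables false
set_option Elab.async false

namespace Cfsg.Agent.Lib.Helper19.Fi22MM2

open Cfsg.Agent.Helper4.TC Cfsg.Agent.Lib.Helper19.CentModel

theorem rel24 : relsRange mdata basesM 483 11592 = true := relsRange_strict mdata basesM 483 11592 (by decide +kernel)
theorem rel25 : relsRange mdata basesM 483 12075 = true := relsRange_strict mdata basesM 483 12075 (by decide +kernel)
theorem rel26 : relsRange mdata basesM 483 12558 = true := relsRange_strict mdata basesM 483 12558 (by decide +kernel)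
theorem rel27 : relsRange mdata basesM 483 13041 = true := relsRange_strict mdata basesM 483 13041 (by decide +kernel)
theorem rel28 : relsRange mdata basesM 483 13524 = true := relsRange_strict mdata basesM 483 13524 (by decide +kernel)
theorem rel29 : relsRange mdata basesM 483 14007 = true := relsRange_strict mdata basesM 483 14007 (by decide +kernel)
theorem rel30 : relsRange mdata basesM 483 14490 = true := relsRange_strict mdata basesM 483 14490 (by decide +kernel)
theorem rel31 : relsRange mdata basesM 483 14973 = true := relsRange_strict mdata basesM 483 14973 (by decide +kernel)

end Cfsg.Agent.Lib.Helper19.Fi22MM2
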