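import Cfsg.Agent.Lib.Helper19.Fi22MM2Model

set_option autoImplicit false
set_option maxRecDepth 100000
set_option linter.unusedVariables false
set_option Elab.async false

namespace Cfsg.Agent.Lib.Helper19.Fi22MM2

open Cfsg.Agent.Helper4.TC Cfsg.Agent.Lib.Helper19.CentModel

theorem rel40 : relsRange mdata basesM 483 19320 = true := relsRange_strict mdata basesM 483 19320 (by decide +kernel)
theorem rel41 : relsRange mdata basesM 483 19803 = true := relsRange_strict mdata basesM 483 19803 (by decide +kernel)
theorem rel42 : relsRange mdata basesM 483 20286 = true := relsRange_strict mdata basesM 483 20286 (by decide +kernel)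
theorem rel43 : relsRange mdata basesM 483 20769 = true := relsRange_strict mdata basesM 483 20769 (by decide +kernel)
theorem rel44 : relsRange mdata basesM 483 21252 = true := relsRange_strict mdata basesM 483 21252 (by decide +kernel)
theorem rel45 : relsRange mdata basesM 483 21735 = true := relsRange_strict mdata basesM 483 21735 (by decide +kernel)
theorem rel46 : relsRange mdata basesM 483 22218 = true := relsRange_strict mdata basesM 483 22218 (by decide +kernel)
theorem rel47 : relsRange mdata basesM 483 22701 = true := relsRange_strict mdata basesM 483 22701 (by decide +kernel)

end Cfsg.Agent.Lib.Helper19.Fi22MM2
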