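import Cfsg.Agent.Lib.Helper19.Fi22MM2Model

set_option autoImplicit false
set_option maxRecDepth 100000
set_option linter.unusedVariables false
set_option Elab.async false

namespace Cfsg.Agent.Lib.Helper19.Fi22MM2

open Cfsg.Agent.Helper4.TC Cfsg.Agent.Lib.Helper19.CentModel

theorem rel48 : relsRange mdata basesM 483 23184 = true := relsRange_strict mdata basesM 483 23184 (by decide +kernel)
theorem rel49 : relsRange mdata basesM 483 23667 = true := relsRange_strict mdata basesM 483 23667 (by decide +kernel)
theorem rel50 : relsRange mdata basesM 483 24150 = true := relsRange_strict mdata basesM 483 24150 (by decide +kernel)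
theorem rel51 : relsRange mdata basesM 483 24633 = true := relsRange_strict mdata basesM 483 24633 (by decide +kernel)
theorem rel52 : relsRange mdata basesM 483 25116 = true := relsRange_strict mdata basesM 483 25116 (by decide +kernel)
theorem rel53 : relsRange mdata basesM 483 25599 = true := relsRange_strict mdata basesM 483 25599 (by decide +kernel)
theorem rel54 : relsRange mdata basesM 483 26082 = true := relsRange_strict mdata basesM 483 26082 (by decide +kernel)
theorem rel55 : relsRange mdata basesM 483 26565 = true := relsRange_strict mdata basesM 483 26565 (by decide +kernel)

end Cfsg.Agent.Lib.Helper19.Fi22MM2
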