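import Cfsg.Agent.Lib.Helper19.Fi22MM2Model

set_option autoImplicit false
set_option maxRecDepth 100000
set_option linter.unusedVariables false
set_option Elab.async false

namespace Cfsg.Agent.Lib.Helper19.Fi22MM2

open Cfsg.Agent.Helper4.TC Cfsg.Agent.Lib.Helper19.CentModel

theorem rel56 : relsRange mdata basesM 483 27048 = true := relsRange_strict mdata basesM 483 27048 (by decide +kernel)
theorem rel57 : relsRange mdata basesM 483 27531 = true := relsRange_strict mdata basesM 483 27531 (by decide +kernel)
theorem rel58 : relsRange mdata basesM 146 28014 = true := relsRange_strict mdata basesM 146 28014 (by decide +kernel)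
theorem zc0 : rangeS (zPt mdata z2 rhoW) 1367 0 = true := by decide +kernel
theorem zc1 : rangeS (zPt mdata z2 rhoW) 1367 1367 = true := by decide +kernel
theorem zc2 : rangeS (zPt mdata z2 rhoW) 1367 2734 = true := by decide +kernel
theorem zc3 : rangeS (zPt mdata z2 rhoW) 1367 4101 = true := by decide +kernel
theorem zc4 : rangeS (zPt mdata z2 rhoW) 1367 5468 = true := by decide +kernel

end Cfsg.Agent.Lib.Helper19.Fi22MM2
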