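import Cfsg.Agent.Lib.Helper19.Fi22MM2Model

set_option autoImplicit false
set_option maxRecDepth 100000
set_option linter.unusedVariables false
set_option Elab.async false

namespace Cfsg.Agent.Lib.Helper19.Fi22MM2

open Cfsg.Agent.Helper4.TC Cfsg.Agent.Lib.Helper19.CentModel

theorem zc5 : rangeS (zPt mdata z2 rhoW) 1367 6835 = true := by decide +kernel
theorem zc6 : rangeS (zPt mdata z2 rhoW) 1367 8202 = true := by decide +kernel
theorem zc7 : rangeS (zPt mdata z2 rhoW) 1367 9569 = true := by decide +kernel
theorem zc8 : rangeS (zPt mdata z2 rhoW) 1367 10936 = true := by decide +kernel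
theorem zc9 : rangeS (zPt mdata z2 rhoW) 1367 12303 = true := by decide +kernel
theorem zc10 : rangeS (zPt mdata z2 rhoW) 1367 13670 = true := by decide +kernel
theorem zc11 : rangeS (zPt mdata z2 rhoW) 1367 15037 = true := by decide +kernel
theorem zc12 : rangeS (zPt mdata z2 rhoW) 1367 16404 = true := by decide +kernel

end Cfsg.Agent.Lib.Helper19.Fi22MM2
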