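import Cfsg.Agent.Lib.Helper19.Fi22MM2Model

set_option autoImplicit false
set_option maxRecDepth 100000
set_option linter.unusedVariables false
set_option Elab.async false

namespace Cfsg.Agent.Lib.Helper19.Fi22MM2

open Cfsg.Agent.Helper4.TC Cfsg.Agent.Lib.Helper19.CentModel

theorem zc13 : rangeS (zPt mdata z2 rhoW) 1367 17771 = true := by decide +kernel
theorem zc14 : rangeS (zPt mdata z2 rhoW) 1367 19138 = true := by decide +kernel
theorem zc15 : rangeS (zPt mdata z2 rhoW) 1367 20505 = true := by decide +kernel
theorem zc16 : rangeS (zPt mdata z2 rhoW) 1367 21872 = true := by decide +kernel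
theorem zc17 : rangeS (zPt mdata z2 rhoW) 1367 23239 = true := by decide +kernel
theorem zc18 : rangeS (zPt mdata z2 rhoW) 1367 24606 = true := by decide +kernel
theorem zc19 : rangeS (zPt mdata z2 rhoW) 1367 25973 = true := by decide +kernel
theorem zc20 : rangeS (zPt mdata z2 rhoW) 820 27340 = true := by decide +kernel

end Cfsg.Agent.Lib.Helper19.Fi22MM2
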