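import Cfsg.Agent.Lib.Helper19.Fi22MM2C0
import Cfsg.Agent.Lib.Helper19.Fi22MM2C1
import Cfsg.Agent.Lib.Helper19.Fi22MM2C2
import Cfsg.Agent.Lib.Helper19.Fi22MM2C3
import Cfsg.Agent.Lib.Helper19.Fi22MM2C4
import Cfsg.Agent.Lib.Helper19.Fi22MM2C5
import Cfsg.Agent.Lib.Helper19.Fi22MM2C6
import Cfsg.Agent.Lib.Helper19.Fi22MM2C7
import Cfsg.Agent.Lib.Helper19.Fi22MM2C8
import Cfsg.Agent.Lib.Helper19.Fi22MM2C9
import Cfsg.Agent.Lib.Helper19.Fi22MM2C10
import Cfsg.Agent.Lib.Helper19.Fi22MM2C11

set_option autoImplicit false
set_option maxRecDepth 100000
set_option linter.unusedVariables false

namespace Cfsg.Agent.Lib.Helper19.Fi22MM2

open Cfsg.Agent.Helper4.TC Cfsg.Agent.Lib.Helper19.CentModel

theorem model_ok : ModelOK mdata basesM [] := by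
  refine ⟨by decide, ?_, ?_, wordsLettersOK_sound _ _ relc_ok, ?_, ?_, ?_⟩
  · intro k hk
    have hk' : k < 28160 := hk
    by_cases hh1 : k < 14810
    · skip
      by_cases hh2 : k < 5924
      · skip
        by_cases hh3 : k < 2962
        · skip
          exact invRange_sound mdata 2962 0 inv0 k (by omega) (by omega)
        · skip
          exact invRange_sound mdata 2962 2962 inv1 k (by omega) (by omega)
      · skip
        by_cases hh4 : k < 8886
        · skip
          exact invRange_sound mdata 2962 5924 inv2 k (by omega) (by omega)
        · skip
          by_cases hh5 : k < 11848
          · skip
            exact invRange_sound mdata 2962 8886 inv3 k (by omega) (by omega)
          · skip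
            exact invRange_sound mdata 2962 11848 inv4 k (by omega) (by omega)
    · skip
      by_cases hh6 : k < 20734
      · skip
        by_cases hh7 : k < 17772
        · skip
          exact invRange_sound mdata 2962 14810 inv5 k (by omega) (by omega)
        · skip
          exact invRange_sound mdata 2962 17772 inv6 k (by omega) (by omega)
      · skip
        by_cases hh8 : k < 23696
        · skip
          exact invRange_sound mdata 2962 20734 inv7 k (by omega) (by omega)
        · skip
          by_cases hh9 : k < 26658
          · skip
            exact invRange_sound mdata 2962 23696 inv8 k (by omega) (by omega)
          · skip
            exact invRange_sound mdata 1502 26658 inv9 k (by omega) (by omega)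
  · intro k hk
    have hk' : k < 28160 := hk
    by_cases hh1 : k < 14007
    · skip
      by_cases hh2 : k < 6762
      · skip
        by_cases hh3 : k < 3381
        · skip
          by_cases hh4 : k < 1449
          · skip
            by_cases hh5 : k < 483
            · skip
              exact relsRange_sound mdata basesM 483 0 rel0 k (by omega) (by omega)
            · skip
              by_cases hh6 : k < 966
              · skip
                exact relsRange_sound mdata basesM 483 483 rel1 k (by omega) (by omega)
              · skip
                exact relsRange_sound mdata basesM 483 966 rel2 k (by omega) (by omega)
          · skip
            by_cases hh7 : k < 2415
            · skip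
              by_cases hh8 : k < 1932
              · skip
                exact relsRange_sound mdata basesM 483 1449 rel3 k (by omega) (by omega)
              · skip
                exact relsRange_sound mdata basesM 483 1932 rel4 k (by omega) (by omega)
            · skip
              by_cases hh9 : k < 2898
              · skip
                exact relsRange_sound mdata basesM 483 2415 rel5 k (by omega) (by omega)
              · skip
                exact relsRange_sound mdata basesM 483 2898 rel6 k (by omega) (by omega)
        · skip
          by_cases hh10 : k < 4830
          · skip
            by_cases hh11 : k < 3864
            · skip
              exact relsRange_sound mdata basesM 483 3381 rel7 k (by omega) (by omega)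
            · skip
              by_cases hh12 : k < 4347
              · skip
                exact relsRange_sound mdata basesM 483 3864 rel8 k (by omega) (by omega)
              · skip
                exact relsRange_sound mdata basesM 483 4347 rel9 k (by omega) (by omega)
          · skip
            by_cases hh13 : k < 5796
            · skip
              by_cases hh14 : k < 5313
              · skip
                exact relsRange_sound mdata basesM 483 4830 rel10 k (by omega) (by omega)
              · skip
                exact relsRange_sound mdata basesM 483 5313 rel11 k (by omega) (by omega)
            · skip
              by_cases hh15 : k < 6279
              · skip
                exact relsRange_sound mdata basesM 483 5796 rel12 k (by omega) (by omega)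
              · skip
                exact relsRange_sound mdata basesM 483 6279 rel13 k (by omega) (by omega)
      · skip
        by_cases hh16 : k < 10143
        · skip
          by_cases hh17 : k < 8211
          · skip
            by_cases hh18 : k < 7245
            · skip
              exact relsRange_sound mdata basesM 483 6762 rel14 k (by omega) (by omega)
            · skip
              by_cases hh19 : k < 7728
              · skip
                exact relsRange_sound mdata basesM 483 7245 rel15 k (by omega) (by omega)
              · skip
                exact relsRange_sound mdata basesM 483 7728 rel16 k (by omega) (by omega)
          · skip
            by_cases hh20 : k < 9177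
            · skip
              by_cases hh21 : k < 8694
              · skip
                exact relsRange_sound mdata basesM 483 8211 rel17 k (by omega) (by omega)
              · skip
                exact relsRange_sound mdata basesM 483 8694 rel18 k (by omega) (by omega)
            · skip
              by_cases hh22 : k < 9660
              · skip
                exact relsRange_sound mdata basesM 483 9177 rel19 k (by omega) (by omega)
              · skip
                exact relsRange_sound mdata basesM 483 9660 rel20 k (by omega) (by omega)
        · skip
          by_cases hh23 : k < 12075
          · skip
            by_cases hh24 : k < 11109
            · skip
              by_cases hh25 : k < 10626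
              · skip
                exact relsRange_sound mdata basesM 483 10143 rel21 k (by omega) (by omega)
              · skip
                exact relsRange_sound mdata basesM 483 10626 rel22 k (by omega) (by omega)
            · skip
              by_cases hh26 : k < 11592
              · skip
                exact relsRange_sound mdata basesM 483 11109 rel23 k (by omega) (by omega)
              · skip
                exact relsRange_sound mdata basesM 483 11592 rel24 k (by omega) (by omega)
          · skip
            by_cases hh27 : k < 13041
            · skip
              by_cases hh28 : k < 12558
              · skip
                exact relsRange_sound mdata basesM 483 12075 rel25 k (by omega) (by omega)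
              · skip
                exact relsRange_sound mdata basesM 483 12558 rel26 k (by omega) (by omega)
            · skip
              by_cases hh29 : k < 13524
              · skip
                exact relsRange_sound mdata basesM 483 13041 rel27 k (by omega) (by omega)
              · skip
                exact relsRange_sound mdata basesM 483 13524 rel28 k (by omega) (by omega)
    · skip
      by_cases hh30 : k < 21252
      · skip
        by_cases hh31 : k < 17388
        · skip
          by_cases hh32 : k < 15456
          · skip
            by_cases hh33 : k < 14490
            · skip
              exact relsRange_sound mdata basesM 483 14007 rel29 k (by omega) (by omega)
            · skip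
              by_cases hh34 : k < 14973
              · skip
                exact relsRange_sound mdata basesM 483 14490 rel30 k (by omega) (by omega)
              · skip
                exact relsRange_sound mdata basesM 483 14973 rel31 k (by omega) (by omega)
          · skip
            by_cases hh35 : k < 16422
            · skip
              by_cases hh36 : k < 15939
              · skip
                exact relsRange_sound mdata basesM 483 15456 rel32 k (by omega) (by omega)
              · skip
                exact relsRange_sound mdata basesM 483 15939 rel33 k (by omega) (by omega)
            · skip
              by_cases hh37 : k < 16905
              · skip
                exact relsRange_sound mdata basesM 483 16422 rel34 k (by omega) (by omega)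
              · skip
                exact relsRange_sound mdata basesM 483 16905 rel35 k (by omega) (by omega)
        · skip
          by_cases hh38 : k < 19320
          · skip
            by_cases hh39 : k < 18354
            · skip
              by_cases hh40 : k < 17871
              · skip
                exact relsRange_sound mdata basesM 483 17388 rel36 k (by omega) (by omega)
              · skip
                exact relsRange_sound mdata basesM 483 17871 rel37 k (by omega) (by omega)
            · skip
              by_cases hh41 : k < 18837
              · skip
                exact relsRange_sound mdata basesM 483 18354 rel38 k (by omega) (by omega)
              · skip
                exact relsRange_sound mdata basesM 483 18837 rel39 k (by omega) (by omega)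
          · skip
            by_cases hh42 : k < 20286
            · skip
              by_cases hh43 : k < 19803
              · skip
                exact relsRange_sound mdata basesM 483 19320 rel40 k (by omega) (by omega)
              · skip
                exact relsRange_sound mdata basesM 483 19803 rel41 k (by omega) (by omega)
            · skip
              by_cases hh44 : k < 20769
              · skip
                exact relsRange_sound mdata basesM 483 20286 rel42 k (by omega) (by omega)
              · skip
                exact relsRange_sound mdata basesM 483 20769 rel43 k (by omega) (by omega)
      · skip
        by_cases hh45 : k < 24633
        · skip
          by_cases hh46 : k < 22701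
          · skip
            by_cases hh47 : k < 21735
            · skip
              exact relsRange_sound mdata basesM 483 21252 rel44 k (by omega) (by omega)
            · skip
              by_cases hh48 : k < 22218
              · skip
                exact relsRange_sound mdata basesM 483 21735 rel45 k (by omega) (by omega)
              · skip
                exact relsRange_sound mdata basesM 483 22218 rel46 k (by omega) (by omega)
          · skip
            by_cases hh49 : k < 23667
            · skip
              by_cases hh50 : k < 23184
              · skip
                exact relsRange_sound mdata basesM 483 22701 rel47 k (by omega) (by omega)
              · skip
                exact relsRange_sound mdata basesM 483 23184 rel48 k (by omega) (by omega)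
            · skip
              by_cases hh51 : k < 24150
              · skip
                exact relsRange_sound mdata basesM 483 23667 rel49 k (by omega) (by omega)
              · skip
                exact relsRange_sound mdata basesM 483 24150 rel50 k (by omega) (by omega)
        · skip
          by_cases hh52 : k < 26565
          · skip
            by_cases hh53 : k < 25599
            · skip
              by_cases hh54 : k < 25116
              · skip
                exact relsRange_sound mdata basesM 483 24633 rel51 k (by omega) (by omega)
              · skip
                exact relsRange_sound mdata basesM 483 25116 rel52 k (by omega) (by omega)
            · skip
              by_cases hh55 : k < 26082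
              · skip
                exact relsRange_sound mdata basesM 483 25599 rel53 k (by omega) (by omega)
              · skip
                exact relsRange_sound mdata basesM 483 26082 rel54 k (by omega) (by omega)
          · skip
            by_cases hh56 : k < 27531
            · skip
              by_cases hh57 : k < 27048
              · skip
                exact relsRange_sound mdata basesM 483 26565 rel55 k (by omega) (by omega)
              · skip
                exact relsRange_sound mdata basesM 483 27048 rel56 k (by omega) (by omega)
            · skip
              by_cases hh58 : k < 28014
              · skip
                exact relsRange_sound mdata basesM 483 27531 rel57 k (by omega) (by omega)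
              · skip
                exact relsRange_sound mdata basesM 146 28014 rel58 k (by omega) (by omega)
  · intro s hs
    cases hs
  · intro s hs
    cases hs
  · intro k h1 h2
    have h2' : k < 1 + (28160 - 1) := h2
    by_cases hh1 : k < 26667
    · skip
      exact treeRange_sound mdata 26666 1 tree0 k (by omega) (by omega)
    · skip
      exact treeRange_sound mdata 1493 26667 tree1 k (by omega) (by omega)

theorem z_ok : ZOK mdata z2 rhoW := by
  refine ⟨?_⟩
  intro k hk
  have hk' : k < 28160 := hk
  by_cases hh1 : k < 13670
  · skip
    by_cases hh2 : k < 6835
    · skip
      by_cases hh3 : k < 2734
      · skip
        by_cases hh4 : k < 1367
        · skip
          exact zRange_sound mdata z2 rhoW 1367 0 zc0 k (by omega) (by omega)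
        · skip
          exact zRange_sound mdata z2 rhoW 1367 1367 zc1 k (by omega) (by omega)
      · skip
        by_cases hh5 : k < 4101
        · skip
          exact zRange_sound mdata z2 rhoW 1367 2734 zc2 k (by omega) (by omega)
        · skip
          by_cases hh6 : k < 5468
          · skip
            exact zRange_sound mdata z2 rhoW 1367 4101 zc3 k (by omega) (by omega)
          · skip
            exact zRange_sound mdata z2 rhoW 1367 5468 zc4 k (by omega) (by omega)
    · skip
      by_cases hh7 : k < 9569
      · skip
        by_cases hh8 : k < 8202
        · skip
          exact zRange_sound mdata z2 rhoW 1367 6835 zc5 k (by omega) (by omega)
        · skip
          exact zRange_sound mdata z2 rhoW 1367 8202 zc6 k (by omega) (by omega)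
      · skip
        by_cases hh9 : k < 10936
        · skip
          exact zRange_sound mdata z2 rhoW 1367 9569 zc7 k (by omega) (by omega)
        · skip
          by_cases hh10 : k < 12303
          · skip
            exact zRange_sound mdata z2 rhoW 1367 10936 zc8 k (by omega) (by omega)
          · skip
            exact zRange_sound mdata z2 rhoW 1367 12303 zc9 k (by omega) (by omega)
  · skip
    by_cases hh11 : k < 20505
    · skip
      by_cases hh12 : k < 16404
      · skip
        by_cases hh13 : k < 15037
        · skip
          exact zRange_sound mdata z2 rhoW 1367 13670 zc10 k (by omega) (by omega)
        · skip
          exact zRange_sound mdata z2 rhoW 1367 15037 zc11 k (by omega) (by omega)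
      · skip
        by_cases hh14 : k < 17771
        · skip
          exact zRange_sound mdata z2 rhoW 1367 16404 zc12 k (by omega) (by omega)
        · skip
          by_cases hh15 : k < 19138
          · skip
            exact zRange_sound mdata z2 rhoW 1367 17771 zc13 k (by omega) (by omega)
          · skip
            exact zRange_sound mdata z2 rhoW 1367 19138 zc14 k (by omega) (by omega)
    · skip
      by_cases hh16 : k < 24606
      · skip
        by_cases hh17 : k < 21872
        · skip
          exact zRange_sound mdata z2 rhoW 1367 20505 zc15 k (by omega) (by omega)
        · skip
          by_cases hh18 : k < 23239
          · skip
            exact zRange_sound mdata z2 rhoW 1367 21872 zc16 k (by omega) (by omega)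
          · skip
            exact zRange_sound mdata z2 rhoW 1367 23239 zc17 k (by omega) (by omega)
      · skip
        by_cases hh19 : k < 25973
        · skip
          exact zRange_sound mdata z2 rhoW 1367 24606 zc18 k (by omega) (by omega)
        · skip
          by_cases hh20 : k < 27340
          · skip
            exact zRange_sound mdata z2 rhoW 1367 25973 zc19 k (by omega) (by omega)
          · skip
            exact zRange_sound mdata z2 rhoW 820 27340 zc20 k (by omega) (by omega)

end Cfsg.Agent.Lib.Helper19.Fi22MM2
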