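import Cfsg.Agent.Lib.Helper19.Fi22MM3Model

set_option autoImplicit false
set_option maxRecDepth 100000
set_option linter.unusedVariables false
set_option Elab.async false

namespace Cfsg.Agent.Lib.Helper19.Fi22MM3

open Cfsg.Agent.Helper4.TC Cfsg.Agent.Lib.Helper19.CentModel

theorem rel0 : relsRange mdata basesM 526 0 = true := relsRange_strict mdata basesM 526 0 (by decide +kernel)
theorem rel1 : relsRange mdata basesM 526 526 = true := relsRange_strict mdata basesM 526 526 (by decide +kernel)
theorem rel2 : relsRange mdata basesM 526 1052 = true := relsRange_strict mdata basesM 526 1052 (by decide +kernel)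
theorem rel3 : relsRange mdata basesM 526 1578 = true := relsRange_strict mdata basesM 526 1578 (by decide +kernel)
theorem rel4 : relsRange mdata basesM 526 2104 = true := relsRange_strict mdata basesM 526 2104 (by decide +kernel)
theorem rel5 : relsRange mdata basesM 526 2630 = true := relsRange_strict mdata basesM 526 2630 (by decide +kernel)
theorem rel6 : relsRange mdata basesM 526 3156 = true := relsRange_strict mdata basesM 526 3156 (by decide +kernel)
theorem rel7 : relsRange mdata basesM 526 3682 = true := relsRange_strict mdata basesM 526 3682 (by decide +kernel)

end Cfsg.Agent.Lib.Helper19.Fi22MM3
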