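import Cfsg.Agent.Lib.Helper19.Fi22MM3Model

set_option autoImplicit false
set_option maxRecDepth 100000
set_option linter.unusedVariables false
set_option Elab.async false

namespace Cfsg.Agent.Lib.Helper19.Fi22MM3

open Cfsg.Agent.Helper4.TC Cfsg.Agent.Lib.Helper19.CentModel

theorem rel8 : relsRange mdata basesM 526 4208 = true := relsRange_strict mdata basesM 526 4208 (by decide +kernel)
theorem rel9 : relsRange mdata basesM 526 4734 = true := relsRange_strict mdata basesM 526 4734 (by decide +kernel)
theorem rel10 : relsRange mdata basesM 526 5260 = true := relsRange_strict mdata basesM 526 5260 (by decide +kernel)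
theorem rel11 : relsRange mdata basesM 526 5786 = true := relsRange_strict mdata basesM 526 5786 (by decide +kernel)
theorem rel12 : relsRange mdata basesM 526 6312 = true := relsRange_strict mdata basesM 526 6312 (by decide +kernel)
theorem rel13 : relsRange mdata basesM 526 6838 = true := relsRange_strict mdata basesM 526 6838 (by decide +kernel)
theorem rel14 : relsRange mdata basesM 526 7364 = true := relsRange_strict mdata basesM 526 7364 (by decide +kernel)
theorem rel15 : relsRange mdata basesM 526 7890 = true := relsRange_strict mdata basesM 526 7890 (by decide +kernel)

end Cfsg.Agent.Lib.Helper19.Fi22MM3
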