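import Cfsg.Agent.Lib.Helper19.Fi22MM3Model

set_option autoImplicit false
set_option maxRecDepth 100000
set_option linter.unusedVariables false
set_option Elab.async false

namespace Cfsg.Agent.Lib.Helper19.Fi22MM3

open Cfsg.Agent.Helper4.TC Cfsg.Agent.Lib.Helper19.CentModel

theorem rel80 : relsRange mdata basesM 526 42080 = true := relsRange_strict mdata basesM 526 42080 (by decide +kernel)
theorem rel81 : relsRange mdata basesM 526 42606 = true := relsRange_strict mdata basesM 526 42606 (by decide +kernel)
theorem rel82 : relsRange mdata basesM 526 43132 = true := relsRange_strict mdata basesM 526 43132 (by decide +kernel)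
theorem rel83 : relsRange mdata basesM 526 43658 = true := relsRange_strict mdata basesM 526 43658 (by decide +kernel)
theorem rel84 : relsRange mdata basesM 526 44184 = true := relsRange_strict mdata basesM 526 44184 (by decide +kernel)
theorem rel85 : relsRange mdata basesM 526 44710 = true := relsRange_strict mdata basesM 526 44710 (by decide +kernel)
theorem rel86 : relsRange mdata basesM 526 45236 = true := relsRange_strict mdata basesM 526 45236 (by decide +kernel)
theorem rel87 : relsRange mdata basesM 526 45762 = true := relsRange_strict mdata basesM 526 45762 (by decide +kernel)

end Cfsg.Agent.Lib.Helper19.Fi22MM3
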