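import Cfsg.Agent.Lib.Helper19.Fi22MM3Model

set_option autoImplicit false
set_option maxRecDepth 100000
set_option linter.unusedVariables false
set_option Elab.async false

namespace Cfsg.Agent.Lib.Helper19.Fi22MM3

open Cfsg.Agent.Helper4.TC Cfsg.Agent.Lib.Helper19.CentModel

theorem rel88 : relsRange mdata basesM 526 46288 = true := relsRange_strict mdata basesM 526 46288 (by decide +kernel)
theorem rel89 : relsRange mdata basesM 526 46814 = true := relsRange_strict mdata basesM 526 46814 (by decide +kernel)
theorem rel90 : relsRange mdata basesM 526 47340 = true := relsRange_strict mdata basesM 526 47340 (by decide +kernel)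
theorem rel91 : relsRange mdata basesM 526 47866 = true := relsRange_strict mdata basesM 526 47866 (by decide +kernel)
theorem rel92 : relsRange mdata basesM 526 48392 = true := relsRange_strict mdata basesM 526 48392 (by decide +kernel)
theorem rel93 : relsRange mdata basesM 526 48918 = true := relsRange_strict mdata basesM 526 48918 (by decide +kernel)
theorem rel94 : relsRange mdata basesM 526 49444 = true := relsRange_strict mdata basesM 526 49444 (by decide +kernel)
theorem rel95 : relsRange mdata basesM 526 49970 = true := relsRange_strict mdata basesM 526 49970 (by decide +kernel)

end Cfsg.Agent.Lib.Helper19.Fi22MM3
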