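import Cfsg.Agent.Lib.Helper19.Fi22MM3Model

set_option autoImplicit false
set_option maxRecDepth 100000
set_option linter.unusedVariables false
set_option Elab.async false

namespace Cfsg.Agent.Lib.Helper19.Fi22MM3

open Cfsg.Agent.Helper4.TC Cfsg.Agent.Lib.Helper19.CentModel

theorem rel96 : relsRange mdata basesM 526 50496 = true := relsRange_strict mdata basesM 526 50496 (by decide +kernel)
theorem rel97 : relsRange mdata basesM 526 51022 = true := relsRange_strict mdata basesM 526 51022 (by decide +kernel)
theorem rel98 : relsRange mdata basesM 526 51548 = true := relsRange_strict mdata basesM 526 51548 (by decide +kernel)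
theorem rel99 : relsRange mdata basesM 526 52074 = true := relsRange_strict mdata basesM 526 52074 (by decide +kernel)
theorem rel100 : relsRange mdata basesM 526 52600 = true := relsRange_strict mdata basesM 526 52600 (by decide +kernel)
theorem rel101 : relsRange mdata basesM 526 53126 = true := relsRange_strict mdata basesM 526 53126 (by decide +kernel)
theorem rel102 : relsRange mdata basesM 526 53652 = true := relsRange_strict mdata basesM 526 53652 (by decide +kernel)
theorem rel103 : relsRange mdata basesM 526 54178 = true := relsRange_strict mdata basesM 526 54178 (by decide +kernel)

end Cfsg.Agent.Lib.Helper19.Fi22MM3
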