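import Cfsg.Agent.Lib.Helper19.Fi22MM3Model

set_option autoImplicit false
set_option maxRecDepth 100000
set_option linter.unusedVariables false
set_option Elab.async false

namespace Cfsg.Agent.Lib.Helper19.Fi22MM3

open Cfsg.Agent.Helper4.TC Cfsg.Agent.Lib.Helper19.CentModel

theorem rel104 : relsRange mdata basesM 526 54704 = true := relsRange_strict mdata basesM 526 54704 (by decide +kernel)
theorem rel105 : relsRange mdata basesM 526 55230 = true := relsRange_strict mdata basesM 526 55230 (by decide +kernel)
theorem rel106 : relsRange mdata basesM 526 55756 = true := relsRange_strict mdata basesM 526 55756 (by decide +kernel)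
theorem rel107 : relsRange mdata basesM 526 56282 = true := relsRange_strict mdata basesM 526 56282 (by decide +kernel)
theorem rel108 : relsRange mdata basesM 526 56808 = true := relsRange_strict mdata basesM 526 56808 (by decide +kernel)
theorem rel109 : relsRange mdata basesM 526 57334 = true := relsRange_strict mdata basesM 526 57334 (by decide +kernel)
theorem rel110 : relsRange mdata basesM 526 57860 = true := relsRange_strict mdata basesM 526 57860 (by decide +kernel)
theorem rel111 : relsRange mdata basesM 526 58386 = true := relsRange_strict mdata basesM 526 58386 (by decide +kernel)

end Cfsg.Agent.Lib.Helper19.Fi22MM3
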