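import Cfsg.Agent.Lib.Helper19.Fi22MM3Model

set_option autoImplicit false
set_option maxRecDepth 100000
set_option linter.unusedVariables false
set_option Elab.async false

namespace Cfsg.Agent.Lib.Helper19.Fi22MM3

open Cfsg.Agent.Helper4.TC Cfsg.Agent.Lib.Helper19.CentModel

theorem rel112 : relsRange mdata basesM 526 58912 = true := relsRange_strict mdata basesM 526 58912 (by decide +kernel)
theorem rel113 : relsRange mdata basesM 526 59438 = true := relsRange_strict mdata basesM 526 59438 (by decide +kernel)
theorem rel114 : relsRange mdata basesM 526 59964 = true := relsRange_strict mdata basesM 526 59964 (by decide +kernel)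
theorem rel115 : relsRange mdata basesM 526 60490 = true := relsRange_strict mdata basesM 526 60490 (by decide +kernel)
theorem rel116 : relsRange mdata basesM 526 61016 = true := relsRange_strict mdata basesM 526 61016 (by decide +kernel)
theorem rel117 : relsRange mdata basesM 526 61542 = true := relsRange_strict mdata basesM 526 61542 (by decide +kernel)
theorem rel118 : relsRange mdata basesM 526 62068 = true := relsRange_strict mdata basesM 526 62068 (by decide +kernel)
theorem rel119 : relsRange mdata basesM 526 62594 = true := relsRange_strict mdata basesM 526 62594 (by decide +kernel)

end Cfsg.Agent.Lib.Helper19.Fi22MM3
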