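import Cfsg.Agent.Lib.Helper19.Fi22MM3Model

set_option autoImplicit false
set_option maxRecDepth 100000
set_option linter.unusedVariables false
set_option Elab.async false

namespace Cfsg.Agent.Lib.Helper19.Fi22MM3

open Cfsg.Agent.Helper4.TC Cfsg.Agent.Lib.Helper19.CentModel

theorem rel120 : relsRange mdata basesM 526 63120 = true := relsRange_strict mdata basesM 526 63120 (by decide +kernel)
theorem rel121 : relsRange mdata basesM 526 63646 = true := relsRange_strict mdata basesM 526 63646 (by decide +kernel)
theorem rel122 : relsRange mdata basesM 526 64172 = true := relsRange_strict mdata basesM 526 64172 (by decide +kernel)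
theorem rel123 : relsRange mdata basesM 526 64698 = true := relsRange_strict mdata basesM 526 64698 (by decide +kernel)
theorem rel124 : relsRange mdata basesM 526 65224 = true := relsRange_strict mdata basesM 526 65224 (by decide +kernel)
theorem rel125 : relsRange mdata basesM 526 65750 = true := relsRange_strict mdata basesM 526 65750 (by decide +kernel)
theorem rel126 : relsRange mdata basesM 526 66276 = true := relsRange_strict mdata basesM 526 66276 (by decide +kernel)
theorem rel127 : relsRange mdata basesM 526 66802 = true := relsRange_strict mdata basesM 526 66802 (by decide +kernel)

end Cfsg.Agent.Lib.Helper19.Fi22MM3
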