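import Cfsg.Agent.Lib.Helper19.Fi22MM3Model

set_option autoImplicit false
set_option maxRecDepth 100000
set_option linter.unusedVariables false
set_option Elab.async false

namespace Cfsg.Agent.Lib.Helper19.Fi22MM3

open Cfsg.Agent.Helper4.TC Cfsg.Agent.Lib.Helper19.CentModel

theorem rel128 : relsRange mdata basesM 526 67328 = true := relsRange_strict mdata basesM 526 67328 (by decide +kernel)
theorem rel129 : relsRange mdata basesM 526 67854 = true := relsRange_strict mdata basesM 526 67854 (by decide +kernel)
theorem rel130 : relsRange mdata basesM 526 68380 = true := relsRange_strict mdata basesM 526 68380 (by decide +kernel)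
theorem rel131 : relsRange mdata basesM 526 68906 = true := relsRange_strict mdata basesM 526 68906 (by decide +kernel)
theorem rel132 : relsRange mdata basesM 526 69432 = true := relsRange_strict mdata basesM 526 69432 (by decide +kernel)
theorem rel133 : relsRange mdata basesM 526 69958 = true := relsRange_strict mdata basesM 526 69958 (by decide +kernel)
theorem rel134 : relsRange mdata basesM 526 70484 = true := relsRange_strict mdata basesM 526 70484 (by decide +kernel)
theorem rel135 : relsRange mdata basesM 526 71010 = true := relsRange_strict mdata basesM 526 71010 (by decide +kernel)

end Cfsg.Agent.Lib.Helper19.Fi22MM3
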