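import Cfsg.Agent.Lib.Helper19.Fi22MM3Model

set_option autoImplicit false
set_option maxRecDepth 100000
set_option linter.unusedVariables false
set_option Elab.async false

namespace Cfsg.Agent.Lib.Helper19.Fi22MM3

open Cfsg.Agent.Helper4.TC Cfsg.Agent.Lib.Helper19.CentModel

theorem rel136 : relsRange mdata basesM 526 71536 = true := relsRange_strict mdata basesM 526 71536 (by decide +kernel)
theorem rel137 : relsRange mdata basesM 526 72062 = true := relsRange_strict mdata basesM 526 72062 (by decide +kernel)
theorem rel138 : relsRange mdata basesM 526 72588 = true := relsRange_strict mdata basesM 526 72588 (by decide +kernel)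
theorem rel139 : relsRange mdata basesM 526 73114 = true := relsRange_strict mdata basesM 526 73114 (by decide +kernel)
theorem rel140 : relsRange mdata basesM 526 73640 = true := relsRange_strict mdata basesM 526 73640 (by decide +kernel)
theorem rel141 : relsRange mdata basesM 526 74166 = true := relsRange_strict mdata basesM 526 74166 (by decide +kernel)
theorem rel142 : relsRange mdata basesM 526 74692 = true := relsRange_strict mdata basesM 526 74692 (by decide +kernel)
theorem rel143 : relsRange mdata basesM 526 75218 = true := relsRange_strict mdata basesM 526 75218 (by decide +kernel)

end Cfsg.Agent.Lib.Helper19.Fi22MM3
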