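import Cfsg.Agent.Lib.Helper19.Fi22MM3Model

set_option autoImplicit false
set_option maxRecDepth 100000
set_option linter.unusedVariables false
set_option Elab.async false

namespace Cfsg.Agent.Lib.Helper19.Fi22MM3

open Cfsg.Agent.Helper4.TC Cfsg.Agent.Lib.Helper19.CentModel

theorem rel144 : relsRange mdata basesM 526 75744 = true := relsRange_strict mdata basesM 526 75744 (by decide +kernel)
theorem rel145 : relsRange mdata basesM 526 76270 = true := relsRange_strict mdata basesM 526 76270 (by decide +kernel)
theorem rel146 : relsRange mdata basesM 526 76796 = true := relsRange_strict mdata basesM 526 76796 (by decide +kernel)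
theorem rel147 : relsRange mdata basesM 526 77322 = true := relsRange_strict mdata basesM 526 77322 (by decide +kernel)
theorem rel148 : relsRange mdata basesM 526 77848 = true := relsRange_strict mdata basesM 526 77848 (by decide +kernel)
theorem rel149 : relsRange mdata basesM 526 78374 = true := relsRange_strict mdata basesM 526 78374 (by decide +kernel)
theorem rel150 : relsRange mdata basesM 526 78900 = true := relsRange_strict mdata basesM 526 78900 (by decide +kernel)
theorem rel151 : relsRange mdata basesM 526 79426 = true := relsRange_strict mdata basesM 526 79426 (by decide +kernel)

end Cfsg.Agent.Lib.Helper19.Fi22MM3
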