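import Cfsg.Agent.Lib.Helper19.Fi22MM3Model

set_option autoImplicit false
set_option maxRecDepth 100000
set_option linter.unusedVariables false
set_option Elab.async false

namespace Cfsg.Agent.Lib.Helper19.Fi22MM3

open Cfsg.Agent.Helper4.TC Cfsg.Agent.Lib.Helper19.CentModel

theorem rel152 : relsRange mdata basesM 526 79952 = true := relsRange_strict mdata basesM 526 79952 (by decide +kernel)
theorem rel153 : relsRange mdata basesM 526 80478 = true := relsRange_strict mdata basesM 526 80478 (by decide +kernel)
theorem rel154 : relsRange mdata basesM 526 81004 = true := relsRange_strict mdata basesM 526 81004 (by decide +kernel)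
theorem rel155 : relsRange mdata basesM 526 81530 = true := relsRange_strict mdata basesM 526 81530 (by decide +kernel)
theorem rel156 : relsRange mdata basesM 526 82056 = true := relsRange_strict mdata basesM 526 82056 (by decide +kernel)
theorem rel157 : relsRange mdata basesM 526 82582 = true := relsRange_strict mdata basesM 526 82582 (by decide +kernel)
theorem rel158 : relsRange mdata basesM 526 83108 = true := relsRange_strict mdata basesM 526 83108 (by decide +kernel)
theorem rel159 : relsRange mdata basesM 526 83634 = true := relsRange_strict mdata basesM 526 83634 (by decide +kernel)

end Cfsg.Agent.Lib.Helper19.Fi22MM3
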