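import Cfsg.Agent.Lib.Helper19.Fi22MM3Model

set_option autoImplicit false
set_option maxRecDepth 100000
set_option linter.unusedVariables false
set_option Elab.async false

namespace Cfsg.Agent.Lib.Helper19.Fi22MM3

open Cfsg.Agent.Helper4.TC Cfsg.Agent.Lib.Helper19.CentModel

theorem rel16 : relsRange mdata basesM 526 8416 = true := relsRange_strict mdata basesM 526 8416 (by decide +kernel)
theorem rel17 : relsRange mdata basesM 526 8942 = true := relsRange_strict mdata basesM 526 8942 (by decide +kernel)
theorem rel18 : relsRange mdata basesM 526 9468 = true := relsRange_strict mdata basesM 526 9468 (by decide +kernel)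
theorem rel19 : relsRange mdata basesM 526 9994 = true := relsRange_strict mdata basesM 526 9994 (by decide +kernel)
theorem rel20 : relsRange mdata basesM 526 10520 = true := relsRange_strict mdata basesM 526 10520 (by decide +kernel)
theorem rel21 : relsRange mdata basesM 526 11046 = true := relsRange_strict mdata basesM 526 11046 (by decide +kernel)
theorem rel22 : relsRange mdata basesM 526 11572 = true := relsRange_strict mdata basesM 526 11572 (by decide +kernel)
theorem rel23 : relsRange mdata basesM 526 12098 = true := relsRange_strict mdata basesM 526 12098 (by decide +kernel)

end Cfsg.Agent.Lib.Helper19.Fi22MM3
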