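import Cfsg.Agent.Lib.Helper19.Fi22MM3Model

set_option autoImplicit false
set_option maxRecDepth 100000
set_option linter.unusedVariables false
set_option Elab.async false

namespace Cfsg.Agent.Lib.Helper19.Fi22MM3

open Cfsg.Agent.Helper4.TC Cfsg.Agent.Lib.Helper19.CentModel

theorem rel160 : relsRange mdata basesM 526 84160 = true := relsRange_strict mdata basesM 526 84160 (by decide +kernel)
theorem rel161 : relsRange mdata basesM 526 84686 = true := relsRange_strict mdata basesM 526 84686 (by decide +kernel)
theorem rel162 : relsRange mdata basesM 526 85212 = true := relsRange_strict mdata basesM 526 85212 (by decide +kernel)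
theorem rel163 : relsRange mdata basesM 526 85738 = true := relsRange_strict mdata basesM 526 85738 (by decide +kernel)
theorem rel164 : relsRange mdata basesM 526 86264 = true := relsRange_strict mdata basesM 526 86264 (by decide +kernel)
theorem rel165 : relsRange mdata basesM 526 86790 = true := relsRange_strict mdata basesM 526 86790 (by decide +kernel)
theorem rel166 : relsRange mdata basesM 526 87316 = true := relsRange_strict mdata basesM 526 87316 (by decide +kernel)
theorem rel167 : relsRange mdata basesM 526 87842 = true := relsRange_strict mdata basesM 526 87842 (by decide +kernel)

end Cfsg.Agent.Lib.Helper19.Fi22MM3
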