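import Cfsg.Agent.Lib.Helper19.Fi22MM3Model

set_option autoImplicit false
set_option maxRecDepth 100000
set_option linter.unusedVariables false
set_option Elab.async false

namespace Cfsg.Agent.Lib.Helper19.Fi22MM3

open Cfsg.Agent.Helper4.TC Cfsg.Agent.Lib.Helper19.CentModel

theorem rel168 : relsRange mdata basesM 526 88368 = true := relsRange_strict mdata basesM 526 88368 (by decide +kernel)
theorem rel169 : relsRange mdata basesM 526 88894 = true := relsRange_strict mdata basesM 526 88894 (by decide +kernel)
theorem rel170 : relsRange mdata basesM 526 89420 = true := relsRange_strict mdata basesM 526 89420 (by decide +kernel)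
theorem rel171 : relsRange mdata basesM 526 89946 = true := relsRange_strict mdata basesM 526 89946 (by decide +kernel)
theorem rel172 : relsRange mdata basesM 526 90472 = true := relsRange_strict mdata basesM 526 90472 (by decide +kernel)
theorem rel173 : relsRange mdata basesM 526 90998 = true := relsRange_strict mdata basesM 526 90998 (by decide +kernel)
theorem rel174 : relsRange mdata basesM 526 91524 = true := relsRange_strict mdata basesM 526 91524 (by decide +kernel)
theorem rel175 : relsRange mdata basesM 526 92050 = true := relsRange_strict mdata basesM 526 92050 (by decide +kernel)

end Cfsg.Agent.Lib.Helper19.Fi22MM3
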