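import Cfsg.Agent.Lib.Helper19.Fi22MM3Model

set_option autoImplicit false
set_option maxRecDepth 100000
set_option linter.unusedVariables false
set_option Elab.async false

namespace Cfsg.Agent.Lib.Helper19.Fi22MM3

open Cfsg.Agent.Helper4.TC Cfsg.Agent.Lib.Helper19.CentModel

theorem rel176 : relsRange mdata basesM 526 92576 = true := relsRange_strict mdata basesM 526 92576 (by decide +kernel)
theorem rel177 : relsRange mdata basesM 526 93102 = true := relsRange_strict mdata basesM 526 93102 (by decide +kernel)
theorem rel178 : relsRange mdata basesM 526 93628 = true := relsRange_strict mdata basesM 526 93628 (by decide +kernel)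
theorem rel179 : relsRange mdata basesM 526 94154 = true := relsRange_strict mdata basesM 526 94154 (by decide +kernel)
theorem rel180 : relsRange mdata basesM 526 94680 = true := relsRange_strict mdata basesM 526 94680 (by decide +kernel)
theorem rel181 : relsRange mdata basesM 526 95206 = true := relsRange_strict mdata basesM 526 95206 (by decide +kernel)
theorem rel182 : relsRange mdata basesM 526 95732 = true := relsRange_strict mdata basesM 526 95732 (by decide +kernel)
theorem rel183 : relsRange mdata basesM 526 96258 = true := relsRange_strict mdata basesM 526 96258 (by decide +kernel)

end Cfsg.Agent.Lib.Helper19.Fi22MM3
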