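import Cfsg.Agent.Lib.Helper19.Fi22MM3Model

set_option autoImplicit false
set_option maxRecDepth 100000
set_option linter.unusedVariables false
set_option Elab.async false

namespace Cfsg.Agent.Lib.Helper19.Fi22MM3

open Cfsg.Agent.Helper4.TC Cfsg.Agent.Lib.Helper19.CentModel

theorem rel184 : relsRange mdata basesM 526 96784 = true := relsRange_strict mdata basesM 526 96784 (by decide +kernel)
theorem rel185 : relsRange mdata basesM 526 97310 = true := relsRange_strict mdata basesM 526 97310 (by decide +kernel)
theorem rel186 : relsRange mdata basesM 526 97836 = true := relsRange_strict mdata basesM 526 97836 (by decide +kernel)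
theorem rel187 : relsRange mdata basesM 526 98362 = true := relsRange_strict mdata basesM 526 98362 (by decide +kernel)
theorem rel188 : relsRange mdata basesM 526 98888 = true := relsRange_strict mdata basesM 526 98888 (by decide +kernel)
theorem rel189 : relsRange mdata basesM 526 99414 = true := relsRange_strict mdata basesM 526 99414 (by decide +kernel)
theorem rel190 : relsRange mdata basesM 526 99940 = true := relsRange_strict mdata basesM 526 99940 (by decide +kernel)
theorem rel191 : relsRange mdata basesM 526 100466 = true := relsRange_strict mdata basesM 526 100466 (by decide +kernel)

end Cfsg.Agent.Lib.Helper19.Fi22MM3
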