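import Cfsg.Agent.Lib.Helper19.Fi22MM3Model

set_option autoImplicit false
set_option maxRecDepth 100000
set_option linter.unusedVariables false
set_option Elab.async false

namespace Cfsg.Agent.Lib.Helper19.Fi22MM3

open Cfsg.Agent.Helper4.TC Cfsg.Agent.Lib.Helper19.CentModel

theorem rel192 : relsRange mdata basesM 526 100992 = true := relsRange_strict mdata basesM 526 100992 (by decide +kernel)
theorem rel193 : relsRange mdata basesM 526 101518 = true := relsRange_strict mdata basesM 526 101518 (by decide +kernel)
theorem rel194 : relsRange mdata basesM 526 102044 = true := relsRange_strict mdata basesM 526 102044 (by decide +kernel)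
theorem rel195 : relsRange mdata basesM 526 102570 = true := relsRange_strict mdata basesM 526 102570 (by decide +kernel)
theorem rel196 : relsRange mdata basesM 526 103096 = true := relsRange_strict mdata basesM 526 103096 (by decide +kernel)
theorem rel197 : relsRange mdata basesM 526 103622 = true := relsRange_strict mdata basesM 526 103622 (by decide +kernel)
theorem rel198 : relsRange mdata basesM 526 104148 = true := relsRange_strict mdata basesM 526 104148 (by decide +kernel)
theorem rel199 : relsRange mdata basesM 526 104674 = true := relsRange_strict mdata basesM 526 104674 (by decide +kernel)

end Cfsg.Agent.Lib.Helper19.Fi22MM3
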