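import Cfsg.Agent.Lib.Helper19.Fi22MM3Model

set_option autoImplicit false
set_option maxRecDepth 100000
set_option linter.unusedVariables false
set_option Elab.async false

namespace Cfsg.Agent.Lib.Helper19.Fi22MM3

open Cfsg.Agent.Helper4.TC Cfsg.Agent.Lib.Helper19.CentModel

theorem rel200 : relsRange mdata basesM 526 105200 = true := relsRange_strict mdata basesM 526 105200 (by decide +kernel)
theorem rel201 : relsRange mdata basesM 526 105726 = true := relsRange_strict mdata basesM 526 105726 (by decide +kernel)
theorem rel202 : relsRange mdata basesM 526 106252 = true := relsRange_strict mdata basesM 526 106252 (by decide +kernel)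
theorem rel203 : relsRange mdata basesM 526 106778 = true := relsRange_strict mdata basesM 526 106778 (by decide +kernel)
theorem rel204 : relsRange mdata basesM 526 107304 = true := relsRange_strict mdata basesM 526 107304 (by decide +kernel)
theorem rel205 : relsRange mdata basesM 526 107830 = true := relsRange_strict mdata basesM 526 107830 (by decide +kernel)
theorem rel206 : relsRange mdata basesM 526 108356 = true := relsRange_strict mdata basesM 526 108356 (by decide +kernel)
theorem rel207 : relsRange mdata basesM 526 108882 = true := relsRange_strict mdata basesM 526 108882 (by decide +kernel)

end Cfsg.Agent.Lib.Helper19.Fi22MM3
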