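import Cfsg.Agent.Lib.Helper19.Fi22MM3Model

set_option autoImplicit false
set_option maxRecDepth 100000
set_option linter.unusedVariables false
set_option Elab.async false

namespace Cfsg.Agent.Lib.Helper19.Fi22MM3

open Cfsg.Agent.Helper4.TC Cfsg.Agent.Lib.Helper19.CentModel

theorem rel208 : relsRange mdata basesM 526 109408 = true := relsRange_strict mdata basesM 526 109408 (by decide +kernel)
theorem rel209 : relsRange mdata basesM 526 109934 = true := relsRange_strict mdata basesM 526 109934 (by decide +kernel)
theorem rel210 : relsRange mdata basesM 526 110460 = true := relsRange_strict mdata basesM 526 110460 (by decide +kernel)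
theorem rel211 : relsRange mdata basesM 526 110986 = true := relsRange_strict mdata basesM 526 110986 (by decide +kernel)
theorem rel212 : relsRange mdata basesM 526 111512 = true := relsRange_strict mdata basesM 526 111512 (by decide +kernel)
theorem rel213 : relsRange mdata basesM 526 112038 = true := relsRange_strict mdata basesM 526 112038 (by decide +kernel)
theorem rel214 : relsRange mdata basesM 526 112564 = true := relsRange_strict mdata basesM 526 112564 (by decide +kernel)
theorem rel215 : relsRange mdata basesM 526 113090 = true := relsRange_strict mdata basesM 526 113090 (by decide +kernel)

end Cfsg.Agent.Lib.Helper19.Fi22MM3
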