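import Cfsg.Agent.Lib.Helper19.Fi22MM3Model

set_option autoImplicit false
set_option maxRecDepth 100000
set_option linter.unusedVariables false
set_option Elab.async false

namespace Cfsg.Agent.Lib.Helper19.Fi22MM3

open Cfsg.Agent.Helper4.TC Cfsg.Agent.Lib.Helper19.CentModel

theorem rel216 : relsRange mdata basesM 526 113616 = true := relsRange_strict mdata basesM 526 113616 (by decide +kernel)
theorem rel217 : relsRange mdata basesM 526 114142 = true := relsRange_strict mdata basesM 526 114142 (by decide +kernel)
theorem rel218 : relsRange mdata basesM 526 114668 = true := relsRange_strict mdata basesM 526 114668 (by decide +kernel)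
theorem rel219 : relsRange mdata basesM 526 115194 = true := relsRange_strict mdata basesM 526 115194 (by decide +kernel)
theorem rel220 : relsRange mdata basesM 526 115720 = true := relsRange_strict mdata basesM 526 115720 (by decide +kernel)
theorem rel221 : relsRange mdata basesM 526 116246 = true := relsRange_strict mdata basesM 526 116246 (by decide +kernel)
theorem rel222 : relsRange mdata basesM 526 116772 = true := relsRange_strict mdata basesM 526 116772 (by decide +kernel)
theorem rel223 : relsRange mdata basesM 526 117298 = true := relsRange_strict mdata basesM 526 117298 (by decide +kernel)

end Cfsg.Agent.Lib.Helper19.Fi22MM3
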