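import Cfsg.Agent.Lib.Helper19.Fi22MM3Model

set_option autoImplicit false
set_option maxRecDepth 100000
set_option linter.unusedVariables false
set_option Elab.async false

namespace Cfsg.Agent.Lib.Helper19.Fi22MM3

open Cfsg.Agent.Helper4.TC Cfsg.Agent.Lib.Helper19.CentModel

theorem rel224 : relsRange mdata basesM 526 117824 = true := relsRange_strict mdata basesM 526 117824 (by decide +kernel)
theorem rel225 : relsRange mdata basesM 526 118350 = true := relsRange_strict mdata basesM 526 118350 (by decide +kernel)
theorem rel226 : relsRange mdata basesM 526 118876 = true := relsRange_strict mdata basesM 526 118876 (by decide +kernel)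
theorem rel227 : relsRange mdata basesM 526 119402 = true := relsRange_strict mdata basesM 526 119402 (by decide +kernel)
theorem rel228 : relsRange mdata basesM 526 119928 = true := relsRange_strict mdata basesM 526 119928 (by decide +kernel)
theorem rel229 : relsRange mdata basesM 526 120454 = true := relsRange_strict mdata basesM 526 120454 (by decide +kernel)
theorem rel230 : relsRange mdata basesM 526 120980 = true := relsRange_strict mdata basesM 526 120980 (by decide +kernel)
theorem rel231 : relsRange mdata basesM 526 121506 = true := relsRange_strict mdata basesM 526 121506 (by decide +kernel)

end Cfsg.Agent.Lib.Helper19.Fi22MM3
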