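import Cfsg.Agent.Lib.Helper19.Fi22MM3Model

set_option autoImplicit false
set_option maxRecDepth 100000
set_option linter.unusedVariables false
set_option Elab.async false

namespace Cfsg.Agent.Lib.Helper19.Fi22MM3

open Cfsg.Agent.Helper4.TC Cfsg.Agent.Lib.Helper19.CentModel

theorem rel232 : relsRange mdata basesM 526 122032 = true := relsRange_strict mdata basesM 526 122032 (by decide +kernel)
theorem rel233 : relsRange mdata basesM 526 122558 = true := relsRange_strict mdata basesM 526 122558 (by decide +kernel)
theorem rel234 : relsRange mdata basesM 526 123084 = true := relsRange_strict mdata basesM 526 123084 (by decide +kernel)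
theorem rel235 : relsRange mdata basesM 526 123610 = true := relsRange_strict mdata basesM 526 123610 (by decide +kernel)
theorem rel236 : relsRange mdata basesM 526 124136 = true := relsRange_strict mdata basesM 526 124136 (by decide +kernel)
theorem rel237 : relsRange mdata basesM 526 124662 = true := relsRange_strict mdata basesM 526 124662 (by decide +kernel)
theorem rel238 : relsRange mdata basesM 526 125188 = true := relsRange_strict mdata basesM 526 125188 (by decide +kernel)
theorem rel239 : relsRange mdata basesM 526 125714 = true := relsRange_strict mdata basesM 526 125714 (by decide +kernel)

end Cfsg.Agent.Lib.Helper19.Fi22MM3
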