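import Cfsg.Agent.Lib.Helper19.Fi22MM3Model

set_option autoImplicit false
set_option maxRecDepth 100000
set_option linter.unusedVariables false
set_option Elab.async false

namespace Cfsg.Agent.Lib.Helper19.Fi22MM3

open Cfsg.Agent.Helper4.TC Cfsg.Agent.Lib.Helper19.CentModel

theorem rel24 : relsRange mdata basesM 526 12624 = true := relsRange_strict mdata basesM 526 12624 (by decide +kernel)
theorem rel25 : relsRange mdata basesM 526 13150 = true := relsRange_strict mdata basesM 526 13150 (by decide +kernel)
theorem rel26 : relsRange mdata basesM 526 13676 = true := relsRange_strict mdata basesM 526 13676 (by decide +kernel)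
theorem rel27 : relsRange mdata basesM 526 14202 = true := relsRange_strict mdata basesM 526 14202 (by decide +kernel)
theorem rel28 : relsRange mdata basesM 526 14728 = true := relsRange_strict mdata basesM 526 14728 (by decide +kernel)
theorem rel29 : relsRange mdata basesM 526 15254 = true := relsRange_strict mdata basesM 526 15254 (by decide +kernel)
theorem rel30 : relsRange mdata basesM 526 15780 = true := relsRange_strict mdata basesM 526 15780 (by decide +kernel)
theorem rel31 : relsRange mdata basesM 526 16306 = true := relsRange_strict mdata basesM 526 16306 (by decide +kernel)

end Cfsg.Agent.Lib.Helper19.Fi22MM3
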