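import Cfsg.Agent.Lib.Helper19.Fi22MM3Model

set_option autoImplicit false
set_option maxRecDepth 100000
set_option linter.unusedVariables false
set_option Elab.async false

namespace Cfsg.Agent.Lib.Helper19.Fi22MM3

open Cfsg.Agent.Helper4.TC Cfsg.Agent.Lib.Helper19.CentModel

theorem rel240 : relsRange mdata basesM 526 126240 = true := relsRange_strict mdata basesM 526 126240 (by decide +kernel)
theorem rel241 : relsRange mdata basesM 526 126766 = true := relsRange_strict mdata basesM 526 126766 (by decide +kernel)
theorem rel242 : relsRange mdata basesM 526 127292 = true := relsRange_strict mdata basesM 526 127292 (by decide +kernel)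
theorem rel243 : relsRange mdata basesM 526 127818 = true := relsRange_strict mdata basesM 526 127818 (by decide +kernel)
theorem rel244 : relsRange mdata basesM 526 128344 = true := relsRange_strict mdata basesM 526 128344 (by decide +kernel)
theorem rel245 : relsRange mdata basesM 526 128870 = true := relsRange_strict mdata basesM 526 128870 (by decide +kernel)
theorem rel246 : relsRange mdata basesM 526 129396 = true := relsRange_strict mdata basesM 526 129396 (by decide +kernel)
theorem rel247 : relsRange mdata basesM 526 129922 = true := relsRange_strict mdata basesM 526 129922 (by decide +kernel)

end Cfsg.Agent.Lib.Helper19.Fi22MM3
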