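import Cfsg.Agent.Lib.Helper19.Fi22MM3Model

set_option autoImplicit false
set_option maxRecDepth 100000
set_option linter.unusedVariables false
set_option Elab.async false

namespace Cfsg.Agent.Lib.Helper19.Fi22MM3

open Cfsg.Agent.Helper4.TC Cfsg.Agent.Lib.Helper19.CentModel

theorem rel248 : relsRange mdata basesM 526 130448 = true := relsRange_strict mdata basesM 526 130448 (by decide +kernel)
theorem rel249 : relsRange mdata basesM 526 130974 = true := relsRange_strict mdata basesM 526 130974 (by decide +kernel)
theorem rel250 : relsRange mdata basesM 526 131500 = true := relsRange_strict mdata basesM 526 131500 (by decide +kernel)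
theorem rel251 : relsRange mdata basesM 526 132026 = true := relsRange_strict mdata basesM 526 132026 (by decide +kernel)
theorem rel252 : relsRange mdata basesM 526 132552 = true := relsRange_strict mdata basesM 526 132552 (by decide +kernel)
theorem rel253 : relsRange mdata basesM 526 133078 = true := relsRange_strict mdata basesM 526 133078 (by decide +kernel)
theorem rel254 : relsRange mdata basesM 526 133604 = true := relsRange_strict mdata basesM 526 133604 (by decide +kernel)
theorem rel255 : relsRange mdata basesM 526 134130 = true := relsRange_strict mdata basesM 526 134130 (by decide +kernel)

end Cfsg.Agent.Lib.Helper19.Fi22MM3
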