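import Cfsg.Agent.Lib.Helper19.Fi22MM3Model

set_option autoImplicit false
set_option maxRecDepth 100000
set_option linter.unusedVariables false
set_option Elab.async false

namespace Cfsg.Agent.Lib.Helper19.Fi22MM3

open Cfsg.Agent.Helper4.TC Cfsg.Agent.Lib.Helper19.CentModel

theorem rel256 : relsRange mdata basesM 526 134656 = true := relsRange_strict mdata basesM 526 134656 (by decide +kernel)
theorem rel257 : relsRange mdata basesM 526 135182 = true := relsRange_strict mdata basesM 526 135182 (by decide +kernel)
theorem rel258 : relsRange mdata basesM 526 135708 = true := relsRange_strict mdata basesM 526 135708 (by decide +kernel)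
theorem rel259 : relsRange mdata basesM 526 136234 = true := relsRange_strict mdata basesM 526 136234 (by decide +kernel)
theorem rel260 : relsRange mdata basesM 526 136760 = true := relsRange_strict mdata basesM 526 136760 (by decide +kernel)
theorem rel261 : relsRange mdata basesM 526 137286 = true := relsRange_strict mdata basesM 526 137286 (by decide +kernel)
theorem rel262 : relsRange mdata basesM 526 137812 = true := relsRange_strict mdata basesM 526 137812 (by decide +kernel)
theorem rel263 : relsRange mdata basesM 526 138338 = true := relsRange_strict mdata basesM 526 138338 (by decide +kernel)

end Cfsg.Agent.Lib.Helper19.Fi22MM3
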