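import Cfsg.Agent.Lib.Helper19.Fi22MM3Model

set_option autoImplicit false
set_option maxRecDepth 100000
set_option linter.unusedVariables false
set_option Elab.async false

namespace Cfsg.Agent.Lib.Helper19.Fi22MM3

open Cfsg.Agent.Helper4.TC Cfsg.Agent.Lib.Helper19.CentModel

theorem rel264 : relsRange mdata basesM 526 138864 = true := relsRange_strict mdata basesM 526 138864 (by decide +kernel)
theorem rel265 : relsRange mdata basesM 526 139390 = true := relsRange_strict mdata basesM 526 139390 (by decide +kernel)
theorem rel266 : relsRange mdata basesM 526 139916 = true := relsRange_strict mdata basesM 526 139916 (by decide +kernel)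
theorem rel267 : relsRange mdata basesM 526 140442 = true := relsRange_strict mdata basesM 526 140442 (by decide +kernel)
theorem rel268 : relsRange mdata basesM 526 140968 = true := relsRange_strict mdata basesM 526 140968 (by decide +kernel)
theorem rel269 : relsRange mdata basesM 526 141494 = true := relsRange_strict mdata basesM 526 141494 (by decide +kernel)
theorem rel270 : relsRange mdata basesM 526 142020 = true := relsRange_strict mdata basesM 526 142020 (by decide +kernel)
theorem rel271 : relsRange mdata basesM 526 142546 = true := relsRange_strict mdata basesM 526 142546 (by decide +kernel)

end Cfsg.Agent.Lib.Helper19.Fi22MM3
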