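import Cfsg.Agent.Lib.Helper19.Fi22MM3Model

set_option autoImplicit false
set_option maxRecDepth 100000
set_option linter.unusedVariables false
set_option Elab.async false

namespace Cfsg.Agent.Lib.Helper19.Fi22MM3

open Cfsg.Agent.Helper4.TC Cfsg.Agent.Lib.Helper19.CentModel

theorem rel272 : relsRange mdata basesM 526 143072 = true := relsRange_strict mdata basesM 526 143072 (by decide +kernel)
theorem rel273 : relsRange mdata basesM 526 143598 = true := relsRange_strict mdata basesM 526 143598 (by decide +kernel)
theorem rel274 : relsRange mdata basesM 526 144124 = true := relsRange_strict mdata basesM 526 144124 (by decide +kernel)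
theorem rel275 : relsRange mdata basesM 526 144650 = true := relsRange_strict mdata basesM 526 144650 (by decide +kernel)
theorem rel276 : relsRange mdata basesM 526 145176 = true := relsRange_strict mdata basesM 526 145176 (by decide +kernel)
theorem rel277 : relsRange mdata basesM 526 145702 = true := relsRange_strict mdata basesM 526 145702 (by decide +kernel)
theorem rel278 : relsRange mdata basesM 526 146228 = true := relsRange_strict mdata basesM 526 146228 (by decide +kernel)
theorem rel279 : relsRange mdata basesM 526 146754 = true := relsRange_strict mdata basesM 526 146754 (by decide +kernel)

end Cfsg.Agent.Lib.Helper19.Fi22MM3
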