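import Cfsg.Agent.Lib.Helper19.Fi22MM3Model

set_option autoImplicit false
set_option maxRecDepth 100000
set_option linter.unusedVariables false
set_option Elab.async false

namespace Cfsg.Agent.Lib.Helper19.Fi22MM3

open Cfsg.Agent.Helper4.TC Cfsg.Agent.Lib.Helper19.CentModel

theorem rel280 : relsRange mdata basesM 526 147280 = true := relsRange_strict mdata basesM 526 147280 (by decide +kernel)
theorem rel281 : relsRange mdata basesM 526 147806 = true := relsRange_strict mdata basesM 526 147806 (by decide +kernel)
theorem rel282 : relsRange mdata basesM 526 148332 = true := relsRange_strict mdata basesM 526 148332 (by decide +kernel)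
theorem rel283 : relsRange mdata basesM 526 148858 = true := relsRange_strict mdata basesM 526 148858 (by decide +kernel)
theorem rel284 : relsRange mdata basesM 526 149384 = true := relsRange_strict mdata basesM 526 149384 (by decide +kernel)
theorem rel285 : relsRange mdata basesM 526 149910 = true := relsRange_strict mdata basesM 526 149910 (by decide +kernel)
theorem rel286 : relsRange mdata basesM 526 150436 = true := relsRange_strict mdata basesM 526 150436 (by decide +kernel)
theorem rel287 : relsRange mdata basesM 526 150962 = true := relsRange_strict mdata basesM 526 150962 (by decide +kernel)

end Cfsg.Agent.Lib.Helper19.Fi22MM3
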