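import Cfsg.Agent.Lib.Helper19.Fi22MM3Model

set_option autoImplicit false
set_option maxRecDepth 100000
set_option linter.unusedVariables false
set_option Elab.async false

namespace Cfsg.Agent.Lib.Helper19.Fi22MM3

open Cfsg.Agent.Helper4.TC Cfsg.Agent.Lib.Helper19.CentModel

theorem rel288 : relsRange mdata basesM 526 151488 = true := relsRange_strict mdata basesM 526 151488 (by decide +kernel)
theorem rel289 : relsRange mdata basesM 526 152014 = true := relsRange_strict mdata basesM 526 152014 (by decide +kernel)
theorem rel290 : relsRange mdata basesM 526 152540 = true := relsRange_strict mdata basesM 526 152540 (by decide +kernel)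
theorem rel291 : relsRange mdata basesM 526 153066 = true := relsRange_strict mdata basesM 526 153066 (by decide +kernel)
theorem rel292 : relsRange mdata basesM 526 153592 = true := relsRange_strict mdata basesM 526 153592 (by decide +kernel)
theorem rel293 : relsRange mdata basesM 526 154118 = true := relsRange_strict mdata basesM 526 154118 (by decide +kernel)
theorem rel294 : relsRange mdata basesM 526 154644 = true := relsRange_strict mdata basesM 526 154644 (by decide +kernel)
theorem rel295 : relsRange mdata basesM 526 155170 = true := relsRange_strict mdata basesM 526 155170 (by decide +kernel)

end Cfsg.Agent.Lib.Helper19.Fi22MM3
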