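import Cfsg.Agent.Lib.Helper19.Fi22MM3Model

set_option autoImplicit false
set_option maxRecDepth 100000
set_option linter.unusedVariables false
set_option Elab.async false

namespace Cfsg.Agent.Lib.Helper19.Fi22MM3

open Cfsg.Agent.Helper4.TC Cfsg.Agent.Lib.Helper19.CentModel

theorem rel296 : relsRange mdata basesM 526 155696 = true := relsRange_strict mdata basesM 526 155696 (by decide +kernel)
theorem rel297 : relsRange mdata basesM 526 156222 = true := relsRange_strict mdata basesM 526 156222 (by decide +kernel)
theorem rel298 : relsRange mdata basesM 526 156748 = true := relsRange_strict mdata basesM 526 156748 (by decide +kernel)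
theorem rel299 : relsRange mdata basesM 526 157274 = true := relsRange_strict mdata basesM 526 157274 (by decide +kernel)
theorem rel300 : relsRange mdata basesM 526 157800 = true := relsRange_strict mdata basesM 526 157800 (by decide +kernel)
theorem rel301 : relsRange mdata basesM 526 158326 = true := relsRange_strict mdata basesM 526 158326 (by decide +kernel)
theorem rel302 : relsRange mdata basesM 526 158852 = true := relsRange_strict mdata basesM 526 158852 (by decide +kernel)
theorem rel303 : relsRange mdata basesM 526 159378 = true := relsRange_strict mdata basesM 526 159378 (by decide +kernel)

end Cfsg.Agent.Lib.Helper19.Fi22MM3
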