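import Cfsg.Agent.Lib.Helper19.Fi22MM3Model

set_option autoImplicit false
set_option maxRecDepth 100000
set_option linter.unusedVariables false
set_option Elab.async false

namespace Cfsg.Agent.Lib.Helper19.Fi22MM3

open Cfsg.Agent.Helper4.TC Cfsg.Agent.Lib.Helper19.CentModel

theorem rel304 : relsRange mdata basesM 526 159904 = true := relsRange_strict mdata basesM 526 159904 (by decide +kernel)
theorem rel305 : relsRange mdata basesM 526 160430 = true := relsRange_strict mdata basesM 526 160430 (by decide +kernel)
theorem rel306 : relsRange mdata basesM 526 160956 = true := relsRange_strict mdata basesM 526 160956 (by decide +kernel)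
theorem rel307 : relsRange mdata basesM 526 161482 = true := relsRange_strict mdata basesM 526 161482 (by decide +kernel)
theorem rel308 : relsRange mdata basesM 526 162008 = true := relsRange_strict mdata basesM 526 162008 (by decide +kernel)
theorem rel309 : relsRange mdata basesM 526 162534 = true := relsRange_strict mdata basesM 526 162534 (by decide +kernel)
theorem rel310 : relsRange mdata basesM 526 163060 = true := relsRange_strict mdata basesM 526 163060 (by decide +kernel)
theorem rel311 : relsRange mdata basesM 526 163586 = true := relsRange_strict mdata basesM 526 163586 (by decide +kernel)

end Cfsg.Agent.Lib.Helper19.Fi22MM3
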