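import Cfsg.Agent.Lib.Helper19.Fi22MM3Model

set_option autoImplicit false
set_option maxRecDepth 100000
set_option linter.unusedVariables false
set_option Elab.async false

namespace Cfsg.Agent.Lib.Helper19.Fi22MM3

open Cfsg.Agent.Helper4.TC Cfsg.Agent.Lib.Helper19.CentModel

theorem rel312 : relsRange mdata basesM 526 164112 = true := relsRange_strict mdata basesM 526 164112 (by decide +kernel)
theorem rel313 : relsRange mdata basesM 526 164638 = true := relsRange_strict mdata basesM 526 164638 (by decide +kernel)
theorem rel314 : relsRange mdata basesM 526 165164 = true := relsRange_strict mdata basesM 526 165164 (by decide +kernel)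
theorem rel315 : relsRange mdata basesM 526 165690 = true := relsRange_strict mdata basesM 526 165690 (by decide +kernel)
theorem rel316 : relsRange mdata basesM 526 166216 = true := relsRange_strict mdata basesM 526 166216 (by decide +kernel)
theorem rel317 : relsRange mdata basesM 526 166742 = true := relsRange_strict mdata basesM 526 166742 (by decide +kernel)
theorem rel318 : relsRange mdata basesM 526 167268 = true := relsRange_strict mdata basesM 526 167268 (by decide +kernel)
theorem rel319 : relsRange mdata basesM 526 167794 = true := relsRange_strict mdata basesM 526 167794 (by decide +kernel)

end Cfsg.Agent.Lib.Helper19.Fi22MM3
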