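import Cfsg.Agent.Lib.Helper19.Fi22MM3Model

set_option autoImplicit false
set_option maxRecDepth 100000
set_option linter.unusedVariables false
set_option Elab.async false

namespace Cfsg.Agent.Lib.Helper19.Fi22MM3

open Cfsg.Agent.Helper4.TC Cfsg.Agent.Lib.Helper19.CentModel

theorem rel32 : relsRange mdata basesM 526 16832 = true := relsRange_strict mdata basesM 526 16832 (by decide +kernel)
theorem rel33 : relsRange mdata basesM 526 17358 = true := relsRange_strict mdata basesM 526 17358 (by decide +kernel)
theorem rel34 : relsRange mdata basesM 526 17884 = true := relsRange_strict mdata basesM 526 17884 (by decide +kernel)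
theorem rel35 : relsRange mdata basesM 526 18410 = true := relsRange_strict mdata basesM 526 18410 (by decide +kernel)
theorem rel36 : relsRange mdata basesM 526 18936 = true := relsRange_strict mdata basesM 526 18936 (by decide +kernel)
theorem rel37 : relsRange mdata basesM 526 19462 = true := relsRange_strict mdata basesM 526 19462 (by decide +kernel)
theorem rel38 : relsRange mdata basesM 526 19988 = true := relsRange_strict mdata basesM 526 19988 (by decide +kernel)
theorem rel39 : relsRange mdata basesM 526 20514 = true := relsRange_strict mdata basesM 526 20514 (by decide +kernel)

end Cfsg.Agent.Lib.Helper19.Fi22MM3
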