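import Cfsg.Agent.Lib.Helper19.Fi22MM3Model

set_option autoImplicit false
set_option maxRecDepth 100000
set_option linter.unusedVariables false
set_option Elab.async false

namespace Cfsg.Agent.Lib.Helper19.Fi22MM3

open Cfsg.Agent.Helper4.TC Cfsg.Agent.Lib.Helper19.CentModel

theorem rel320 : relsRange mdata basesM 526 168320 = true := relsRange_strict mdata basesM 526 168320 (by decide +kernel)
theorem rel321 : relsRange mdata basesM 526 168846 = true := relsRange_strict mdata basesM 526 168846 (by decide +kernel)
theorem rel322 : relsRange mdata basesM 526 169372 = true := relsRange_strict mdata basesM 526 169372 (by decide +kernel)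
theorem rel323 : relsRange mdata basesM 526 169898 = true := relsRange_strict mdata basesM 526 169898 (by decide +kernel)
theorem rel324 : relsRange mdata basesM 526 170424 = true := relsRange_strict mdata basesM 526 170424 (by decide +kernel)
theorem rel325 : relsRange mdata basesM 526 170950 = true := relsRange_strict mdata basesM 526 170950 (by decide +kernel)
theorem rel326 : relsRange mdata basesM 526 171476 = true := relsRange_strict mdata basesM 526 171476 (by decide +kernel)
theorem rel327 : relsRange mdata basesM 526 172002 = true := relsRange_strict mdata basesM 526 172002 (by decide +kernel)

end Cfsg.Agent.Lib.Helper19.Fi22MM3
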