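import Cfsg.Agent.Lib.Helper19.Fi22MM3Model

set_option autoImplicit false
set_option maxRecDepth 100000
set_option linter.unusedVariables false
set_option Elab.async false

namespace Cfsg.Agent.Lib.Helper19.Fi22MM3

open Cfsg.Agent.Helper4.TC Cfsg.Agent.Lib.Helper19.CentModel

theorem rel328 : relsRange mdata basesM 526 172528 = true := relsRange_strict mdata basesM 526 172528 (by decide +kernel)
theorem rel329 : relsRange mdata basesM 526 173054 = true := relsRange_strict mdata basesM 526 173054 (by decide +kernel)
theorem rel330 : relsRange mdata basesM 526 173580 = true := relsRange_strict mdata basesM 526 173580 (by decide +kernel)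
theorem rel331 : relsRange mdata basesM 526 174106 = true := relsRange_strict mdata basesM 526 174106 (by decide +kernel)
theorem rel332 : relsRange mdata basesM 526 174632 = true := relsRange_strict mdata basesM 526 174632 (by decide +kernel)
theorem rel333 : relsRange mdata basesM 526 175158 = true := relsRange_strict mdata basesM 526 175158 (by decide +kernel)
theorem rel334 : relsRange mdata basesM 526 175684 = true := relsRange_strict mdata basesM 526 175684 (by decide +kernel)
theorem rel335 : relsRange mdata basesM 526 176210 = true := relsRange_strict mdata basesM 526 176210 (by decide +kernel)

end Cfsg.Agent.Lib.Helper19.Fi22MM3
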