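import Cfsg.Agent.Lib.Helper19.Fi22MM3Model

set_option autoImplicit false
set_option maxRecDepth 100000
set_option linter.unusedVariables false
set_option Elab.async false

namespace Cfsg.Agent.Lib.Helper19.Fi22MM3

open Cfsg.Agent.Helper4.TC Cfsg.Agent.Lib.Helper19.CentModel

theorem rel336 : relsRange mdata basesM 526 176736 = true := relsRange_strict mdata basesM 526 176736 (by decide +kernel)
theorem rel337 : relsRange mdata basesM 526 177262 = true := relsRange_strict mdata basesM 526 177262 (by decide +kernel)
theorem rel338 : relsRange mdata basesM 526 177788 = true := relsRange_strict mdata basesM 526 177788 (by decide +kernel)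
theorem rel339 : relsRange mdata basesM 526 178314 = true := relsRange_strict mdata basesM 526 178314 (by decide +kernel)
theorem rel340 : relsRange mdata basesM 526 178840 = true := relsRange_strict mdata basesM 526 178840 (by decide +kernel)
theorem rel341 : relsRange mdata basesM 526 179366 = true := relsRange_strict mdata basesM 526 179366 (by decide +kernel)
theorem rel342 : relsRange mdata basesM 526 179892 = true := relsRange_strict mdata basesM 526 179892 (by decide +kernel)
theorem rel343 : relsRange mdata basesM 526 180418 = true := relsRange_strict mdata basesM 526 180418 (by decide +kernel)

end Cfsg.Agent.Lib.Helper19.Fi22MM3
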