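import Cfsg.Agent.Lib.Helper19.Fi22MM3Model

set_option autoImplicit false
set_option maxRecDepth 100000
set_option linter.unusedVariables false
set_option Elab.async false

namespace Cfsg.Agent.Lib.Helper19.Fi22MM3

open Cfsg.Agent.Helper4.TC Cfsg.Agent.Lib.Helper19.CentModel

theorem rel344 : relsRange mdata basesM 526 180944 = true := relsRange_strict mdata basesM 526 180944 (by decide +kernel)
theorem rel345 : relsRange mdata basesM 526 181470 = true := relsRange_strict mdata basesM 526 181470 (by decide +kernel)
theorem rel346 : relsRange mdata basesM 526 181996 = true := relsRange_strict mdata basesM 526 181996 (by decide +kernel)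
theorem rel347 : relsRange mdata basesM 526 182522 = true := relsRange_strict mdata basesM 526 182522 (by decide +kernel)
theorem rel348 : relsRange mdata basesM 526 183048 = true := relsRange_strict mdata basesM 526 183048 (by decide +kernel)
theorem rel349 : relsRange mdata basesM 526 183574 = true := relsRange_strict mdata basesM 526 183574 (by decide +kernel)
theorem rel350 : relsRange mdata basesM 526 184100 = true := relsRange_strict mdata basesM 526 184100 (by decide +kernel)
theorem rel351 : relsRange mdata basesM 526 184626 = true := relsRange_strict mdata basesM 526 184626 (by decide +kernel)

end Cfsg.Agent.Lib.Helper19.Fi22MM3
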