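import Cfsg.Agent.Lib.Helper19.Fi22MM3Model

set_option autoImplicit false
set_option maxRecDepth 100000
set_option linter.unusedVariables false
set_option Elab.async false

namespace Cfsg.Agent.Lib.Helper19.Fi22MM3

open Cfsg.Agent.Helper4.TC Cfsg.Agent.Lib.Helper19.CentModel

theorem rel352 : relsRange mdata basesM 176 185152 = true := relsRange_strict mdata basesM 176 185152 (by decide +kernel)
theorem zc0 : rangeS (zPt mdata z3 rhoW) 1111 0 = true := by decide +kernel
theorem zc1 : rangeS (zPt mdata z3 rhoW) 1111 1111 = true := by decide +kernel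
theorem zc2 : rangeS (zPt mdata z3 rhoW) 1111 2222 = true := by decide +kernel
theorem zc3 : rangeS (zPt mdata z3 rhoW) 1111 3333 = true := by decide +kernel
theorem zc4 : rangeS (zPt mdata z3 rhoW) 1111 4444 = true := by decide +kernel
theorem zc5 : rangeS (zPt mdata z3 rhoW) 1111 5555 = true := by decide +kernel
theorem zc6 : rangeS (zPt mdata z3 rhoW) 1111 6666 = true := by decide +kernel

end Cfsg.Agent.Lib.Helper19.Fi22MM3
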