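import Cfsg.Agent.Lib.Helper19.Fi22MM3Model

set_option autoImplicit false
set_option maxRecDepth 100000
set_option linter.unusedVariables false
set_option Elab.async false

namespace Cfsg.Agent.Lib.Helper19.Fi22MM3

open Cfsg.Agent.Helper4.TC Cfsg.Agent.Lib.Helper19.CentModel

theorem zc7 : rangeS (zPt mdata z3 rhoW) 1111 7777 = true := by decide +kernel
theorem zc8 : rangeS (zPt mdata z3 rhoW) 1111 8888 = true := by decide +kernel
theorem zc9 : rangeS (zPt mdata z3 rhoW) 1111 9999 = true := by decide +kernel
theorem zc10 : rangeS (zPt mdata z3 rhoW) 1111 11110 = true := by decide +kernel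
theorem zc11 : rangeS (zPt mdata z3 rhoW) 1111 12221 = true := by decide +kernel
theorem zc12 : rangeS (zPt mdata z3 rhoW) 1111 13332 = true := by decide +kernel
theorem zc13 : rangeS (zPt mdata z3 rhoW) 1111 14443 = true := by decide +kernel
theorem zc14 : rangeS (zPt mdata z3 rhoW) 1111 15554 = true := by decide +kernel

end Cfsg.Agent.Lib.Helper19.Fi22MM3
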