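import Cfsg.Agent.Lib.Helper19.Fi22MM3Model

set_option autoImplicit false
set_option maxRecDepth 100000
set_option linter.unusedVariables false
set_option Elab.async false

namespace Cfsg.Agent.Lib.Helper19.Fi22MM3

open Cfsg.Agent.Helper4.TC Cfsg.Agent.Lib.Helper19.CentModel

theorem zc15 : rangeS (zPt mdata z3 rhoW) 1111 16665 = true := by decide +kernel
theorem zc16 : rangeS (zPt mdata z3 rhoW) 1111 17776 = true := by decide +kernel
theorem zc17 : rangeS (zPt mdata z3 rhoW) 1111 18887 = true := by decide +kernel
theorem zc18 : rangeS (zPt mdata z3 rhoW) 1111 19998 = true := by decide +kernel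
theorem zc19 : rangeS (zPt mdata z3 rhoW) 1111 21109 = true := by decide +kernel
theorem zc20 : rangeS (zPt mdata z3 rhoW) 1111 22220 = true := by decide +kernel
theorem zc21 : rangeS (zPt mdata z3 rhoW) 1111 23331 = true := by decide +kernel
theorem zc22 : rangeS (zPt mdata z3 rhoW) 1111 24442 = true := by decide +kernel

end Cfsg.Agent.Lib.Helper19.Fi22MM3
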