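import Cfsg.Agent.Lib.Helper19.Fi22MM3Model

set_option autoImplicit false
set_option maxRecDepth 100000
set_option linter.unusedVariables false
set_option Elab.async false

namespace Cfsg.Agent.Lib.Helper19.Fi22MM3

open Cfsg.Agent.Helper4.TC Cfsg.Agent.Lib.Helper19.CentModel

theorem zc23 : rangeS (zPt mdata z3 rhoW) 1111 25553 = true := by decide +kernel
theorem zc24 : rangeS (zPt mdata z3 rhoW) 1111 26664 = true := by decide +kernel
theorem zc25 : rangeS (zPt mdata z3 rhoW) 1111 27775 = true := by decide +kernel
theorem zc26 : rangeS (zPt mdata z3 rhoW) 1111 28886 = true := by decide +kernel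
theorem zc27 : rangeS (zPt mdata z3 rhoW) 1111 29997 = true := by decide +kernel
theorem zc28 : rangeS (zPt mdata z3 rhoW) 1111 31108 = true := by decide +kernel
theorem zc29 : rangeS (zPt mdata z3 rhoW) 1111 32219 = true := by decide +kernel
theorem zc30 : rangeS (zPt mdata z3 rhoW) 1111 33330 = true := by decide +kernel

end Cfsg.Agent.Lib.Helper19.Fi22MM3
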