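import Cfsg.Agent.Lib.Helper19.Fi22MM3Model

set_option autoImplicit false
set_option maxRecDepth 100000
set_option linter.unusedVariables false
set_option Elab.async false

namespace Cfsg.Agent.Lib.Helper19.Fi22MM3

open Cfsg.Agent.Helper4.TC Cfsg.Agent.Lib.Helper19.CentModel

theorem zc31 : rangeS (zPt mdata z3 rhoW) 1111 34441 = true := by decide +kernel
theorem zc32 : rangeS (zPt mdata z3 rhoW) 1111 35552 = true := by decide +kernel
theorem zc33 : rangeS (zPt mdata z3 rhoW) 1111 36663 = true := by decide +kernel
theorem zc34 : rangeS (zPt mdata z3 rhoW) 1111 37774 = true := by decide +kernel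
theorem zc35 : rangeS (zPt mdata z3 rhoW) 1111 38885 = true := by decide +kernel
theorem zc36 : rangeS (zPt mdata z3 rhoW) 1111 39996 = true := by decide +kernel
theorem zc37 : rangeS (zPt mdata z3 rhoW) 1111 41107 = true := by decide +kernel
theorem zc38 : rangeS (zPt mdata z3 rhoW) 1111 42218 = true := by decide +kernel

end Cfsg.Agent.Lib.Helper19.Fi22MM3
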