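import Cfsg.Agent.Lib.Helper19.Fi22MM3Model

set_option autoImplicit false
set_option maxRecDepth 100000
set_option linter.unusedVariables false
set_option Elab.async false

namespace Cfsg.Agent.Lib.Helper19.Fi22MM3

open Cfsg.Agent.Helper4.TC Cfsg.Agent.Lib.Helper19.CentModel

theorem zc39 : rangeS (zPt mdata z3 rhoW) 1111 43329 = true := by decide +kernel
theorem zc40 : rangeS (zPt mdata z3 rhoW) 1111 44440 = true := by decide +kernel
theorem zc41 : rangeS (zPt mdata z3 rhoW) 1111 45551 = true := by decide +kernel
theorem zc42 : rangeS (zPt mdata z3 rhoW) 1111 46662 = true := by decide +kernel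
theorem zc43 : rangeS (zPt mdata z3 rhoW) 1111 47773 = true := by decide +kernel
theorem zc44 : rangeS (zPt mdata z3 rhoW) 1111 48884 = true := by decide +kernel
theorem zc45 : rangeS (zPt mdata z3 rhoW) 1111 49995 = true := by decide +kernel
theorem zc46 : rangeS (zPt mdata z3 rhoW) 1111 51106 = true := by decide +kernel

end Cfsg.Agent.Lib.Helper19.Fi22MM3
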