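import Cfsg.Agent.Lib.Helper19.Fi22MM3Model

set_option autoImplicit false
set_option maxRecDepth 100000
set_option linter.unusedVariables false
set_option Elab.async false

namespace Cfsg.Agent.Lib.Helper19.Fi22MM3

open Cfsg.Agent.Helper4.TC Cfsg.Agent.Lib.Helper19.CentModel

theorem zc47 : rangeS (zPt mdata z3 rhoW) 1111 52217 = true := by decide +kernel
theorem zc48 : rangeS (zPt mdata z3 rhoW) 1111 53328 = true := by decide +kernel
theorem zc49 : rangeS (zPt mdata z3 rhoW) 1111 54439 = true := by decide +kernel
theorem zc50 : rangeS (zPt mdata z3 rhoW) 1111 55550 = true := by decide +kernel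
theorem zc51 : rangeS (zPt mdata z3 rhoW) 1111 56661 = true := by decide +kernel
theorem zc52 : rangeS (zPt mdata z3 rhoW) 1111 57772 = true := by decide +kernel
theorem zc53 : rangeS (zPt mdata z3 rhoW) 1111 58883 = true := by decide +kernel
theorem zc54 : rangeS (zPt mdata z3 rhoW) 1111 59994 = true := by decide +kernel

end Cfsg.Agent.Lib.Helper19.Fi22MM3
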