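import Cfsg.Agent.Lib.Helper19.Fi22MM3Model

set_option autoImplicit false
set_option maxRecDepth 100000
set_option linter.unusedVariables false
set_option Elab.async false

namespace Cfsg.Agent.Lib.Helper19.Fi22MM3

open Cfsg.Agent.Helper4.TC Cfsg.Agent.Lib.Helper19.CentModel

theorem zc55 : rangeS (zPt mdata z3 rhoW) 1111 61105 = true := by decide +kernel
theorem zc56 : rangeS (zPt mdata z3 rhoW) 1111 62216 = true := by decide +kernel
theorem zc57 : rangeS (zPt mdata z3 rhoW) 1111 63327 = true := by decide +kernel
theorem zc58 : rangeS (zPt mdata z3 rhoW) 1111 64438 = true := by decide +kernel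
theorem zc59 : rangeS (zPt mdata z3 rhoW) 1111 65549 = true := by decide +kernel
theorem zc60 : rangeS (zPt mdata z3 rhoW) 1111 66660 = true := by decide +kernel
theorem zc61 : rangeS (zPt mdata z3 rhoW) 1111 67771 = true := by decide +kernel
theorem zc62 : rangeS (zPt mdata z3 rhoW) 1111 68882 = true := by decide +kernel

end Cfsg.Agent.Lib.Helper19.Fi22MM3
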