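import Cfsg.Agent.Lib.Helper19.Fi22MM3Model

set_option autoImplicit false
set_option maxRecDepth 100000
set_option linter.unusedVariables false
set_option Elab.async false

namespace Cfsg.Agent.Lib.Helper19.Fi22MM3

open Cfsg.Agent.Helper4.TC Cfsg.Agent.Lib.Helper19.CentModel

theorem zc63 : rangeS (zPt mdata z3 rhoW) 1111 69993 = true := by decide +kernel
theorem zc64 : rangeS (zPt mdata z3 rhoW) 1111 71104 = true := by decide +kernel
theorem zc65 : rangeS (zPt mdata z3 rhoW) 1111 72215 = true := by decide +kernel
theorem zc66 : rangeS (zPt mdata z3 rhoW) 1111 73326 = true := by decide +kernel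
theorem zc67 : rangeS (zPt mdata z3 rhoW) 1111 74437 = true := by decide +kernel
theorem zc68 : rangeS (zPt mdata z3 rhoW) 1111 75548 = true := by decide +kernel
theorem zc69 : rangeS (zPt mdata z3 rhoW) 1111 76659 = true := by decide +kernel
theorem zc70 : rangeS (zPt mdata z3 rhoW) 1111 77770 = true := by decide +kernel

end Cfsg.Agent.Lib.Helper19.Fi22MM3
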