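import Cfsg.Agent.Lib.Helper19.Fi22MM3Model

set_option autoImplicit false
set_option maxRecDepth 100000
set_option linter.unusedVariables false
set_option Elab.async false

namespace Cfsg.Agent.Lib.Helper19.Fi22MM3

open Cfsg.Agent.Helper4.TC Cfsg.Agent.Lib.Helper19.CentModel

theorem zc71 : rangeS (zPt mdata z3 rhoW) 1111 78881 = true := by decide +kernel
theorem zc72 : rangeS (zPt mdata z3 rhoW) 1111 79992 = true := by decide +kernel
theorem zc73 : rangeS (zPt mdata z3 rhoW) 1111 81103 = true := by decide +kernel
theorem zc74 : rangeS (zPt mdata z3 rhoW) 1111 82214 = true := by decide +kernel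
theorem zc75 : rangeS (zPt mdata z3 rhoW) 1111 83325 = true := by decide +kernel
theorem zc76 : rangeS (zPt mdata z3 rhoW) 1111 84436 = true := by decide +kernel
theorem zc77 : rangeS (zPt mdata z3 rhoW) 1111 85547 = true := by decide +kernel
theorem zc78 : rangeS (zPt mdata z3 rhoW) 1111 86658 = true := by decide +kernel

end Cfsg.Agent.Lib.Helper19.Fi22MM3
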