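import Cfsg.Agent.Lib.Helper19.Fi22MM3Model

set_option autoImplicit false
set_option maxRecDepth 100000
set_option linter.unusedVariables false
set_option Elab.async false

namespace Cfsg.Agent.Lib.Helper19.Fi22MM3

open Cfsg.Agent.Helper4.TC Cfsg.Agent.Lib.Helper19.CentModel

theorem zc79 : rangeS (zPt mdata z3 rhoW) 1111 87769 = true := by decide +kernel
theorem zc80 : rangeS (zPt mdata z3 rhoW) 1111 88880 = true := by decide +kernel
theorem zc81 : rangeS (zPt mdata z3 rhoW) 1111 89991 = true := by decide +kernel
theorem zc82 : rangeS (zPt mdata z3 rhoW) 1111 91102 = true := by decide +kernel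
theorem zc83 : rangeS (zPt mdata z3 rhoW) 1111 92213 = true := by decide +kernel
theorem zc84 : rangeS (zPt mdata z3 rhoW) 1111 93324 = true := by decide +kernel
theorem zc85 : rangeS (zPt mdata z3 rhoW) 1111 94435 = true := by decide +kernel
theorem zc86 : rangeS (zPt mdata z3 rhoW) 1111 95546 = true := by decide +kernel

end Cfsg.Agent.Lib.Helper19.Fi22MM3
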