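import Cfsg.Agent.Lib.Helper19.Fi22MM3Model

set_option autoImplicit false
set_option maxRecDepth 100000
set_option linter.unusedVariables false
set_option Elab.async false

namespace Cfsg.Agent.Lib.Helper19.Fi22MM3

open Cfsg.Agent.Helper4.TC Cfsg.Agent.Lib.Helper19.CentModel

theorem zc87 : rangeS (zPt mdata z3 rhoW) 1111 96657 = true := by decide +kernel
theorem zc88 : rangeS (zPt mdata z3 rhoW) 1111 97768 = true := by decide +kernel
theorem zc89 : rangeS (zPt mdata z3 rhoW) 1111 98879 = true := by decide +kernel
theorem zc90 : rangeS (zPt mdata z3 rhoW) 1111 99990 = true := by decide +kernel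
theorem zc91 : rangeS (zPt mdata z3 rhoW) 1111 101101 = true := by decide +kernel
theorem zc92 : rangeS (zPt mdata z3 rhoW) 1111 102212 = true := by decide +kernel
theorem zc93 : rangeS (zPt mdata z3 rhoW) 1111 103323 = true := by decide +kernel
theorem zc94 : rangeS (zPt mdata z3 rhoW) 1111 104434 = true := by decide +kernel

end Cfsg.Agent.Lib.Helper19.Fi22MM3
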