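import Cfsg.Agent.Lib.Helper19.Fi22MM3Model

set_option autoImplicit false
set_option maxRecDepth 100000
set_option linter.unusedVariables false
set_option Elab.async false

namespace Cfsg.Agent.Lib.Helper19.Fi22MM3

open Cfsg.Agent.Helper4.TC Cfsg.Agent.Lib.Helper19.CentModel

theorem zc95 : rangeS (zPt mdata z3 rhoW) 1111 105545 = true := by decide +kernel
theorem zc96 : rangeS (zPt mdata z3 rhoW) 1111 106656 = true := by decide +kernel
theorem zc97 : rangeS (zPt mdata z3 rhoW) 1111 107767 = true := by decide +kernel
theorem zc98 : rangeS (zPt mdata z3 rhoW) 1111 108878 = true := by decide +kernel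
theorem zc99 : rangeS (zPt mdata z3 rhoW) 1111 109989 = true := by decide +kernel
theorem zc100 : rangeS (zPt mdata z3 rhoW) 1111 111100 = true := by decide +kernel
theorem zc101 : rangeS (zPt mdata z3 rhoW) 1111 112211 = true := by decide +kernel
theorem zc102 : rangeS (zPt mdata z3 rhoW) 1111 113322 = true := by decide +kernel

end Cfsg.Agent.Lib.Helper19.Fi22MM3
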