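import Cfsg.Agent.Lib.Helper19.Fi22MM3Model

set_option autoImplicit false
set_option maxRecDepth 100000
set_option linter.unusedVariables false
set_option Elab.async false

namespace Cfsg.Agent.Lib.Helper19.Fi22MM3

open Cfsg.Agent.Helper4.TC Cfsg.Agent.Lib.Helper19.CentModel

theorem zc103 : rangeS (zPt mdata z3 rhoW) 1111 114433 = true := by decide +kernel
theorem zc104 : rangeS (zPt mdata z3 rhoW) 1111 115544 = true := by decide +kernel
theorem zc105 : rangeS (zPt mdata z3 rhoW) 1111 116655 = true := by decide +kernel
theorem zc106 : rangeS (zPt mdata z3 rhoW) 1111 117766 = true := by decide +kernel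
theorem zc107 : rangeS (zPt mdata z3 rhoW) 1111 118877 = true := by decide +kernel
theorem zc108 : rangeS (zPt mdata z3 rhoW) 1111 119988 = true := by decide +kernel
theorem zc109 : rangeS (zPt mdata z3 rhoW) 1111 121099 = true := by decide +kernel
theorem zc110 : rangeS (zPt mdata z3 rhoW) 1111 122210 = true := by decide +kernel

end Cfsg.Agent.Lib.Helper19.Fi22MM3
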