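import Cfsg.Agent.Lib.Helper19.Fi22MM3Model

set_option autoImplicit false
set_option maxRecDepth 100000
set_option linter.unusedVariables false
set_option Elab.async false

namespace Cfsg.Agent.Lib.Helper19.Fi22MM3

open Cfsg.Agent.Helper4.TC Cfsg.Agent.Lib.Helper19.CentModel

theorem zc111 : rangeS (zPt mdata z3 rhoW) 1111 123321 = true := by decide +kernel
theorem zc112 : rangeS (zPt mdata z3 rhoW) 1111 124432 = true := by decide +kernel
theorem zc113 : rangeS (zPt mdata z3 rhoW) 1111 125543 = true := by decide +kernel
theorem zc114 : rangeS (zPt mdata z3 rhoW) 1111 126654 = true := by decide +kernel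
theorem zc115 : rangeS (zPt mdata z3 rhoW) 1111 127765 = true := by decide +kernel
theorem zc116 : rangeS (zPt mdata z3 rhoW) 1111 128876 = true := by decide +kernel
theorem zc117 : rangeS (zPt mdata z3 rhoW) 1111 129987 = true := by decide +kernel
theorem zc118 : rangeS (zPt mdata z3 rhoW) 1111 131098 = true := by decide +kernel

end Cfsg.Agent.Lib.Helper19.Fi22MM3
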