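import Cfsg.Agent.Lib.Helper19.Fi22MM3Model

set_option autoImplicit false
set_option maxRecDepth 100000
set_option linter.unusedVariables false
set_option Elab.async false

namespace Cfsg.Agent.Lib.Helper19.Fi22MM3

open Cfsg.Agent.Helper4.TC Cfsg.Agent.Lib.Helper19.CentModel

theorem zc119 : rangeS (zPt mdata z3 rhoW) 1111 132209 = true := by decide +kernel
theorem zc120 : rangeS (zPt mdata z3 rhoW) 1111 133320 = true := by decide +kernel
theorem zc121 : rangeS (zPt mdata z3 rhoW) 1111 134431 = true := by decide +kernel
theorem zc122 : rangeS (zPt mdata z3 rhoW) 1111 135542 = true := by decide +kernel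
theorem zc123 : rangeS (zPt mdata z3 rhoW) 1111 136653 = true := by decide +kernel
theorem zc124 : rangeS (zPt mdata z3 rhoW) 1111 137764 = true := by decide +kernel
theorem zc125 : rangeS (zPt mdata z3 rhoW) 1111 138875 = true := by decide +kernel
theorem zc126 : rangeS (zPt mdata z3 rhoW) 1111 139986 = true := by decide +kernel

end Cfsg.Agent.Lib.Helper19.Fi22MM3
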