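import Cfsg.Agent.Lib.Helper19.Fi22MM3Model

set_option autoImplicit false
set_option maxRecDepth 100000
set_option linter.unusedVariables false
set_option Elab.async false

namespace Cfsg.Agent.Lib.Helper19.Fi22MM3

open Cfsg.Agent.Helper4.TC Cfsg.Agent.Lib.Helper19.CentModel

theorem zc127 : rangeS (zPt mdata z3 rhoW) 1111 141097 = true := by decide +kernel
theorem zc128 : rangeS (zPt mdata z3 rhoW) 1111 142208 = true := by decide +kernel
theorem zc129 : rangeS (zPt mdata z3 rhoW) 1111 143319 = true := by decide +kernel
theorem zc130 : rangeS (zPt mdata z3 rhoW) 1111 144430 = true := by decide +kernel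
theorem zc131 : rangeS (zPt mdata z3 rhoW) 1111 145541 = true := by decide +kernel
theorem zc132 : rangeS (zPt mdata z3 rhoW) 1111 146652 = true := by decide +kernel
theorem zc133 : rangeS (zPt mdata z3 rhoW) 1111 147763 = true := by decide +kernel
theorem zc134 : rangeS (zPt mdata z3 rhoW) 1111 148874 = true := by decide +kernel

end Cfsg.Agent.Lib.Helper19.Fi22MM3
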