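import Cfsg.Agent.Lib.Helper19.Fi22MM3Model

set_option autoImplicit false
set_option maxRecDepth 100000
set_option linter.unusedVariables false
set_option Elab.async false

namespace Cfsg.Agent.Lib.Helper19.Fi22MM3

open Cfsg.Agent.Helper4.TC Cfsg.Agent.Lib.Helper19.CentModel

theorem zc135 : rangeS (zPt mdata z3 rhoW) 1111 149985 = true := by decide +kernel
theorem zc136 : rangeS (zPt mdata z3 rhoW) 1111 151096 = true := by decide +kernel
theorem zc137 : rangeS (zPt mdata z3 rhoW) 1111 152207 = true := by decide +kernel
theorem zc138 : rangeS (zPt mdata z3 rhoW) 1111 153318 = true := by decide +kernel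
theorem zc139 : rangeS (zPt mdata z3 rhoW) 1111 154429 = true := by decide +kernel
theorem zc140 : rangeS (zPt mdata z3 rhoW) 1111 155540 = true := by decide +kernel
theorem zc141 : rangeS (zPt mdata z3 rhoW) 1111 156651 = true := by decide +kernel
theorem zc142 : rangeS (zPt mdata z3 rhoW) 1111 157762 = true := by decide +kernel

end Cfsg.Agent.Lib.Helper19.Fi22MM3
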