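import Cfsg.Agent.Lib.Helper19.Fi22MM3Model

set_option autoImplicit false
set_option maxRecDepth 100000
set_option linter.unusedVariables false
set_option Elab.async false

namespace Cfsg.Agent.Lib.Helper19.Fi22MM3

open Cfsg.Agent.Helper4.TC Cfsg.Agent.Lib.Helper19.CentModel

theorem zc143 : rangeS (zPt mdata z3 rhoW) 1111 158873 = true := by decide +kernel
theorem zc144 : rangeS (zPt mdata z3 rhoW) 1111 159984 = true := by decide +kernel
theorem zc145 : rangeS (zPt mdata z3 rhoW) 1111 161095 = true := by decide +kernel
theorem zc146 : rangeS (zPt mdata z3 rhoW) 1111 162206 = true := by decide +kernel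
theorem zc147 : rangeS (zPt mdata z3 rhoW) 1111 163317 = true := by decide +kernel
theorem zc148 : rangeS (zPt mdata z3 rhoW) 1111 164428 = true := by decide +kernel
theorem zc149 : rangeS (zPt mdata z3 rhoW) 1111 165539 = true := by decide +kernel
theorem zc150 : rangeS (zPt mdata z3 rhoW) 1111 166650 = true := by decide +kernel

end Cfsg.Agent.Lib.Helper19.Fi22MM3
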