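import Cfsg.Agent.Lib.Helper19.Fi22MM3Model

set_option autoImplicit false
set_option maxRecDepth 100000
set_option linter.unusedVariables false
set_option Elab.async false

namespace Cfsg.Agent.Lib.Helper19.Fi22MM3

open Cfsg.Agent.Helper4.TC Cfsg.Agent.Lib.Helper19.CentModel

theorem zc151 : rangeS (zPt mdata z3 rhoW) 1111 167761 = true := by decide +kernel
theorem zc152 : rangeS (zPt mdata z3 rhoW) 1111 168872 = true := by decide +kernel
theorem zc153 : rangeS (zPt mdata z3 rhoW) 1111 169983 = true := by decide +kernel
theorem zc154 : rangeS (zPt mdata z3 rhoW) 1111 171094 = true := by decide +kernel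
theorem zc155 : rangeS (zPt mdata z3 rhoW) 1111 172205 = true := by decide +kernel
theorem zc156 : rangeS (zPt mdata z3 rhoW) 1111 173316 = true := by decide +kernel
theorem zc157 : rangeS (zPt mdata z3 rhoW) 1111 174427 = true := by decide +kernel
theorem zc158 : rangeS (zPt mdata z3 rhoW) 1111 175538 = true := by decide +kernel

end Cfsg.Agent.Lib.Helper19.Fi22MM3
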