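import Cfsg.Agent.Lib.Helper19.Fi22MM3Model

set_option autoImplicit false
set_option maxRecDepth 100000
set_option linter.unusedVariables false
set_option Elab.async false

namespace Cfsg.Agent.Lib.Helper19.Fi22MM3

open Cfsg.Agent.Helper4.TC Cfsg.Agent.Lib.Helper19.CentModel

theorem zc159 : rangeS (zPt mdata z3 rhoW) 1111 176649 = true := by decide +kernel
theorem zc160 : rangeS (zPt mdata z3 rhoW) 1111 177760 = true := by decide +kernel
theorem zc161 : rangeS (zPt mdata z3 rhoW) 1111 178871 = true := by decide +kernel
theorem zc162 : rangeS (zPt mdata z3 rhoW) 1111 179982 = true := by decide +kernel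
theorem zc163 : rangeS (zPt mdata z3 rhoW) 1111 181093 = true := by decide +kernel
theorem zc164 : rangeS (zPt mdata z3 rhoW) 1111 182204 = true := by decide +kernel
theorem zc165 : rangeS (zPt mdata z3 rhoW) 1111 183315 = true := by decide +kernel
theorem zc166 : rangeS (zPt mdata z3 rhoW) 902 184426 = true := by decide +kernel

end Cfsg.Agent.Lib.Helper19.Fi22MM3
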