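import Cfsg.Agent.Lib.Helper19.Fi22MM3Model

set_option autoImplicit false
set_option maxRecDepth 100000
set_option linter.unusedVariables false
set_option Elab.async false

namespace Cfsg.Agent.Lib.Helper19.Fi22MM3

open Cfsg.Agent.Helper4.TC Cfsg.Agent.Lib.Helper19.CentModel

theorem inv0 : invRange mdata 2962 0 = true := invRange_strict mdata 2962 0 (by decide +kernel)
theorem inv1 : invRange mdata 2962 2962 = true := invRange_strict mdata 2962 2962 (by decide +kernel)
theorem inv2 : invRange mdata 2962 5924 = true := invRange_strict mdata 2962 5924 (by decide +kernel)
theorem inv3 : invRange mdata 2962 8886 = true := invRange_strict mdata 2962 8886 (by decide +kernel)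
theorem inv4 : invRange mdata 2962 11848 = true := invRange_strict mdata 2962 11848 (by decide +kernel)
theorem inv5 : invRange mdata 2962 14810 = true := invRange_strict mdata 2962 14810 (by decide +kernel)
theorem inv6 : invRange mdata 2962 17772 = true := invRange_strict mdata 2962 17772 (by decide +kernel)
theorem inv7 : invRange mdata 2962 20734 = true := invRange_strict mdata 2962 20734 (by decide +kernel)

end Cfsg.Agent.Lib.Helper19.Fi22MM3
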