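import Cfsg.Agent.Lib.Helper19.Fi22MM3Model

set_option autoImplicit false
set_option maxRecDepth 100000
set_option linter.unusedVariables false
set_option Elab.async false

namespace Cfsg.Agent.Lib.Helper19.Fi22MM3

open Cfsg.Agent.Helper4.TC Cfsg.Agent.Lib.Helper19.CentModel

theorem inv8 : invRange mdata 2962 23696 = true := invRange_strict mdata 2962 23696 (by decide +kernel)
theorem inv9 : invRange mdata 2962 26658 = true := invRange_strict mdata 2962 26658 (by decide +kernel)
theorem inv10 : invRange mdata 2962 29620 = true := invRange_strict mdata 2962 29620 (by decide +kernel)
theorem inv11 : invRange mdata 2962 32582 = true := invRange_strict mdata 2962 32582 (by decide +kernel)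
theorem inv12 : invRange mdata 2962 35544 = true := invRange_strict mdata 2962 35544 (by decide +kernel)
theorem inv13 : invRange mdata 2962 38506 = true := invRange_strict mdata 2962 38506 (by decide +kernel)
theorem inv14 : invRange mdata 2962 41468 = true := invRange_strict mdata 2962 41468 (by decide +kernel)
theorem inv15 : invRange mdata 2962 44430 = true := invRange_strict mdata 2962 44430 (by decide +kernel)

end Cfsg.Agent.Lib.Helper19.Fi22MM3
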