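import Cfsg.Agent.Lib.Helper19.Fi22MM3Model

set_option autoImplicit false
set_option maxRecDepth 100000
set_option linter.unusedVariables false
set_option Elab.async false

namespace Cfsg.Agent.Lib.Helper19.Fi22MM3

open Cfsg.Agent.Helper4.TC Cfsg.Agent.Lib.Helper19.CentModel

theorem inv16 : invRange mdata 2962 47392 = true := invRange_strict mdata 2962 47392 (by decide +kernel)
theorem inv17 : invRange mdata 2962 50354 = true := invRange_strict mdata 2962 50354 (by decide +kernel)
theorem inv18 : invRange mdata 2962 53316 = true := invRange_strict mdata 2962 53316 (by decide +kernel)
theorem inv19 : invRange mdata 2962 56278 = true := invRange_strict mdata 2962 56278 (by decide +kernel)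
theorem inv20 : invRange mdata 2962 59240 = true := invRange_strict mdata 2962 59240 (by decide +kernel)
theorem inv21 : invRange mdata 2962 62202 = true := invRange_strict mdata 2962 62202 (by decide +kernel)
theorem inv22 : invRange mdata 2962 65164 = true := invRange_strict mdata 2962 65164 (by decide +kernel)
theorem inv23 : invRange mdata 2962 68126 = true := invRange_strict mdata 2962 68126 (by decide +kernel)

end Cfsg.Agent.Lib.Helper19.Fi22MM3
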