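import Cfsg.Agent.Lib.Helper19.Fi22MM3Model

set_option autoImplicit false
set_option maxRecDepth 100000
set_option linter.unusedVariables false
set_option Elab.async false

namespace Cfsg.Agent.Lib.Helper19.Fi22MM3

open Cfsg.Agent.Helper4.TC Cfsg.Agent.Lib.Helper19.CentModel

theorem inv24 : invRange mdata 2962 71088 = true := invRange_strict mdata 2962 71088 (by decide +kernel)
theorem inv25 : invRange mdata 2962 74050 = true := invRange_strict mdata 2962 74050 (by decide +kernel)
theorem inv26 : invRange mdata 2962 77012 = true := invRange_strict mdata 2962 77012 (by decide +kernel)
theorem inv27 : invRange mdata 2962 79974 = true := invRange_strict mdata 2962 79974 (by decide +kernel)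
theorem inv28 : invRange mdata 2962 82936 = true := invRange_strict mdata 2962 82936 (by decide +kernel)
theorem inv29 : invRange mdata 2962 85898 = true := invRange_strict mdata 2962 85898 (by decide +kernel)
theorem inv30 : invRange mdata 2962 88860 = true := invRange_strict mdata 2962 88860 (by decide +kernel)
theorem inv31 : invRange mdata 2962 91822 = true := invRange_strict mdata 2962 91822 (by decide +kernel)

end Cfsg.Agent.Lib.Helper19.Fi22MM3
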