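import Cfsg.Agent.Lib.Helper19.Fi22MM3Model

set_option autoImplicit false
set_option maxRecDepth 100000
set_option linter.unusedVariables false
set_option Elab.async false

namespace Cfsg.Agent.Lib.Helper19.Fi22MM3

open Cfsg.Agent.Helper4.TC Cfsg.Agent.Lib.Helper19.CentModel

theorem inv32 : invRange mdata 2962 94784 = true := invRange_strict mdata 2962 94784 (by decide +kernel)
theorem inv33 : invRange mdata 2962 97746 = true := invRange_strict mdata 2962 97746 (by decide +kernel)
theorem inv34 : invRange mdata 2962 100708 = true := invRange_strict mdata 2962 100708 (by decide +kernel)
theorem inv35 : invRange mdata 2962 103670 = true := invRange_strict mdata 2962 103670 (by decide +kernel)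
theorem inv36 : invRange mdata 2962 106632 = true := invRange_strict mdata 2962 106632 (by decide +kernel)
theorem inv37 : invRange mdata 2962 109594 = true := invRange_strict mdata 2962 109594 (by decide +kernel)
theorem inv38 : invRange mdata 2962 112556 = true := invRange_strict mdata 2962 112556 (by decide +kernel)
theorem inv39 : invRange mdata 2962 115518 = true := invRange_strict mdata 2962 115518 (by decide +kernel)

end Cfsg.Agent.Lib.Helper19.Fi22MM3
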