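import Cfsg.Agent.Lib.Helper19.Fi22MM3Model

set_option autoImplicit false
set_option maxRecDepth 100000
set_option linter.unusedVariables false
set_option Elab.async false

namespace Cfsg.Agent.Lib.Helper19.Fi22MM3

open Cfsg.Agent.Helper4.TC Cfsg.Agent.Lib.Helper19.CentModel

theorem rel56 : relsRange mdata basesM 526 29456 = true := relsRange_strict mdata basesM 526 29456 (by decide +kernel)
theorem rel57 : relsRange mdata basesM 526 29982 = true := relsRange_strict mdata basesM 526 29982 (by decide +kernel)
theorem rel58 : relsRange mdata basesM 526 30508 = true := relsRange_strict mdata basesM 526 30508 (by decide +kernel)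
theorem rel59 : relsRange mdata basesM 526 31034 = true := relsRange_strict mdata basesM 526 31034 (by decide +kernel)
theorem rel60 : relsRange mdata basesM 526 31560 = true := relsRange_strict mdata basesM 526 31560 (by decide +kernel)
theorem rel61 : relsRange mdata basesM 526 32086 = true := relsRange_strict mdata basesM 526 32086 (by decide +kernel)
theorem rel62 : relsRange mdata basesM 526 32612 = true := relsRange_strict mdata basesM 526 32612 (by decide +kernel)
theorem rel63 : relsRange mdata basesM 526 33138 = true := relsRange_strict mdata basesM 526 33138 (by decide +kernel)

end Cfsg.Agent.Lib.Helper19.Fi22MM3
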