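import Cfsg.Agent.Lib.Helper19.Fi22MM3Model

set_option autoImplicit false
set_option maxRecDepth 100000
set_option linter.unusedVariables false
set_option Elab.async false

namespace Cfsg.Agent.Lib.Helper19.Fi22MM3

open Cfsg.Agent.Helper4.TC Cfsg.Agent.Lib.Helper19.CentModel

theorem inv40 : invRange mdata 2962 118480 = true := invRange_strict mdata 2962 118480 (by decide +kernel)
theorem inv41 : invRange mdata 2962 121442 = true := invRange_strict mdata 2962 121442 (by decide +kernel)
theorem inv42 : invRange mdata 2962 124404 = true := invRange_strict mdata 2962 124404 (by decide +kernel)
theorem inv43 : invRange mdata 2962 127366 = true := invRange_strict mdata 2962 127366 (by decide +kernel)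
theorem inv44 : invRange mdata 2962 130328 = true := invRange_strict mdata 2962 130328 (by decide +kernel)
theorem inv45 : invRange mdata 2962 133290 = true := invRange_strict mdata 2962 133290 (by decide +kernel)
theorem inv46 : invRange mdata 2962 136252 = true := invRange_strict mdata 2962 136252 (by decide +kernel)
theorem inv47 : invRange mdata 2962 139214 = true := invRange_strict mdata 2962 139214 (by decide +kernel)

end Cfsg.Agent.Lib.Helper19.Fi22MM3
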