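import Cfsg.Agent.Lib.Helper19.Fi22MM3Model

set_option autoImplicit false
set_option maxRecDepth 100000
set_option linter.unusedVariables false
set_option Elab.async false

namespace Cfsg.Agent.Lib.Helper19.Fi22MM3

open Cfsg.Agent.Helper4.TC Cfsg.Agent.Lib.Helper19.CentModel

theorem inv48 : invRange mdata 2962 142176 = true := invRange_strict mdata 2962 142176 (by decide +kernel)
theorem inv49 : invRange mdata 2962 145138 = true := invRange_strict mdata 2962 145138 (by decide +kernel)
theorem inv50 : invRange mdata 2962 148100 = true := invRange_strict mdata 2962 148100 (by decide +kernel)
theorem inv51 : invRange mdata 2962 151062 = true := invRange_strict mdata 2962 151062 (by decide +kernel)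
theorem inv52 : invRange mdata 2962 154024 = true := invRange_strict mdata 2962 154024 (by decide +kernel)
theorem inv53 : invRange mdata 2962 156986 = true := invRange_strict mdata 2962 156986 (by decide +kernel)
theorem inv54 : invRange mdata 2962 159948 = true := invRange_strict mdata 2962 159948 (by decide +kernel)
theorem inv55 : invRange mdata 2962 162910 = true := invRange_strict mdata 2962 162910 (by decide +kernel)

end Cfsg.Agent.Lib.Helper19.Fi22MM3
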