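import Cfsg.Agent.Lib.Helper19.Fi22MM3Model

set_option autoImplicit false
set_option maxRecDepth 100000
set_option linter.unusedVariables false
set_option Elab.async false

namespace Cfsg.Agent.Lib.Helper19.Fi22MM3

open Cfsg.Agent.Helper4.TC Cfsg.Agent.Lib.Helper19.CentModel

theorem inv56 : invRange mdata 2962 165872 = true := invRange_strict mdata 2962 165872 (by decide +kernel)
theorem inv57 : invRange mdata 2962 168834 = true := invRange_strict mdata 2962 168834 (by decide +kernel)
theorem inv58 : invRange mdata 2962 171796 = true := invRange_strict mdata 2962 171796 (by decide +kernel)
theorem inv59 : invRange mdata 2962 174758 = true := invRange_strict mdata 2962 174758 (by decide +kernel)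
theorem inv60 : invRange mdata 2962 177720 = true := invRange_strict mdata 2962 177720 (by decide +kernel)
theorem inv61 : invRange mdata 2962 180682 = true := invRange_strict mdata 2962 180682 (by decide +kernel)
theorem inv62 : invRange mdata 1684 183644 = true := invRange_strict mdata 1684 183644 (by decide +kernel)
theorem tree0 : treeRange mdata 26666 1 = true := treeRange_strict mdata 26666 1 (by decide +kernel)

end Cfsg.Agent.Lib.Helper19.Fi22MM3
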