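import Cfsg.Agent.Lib.Helper19.Fi22MM3Model

set_option autoImplicit false
set_option maxRecDepth 100000
set_option linter.unusedVariables false
set_option Elab.async false

namespace Cfsg.Agent.Lib.Helper19.Fi22MM3

open Cfsg.Agent.Helper4.TC Cfsg.Agent.Lib.Helper19.CentModel

theorem tree1 : treeRange mdata 26666 26667 = true := treeRange_strict mdata 26666 26667 (by decide +kernel)
theorem tree2 : treeRange mdata 26666 53333 = true := treeRange_strict mdata 26666 53333 (by decide +kernel)
theorem tree3 : treeRange mdata 26666 79999 = true := treeRange_strict mdata 26666 79999 (by decide +kernel)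
theorem tree4 : treeRange mdata 26666 106665 = true := treeRange_strict mdata 26666 106665 (by decide +kernel)
theorem tree5 : treeRange mdata 26666 133331 = true := treeRange_strict mdata 26666 133331 (by decide +kernel)
theorem tree6 : treeRange mdata 25331 159997 = true := treeRange_strict mdata 25331 159997 (by decide +kernel)
theorem relc_ok : wordsLettersOK 18 basesM = true := by decide +kernel
theorem rhoc_ok : lettersOK 18 rhoW = true := by decide +kernel

end Cfsg.Agent.Lib.Helper19.Fi22MM3
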