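import Cfsg.Agent.Lib.Helper19.Fi22MM3Model

set_option autoImplicit false
set_option maxRecDepth 100000
set_option linter.unusedVariables false
set_option Elab.async false

namespace Cfsg.Agent.Lib.Helper19.Fi22MM3

open Cfsg.Agent.Helper4.TC Cfsg.Agent.Lib.Helper19.CentModel

theorem rel64 : relsRange mdata basesM 526 33664 = true := relsRange_strict mdata basesM 526 33664 (by decide +kernel)
theorem rel65 : relsRange mdata basesM 526 34190 = true := relsRange_strict mdata basesM 526 34190 (by decide +kernel)
theorem rel66 : relsRange mdata basesM 526 34716 = true := relsRange_strict mdata basesM 526 34716 (by decide +kernel)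
theorem rel67 : relsRange mdata basesM 526 35242 = true := relsRange_strict mdata basesM 526 35242 (by decide +kernel)
theorem rel68 : relsRange mdata basesM 526 35768 = true := relsRange_strict mdata basesM 526 35768 (by decide +kernel)
theorem rel69 : relsRange mdata basesM 526 36294 = true := relsRange_strict mdata basesM 526 36294 (by decide +kernel)
theorem rel70 : relsRange mdata basesM 526 36820 = true := relsRange_strict mdata basesM 526 36820 (by decide +kernel)
theorem rel71 : relsRange mdata basesM 526 37346 = true := relsRange_strict mdata basesM 526 37346 (by decide +kernel)

end Cfsg.Agent.Lib.Helper19.Fi22MM3
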