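import Cfsg.Agent.Lib.Helper19.Fi22MM3Model

set_option autoImplicit false
set_option maxRecDepth 100000
set_option linter.unusedVariables false
set_option Elab.async false

namespace Cfsg.Agent.Lib.Helper19.Fi22MM3

open Cfsg.Agent.Helper4.TC Cfsg.Agent.Lib.Helper19.CentModel

theorem rel72 : relsRange mdata basesM 526 37872 = true := relsRange_strict mdata basesM 526 37872 (by decide +kernel)
theorem rel73 : relsRange mdata basesM 526 38398 = true := relsRange_strict mdata basesM 526 38398 (by decide +kernel)
theorem rel74 : relsRange mdata basesM 526 38924 = true := relsRange_strict mdata basesM 526 38924 (by decide +kernel)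
theorem rel75 : relsRange mdata basesM 526 39450 = true := relsRange_strict mdata basesM 526 39450 (by decide +kernel)
theorem rel76 : relsRange mdata basesM 526 39976 = true := relsRange_strict mdata basesM 526 39976 (by decide +kernel)
theorem rel77 : relsRange mdata basesM 526 40502 = true := relsRange_strict mdata basesM 526 40502 (by decide +kernel)
theorem rel78 : relsRange mdata basesM 526 41028 = true := relsRange_strict mdata basesM 526 41028 (by decide +kernel)
theorem rel79 : relsRange mdata basesM 526 41554 = true := relsRange_strict mdata basesM 526 41554 (by decide +kernel)

end Cfsg.Agent.Lib.Helper19.Fi22MM3
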