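import Cfsg.Agent.Lib.Helper19.Fi22MM3C0
import Cfsg.Agent.Lib.Helper19.Fi22MM3C1
import Cfsg.Agent.Lib.Helper19.Fi22MM3C2
import Cfsg.Agent.Lib.Helper19.Fi22MM3C3
import Cfsg.Agent.Lib.Helper19.Fi22MM3C4
import Cfsg.Agent.Lib.Helper19.Fi22MM3C5
import Cfsg.Agent.Lib.Helper19.Fi22MM3C6
import Cfsg.Agent.Lib.Helper19.Fi22MM3C7
import Cfsg.Agent.Lib.Helper19.Fi22MM3C8
import Cfsg.Agent.Lib.Helper19.Fi22MM3C9
import Cfsg.Agent.Lib.Helper19.Fi22MM3C10
import Cfsg.Agent.Lib.Helper19.Fi22MM3C11
import Cfsg.Agent.Lib.Helper19.Fi22MM3C12
import Cfsg.Agent.Lib.Helper19.Fi22MM3C13
import Cfsg.Agent.Lib.Helper19.Fi22MM3C14
import Cfsg.Agent.Lib.Helper19.Fi22MM3C15
import Cfsg.Agent.Lib.Helper19.Fi22MM3C16
import Cfsg.Agent.Lib.Helper19.Fi22MM3C17
import Cfsg.Agent.Lib.Helper19.Fi22MM3C18
import Cfsg.Agent.Lib.Helper19.Fi22MM3C19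
import Cfsg.Agent.Lib.Helper19.Fi22MM3C20
import Cfsg.Agent.Lib.Helper19.Fi22MM3C21
import Cfsg.Agent.Lib.Helper19.Fi22MM3C22
import Cfsg.Agent.Lib.Helper19.Fi22MM3C23
import Cfsg.Agent.Lib.Helper19.Fi22MM3C24
import Cfsg.Agent.Lib.Helper19.Fi22MM3C25
import Cfsg.Agent.Lib.Helper19.Fi22MM3C26
import Cfsg.Agent.Lib.Helper19.Fi22MM3C27
import Cfsg.Agent.Lib.Helper19.Fi22MM3C28
import Cfsg.Agent.Lib.Helper19.Fi22MM3C29
import Cfsg.Agent.Lib.Helper19.Fi22MM3C30
import Cfsg.Agent.Lib.Helper19.Fi22MM3C31
import Cfsg.Agent.Lib.Helper19.Fi22MM3C32
import Cfsg.Agent.Lib.Helper19.Fi22MM3C33
import Cfsg.Agent.Lib.Helper19.Fi22MM3C34
import Cfsg.Agent.Lib.Helper19.Fi22MM3C35
import Cfsg.Agent.Lib.Helper19.Fi22MM3C36
import Cfsg.Agent.Lib.Helper19.Fi22MM3C37
import Cfsg.Agent.Lib.Helper19.Fi22MM3C38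
import Cfsg.Agent.Lib.Helper19.Fi22MM3C39
import Cfsg.Agent.Lib.Helper19.Fi22MM3C40
import Cfsg.Agent.Lib.Helper19.Fi22MM3C41
import Cfsg.Agent.Lib.Helper19.Fi22MM3C42
import Cfsg.Agent.Lib.Helper19.Fi22MM3C43
import Cfsg.Agent.Lib.Helper19.Fi22MM3C44
import Cfsg.Agent.Lib.Helper19.Fi22MM3C45
import Cfsg.Agent.Lib.Helper19.Fi22MM3C46
import Cfsg.Agent.Lib.Helper19.Fi22MM3C47
import Cfsg.Agent.Lib.Helper19.Fi22MM3C48
import Cfsg.Agent.Lib.Helper19.Fi22MM3C49
import Cfsg.Agent.Lib.Helper19.Fi22MM3C50
import Cfsg.Agent.Lib.Helper19.Fi22MM3C51
import Cfsg.Agent.Lib.Helper19.Fi22MM3C52
import Cfsg.Agent.Lib.Helper19.Fi22MM3C53
import Cfsg.Agent.Lib.Helper19.Fi22MM3C54
import Cfsg.Agent.Lib.Helper19.Fi22MM3C55
import Cfsg.Agent.Lib.Helper19.Fi22MM3C56
import Cfsg.Agent.Lib.Helper19.Fi22MM3C57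
import Cfsg.Agent.Lib.Helper19.Fi22MM3C58
import Cfsg.Agent.Lib.Helper19.Fi22MM3C59
import Cfsg.Agent.Lib.Helper19.Fi22MM3C60
import Cfsg.Agent.Lib.Helper19.Fi22MM3C61
import Cfsg.Agent.Lib.Helper19.Fi22MM3C62
import Cfsg.Agent.Lib.Helper19.Fi22MM3C63
import Cfsg.Agent.Lib.Helper19.Fi22MM3C64
import Cfsg.Agent.Lib.Helper19.Fi22MM3C65
import Cfsg.Agent.Lib.Helper19.Fi22MM3C66
import Cfsg.Agent.Lib.Helper19.Fi22MM3C67
import Cfsg.Agent.Lib.Helper19.Fi22MM3C68
import Cfsg.Agent.Lib.Helper19.Fi22MM3C69
import Cfsg.Agent.Lib.Helper19.Fi22MM3C70
import Cfsg.Agent.Lib.Helper19.Fi22MM3C71
import Cfsg.Agent.Lib.Helper19.Fi22MM3C72
import Cfsg.Agent.Lib.Helper19.Fi22MM3C73

set_option autoImplicit false
set_option maxRecDepth 100000
set_option linter.unusedVariables false

namespace Cfsg.Agent.Lib.Helper19.Fi22MM3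

open Cfsg.Agent.Helper4.TC Cfsg.Agent.Lib.Helper19.CentModel

theorem model_ok : ModelOK mdata basesM [] := by
  refine ⟨by decide, ?_, ?_, wordsLettersOK_sound _ _ relc_ok, ?_, ?_, ?_⟩
  · intro k hk
    have hk' : k < 185328 := hk
    by_cases hh1 : k < 91822
    · skip
      by_cases hh2 : k < 44430
      · skip
        by_cases hh3 : k < 20734
        · skip
          by_cases hh4 : k < 8886
          · skip
            by_cases hh5 : k < 2962
            · skip
              exact invRange_sound mdata 2962 0 inv0 k (by omega) (by omega)
            · skip
              by_cases hh6 : k < 5924
              · skip
                exact invRange_sound mdata 2962 2962 inv1 k (by omega) (by omega)
              · skip
                exact invRange_sound mdata 2962 5924 inv2 k (by omega) (by omega)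
          · skip
            by_cases hh7 : k < 14810
            · skip
              by_cases hh8 : k < 11848
              · skip
                exact invRange_sound mdata 2962 8886 inv3 k (by omega) (by omega)
              · skip
                exact invRange_sound mdata 2962 11848 inv4 k (by omega) (by omega)
            · skip
              by_cases hh9 : k < 17772
              · skip
                exact invRange_sound mdata 2962 14810 inv5 k (by omega) (by omega)
              · skip
                exact invRange_sound mdata 2962 17772 inv6 k (by omega) (by omega)
        · skip
          by_cases hh10 : k < 32582
          · skip
            by_cases hh11 : k < 26658
            · skip
              by_cases hh12 : k < 23696
              · skip
                exact invRange_sound mdata 2962 20734 inv7 k (by omega) (by omega)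
              · skip
                exact invRange_sound mdata 2962 23696 inv8 k (by omega) (by omega)
            · skip
              by_cases hh13 : k < 29620
              · skip
                exact invRange_sound mdata 2962 26658 inv9 k (by omega) (by omega)
              · skip
                exact invRange_sound mdata 2962 29620 inv10 k (by omega) (by omega)
          · skip
            by_cases hh14 : k < 38506
            · skip
              by_cases hh15 : k < 35544
              · skip
                exact invRange_sound mdata 2962 32582 inv11 k (by omega) (by omega)
              · skip
                exact invRange_sound mdata 2962 35544 inv12 k (by omega) (by omega)
            · skip
              by_cases hh16 : k < 41468
              · skip
                exact invRange_sound mdata 2962 38506 inv13 k (by omega) (by omega)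
              · skip
                exact invRange_sound mdata 2962 41468 inv14 k (by omega) (by omega)
      · skip
        by_cases hh17 : k < 68126
        · skip
          by_cases hh18 : k < 56278
          · skip
            by_cases hh19 : k < 50354
            · skip
              by_cases hh20 : k < 47392
              · skip
                exact invRange_sound mdata 2962 44430 inv15 k (by omega) (by omega)
              · skip
                exact invRange_sound mdata 2962 47392 inv16 k (by omega) (by omega)
            · skip
              by_cases hh21 : k < 53316
              · skip
                exact invRange_sound mdata 2962 50354 inv17 k (by omega) (by omega)
              · skip
                exact invRange_sound mdata 2962 53316 inv18 k (by omega) (by omega)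
          · skip
            by_cases hh22 : k < 62202
            · skip
              by_cases hh23 : k < 59240
              · skip
                exact invRange_sound mdata 2962 56278 inv19 k (by omega) (by omega)
              · skip
                exact invRange_sound mdata 2962 59240 inv20 k (by omega) (by omega)
            · skip
              by_cases hh24 : k < 65164
              · skip
                exact invRange_sound mdata 2962 62202 inv21 k (by omega) (by omega)
              · skip
                exact invRange_sound mdata 2962 65164 inv22 k (by omega) (by omega)
        · skip
          by_cases hh25 : k < 79974
          · skip
            by_cases hh26 : k < 74050
            · skip
              by_cases hh27 : k < 71088
              · skip
                exact invRange_sound mdata 2962 68126 inv23 k (by omega) (by omega)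
              · skip
                exact invRange_sound mdata 2962 71088 inv24 k (by omega) (by omega)
            · skip
              by_cases hh28 : k < 77012
              · skip
                exact invRange_sound mdata 2962 74050 inv25 k (by omega) (by omega)
              · skip
                exact invRange_sound mdata 2962 77012 inv26 k (by omega) (by omega)
          · skip
            by_cases hh29 : k < 85898
            · skip
              by_cases hh30 : k < 82936
              · skip
                exact invRange_sound mdata 2962 79974 inv27 k (by omega) (by omega)
              · skip
                exact invRange_sound mdata 2962 82936 inv28 k (by omega) (by omega)
            · skip
              by_cases hh31 : k < 88860
              · skip
                exact invRange_sound mdata 2962 85898 inv29 k (by omega) (by omega)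
              · skip
                exact invRange_sound mdata 2962 88860 inv30 k (by omega) (by omega)
    · skip
      by_cases hh32 : k < 139214
      · skip
        by_cases hh33 : k < 115518
        · skip
          by_cases hh34 : k < 103670
          · skip
            by_cases hh35 : k < 97746
            · skip
              by_cases hh36 : k < 94784
              · skip
                exact invRange_sound mdata 2962 91822 inv31 k (by omega) (by omega)
              · skip
                exact invRange_sound mdata 2962 94784 inv32 k (by omega) (by omega)
            · skip
              by_cases hh37 : k < 100708
              · skip
                exact invRange_sound mdata 2962 97746 inv33 k (by omega) (by omega)
              · skip
                exact invRange_sound mdata 2962 100708 inv34 k (by omega) (by omega)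
          · skip
            by_cases hh38 : k < 109594
            · skip
              by_cases hh39 : k < 106632
              · skip
                exact invRange_sound mdata 2962 103670 inv35 k (by omega) (by omega)
              · skip
                exact invRange_sound mdata 2962 106632 inv36 k (by omega) (by omega)
            · skip
              by_cases hh40 : k < 112556
              · skip
                exact invRange_sound mdata 2962 109594 inv37 k (by omega) (by omega)
              · skip
                exact invRange_sound mdata 2962 112556 inv38 k (by omega) (by omega)
        · skip
          by_cases hh41 : k < 127366
          · skip
            by_cases hh42 : k < 121442
            · skip
              by_cases hh43 : k < 118480
              · skip
                exact invRange_sound mdata 2962 115518 inv39 k (by omega) (by omega)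
              · skip
                exact invRange_sound mdata 2962 118480 inv40 k (by omega) (by omega)
            · skip
              by_cases hh44 : k < 124404
              · skip
                exact invRange_sound mdata 2962 121442 inv41 k (by omega) (by omega)
              · skip
                exact invRange_sound mdata 2962 124404 inv42 k (by omega) (by omega)
          · skip
            by_cases hh45 : k < 133290
            · skip
              by_cases hh46 : k < 130328
              · skip
                exact invRange_sound mdata 2962 127366 inv43 k (by omega) (by omega)
              · skip
                exact invRange_sound mdata 2962 130328 inv44 k (by omega) (by omega)
            · skip
              by_cases hh47 : k < 136252
              · skip
                exact invRange_sound mdata 2962 133290 inv45 k (by omega) (by omega)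
              · skip
                exact invRange_sound mdata 2962 136252 inv46 k (by omega) (by omega)
      · skip
        by_cases hh48 : k < 162910
        · skip
          by_cases hh49 : k < 151062
          · skip
            by_cases hh50 : k < 145138
            · skip
              by_cases hh51 : k < 142176
              · skip
                exact invRange_sound mdata 2962 139214 inv47 k (by omega) (by omega)
              · skip
                exact invRange_sound mdata 2962 142176 inv48 k (by omega) (by omega)
            · skip
              by_cases hh52 : k < 148100
              · skip
                exact invRange_sound mdata 2962 145138 inv49 k (by omega) (by omega)
              · skip
                exact invRange_sound mdata 2962 148100 inv50 k (by omega) (by omega)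
          · skip
            by_cases hh53 : k < 156986
            · skip
              by_cases hh54 : k < 154024
              · skip
                exact invRange_sound mdata 2962 151062 inv51 k (by omega) (by omega)
              · skip
                exact invRange_sound mdata 2962 154024 inv52 k (by omega) (by omega)
            · skip
              by_cases hh55 : k < 159948
              · skip
                exact invRange_sound mdata 2962 156986 inv53 k (by omega) (by omega)
              · skip
                exact invRange_sound mdata 2962 159948 inv54 k (by omega) (by omega)
        · skip
          by_cases hh56 : k < 174758
          · skip
            by_cases hh57 : k < 168834
            · skip
              by_cases hh58 : k < 165872
              · skip
                exact invRange_sound mdata 2962 162910 inv55 k (by omega) (by omega)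
              · skip
                exact invRange_sound mdata 2962 165872 inv56 k (by omega) (by omega)
            · skip
              by_cases hh59 : k < 171796
              · skip
                exact invRange_sound mdata 2962 168834 inv57 k (by omega) (by omega)
              · skip
                exact invRange_sound mdata 2962 171796 inv58 k (by omega) (by omega)
          · skip
            by_cases hh60 : k < 180682
            · skip
              by_cases hh61 : k < 177720
              · skip
                exact invRange_sound mdata 2962 174758 inv59 k (by omega) (by omega)
              · skip
                exact invRange_sound mdata 2962 177720 inv60 k (by omega) (by omega)
            · skip
              by_cases hh62 : k < 183644
              · skip
                exact invRange_sound mdata 2962 180682 inv61 k (by omega) (by omega)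
              · skip
                exact invRange_sound mdata 1684 183644 inv62 k (by omega) (by omega)
  · intro k hk
    have hk' : k < 185328 := hk
    by_cases hh1 : k < 92576
    · skip
      by_cases hh2 : k < 46288
      · skip
        by_cases hh3 : k < 23144
        · skip
          by_cases hh4 : k < 11572
          · skip
            by_cases hh5 : k < 5786
            · skip
              by_cases hh6 : k < 2630
              · skip
                by_cases hh7 : k < 1052
                · skip
                  by_cases hh8 : k < 526
                  · skip
                    exact relsRange_sound mdata basesM 526 0 rel0 k (by omega) (by omega)
                  · skip
                    exact relsRange_sound mdata basesM 526 526 rel1 k (by omega) (by omega)
                · skip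
                  by_cases hh9 : k < 1578
                  · skip
                    exact relsRange_sound mdata basesM 526 1052 rel2 k (by omega) (by omega)
                  · skip
                    by_cases hh10 : k < 2104
                    · skip
                      exact relsRange_sound mdata basesM 526 1578 rel3 k (by omega) (by omega)
                    · skip
                      exact relsRange_sound mdata basesM 526 2104 rel4 k (by omega) (by omega)
              · skip
                by_cases hh11 : k < 4208
                · skip
                  by_cases hh12 : k < 3156
                  · skip
                    exact relsRange_sound mdata basesM 526 2630 rel5 k (by omega) (by omega)
                  · skip
                    by_cases hh13 : k < 3682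
                    · skip
                      exact relsRange_sound mdata basesM 526 3156 rel6 k (by omega) (by omega)
                    · skip
                      exact relsRange_sound mdata basesM 526 3682 rel7 k (by omega) (by omega)
                · skip
                  by_cases hh14 : k < 4734
                  · skip
                    exact relsRange_sound mdata basesM 526 4208 rel8 k (by omega) (by omega)
                  · skip
                    by_cases hh15 : k < 5260
                    · skip
                      exact relsRange_sound mdata basesM 526 4734 rel9 k (by omega) (by omega)
                    · skip
                      exact relsRange_sound mdata basesM 526 5260 rel10 k (by omega) (by omega)
            · skip
              by_cases hh16 : k < 8416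
              · skip
                by_cases hh17 : k < 6838
                · skip
                  by_cases hh18 : k < 6312
                  · skip
                    exact relsRange_sound mdata basesM 526 5786 rel11 k (by omega) (by omega)
                  · skip
                    exact relsRange_sound mdata basesM 526 6312 rel12 k (by omega) (by omega)
                · skip
                  by_cases hh19 : k < 7364
                  · skip
                    exact relsRange_sound mdata basesM 526 6838 rel13 k (by omega) (by omega)
                  · skip
                    by_cases hh20 : k < 7890
                    · skip
                      exact relsRange_sound mdata basesM 526 7364 rel14 k (by omega) (by omega)
                    · skip
                      exact relsRange_sound mdata basesM 526 7890 rel15 k (by omega) (by omega)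
              · skip
                by_cases hh21 : k < 9994
                · skip
                  by_cases hh22 : k < 8942
                  · skip
                    exact relsRange_sound mdata basesM 526 8416 rel16 k (by omega) (by omega)
                  · skip
                    by_cases hh23 : k < 9468
                    · skip
                      exact relsRange_sound mdata basesM 526 8942 rel17 k (by omega) (by omega)
                    · skip
                      exact relsRange_sound mdata basesM 526 9468 rel18 k (by omega) (by omega)
                · skip
                  by_cases hh24 : k < 10520
                  · skip
                    exact relsRange_sound mdata basesM 526 9994 rel19 k (by omega) (by omega)
                  · skip
                    by_cases hh25 : k < 11046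
                    · skip
                      exact relsRange_sound mdata basesM 526 10520 rel20 k (by omega) (by omega)
                    · skip
                      exact relsRange_sound mdata basesM 526 11046 rel21 k (by omega) (by omega)
          · skip
            by_cases hh26 : k < 17358
            · skip
              by_cases hh27 : k < 14202
              · skip
                by_cases hh28 : k < 12624
                · skip
                  by_cases hh29 : k < 12098
                  · skip
                    exact relsRange_sound mdata basesM 526 11572 rel22 k (by omega) (by omega)
                  · skip
                    exact relsRange_sound mdata basesM 526 12098 rel23 k (by omega) (by omega)
                · skip
                  by_cases hh30 : k < 13150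
                  · skip
                    exact relsRange_sound mdata basesM 526 12624 rel24 k (by omega) (by omega)
                  · skip
                    by_cases hh31 : k < 13676
                    · skip
                      exact relsRange_sound mdata basesM 526 13150 rel25 k (by omega) (by omega)
                    · skip
                      exact relsRange_sound mdata basesM 526 13676 rel26 k (by omega) (by omega)
              · skip
                by_cases hh32 : k < 15780
                · skip
                  by_cases hh33 : k < 14728
                  · skip
                    exact relsRange_sound mdata basesM 526 14202 rel27 k (by omega) (by omega)
                  · skip
                    by_cases hh34 : k < 15254
                    · skip
                      exact relsRange_sound mdata basesM 526 14728 rel28 k (by omega) (by omega)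
                    · skip
                      exact relsRange_sound mdata basesM 526 15254 rel29 k (by omega) (by omega)
                · skip
                  by_cases hh35 : k < 16306
                  · skip
                    exact relsRange_sound mdata basesM 526 15780 rel30 k (by omega) (by omega)
                  · skip
                    by_cases hh36 : k < 16832
                    · skip
                      exact relsRange_sound mdata basesM 526 16306 rel31 k (by omega) (by omega)
                    · skip
                      exact relsRange_sound mdata basesM 526 16832 rel32 k (by omega) (by omega)
            · skip
              by_cases hh37 : k < 19988
              · skip
                by_cases hh38 : k < 18410
                · skip
                  by_cases hh39 : k < 17884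
                  · skip
                    exact relsRange_sound mdata basesM 526 17358 rel33 k (by omega) (by omega)
                  · skip
                    exact relsRange_sound mdata basesM 526 17884 rel34 k (by omega) (by omega)
                · skip
                  by_cases hh40 : k < 18936
                  · skip
                    exact relsRange_sound mdata basesM 526 18410 rel35 k (by omega) (by omega)
                  · skip
                    by_cases hh41 : k < 19462
                    · skip
                      exact relsRange_sound mdata basesM 526 18936 rel36 k (by omega) (by omega)
                    · skip
                      exact relsRange_sound mdata basesM 526 19462 rel37 k (by omega) (by omega)
              · skip
                by_cases hh42 : k < 21566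
                · skip
                  by_cases hh43 : k < 20514
                  · skip
                    exact relsRange_sound mdata basesM 526 19988 rel38 k (by omega) (by omega)
                  · skip
                    by_cases hh44 : k < 21040
                    · skip
                      exact relsRange_sound mdata basesM 526 20514 rel39 k (by omega) (by omega)
                    · skip
                      exact relsRange_sound mdata basesM 526 21040 rel40 k (by omega) (by omega)
                · skip
                  by_cases hh45 : k < 22092
                  · skip
                    exact relsRange_sound mdata basesM 526 21566 rel41 k (by omega) (by omega)
                  · skip
                    by_cases hh46 : k < 22618
                    · skip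
                      exact relsRange_sound mdata basesM 526 22092 rel42 k (by omega) (by omega)
                    · skip
                      exact relsRange_sound mdata basesM 526 22618 rel43 k (by omega) (by omega)
        · skip
          by_cases hh47 : k < 34716
          · skip
            by_cases hh48 : k < 28930
            · skip
              by_cases hh49 : k < 25774
              · skip
                by_cases hh50 : k < 24196
                · skip
                  by_cases hh51 : k < 23670
                  · skip
                    exact relsRange_sound mdata basesM 526 23144 rel44 k (by omega) (by omega)
                  · skip
                    exact relsRange_sound mdata basesM 526 23670 rel45 k (by omega) (by omega)
                · skip
                  by_cases hh52 : k < 24722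
                  · skip
                    exact relsRange_sound mdata basesM 526 24196 rel46 k (by omega) (by omega)
                  · skip
                    by_cases hh53 : k < 25248
                    · skip
                      exact relsRange_sound mdata basesM 526 24722 rel47 k (by omega) (by omega)
                    · skip
                      exact relsRange_sound mdata basesM 526 25248 rel48 k (by omega) (by omega)
              · skip
                by_cases hh54 : k < 27352
                · skip
                  by_cases hh55 : k < 26300
                  · skip
                    exact relsRange_sound mdata basesM 526 25774 rel49 k (by omega) (by omega)
                  · skip
                    by_cases hh56 : k < 26826
                    · skip
                      exact relsRange_sound mdata basesM 526 26300 rel50 k (by omega) (by omega)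
                    · skip
                      exact relsRange_sound mdata basesM 526 26826 rel51 k (by omega) (by omega)
                · skip
                  by_cases hh57 : k < 27878
                  · skip
                    exact relsRange_sound mdata basesM 526 27352 rel52 k (by omega) (by omega)
                  · skip
                    by_cases hh58 : k < 28404
                    · skip
                      exact relsRange_sound mdata basesM 526 27878 rel53 k (by omega) (by omega)
                    · skip
                      exact relsRange_sound mdata basesM 526 28404 rel54 k (by omega) (by omega)
            · skip
              by_cases hh59 : k < 31560
              · skip
                by_cases hh60 : k < 29982
                · skip
                  by_cases hh61 : k < 29456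
                  · skip
                    exact relsRange_sound mdata basesM 526 28930 rel55 k (by omega) (by omega)
                  · skip
                    exact relsRange_sound mdata basesM 526 29456 rel56 k (by omega) (by omega)
                · skip
                  by_cases hh62 : k < 30508
                  · skip
                    exact relsRange_sound mdata basesM 526 29982 rel57 k (by omega) (by omega)
                  · skip
                    by_cases hh63 : k < 31034
                    · skip
                      exact relsRange_sound mdata basesM 526 30508 rel58 k (by omega) (by omega)
                    · skip
                      exact relsRange_sound mdata basesM 526 31034 rel59 k (by omega) (by omega)
              · skip
                by_cases hh64 : k < 33138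
                · skip
                  by_cases hh65 : k < 32086
                  · skip
                    exact relsRange_sound mdata basesM 526 31560 rel60 k (by omega) (by omega)
                  · skip
                    by_cases hh66 : k < 32612
                    · skip
                      exact relsRange_sound mdata basesM 526 32086 rel61 k (by omega) (by omega)
                    · skip
                      exact relsRange_sound mdata basesM 526 32612 rel62 k (by omega) (by omega)
                · skip
                  by_cases hh67 : k < 33664
                  · skip
                    exact relsRange_sound mdata basesM 526 33138 rel63 k (by omega) (by omega)
                  · skip
                    by_cases hh68 : k < 34190
                    · skip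
                      exact relsRange_sound mdata basesM 526 33664 rel64 k (by omega) (by omega)
                    · skip
                      exact relsRange_sound mdata basesM 526 34190 rel65 k (by omega) (by omega)
          · skip
            by_cases hh69 : k < 40502
            · skip
              by_cases hh70 : k < 37346
              · skip
                by_cases hh71 : k < 35768
                · skip
                  by_cases hh72 : k < 35242
                  · skip
                    exact relsRange_sound mdata basesM 526 34716 rel66 k (by omega) (by omega)
                  · skip
                    exact relsRange_sound mdata basesM 526 35242 rel67 k (by omega) (by omega)
                · skip
                  by_cases hh73 : k < 36294
                  · skip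
                    exact relsRange_sound mdata basesM 526 35768 rel68 k (by omega) (by omega)
                  · skip
                    by_cases hh74 : k < 36820
                    · skip
                      exact relsRange_sound mdata basesM 526 36294 rel69 k (by omega) (by omega)
                    · skip
                      exact relsRange_sound mdata basesM 526 36820 rel70 k (by omega) (by omega)
              · skip
                by_cases hh75 : k < 38924
                · skip
                  by_cases hh76 : k < 37872
                  · skip
                    exact relsRange_sound mdata basesM 526 37346 rel71 k (by omega) (by omega)
                  · skip
                    by_cases hh77 : k < 38398
                    · skip
                      exact relsRange_sound mdata basesM 526 37872 rel72 k (by omega) (by omega)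
                    · skip
                      exact relsRange_sound mdata basesM 526 38398 rel73 k (by omega) (by omega)
                · skip
                  by_cases hh78 : k < 39450
                  · skip
                    exact relsRange_sound mdata basesM 526 38924 rel74 k (by omega) (by omega)
                  · skip
                    by_cases hh79 : k < 39976
                    · skip
                      exact relsRange_sound mdata basesM 526 39450 rel75 k (by omega) (by omega)
                    · skip
                      exact relsRange_sound mdata basesM 526 39976 rel76 k (by omega) (by omega)
            · skip
              by_cases hh80 : k < 43132
              · skip
                by_cases hh81 : k < 41554
                · skip
                  by_cases hh82 : k < 41028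
                  · skip
                    exact relsRange_sound mdata basesM 526 40502 rel77 k (by omega) (by omega)
                  · skip
                    exact relsRange_sound mdata basesM 526 41028 rel78 k (by omega) (by omega)
                · skip
                  by_cases hh83 : k < 42080
                  · skip
                    exact relsRange_sound mdata basesM 526 41554 rel79 k (by omega) (by omega)
                  · skip
                    by_cases hh84 : k < 42606
                    · skip
                      exact relsRange_sound mdata basesM 526 42080 rel80 k (by omega) (by omega)
                    · skip
                      exact relsRange_sound mdata basesM 526 42606 rel81 k (by omega) (by omega)
              · skip
                by_cases hh85 : k < 44710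
                · skip
                  by_cases hh86 : k < 43658
                  · skip
                    exact relsRange_sound mdata basesM 526 43132 rel82 k (by omega) (by omega)
                  · skip
                    by_cases hh87 : k < 44184
                    · skip
                      exact relsRange_sound mdata basesM 526 43658 rel83 k (by omega) (by omega)
                    · skip
                      exact relsRange_sound mdata basesM 526 44184 rel84 k (by omega) (by omega)
                · skip
                  by_cases hh88 : k < 45236
                  · skip
                    exact relsRange_sound mdata basesM 526 44710 rel85 k (by omega) (by omega)
                  · skip
                    by_cases hh89 : k < 45762
                    · skip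
                      exact relsRange_sound mdata basesM 526 45236 rel86 k (by omega) (by omega)
                    · skip
                      exact relsRange_sound mdata basesM 526 45762 rel87 k (by omega) (by omega)
      · skip
        by_cases hh90 : k < 69432
        · skip
          by_cases hh91 : k < 57860
          · skip
            by_cases hh92 : k < 52074
            · skip
              by_cases hh93 : k < 48918
              · skip
                by_cases hh94 : k < 47340
                · skip
                  by_cases hh95 : k < 46814
                  · skip
                    exact relsRange_sound mdata basesM 526 46288 rel88 k (by omega) (by omega)
                  · skip
                    exact relsRange_sound mdata basesM 526 46814 rel89 k (by omega) (by omega)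
                · skip
                  by_cases hh96 : k < 47866
                  · skip
                    exact relsRange_sound mdata basesM 526 47340 rel90 k (by omega) (by omega)
                  · skip
                    by_cases hh97 : k < 48392
                    · skip
                      exact relsRange_sound mdata basesM 526 47866 rel91 k (by omega) (by omega)
                    · skip
                      exact relsRange_sound mdata basesM 526 48392 rel92 k (by omega) (by omega)
              · skip
                by_cases hh98 : k < 50496
                · skip
                  by_cases hh99 : k < 49444
                  · skip
                    exact relsRange_sound mdata basesM 526 48918 rel93 k (by omega) (by omega)
                  · skip
                    by_cases hh100 : k < 49970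
                    · skip
                      exact relsRange_sound mdata basesM 526 49444 rel94 k (by omega) (by omega)
                    · skip
                      exact relsRange_sound mdata basesM 526 49970 rel95 k (by omega) (by omega)
                · skip
                  by_cases hh101 : k < 51022
                  · skip
                    exact relsRange_sound mdata basesM 526 50496 rel96 k (by omega) (by omega)
                  · skip
                    by_cases hh102 : k < 51548
                    · skip
                      exact relsRange_sound mdata basesM 526 51022 rel97 k (by omega) (by omega)
                    · skip
                      exact relsRange_sound mdata basesM 526 51548 rel98 k (by omega) (by omega)
            · skip
              by_cases hh103 : k < 54704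
              · skip
                by_cases hh104 : k < 53126
                · skip
                  by_cases hh105 : k < 52600
                  · skip
                    exact relsRange_sound mdata basesM 526 52074 rel99 k (by omega) (by omega)
                  · skip
                    exact relsRange_sound mdata basesM 526 52600 rel100 k (by omega) (by omega)
                · skip
                  by_cases hh106 : k < 53652
                  · skip
                    exact relsRange_sound mdata basesM 526 53126 rel101 k (by omega) (by omega)
                  · skip
                    by_cases hh107 : k < 54178
                    · skip
                      exact relsRange_sound mdata basesM 526 53652 rel102 k (by omega) (by omega)
                    · skip
                      exact relsRange_sound mdata basesM 526 54178 rel103 k (by omega) (by omega)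
              · skip
                by_cases hh108 : k < 56282
                · skip
                  by_cases hh109 : k < 55230
                  · skip
                    exact relsRange_sound mdata basesM 526 54704 rel104 k (by omega) (by omega)
                  · skip
                    by_cases hh110 : k < 55756
                    · skip
                      exact relsRange_sound mdata basesM 526 55230 rel105 k (by omega) (by omega)
                    · skip
                      exact relsRange_sound mdata basesM 526 55756 rel106 k (by omega) (by omega)
                · skip
                  by_cases hh111 : k < 56808
                  · skip
                    exact relsRange_sound mdata basesM 526 56282 rel107 k (by omega) (by omega)
                  · skip
                    by_cases hh112 : k < 57334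
                    · skip
                      exact relsRange_sound mdata basesM 526 56808 rel108 k (by omega) (by omega)
                    · skip
                      exact relsRange_sound mdata basesM 526 57334 rel109 k (by omega) (by omega)
          · skip
            by_cases hh113 : k < 63646
            · skip
              by_cases hh114 : k < 60490
              · skip
                by_cases hh115 : k < 58912
                · skip
                  by_cases hh116 : k < 58386
                  · skip
                    exact relsRange_sound mdata basesM 526 57860 rel110 k (by omega) (by omega)
                  · skip
                    exact relsRange_sound mdata basesM 526 58386 rel111 k (by omega) (by omega)
                · skip
                  by_cases hh117 : k < 59438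
                  · skip
                    exact relsRange_sound mdata basesM 526 58912 rel112 k (by omega) (by omega)
                  · skip
                    by_cases hh118 : k < 59964
                    · skip
                      exact relsRange_sound mdata basesM 526 59438 rel113 k (by omega) (by omega)
                    · skip
                      exact relsRange_sound mdata basesM 526 59964 rel114 k (by omega) (by omega)
              · skip
                by_cases hh119 : k < 62068
                · skip
                  by_cases hh120 : k < 61016
                  · skip
                    exact relsRange_sound mdata basesM 526 60490 rel115 k (by omega) (by omega)
                  · skip
                    by_cases hh121 : k < 61542
                    · skip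
                      exact relsRange_sound mdata basesM 526 61016 rel116 k (by omega) (by omega)
                    · skip
                      exact relsRange_sound mdata basesM 526 61542 rel117 k (by omega) (by omega)
                · skip
                  by_cases hh122 : k < 62594
                  · skip
                    exact relsRange_sound mdata basesM 526 62068 rel118 k (by omega) (by omega)
                  · skip
                    by_cases hh123 : k < 63120
                    · skip
                      exact relsRange_sound mdata basesM 526 62594 rel119 k (by omega) (by omega)
                    · skip
                      exact relsRange_sound mdata basesM 526 63120 rel120 k (by omega) (by omega)
            · skip
              by_cases hh124 : k < 66276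
              · skip
                by_cases hh125 : k < 64698
                · skip
                  by_cases hh126 : k < 64172
                  · skip
                    exact relsRange_sound mdata basesM 526 63646 rel121 k (by omega) (by omega)
                  · skip
                    exact relsRange_sound mdata basesM 526 64172 rel122 k (by omega) (by omega)
                · skip
                  by_cases hh127 : k < 65224
                  · skip
                    exact relsRange_sound mdata basesM 526 64698 rel123 k (by omega) (by omega)
                  · skip
                    by_cases hh128 : k < 65750
                    · skip
                      exact relsRange_sound mdata basesM 526 65224 rel124 k (by omega) (by omega)
                    · skip
                      exact relsRange_sound mdata basesM 526 65750 rel125 k (by omega) (by omega)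
              · skip
                by_cases hh129 : k < 67854
                · skip
                  by_cases hh130 : k < 66802
                  · skip
                    exact relsRange_sound mdata basesM 526 66276 rel126 k (by omega) (by omega)
                  · skip
                    by_cases hh131 : k < 67328
                    · skip
                      exact relsRange_sound mdata basesM 526 66802 rel127 k (by omega) (by omega)
                    · skip
                      exact relsRange_sound mdata basesM 526 67328 rel128 k (by omega) (by omega)
                · skip
                  by_cases hh132 : k < 68380
                  · skip
                    exact relsRange_sound mdata basesM 526 67854 rel129 k (by omega) (by omega)
                  · skip
                    by_cases hh133 : k < 68906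
                    · skip
                      exact relsRange_sound mdata basesM 526 68380 rel130 k (by omega) (by omega)
                    · skip
                      exact relsRange_sound mdata basesM 526 68906 rel131 k (by omega) (by omega)
        · skip
          by_cases hh134 : k < 81004
          · skip
            by_cases hh135 : k < 75218
            · skip
              by_cases hh136 : k < 72062
              · skip
                by_cases hh137 : k < 70484
                · skip
                  by_cases hh138 : k < 69958
                  · skip
                    exact relsRange_sound mdata basesM 526 69432 rel132 k (by omega) (by omega)
                  · skip
                    exact relsRange_sound mdata basesM 526 69958 rel133 k (by omega) (by omega)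
                · skip
                  by_cases hh139 : k < 71010
                  · skip
                    exact relsRange_sound mdata basesM 526 70484 rel134 k (by omega) (by omega)
                  · skip
                    by_cases hh140 : k < 71536
                    · skip
                      exact relsRange_sound mdata basesM 526 71010 rel135 k (by omega) (by omega)
                    · skip
                      exact relsRange_sound mdata basesM 526 71536 rel136 k (by omega) (by omega)
              · skip
                by_cases hh141 : k < 73640
                · skip
                  by_cases hh142 : k < 72588
                  · skip
                    exact relsRange_sound mdata basesM 526 72062 rel137 k (by omega) (by omega)
                  · skip
                    by_cases hh143 : k < 73114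
                    · skip
                      exact relsRange_sound mdata basesM 526 72588 rel138 k (by omega) (by omega)
                    · skip
                      exact relsRange_sound mdata basesM 526 73114 rel139 k (by omega) (by omega)
                · skip
                  by_cases hh144 : k < 74166
                  · skip
                    exact relsRange_sound mdata basesM 526 73640 rel140 k (by omega) (by omega)
                  · skip
                    by_cases hh145 : k < 74692
                    · skip
                      exact relsRange_sound mdata basesM 526 74166 rel141 k (by omega) (by omega)
                    · skip
                      exact relsRange_sound mdata basesM 526 74692 rel142 k (by omega) (by omega)
            · skip
              by_cases hh146 : k < 77848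
              · skip
                by_cases hh147 : k < 76270
                · skip
                  by_cases hh148 : k < 75744
                  · skip
                    exact relsRange_sound mdata basesM 526 75218 rel143 k (by omega) (by omega)
                  · skip
                    exact relsRange_sound mdata basesM 526 75744 rel144 k (by omega) (by omega)
                · skip
                  by_cases hh149 : k < 76796
                  · skip
                    exact relsRange_sound mdata basesM 526 76270 rel145 k (by omega) (by omega)
                  · skip
                    by_cases hh150 : k < 77322
                    · skip
                      exact relsRange_sound mdata basesM 526 76796 rel146 k (by omega) (by omega)
                    · skip
                      exact relsRange_sound mdata basesM 526 77322 rel147 k (by omega) (by omega)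
              · skip
                by_cases hh151 : k < 79426
                · skip
                  by_cases hh152 : k < 78374
                  · skip
                    exact relsRange_sound mdata basesM 526 77848 rel148 k (by omega) (by omega)
                  · skip
                    by_cases hh153 : k < 78900
                    · skip
                      exact relsRange_sound mdata basesM 526 78374 rel149 k (by omega) (by omega)
                    · skip
                      exact relsRange_sound mdata basesM 526 78900 rel150 k (by omega) (by omega)
                · skip
                  by_cases hh154 : k < 79952
                  · skip
                    exact relsRange_sound mdata basesM 526 79426 rel151 k (by omega) (by omega)
                  · skip
                    by_cases hh155 : k < 80478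
                    · skip
                      exact relsRange_sound mdata basesM 526 79952 rel152 k (by omega) (by omega)
                    · skip
                      exact relsRange_sound mdata basesM 526 80478 rel153 k (by omega) (by omega)
          · skip
            by_cases hh156 : k < 86790
            · skip
              by_cases hh157 : k < 83634
              · skip
                by_cases hh158 : k < 82056
                · skip
                  by_cases hh159 : k < 81530
                  · skip
                    exact relsRange_sound mdata basesM 526 81004 rel154 k (by omega) (by omega)
                  · skip
                    exact relsRange_sound mdata basesM 526 81530 rel155 k (by omega) (by omega)
                · skip
                  by_cases hh160 : k < 82582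
                  · skip
                    exact relsRange_sound mdata basesM 526 82056 rel156 k (by omega) (by omega)
                  · skip
                    by_cases hh161 : k < 83108
                    · skip
                      exact relsRange_sound mdata basesM 526 82582 rel157 k (by omega) (by omega)
                    · skip
                      exact relsRange_sound mdata basesM 526 83108 rel158 k (by omega) (by omega)
              · skip
                by_cases hh162 : k < 85212
                · skip
                  by_cases hh163 : k < 84160
                  · skip
                    exact relsRange_sound mdata basesM 526 83634 rel159 k (by omega) (by omega)
                  · skip
                    by_cases hh164 : k < 84686
                    · skip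
                      exact relsRange_sound mdata basesM 526 84160 rel160 k (by omega) (by omega)
                    · skip
                      exact relsRange_sound mdata basesM 526 84686 rel161 k (by omega) (by omega)
                · skip
                  by_cases hh165 : k < 85738
                  · skip
                    exact relsRange_sound mdata basesM 526 85212 rel162 k (by omega) (by omega)
                  · skip
                    by_cases hh166 : k < 86264
                    · skip
                      exact relsRange_sound mdata basesM 526 85738 rel163 k (by omega) (by omega)
                    · skip
                      exact relsRange_sound mdata basesM 526 86264 rel164 k (by omega) (by omega)
            · skip
              by_cases hh167 : k < 89420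
              · skip
                by_cases hh168 : k < 87842
                · skip
                  by_cases hh169 : k < 87316
                  · skip
                    exact relsRange_sound mdata basesM 526 86790 rel165 k (by omega) (by omega)
                  · skip
                    exact relsRange_sound mdata basesM 526 87316 rel166 k (by omega) (by omega)
                · skip
                  by_cases hh170 : k < 88368
                  · skip
                    exact relsRange_sound mdata basesM 526 87842 rel167 k (by omega) (by omega)
                  · skip
                    by_cases hh171 : k < 88894
                    · skip
                      exact relsRange_sound mdata basesM 526 88368 rel168 k (by omega) (by omega)
                    · skip
                      exact relsRange_sound mdata basesM 526 88894 rel169 k (by omega) (by omega)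
              · skip
                by_cases hh172 : k < 90998
                · skip
                  by_cases hh173 : k < 89946
                  · skip
                    exact relsRange_sound mdata basesM 526 89420 rel170 k (by omega) (by omega)
                  · skip
                    by_cases hh174 : k < 90472
                    · skip
                      exact relsRange_sound mdata basesM 526 89946 rel171 k (by omega) (by omega)
                    · skip
                      exact relsRange_sound mdata basesM 526 90472 rel172 k (by omega) (by omega)
                · skip
                  by_cases hh175 : k < 91524
                  · skip
                    exact relsRange_sound mdata basesM 526 90998 rel173 k (by omega) (by omega)
                  · skip
                    by_cases hh176 : k < 92050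
                    · skip
                      exact relsRange_sound mdata basesM 526 91524 rel174 k (by omega) (by omega)
                    · skip
                      exact relsRange_sound mdata basesM 526 92050 rel175 k (by omega) (by omega)
    · skip
      by_cases hh177 : k < 138864
      · skip
        by_cases hh178 : k < 115720
        · skip
          by_cases hh179 : k < 104148
          · skip
            by_cases hh180 : k < 98362
            · skip
              by_cases hh181 : k < 95206
              · skip
                by_cases hh182 : k < 93628
                · skip
                  by_cases hh183 : k < 93102
                  · skip
                    exact relsRange_sound mdata basesM 526 92576 rel176 k (by omega) (by omega)
                  · skip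
                    exact relsRange_sound mdata basesM 526 93102 rel177 k (by omega) (by omega)
                · skip
                  by_cases hh184 : k < 94154
                  · skip
                    exact relsRange_sound mdata basesM 526 93628 rel178 k (by omega) (by omega)
                  · skip
                    by_cases hh185 : k < 94680
                    · skip
                      exact relsRange_sound mdata basesM 526 94154 rel179 k (by omega) (by omega)
                    · skip
                      exact relsRange_sound mdata basesM 526 94680 rel180 k (by omega) (by omega)
              · skip
                by_cases hh186 : k < 96784
                · skip
                  by_cases hh187 : k < 95732
                  · skip
                    exact relsRange_sound mdata basesM 526 95206 rel181 k (by omega) (by omega)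
                  · skip
                    by_cases hh188 : k < 96258
                    · skip
                      exact relsRange_sound mdata basesM 526 95732 rel182 k (by omega) (by omega)
                    · skip
                      exact relsRange_sound mdata basesM 526 96258 rel183 k (by omega) (by omega)
                · skip
                  by_cases hh189 : k < 97310
                  · skip
                    exact relsRange_sound mdata basesM 526 96784 rel184 k (by omega) (by omega)
                  · skip
                    by_cases hh190 : k < 97836
                    · skip
                      exact relsRange_sound mdata basesM 526 97310 rel185 k (by omega) (by omega)
                    · skip
                      exact relsRange_sound mdata basesM 526 97836 rel186 k (by omega) (by omega)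
            · skip
              by_cases hh191 : k < 100992
              · skip
                by_cases hh192 : k < 99414
                · skip
                  by_cases hh193 : k < 98888
                  · skip
                    exact relsRange_sound mdata basesM 526 98362 rel187 k (by omega) (by omega)
                  · skip
                    exact relsRange_sound mdata basesM 526 98888 rel188 k (by omega) (by omega)
                · skip
                  by_cases hh194 : k < 99940
                  · skip
                    exact relsRange_sound mdata basesM 526 99414 rel189 k (by omega) (by omega)
                  · skip
                    by_cases hh195 : k < 100466
                    · skip
                      exact relsRange_sound mdata basesM 526 99940 rel190 k (by omega) (by omega)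
                    · skip
                      exact relsRange_sound mdata basesM 526 100466 rel191 k (by omega) (by omega)
              · skip
                by_cases hh196 : k < 102570
                · skip
                  by_cases hh197 : k < 101518
                  · skip
                    exact relsRange_sound mdata basesM 526 100992 rel192 k (by omega) (by omega)
                  · skip
                    by_cases hh198 : k < 102044
                    · skip
                      exact relsRange_sound mdata basesM 526 101518 rel193 k (by omega) (by omega)
                    · skip
                      exact relsRange_sound mdata basesM 526 102044 rel194 k (by omega) (by omega)
                · skip
                  by_cases hh199 : k < 103096
                  · skip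
                    exact relsRange_sound mdata basesM 526 102570 rel195 k (by omega) (by omega)
                  · skip
                    by_cases hh200 : k < 103622
                    · skip
                      exact relsRange_sound mdata basesM 526 103096 rel196 k (by omega) (by omega)
                    · skip
                      exact relsRange_sound mdata basesM 526 103622 rel197 k (by omega) (by omega)
          · skip
            by_cases hh201 : k < 109934
            · skip
              by_cases hh202 : k < 106778
              · skip
                by_cases hh203 : k < 105200
                · skip
                  by_cases hh204 : k < 104674
                  · skip
                    exact relsRange_sound mdata basesM 526 104148 rel198 k (by omega) (by omega)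
                  · skip
                    exact relsRange_sound mdata basesM 526 104674 rel199 k (by omega) (by omega)
                · skip
                  by_cases hh205 : k < 105726
                  · skip
                    exact relsRange_sound mdata basesM 526 105200 rel200 k (by omega) (by omega)
                  · skip
                    by_cases hh206 : k < 106252
                    · skip
                      exact relsRange_sound mdata basesM 526 105726 rel201 k (by omega) (by omega)
                    · skip
                      exact relsRange_sound mdata basesM 526 106252 rel202 k (by omega) (by omega)
              · skip
                by_cases hh207 : k < 108356
                · skip
                  by_cases hh208 : k < 107304
                  · skip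
                    exact relsRange_sound mdata basesM 526 106778 rel203 k (by omega) (by omega)
                  · skip
                    by_cases hh209 : k < 107830
                    · skip
                      exact relsRange_sound mdata basesM 526 107304 rel204 k (by omega) (by omega)
                    · skip
                      exact relsRange_sound mdata basesM 526 107830 rel205 k (by omega) (by omega)
                · skip
                  by_cases hh210 : k < 108882
                  · skip
                    exact relsRange_sound mdata basesM 526 108356 rel206 k (by omega) (by omega)
                  · skip
                    by_cases hh211 : k < 109408
                    · skip
                      exact relsRange_sound mdata basesM 526 108882 rel207 k (by omega) (by omega)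
                    · skip
                      exact relsRange_sound mdata basesM 526 109408 rel208 k (by omega) (by omega)
            · skip
              by_cases hh212 : k < 112564
              · skip
                by_cases hh213 : k < 110986
                · skip
                  by_cases hh214 : k < 110460
                  · skip
                    exact relsRange_sound mdata basesM 526 109934 rel209 k (by omega) (by omega)
                  · skip
                    exact relsRange_sound mdata basesM 526 110460 rel210 k (by omega) (by omega)
                · skip
                  by_cases hh215 : k < 111512
                  · skip
                    exact relsRange_sound mdata basesM 526 110986 rel211 k (by omega) (by omega)
                  · skip
                    by_cases hh216 : k < 112038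
                    · skip
                      exact relsRange_sound mdata basesM 526 111512 rel212 k (by omega) (by omega)
                    · skip
                      exact relsRange_sound mdata basesM 526 112038 rel213 k (by omega) (by omega)
              · skip
                by_cases hh217 : k < 114142
                · skip
                  by_cases hh218 : k < 113090
                  · skip
                    exact relsRange_sound mdata basesM 526 112564 rel214 k (by omega) (by omega)
                  · skip
                    by_cases hh219 : k < 113616
                    · skip
                      exact relsRange_sound mdata basesM 526 113090 rel215 k (by omega) (by omega)
                    · skip
                      exact relsRange_sound mdata basesM 526 113616 rel216 k (by omega) (by omega)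
                · skip
                  by_cases hh220 : k < 114668
                  · skip
                    exact relsRange_sound mdata basesM 526 114142 rel217 k (by omega) (by omega)
                  · skip
                    by_cases hh221 : k < 115194
                    · skip
                      exact relsRange_sound mdata basesM 526 114668 rel218 k (by omega) (by omega)
                    · skip
                      exact relsRange_sound mdata basesM 526 115194 rel219 k (by omega) (by omega)
        · skip
          by_cases hh222 : k < 127292
          · skip
            by_cases hh223 : k < 121506
            · skip
              by_cases hh224 : k < 118350
              · skip
                by_cases hh225 : k < 116772
                · skip
                  by_cases hh226 : k < 116246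
                  · skip
                    exact relsRange_sound mdata basesM 526 115720 rel220 k (by omega) (by omega)
                  · skip
                    exact relsRange_sound mdata basesM 526 116246 rel221 k (by omega) (by omega)
                · skip
                  by_cases hh227 : k < 117298
                  · skip
                    exact relsRange_sound mdata basesM 526 116772 rel222 k (by omega) (by omega)
                  · skip
                    by_cases hh228 : k < 117824
                    · skip
                      exact relsRange_sound mdata basesM 526 117298 rel223 k (by omega) (by omega)
                    · skip
                      exact relsRange_sound mdata basesM 526 117824 rel224 k (by omega) (by omega)
              · skip
                by_cases hh229 : k < 119928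
                · skip
                  by_cases hh230 : k < 118876
                  · skip
                    exact relsRange_sound mdata basesM 526 118350 rel225 k (by omega) (by omega)
                  · skip
                    by_cases hh231 : k < 119402
                    · skip
                      exact relsRange_sound mdata basesM 526 118876 rel226 k (by omega) (by omega)
                    · skip
                      exact relsRange_sound mdata basesM 526 119402 rel227 k (by omega) (by omega)
                · skip
                  by_cases hh232 : k < 120454
                  · skip
                    exact relsRange_sound mdata basesM 526 119928 rel228 k (by omega) (by omega)
                  · skip
                    by_cases hh233 : k < 120980
                    · skip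
                      exact relsRange_sound mdata basesM 526 120454 rel229 k (by omega) (by omega)
                    · skip
                      exact relsRange_sound mdata basesM 526 120980 rel230 k (by omega) (by omega)
            · skip
              by_cases hh234 : k < 124136
              · skip
                by_cases hh235 : k < 122558
                · skip
                  by_cases hh236 : k < 122032
                  · skip
                    exact relsRange_sound mdata basesM 526 121506 rel231 k (by omega) (by omega)
                  · skip
                    exact relsRange_sound mdata basesM 526 122032 rel232 k (by omega) (by omega)
                · skip
                  by_cases hh237 : k < 123084
                  · skip
                    exact relsRange_sound mdata basesM 526 122558 rel233 k (by omega) (by omega)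
                  · skip
                    by_cases hh238 : k < 123610
                    · skip
                      exact relsRange_sound mdata basesM 526 123084 rel234 k (by omega) (by omega)
                    · skip
                      exact relsRange_sound mdata basesM 526 123610 rel235 k (by omega) (by omega)
              · skip
                by_cases hh239 : k < 125714
                · skip
                  by_cases hh240 : k < 124662
                  · skip
                    exact relsRange_sound mdata basesM 526 124136 rel236 k (by omega) (by omega)
                  · skip
                    by_cases hh241 : k < 125188
                    · skip
                      exact relsRange_sound mdata basesM 526 124662 rel237 k (by omega) (by omega)
                    · skip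
                      exact relsRange_sound mdata basesM 526 125188 rel238 k (by omega) (by omega)
                · skip
                  by_cases hh242 : k < 126240
                  · skip
                    exact relsRange_sound mdata basesM 526 125714 rel239 k (by omega) (by omega)
                  · skip
                    by_cases hh243 : k < 126766
                    · skip
                      exact relsRange_sound mdata basesM 526 126240 rel240 k (by omega) (by omega)
                    · skip
                      exact relsRange_sound mdata basesM 526 126766 rel241 k (by omega) (by omega)
          · skip
            by_cases hh244 : k < 133078
            · skip
              by_cases hh245 : k < 129922
              · skip
                by_cases hh246 : k < 128344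
                · skip
                  by_cases hh247 : k < 127818
                  · skip
                    exact relsRange_sound mdata basesM 526 127292 rel242 k (by omega) (by omega)
                  · skip
                    exact relsRange_sound mdata basesM 526 127818 rel243 k (by omega) (by omega)
                · skip
                  by_cases hh248 : k < 128870
                  · skip
                    exact relsRange_sound mdata basesM 526 128344 rel244 k (by omega) (by omega)
                  · skip
                    by_cases hh249 : k < 129396
                    · skip
                      exact relsRange_sound mdata basesM 526 128870 rel245 k (by omega) (by omega)
                    · skip
                      exact relsRange_sound mdata basesM 526 129396 rel246 k (by omega) (by omega)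
              · skip
                by_cases hh250 : k < 131500
                · skip
                  by_cases hh251 : k < 130448
                  · skip
                    exact relsRange_sound mdata basesM 526 129922 rel247 k (by omega) (by omega)
                  · skip
                    by_cases hh252 : k < 130974
                    · skip
                      exact relsRange_sound mdata basesM 526 130448 rel248 k (by omega) (by omega)
                    · skip
                      exact relsRange_sound mdata basesM 526 130974 rel249 k (by omega) (by omega)
                · skip
                  by_cases hh253 : k < 132026
                  · skip
                    exact relsRange_sound mdata basesM 526 131500 rel250 k (by omega) (by omega)
                  · skip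
                    by_cases hh254 : k < 132552
                    · skip
                      exact relsRange_sound mdata basesM 526 132026 rel251 k (by omega) (by omega)
                    · skip
                      exact relsRange_sound mdata basesM 526 132552 rel252 k (by omega) (by omega)
            · skip
              by_cases hh255 : k < 135708
              · skip
                by_cases hh256 : k < 134130
                · skip
                  by_cases hh257 : k < 133604
                  · skip
                    exact relsRange_sound mdata basesM 526 133078 rel253 k (by omega) (by omega)
                  · skip
                    exact relsRange_sound mdata basesM 526 133604 rel254 k (by omega) (by omega)
                · skip
                  by_cases hh258 : k < 134656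
                  · skip
                    exact relsRange_sound mdata basesM 526 134130 rel255 k (by omega) (by omega)
                  · skip
                    by_cases hh259 : k < 135182
                    · skip
                      exact relsRange_sound mdata basesM 526 134656 rel256 k (by omega) (by omega)
                    · skip
                      exact relsRange_sound mdata basesM 526 135182 rel257 k (by omega) (by omega)
              · skip
                by_cases hh260 : k < 137286
                · skip
                  by_cases hh261 : k < 136234
                  · skip
                    exact relsRange_sound mdata basesM 526 135708 rel258 k (by omega) (by omega)
                  · skip
                    by_cases hh262 : k < 136760
                    · skip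
                      exact relsRange_sound mdata basesM 526 136234 rel259 k (by omega) (by omega)
                    · skip
                      exact relsRange_sound mdata basesM 526 136760 rel260 k (by omega) (by omega)
                · skip
                  by_cases hh263 : k < 137812
                  · skip
                    exact relsRange_sound mdata basesM 526 137286 rel261 k (by omega) (by omega)
                  · skip
                    by_cases hh264 : k < 138338
                    · skip
                      exact relsRange_sound mdata basesM 526 137812 rel262 k (by omega) (by omega)
                    · skip
                      exact relsRange_sound mdata basesM 526 138338 rel263 k (by omega) (by omega)
      · skip
        by_cases hh265 : k < 162008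
        · skip
          by_cases hh266 : k < 150436
          · skip
            by_cases hh267 : k < 144650
            · skip
              by_cases hh268 : k < 141494
              · skip
                by_cases hh269 : k < 139916
                · skip
                  by_cases hh270 : k < 139390
                  · skip
                    exact relsRange_sound mdata basesM 526 138864 rel264 k (by omega) (by omega)
                  · skip
                    exact relsRange_sound mdata basesM 526 139390 rel265 k (by omega) (by omega)
                · skip
                  by_cases hh271 : k < 140442
                  · skip
                    exact relsRange_sound mdata basesM 526 139916 rel266 k (by omega) (by omega)
                  · skip
                    by_cases hh272 : k < 140968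
                    · skip
                      exact relsRange_sound mdata basesM 526 140442 rel267 k (by omega) (by omega)
                    · skip
                      exact relsRange_sound mdata basesM 526 140968 rel268 k (by omega) (by omega)
              · skip
                by_cases hh273 : k < 143072
                · skip
                  by_cases hh274 : k < 142020
                  · skip
                    exact relsRange_sound mdata basesM 526 141494 rel269 k (by omega) (by omega)
                  · skip
                    by_cases hh275 : k < 142546
                    · skip
                      exact relsRange_sound mdata basesM 526 142020 rel270 k (by omega) (by omega)
                    · skip
                      exact relsRange_sound mdata basesM 526 142546 rel271 k (by omega) (by omega)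
                · skip
                  by_cases hh276 : k < 143598
                  · skip
                    exact relsRange_sound mdata basesM 526 143072 rel272 k (by omega) (by omega)
                  · skip
                    by_cases hh277 : k < 144124
                    · skip
                      exact relsRange_sound mdata basesM 526 143598 rel273 k (by omega) (by omega)
                    · skip
                      exact relsRange_sound mdata basesM 526 144124 rel274 k (by omega) (by omega)
            · skip
              by_cases hh278 : k < 147280
              · skip
                by_cases hh279 : k < 145702
                · skip
                  by_cases hh280 : k < 145176
                  · skip
                    exact relsRange_sound mdata basesM 526 144650 rel275 k (by omega) (by omega)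
                  · skip
                    exact relsRange_sound mdata basesM 526 145176 rel276 k (by omega) (by omega)
                · skip
                  by_cases hh281 : k < 146228
                  · skip
                    exact relsRange_sound mdata basesM 526 145702 rel277 k (by omega) (by omega)
                  · skip
                    by_cases hh282 : k < 146754
                    · skip
                      exact relsRange_sound mdata basesM 526 146228 rel278 k (by omega) (by omega)
                    · skip
                      exact relsRange_sound mdata basesM 526 146754 rel279 k (by omega) (by omega)
              · skip
                by_cases hh283 : k < 148858
                · skip
                  by_cases hh284 : k < 147806
                  · skip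
                    exact relsRange_sound mdata basesM 526 147280 rel280 k (by omega) (by omega)
                  · skip
                    by_cases hh285 : k < 148332
                    · skip
                      exact relsRange_sound mdata basesM 526 147806 rel281 k (by omega) (by omega)
                    · skip
                      exact relsRange_sound mdata basesM 526 148332 rel282 k (by omega) (by omega)
                · skip
                  by_cases hh286 : k < 149384
                  · skip
                    exact relsRange_sound mdata basesM 526 148858 rel283 k (by omega) (by omega)
                  · skip
                    by_cases hh287 : k < 149910
                    · skip
                      exact relsRange_sound mdata basesM 526 149384 rel284 k (by omega) (by omega)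
                    · skip
                      exact relsRange_sound mdata basesM 526 149910 rel285 k (by omega) (by omega)
          · skip
            by_cases hh288 : k < 156222
            · skip
              by_cases hh289 : k < 153066
              · skip
                by_cases hh290 : k < 151488
                · skip
                  by_cases hh291 : k < 150962
                  · skip
                    exact relsRange_sound mdata basesM 526 150436 rel286 k (by omega) (by omega)
                  · skip
                    exact relsRange_sound mdata basesM 526 150962 rel287 k (by omega) (by omega)
                · skip
                  by_cases hh292 : k < 152014
                  · skip
                    exact relsRange_sound mdata basesM 526 151488 rel288 k (by omega) (by omega)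
                  · skip
                    by_cases hh293 : k < 152540
                    · skip
                      exact relsRange_sound mdata basesM 526 152014 rel289 k (by omega) (by omega)
                    · skip
                      exact relsRange_sound mdata basesM 526 152540 rel290 k (by omega) (by omega)
              · skip
                by_cases hh294 : k < 154644
                · skip
                  by_cases hh295 : k < 153592
                  · skip
                    exact relsRange_sound mdata basesM 526 153066 rel291 k (by omega) (by omega)
                  · skip
                    by_cases hh296 : k < 154118
                    · skip
                      exact relsRange_sound mdata basesM 526 153592 rel292 k (by omega) (by omega)
                    · skip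
                      exact relsRange_sound mdata basesM 526 154118 rel293 k (by omega) (by omega)
                · skip
                  by_cases hh297 : k < 155170
                  · skip
                    exact relsRange_sound mdata basesM 526 154644 rel294 k (by omega) (by omega)
                  · skip
                    by_cases hh298 : k < 155696
                    · skip
                      exact relsRange_sound mdata basesM 526 155170 rel295 k (by omega) (by omega)
                    · skip
                      exact relsRange_sound mdata basesM 526 155696 rel296 k (by omega) (by omega)
            · skip
              by_cases hh299 : k < 158852
              · skip
                by_cases hh300 : k < 157274
                · skip
                  by_cases hh301 : k < 156748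
                  · skip
                    exact relsRange_sound mdata basesM 526 156222 rel297 k (by omega) (by omega)
                  · skip
                    exact relsRange_sound mdata basesM 526 156748 rel298 k (by omega) (by omega)
                · skip
                  by_cases hh302 : k < 157800
                  · skip
                    exact relsRange_sound mdata basesM 526 157274 rel299 k (by omega) (by omega)
                  · skip
                    by_cases hh303 : k < 158326
                    · skip
                      exact relsRange_sound mdata basesM 526 157800 rel300 k (by omega) (by omega)
                    · skip
                      exact relsRange_sound mdata basesM 526 158326 rel301 k (by omega) (by omega)
              · skip
                by_cases hh304 : k < 160430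
                · skip
                  by_cases hh305 : k < 159378
                  · skip
                    exact relsRange_sound mdata basesM 526 158852 rel302 k (by omega) (by omega)
                  · skip
                    by_cases hh306 : k < 159904
                    · skip
                      exact relsRange_sound mdata basesM 526 159378 rel303 k (by omega) (by omega)
                    · skip
                      exact relsRange_sound mdata basesM 526 159904 rel304 k (by omega) (by omega)
                · skip
                  by_cases hh307 : k < 160956
                  · skip
                    exact relsRange_sound mdata basesM 526 160430 rel305 k (by omega) (by omega)
                  · skip
                    by_cases hh308 : k < 161482
                    · skip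
                      exact relsRange_sound mdata basesM 526 160956 rel306 k (by omega) (by omega)
                    · skip
                      exact relsRange_sound mdata basesM 526 161482 rel307 k (by omega) (by omega)
        · skip
          by_cases hh309 : k < 173580
          · skip
            by_cases hh310 : k < 167794
            · skip
              by_cases hh311 : k < 164638
              · skip
                by_cases hh312 : k < 163060
                · skip
                  by_cases hh313 : k < 162534
                  · skip
                    exact relsRange_sound mdata basesM 526 162008 rel308 k (by omega) (by omega)
                  · skip
                    exact relsRange_sound mdata basesM 526 162534 rel309 k (by omega) (by omega)
                · skip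
                  by_cases hh314 : k < 163586
                  · skip
                    exact relsRange_sound mdata basesM 526 163060 rel310 k (by omega) (by omega)
                  · skip
                    by_cases hh315 : k < 164112
                    · skip
                      exact relsRange_sound mdata basesM 526 163586 rel311 k (by omega) (by omega)
                    · skip
                      exact relsRange_sound mdata basesM 526 164112 rel312 k (by omega) (by omega)
              · skip
                by_cases hh316 : k < 166216
                · skip
                  by_cases hh317 : k < 165164
                  · skip
                    exact relsRange_sound mdata basesM 526 164638 rel313 k (by omega) (by omega)
                  · skip
                    by_cases hh318 : k < 165690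
                    · skip
                      exact relsRange_sound mdata basesM 526 165164 rel314 k (by omega) (by omega)
                    · skip
                      exact relsRange_sound mdata basesM 526 165690 rel315 k (by omega) (by omega)
                · skip
                  by_cases hh319 : k < 166742
                  · skip
                    exact relsRange_sound mdata basesM 526 166216 rel316 k (by omega) (by omega)
                  · skip
                    by_cases hh320 : k < 167268
                    · skip
                      exact relsRange_sound mdata basesM 526 166742 rel317 k (by omega) (by omega)
                    · skip
                      exact relsRange_sound mdata basesM 526 167268 rel318 k (by omega) (by omega)
            · skip
              by_cases hh321 : k < 170424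
              · skip
                by_cases hh322 : k < 168846
                · skip
                  by_cases hh323 : k < 168320
                  · skip
                    exact relsRange_sound mdata basesM 526 167794 rel319 k (by omega) (by omega)
                  · skip
                    exact relsRange_sound mdata basesM 526 168320 rel320 k (by omega) (by omega)
                · skip
                  by_cases hh324 : k < 169372
                  · skip
                    exact relsRange_sound mdata basesM 526 168846 rel321 k (by omega) (by omega)
                  · skip
                    by_cases hh325 : k < 169898
                    · skip
                      exact relsRange_sound mdata basesM 526 169372 rel322 k (by omega) (by omega)
                    · skip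
                      exact relsRange_sound mdata basesM 526 169898 rel323 k (by omega) (by omega)
              · skip
                by_cases hh326 : k < 172002
                · skip
                  by_cases hh327 : k < 170950
                  · skip
                    exact relsRange_sound mdata basesM 526 170424 rel324 k (by omega) (by omega)
                  · skip
                    by_cases hh328 : k < 171476
                    · skip
                      exact relsRange_sound mdata basesM 526 170950 rel325 k (by omega) (by omega)
                    · skip
                      exact relsRange_sound mdata basesM 526 171476 rel326 k (by omega) (by omega)
                · skip
                  by_cases hh329 : k < 172528
                  · skip
                    exact relsRange_sound mdata basesM 526 172002 rel327 k (by omega) (by omega)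
                  · skip
                    by_cases hh330 : k < 173054
                    · skip
                      exact relsRange_sound mdata basesM 526 172528 rel328 k (by omega) (by omega)
                    · skip
                      exact relsRange_sound mdata basesM 526 173054 rel329 k (by omega) (by omega)
          · skip
            by_cases hh331 : k < 179366
            · skip
              by_cases hh332 : k < 176210
              · skip
                by_cases hh333 : k < 174632
                · skip
                  by_cases hh334 : k < 174106
                  · skip
                    exact relsRange_sound mdata basesM 526 173580 rel330 k (by omega) (by omega)
                  · skip
                    exact relsRange_sound mdata basesM 526 174106 rel331 k (by omega) (by omega)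
                · skip
                  by_cases hh335 : k < 175158
                  · skip
                    exact relsRange_sound mdata basesM 526 174632 rel332 k (by omega) (by omega)
                  · skip
                    by_cases hh336 : k < 175684
                    · skip
                      exact relsRange_sound mdata basesM 526 175158 rel333 k (by omega) (by omega)
                    · skip
                      exact relsRange_sound mdata basesM 526 175684 rel334 k (by omega) (by omega)
              · skip
                by_cases hh337 : k < 177788
                · skip
                  by_cases hh338 : k < 176736
                  · skip
                    exact relsRange_sound mdata basesM 526 176210 rel335 k (by omega) (by omega)
                  · skip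
                    by_cases hh339 : k < 177262
                    · skip
                      exact relsRange_sound mdata basesM 526 176736 rel336 k (by omega) (by omega)
                    · skip
                      exact relsRange_sound mdata basesM 526 177262 rel337 k (by omega) (by omega)
                · skip
                  by_cases hh340 : k < 178314
                  · skip
                    exact relsRange_sound mdata basesM 526 177788 rel338 k (by omega) (by omega)
                  · skip
                    by_cases hh341 : k < 178840
                    · skip
                      exact relsRange_sound mdata basesM 526 178314 rel339 k (by omega) (by omega)
                    · skip
                      exact relsRange_sound mdata basesM 526 178840 rel340 k (by omega) (by omega)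
            · skip
              by_cases hh342 : k < 182522
              · skip
                by_cases hh343 : k < 180944
                · skip
                  by_cases hh344 : k < 179892
                  · skip
                    exact relsRange_sound mdata basesM 526 179366 rel341 k (by omega) (by omega)
                  · skip
                    by_cases hh345 : k < 180418
                    · skip
                      exact relsRange_sound mdata basesM 526 179892 rel342 k (by omega) (by omega)
                    · skip
                      exact relsRange_sound mdata basesM 526 180418 rel343 k (by omega) (by omega)
                · skip
                  by_cases hh346 : k < 181470
                  · skip
                    exact relsRange_sound mdata basesM 526 180944 rel344 k (by omega) (by omega)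
                  · skip
                    by_cases hh347 : k < 181996
                    · skip
                      exact relsRange_sound mdata basesM 526 181470 rel345 k (by omega) (by omega)
                    · skip
                      exact relsRange_sound mdata basesM 526 181996 rel346 k (by omega) (by omega)
              · skip
                by_cases hh348 : k < 184100
                · skip
                  by_cases hh349 : k < 183048
                  · skip
                    exact relsRange_sound mdata basesM 526 182522 rel347 k (by omega) (by omega)
                  · skip
                    by_cases hh350 : k < 183574
                    · skip
                      exact relsRange_sound mdata basesM 526 183048 rel348 k (by omega) (by omega)
                    · skip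
                      exact relsRange_sound mdata basesM 526 183574 rel349 k (by omega) (by omega)
                · skip
                  by_cases hh351 : k < 184626
                  · skip
                    exact relsRange_sound mdata basesM 526 184100 rel350 k (by omega) (by omega)
                  · skip
                    by_cases hh352 : k < 185152
                    · skip
                      exact relsRange_sound mdata basesM 526 184626 rel351 k (by omega) (by omega)
                    · skip
                      exact relsRange_sound mdata basesM 176 185152 rel352 k (by omega) (by omega)
  · intro s hs
    cases hs
  · intro s hs
    cases hs
  · intro k h1 h2
    have h2' : k < 1 + (185328 - 1) := h2
    by_cases hh1 : k < 79999
    · skip
      by_cases hh2 : k < 26667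
      · skip
        exact treeRange_sound mdata 26666 1 tree0 k (by omega) (by omega)
      · skip
        by_cases hh3 : k < 53333
        · skip
          exact treeRange_sound mdata 26666 26667 tree1 k (by omega) (by omega)
        · skip
          exact treeRange_sound mdata 26666 53333 tree2 k (by omega) (by omega)
    · skip
      by_cases hh4 : k < 133331
      · skip
        by_cases hh5 : k < 106665
        · skip
          exact treeRange_sound mdata 26666 79999 tree3 k (by omega) (by omega)
        · skip
          exact treeRange_sound mdata 26666 106665 tree4 k (by omega) (by omega)
      · skip
        by_cases hh6 : k < 159997
        · skip
          exact treeRange_sound mdata 26666 133331 tree5 k (by omega) (by omega)
        · skip
          exact treeRange_sound mdata 25331 159997 tree6 k (by omega) (by omega)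

theorem z_ok : ZOK mdata z3 rhoW := by
  refine ⟨?_⟩
  intro k hk
  have hk' : k < 185328 := hk
  by_cases hh1 : k < 92213
  · skip
    by_cases hh2 : k < 45551
    · skip
      by_cases hh3 : k < 22220
      · skip
        by_cases hh4 : k < 11110
        · skip
          by_cases hh5 : k < 5555
          · skip
            by_cases hh6 : k < 2222
            · skip
              by_cases hh7 : k < 1111
              · skip
                exact zRange_sound mdata z3 rhoW 1111 0 zc0 k (by omega) (by omega)
              · skip
                exact zRange_sound mdata z3 rhoW 1111 1111 zc1 k (by omega) (by omega)
            · skip
              by_cases hh8 : k < 3333
              · skip
                exact zRange_sound mdata z3 rhoW 1111 2222 zc2 k (by omega) (by omega)
              · skip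
                by_cases hh9 : k < 4444
                · skip
                  exact zRange_sound mdata z3 rhoW 1111 3333 zc3 k (by omega) (by omega)
                · skip
                  exact zRange_sound mdata z3 rhoW 1111 4444 zc4 k (by omega) (by omega)
          · skip
            by_cases hh10 : k < 7777
            · skip
              by_cases hh11 : k < 6666
              · skip
                exact zRange_sound mdata z3 rhoW 1111 5555 zc5 k (by omega) (by omega)
              · skip
                exact zRange_sound mdata z3 rhoW 1111 6666 zc6 k (by omega) (by omega)
            · skip
              by_cases hh12 : k < 8888
              · skip
                exact zRange_sound mdata z3 rhoW 1111 7777 zc7 k (by omega) (by omega)
              · skip
                by_cases hh13 : k < 9999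
                · skip
                  exact zRange_sound mdata z3 rhoW 1111 8888 zc8 k (by omega) (by omega)
                · skip
                  exact zRange_sound mdata z3 rhoW 1111 9999 zc9 k (by omega) (by omega)
        · skip
          by_cases hh14 : k < 16665
          · skip
            by_cases hh15 : k < 13332
            · skip
              by_cases hh16 : k < 12221
              · skip
                exact zRange_sound mdata z3 rhoW 1111 11110 zc10 k (by omega) (by omega)
              · skip
                exact zRange_sound mdata z3 rhoW 1111 12221 zc11 k (by omega) (by omega)
            · skip
              by_cases hh17 : k < 14443
              · skip
                exact zRange_sound mdata z3 rhoW 1111 13332 zc12 k (by omega) (by omega)
              · skip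
                by_cases hh18 : k < 15554
                · skip
                  exact zRange_sound mdata z3 rhoW 1111 14443 zc13 k (by omega) (by omega)
                · skip
                  exact zRange_sound mdata z3 rhoW 1111 15554 zc14 k (by omega) (by omega)
          · skip
            by_cases hh19 : k < 18887
            · skip
              by_cases hh20 : k < 17776
              · skip
                exact zRange_sound mdata z3 rhoW 1111 16665 zc15 k (by omega) (by omega)
              · skip
                exact zRange_sound mdata z3 rhoW 1111 17776 zc16 k (by omega) (by omega)
            · skip
              by_cases hh21 : k < 19998
              · skip
                exact zRange_sound mdata z3 rhoW 1111 18887 zc17 k (by omega) (by omega)
              · skip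
                by_cases hh22 : k < 21109
                · skip
                  exact zRange_sound mdata z3 rhoW 1111 19998 zc18 k (by omega) (by omega)
                · skip
                  exact zRange_sound mdata z3 rhoW 1111 21109 zc19 k (by omega) (by omega)
      · skip
        by_cases hh23 : k < 33330
        · skip
          by_cases hh24 : k < 27775
          · skip
            by_cases hh25 : k < 24442
            · skip
              by_cases hh26 : k < 23331
              · skip
                exact zRange_sound mdata z3 rhoW 1111 22220 zc20 k (by omega) (by omega)
              · skip
                exact zRange_sound mdata z3 rhoW 1111 23331 zc21 k (by omega) (by omega)
            · skip
              by_cases hh27 : k < 25553
              · skip
                exact zRange_sound mdata z3 rhoW 1111 24442 zc22 k (by omega) (by omega)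
              · skip
                by_cases hh28 : k < 26664
                · skip
                  exact zRange_sound mdata z3 rhoW 1111 25553 zc23 k (by omega) (by omega)
                · skip
                  exact zRange_sound mdata z3 rhoW 1111 26664 zc24 k (by omega) (by omega)
          · skip
            by_cases hh29 : k < 29997
            · skip
              by_cases hh30 : k < 28886
              · skip
                exact zRange_sound mdata z3 rhoW 1111 27775 zc25 k (by omega) (by omega)
              · skip
                exact zRange_sound mdata z3 rhoW 1111 28886 zc26 k (by omega) (by omega)
            · skip
              by_cases hh31 : k < 31108
              · skip
                exact zRange_sound mdata z3 rhoW 1111 29997 zc27 k (by omega) (by omega)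
              · skip
                by_cases hh32 : k < 32219
                · skip
                  exact zRange_sound mdata z3 rhoW 1111 31108 zc28 k (by omega) (by omega)
                · skip
                  exact zRange_sound mdata z3 rhoW 1111 32219 zc29 k (by omega) (by omega)
        · skip
          by_cases hh33 : k < 38885
          · skip
            by_cases hh34 : k < 35552
            · skip
              by_cases hh35 : k < 34441
              · skip
                exact zRange_sound mdata z3 rhoW 1111 33330 zc30 k (by omega) (by omega)
              · skip
                exact zRange_sound mdata z3 rhoW 1111 34441 zc31 k (by omega) (by omega)
            · skip
              by_cases hh36 : k < 36663
              · skip
                exact zRange_sound mdata z3 rhoW 1111 35552 zc32 k (by omega) (by omega)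
              · skip
                by_cases hh37 : k < 37774
                · skip
                  exact zRange_sound mdata z3 rhoW 1111 36663 zc33 k (by omega) (by omega)
                · skip
                  exact zRange_sound mdata z3 rhoW 1111 37774 zc34 k (by omega) (by omega)
          · skip
            by_cases hh38 : k < 42218
            · skip
              by_cases hh39 : k < 39996
              · skip
                exact zRange_sound mdata z3 rhoW 1111 38885 zc35 k (by omega) (by omega)
              · skip
                by_cases hh40 : k < 41107
                · skip
                  exact zRange_sound mdata z3 rhoW 1111 39996 zc36 k (by omega) (by omega)
                · skip
                  exact zRange_sound mdata z3 rhoW 1111 41107 zc37 k (by omega) (by omega)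
            · skip
              by_cases hh41 : k < 43329
              · skip
                exact zRange_sound mdata z3 rhoW 1111 42218 zc38 k (by omega) (by omega)
              · skip
                by_cases hh42 : k < 44440
                · skip
                  exact zRange_sound mdata z3 rhoW 1111 43329 zc39 k (by omega) (by omega)
                · skip
                  exact zRange_sound mdata z3 rhoW 1111 44440 zc40 k (by omega) (by omega)
    · skip
      by_cases hh43 : k < 68882
      · skip
        by_cases hh44 : k < 56661
        · skip
          by_cases hh45 : k < 51106
          · skip
            by_cases hh46 : k < 47773
            · skip
              by_cases hh47 : k < 46662
              · skip
                exact zRange_sound mdata z3 rhoW 1111 45551 zc41 k (by omega) (by omega)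
              · skip
                exact zRange_sound mdata z3 rhoW 1111 46662 zc42 k (by omega) (by omega)
            · skip
              by_cases hh48 : k < 48884
              · skip
                exact zRange_sound mdata z3 rhoW 1111 47773 zc43 k (by omega) (by omega)
              · skip
                by_cases hh49 : k < 49995
                · skip
                  exact zRange_sound mdata z3 rhoW 1111 48884 zc44 k (by omega) (by omega)
                · skip
                  exact zRange_sound mdata z3 rhoW 1111 49995 zc45 k (by omega) (by omega)
          · skip
            by_cases hh50 : k < 53328
            · skip
              by_cases hh51 : k < 52217
              · skip
                exact zRange_sound mdata z3 rhoW 1111 51106 zc46 k (by omega) (by omega)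
              · skip
                exact zRange_sound mdata z3 rhoW 1111 52217 zc47 k (by omega) (by omega)
            · skip
              by_cases hh52 : k < 54439
              · skip
                exact zRange_sound mdata z3 rhoW 1111 53328 zc48 k (by omega) (by omega)
              · skip
                by_cases hh53 : k < 55550
                · skip
                  exact zRange_sound mdata z3 rhoW 1111 54439 zc49 k (by omega) (by omega)
                · skip
                  exact zRange_sound mdata z3 rhoW 1111 55550 zc50 k (by omega) (by omega)
        · skip
          by_cases hh54 : k < 62216
          · skip
            by_cases hh55 : k < 58883
            · skip
              by_cases hh56 : k < 57772
              · skip
                exact zRange_sound mdata z3 rhoW 1111 56661 zc51 k (by omega) (by omega)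
              · skip
                exact zRange_sound mdata z3 rhoW 1111 57772 zc52 k (by omega) (by omega)
            · skip
              by_cases hh57 : k < 59994
              · skip
                exact zRange_sound mdata z3 rhoW 1111 58883 zc53 k (by omega) (by omega)
              · skip
                by_cases hh58 : k < 61105
                · skip
                  exact zRange_sound mdata z3 rhoW 1111 59994 zc54 k (by omega) (by omega)
                · skip
                  exact zRange_sound mdata z3 rhoW 1111 61105 zc55 k (by omega) (by omega)
          · skip
            by_cases hh59 : k < 65549
            · skip
              by_cases hh60 : k < 63327
              · skip
                exact zRange_sound mdata z3 rhoW 1111 62216 zc56 k (by omega) (by omega)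
              · skip
                by_cases hh61 : k < 64438
                · skip
                  exact zRange_sound mdata z3 rhoW 1111 63327 zc57 k (by omega) (by omega)
                · skip
                  exact zRange_sound mdata z3 rhoW 1111 64438 zc58 k (by omega) (by omega)
            · skip
              by_cases hh62 : k < 66660
              · skip
                exact zRange_sound mdata z3 rhoW 1111 65549 zc59 k (by omega) (by omega)
              · skip
                by_cases hh63 : k < 67771
                · skip
                  exact zRange_sound mdata z3 rhoW 1111 66660 zc60 k (by omega) (by omega)
                · skip
                  exact zRange_sound mdata z3 rhoW 1111 67771 zc61 k (by omega) (by omega)
      · skip
        by_cases hh64 : k < 79992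
        · skip
          by_cases hh65 : k < 74437
          · skip
            by_cases hh66 : k < 71104
            · skip
              by_cases hh67 : k < 69993
              · skip
                exact zRange_sound mdata z3 rhoW 1111 68882 zc62 k (by omega) (by omega)
              · skip
                exact zRange_sound mdata z3 rhoW 1111 69993 zc63 k (by omega) (by omega)
            · skip
              by_cases hh68 : k < 72215
              · skip
                exact zRange_sound mdata z3 rhoW 1111 71104 zc64 k (by omega) (by omega)
              · skip
                by_cases hh69 : k < 73326
                · skip
                  exact zRange_sound mdata z3 rhoW 1111 72215 zc65 k (by omega) (by omega)
                · skip
                  exact zRange_sound mdata z3 rhoW 1111 73326 zc66 k (by omega) (by omega)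
          · skip
            by_cases hh70 : k < 76659
            · skip
              by_cases hh71 : k < 75548
              · skip
                exact zRange_sound mdata z3 rhoW 1111 74437 zc67 k (by omega) (by omega)
              · skip
                exact zRange_sound mdata z3 rhoW 1111 75548 zc68 k (by omega) (by omega)
            · skip
              by_cases hh72 : k < 77770
              · skip
                exact zRange_sound mdata z3 rhoW 1111 76659 zc69 k (by omega) (by omega)
              · skip
                by_cases hh73 : k < 78881
                · skip
                  exact zRange_sound mdata z3 rhoW 1111 77770 zc70 k (by omega) (by omega)
                · skip
                  exact zRange_sound mdata z3 rhoW 1111 78881 zc71 k (by omega) (by omega)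
        · skip
          by_cases hh74 : k < 85547
          · skip
            by_cases hh75 : k < 82214
            · skip
              by_cases hh76 : k < 81103
              · skip
                exact zRange_sound mdata z3 rhoW 1111 79992 zc72 k (by omega) (by omega)
              · skip
                exact zRange_sound mdata z3 rhoW 1111 81103 zc73 k (by omega) (by omega)
            · skip
              by_cases hh77 : k < 83325
              · skip
                exact zRange_sound mdata z3 rhoW 1111 82214 zc74 k (by omega) (by omega)
              · skip
                by_cases hh78 : k < 84436
                · skip
                  exact zRange_sound mdata z3 rhoW 1111 83325 zc75 k (by omega) (by omega)
                · skip
                  exact zRange_sound mdata z3 rhoW 1111 84436 zc76 k (by omega) (by omega)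
          · skip
            by_cases hh79 : k < 88880
            · skip
              by_cases hh80 : k < 86658
              · skip
                exact zRange_sound mdata z3 rhoW 1111 85547 zc77 k (by omega) (by omega)
              · skip
                by_cases hh81 : k < 87769
                · skip
                  exact zRange_sound mdata z3 rhoW 1111 86658 zc78 k (by omega) (by omega)
                · skip
                  exact zRange_sound mdata z3 rhoW 1111 87769 zc79 k (by omega) (by omega)
            · skip
              by_cases hh82 : k < 89991
              · skip
                exact zRange_sound mdata z3 rhoW 1111 88880 zc80 k (by omega) (by omega)
              · skip
                by_cases hh83 : k < 91102
                · skip
                  exact zRange_sound mdata z3 rhoW 1111 89991 zc81 k (by omega) (by omega)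
                · skip
                  exact zRange_sound mdata z3 rhoW 1111 91102 zc82 k (by omega) (by omega)
  · skip
    by_cases hh84 : k < 138875
    · skip
      by_cases hh85 : k < 115544
      · skip
        by_cases hh86 : k < 103323
        · skip
          by_cases hh87 : k < 97768
          · skip
            by_cases hh88 : k < 94435
            · skip
              by_cases hh89 : k < 93324
              · skip
                exact zRange_sound mdata z3 rhoW 1111 92213 zc83 k (by omega) (by omega)
              · skip
                exact zRange_sound mdata z3 rhoW 1111 93324 zc84 k (by omega) (by omega)
            · skip
              by_cases hh90 : k < 95546
              · skip
                exact zRange_sound mdata z3 rhoW 1111 94435 zc85 k (by omega) (by omega)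
              · skip
                by_cases hh91 : k < 96657
                · skip
                  exact zRange_sound mdata z3 rhoW 1111 95546 zc86 k (by omega) (by omega)
                · skip
                  exact zRange_sound mdata z3 rhoW 1111 96657 zc87 k (by omega) (by omega)
          · skip
            by_cases hh92 : k < 99990
            · skip
              by_cases hh93 : k < 98879
              · skip
                exact zRange_sound mdata z3 rhoW 1111 97768 zc88 k (by omega) (by omega)
              · skip
                exact zRange_sound mdata z3 rhoW 1111 98879 zc89 k (by omega) (by omega)
            · skip
              by_cases hh94 : k < 101101
              · skip
                exact zRange_sound mdata z3 rhoW 1111 99990 zc90 k (by omega) (by omega)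
              · skip
                by_cases hh95 : k < 102212
                · skip
                  exact zRange_sound mdata z3 rhoW 1111 101101 zc91 k (by omega) (by omega)
                · skip
                  exact zRange_sound mdata z3 rhoW 1111 102212 zc92 k (by omega) (by omega)
        · skip
          by_cases hh96 : k < 108878
          · skip
            by_cases hh97 : k < 105545
            · skip
              by_cases hh98 : k < 104434
              · skip
                exact zRange_sound mdata z3 rhoW 1111 103323 zc93 k (by omega) (by omega)
              · skip
                exact zRange_sound mdata z3 rhoW 1111 104434 zc94 k (by omega) (by omega)
            · skip
              by_cases hh99 : k < 106656
              · skip
                exact zRange_sound mdata z3 rhoW 1111 105545 zc95 k (by omega) (by omega)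
              · skip
                by_cases hh100 : k < 107767
                · skip
                  exact zRange_sound mdata z3 rhoW 1111 106656 zc96 k (by omega) (by omega)
                · skip
                  exact zRange_sound mdata z3 rhoW 1111 107767 zc97 k (by omega) (by omega)
          · skip
            by_cases hh101 : k < 112211
            · skip
              by_cases hh102 : k < 109989
              · skip
                exact zRange_sound mdata z3 rhoW 1111 108878 zc98 k (by omega) (by omega)
              · skip
                by_cases hh103 : k < 111100
                · skip
                  exact zRange_sound mdata z3 rhoW 1111 109989 zc99 k (by omega) (by omega)
                · skip
                  exact zRange_sound mdata z3 rhoW 1111 111100 zc100 k (by omega) (by omega)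
            · skip
              by_cases hh104 : k < 113322
              · skip
                exact zRange_sound mdata z3 rhoW 1111 112211 zc101 k (by omega) (by omega)
              · skip
                by_cases hh105 : k < 114433
                · skip
                  exact zRange_sound mdata z3 rhoW 1111 113322 zc102 k (by omega) (by omega)
                · skip
                  exact zRange_sound mdata z3 rhoW 1111 114433 zc103 k (by omega) (by omega)
      · skip
        by_cases hh106 : k < 126654
        · skip
          by_cases hh107 : k < 121099
          · skip
            by_cases hh108 : k < 117766
            · skip
              by_cases hh109 : k < 116655
              · skip
                exact zRange_sound mdata z3 rhoW 1111 115544 zc104 k (by omega) (by omega)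
              · skip
                exact zRange_sound mdata z3 rhoW 1111 116655 zc105 k (by omega) (by omega)
            · skip
              by_cases hh110 : k < 118877
              · skip
                exact zRange_sound mdata z3 rhoW 1111 117766 zc106 k (by omega) (by omega)
              · skip
                by_cases hh111 : k < 119988
                · skip
                  exact zRange_sound mdata z3 rhoW 1111 118877 zc107 k (by omega) (by omega)
                · skip
                  exact zRange_sound mdata z3 rhoW 1111 119988 zc108 k (by omega) (by omega)
          · skip
            by_cases hh112 : k < 123321
            · skip
              by_cases hh113 : k < 122210
              · skip
                exact zRange_sound mdata z3 rhoW 1111 121099 zc109 k (by omega) (by omega)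
              · skip
                exact zRange_sound mdata z3 rhoW 1111 122210 zc110 k (by omega) (by omega)
            · skip
              by_cases hh114 : k < 124432
              · skip
                exact zRange_sound mdata z3 rhoW 1111 123321 zc111 k (by omega) (by omega)
              · skip
                by_cases hh115 : k < 125543
                · skip
                  exact zRange_sound mdata z3 rhoW 1111 124432 zc112 k (by omega) (by omega)
                · skip
                  exact zRange_sound mdata z3 rhoW 1111 125543 zc113 k (by omega) (by omega)
        · skip
          by_cases hh116 : k < 132209
          · skip
            by_cases hh117 : k < 128876
            · skip
              by_cases hh118 : k < 127765
              · skip
                exact zRange_sound mdata z3 rhoW 1111 126654 zc114 k (by omega) (by omega)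
              · skip
                exact zRange_sound mdata z3 rhoW 1111 127765 zc115 k (by omega) (by omega)
            · skip
              by_cases hh119 : k < 129987
              · skip
                exact zRange_sound mdata z3 rhoW 1111 128876 zc116 k (by omega) (by omega)
              · skip
                by_cases hh120 : k < 131098
                · skip
                  exact zRange_sound mdata z3 rhoW 1111 129987 zc117 k (by omega) (by omega)
                · skip
                  exact zRange_sound mdata z3 rhoW 1111 131098 zc118 k (by omega) (by omega)
          · skip
            by_cases hh121 : k < 135542
            · skip
              by_cases hh122 : k < 133320
              · skip
                exact zRange_sound mdata z3 rhoW 1111 132209 zc119 k (by omega) (by omega)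
              · skip
                by_cases hh123 : k < 134431
                · skip
                  exact zRange_sound mdata z3 rhoW 1111 133320 zc120 k (by omega) (by omega)
                · skip
                  exact zRange_sound mdata z3 rhoW 1111 134431 zc121 k (by omega) (by omega)
            · skip
              by_cases hh124 : k < 136653
              · skip
                exact zRange_sound mdata z3 rhoW 1111 135542 zc122 k (by omega) (by omega)
              · skip
                by_cases hh125 : k < 137764
                · skip
                  exact zRange_sound mdata z3 rhoW 1111 136653 zc123 k (by omega) (by omega)
                · skip
                  exact zRange_sound mdata z3 rhoW 1111 137764 zc124 k (by omega) (by omega)
    · skip
      by_cases hh126 : k < 162206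
      · skip
        by_cases hh127 : k < 149985
        · skip
          by_cases hh128 : k < 144430
          · skip
            by_cases hh129 : k < 141097
            · skip
              by_cases hh130 : k < 139986
              · skip
                exact zRange_sound mdata z3 rhoW 1111 138875 zc125 k (by omega) (by omega)
              · skip
                exact zRange_sound mdata z3 rhoW 1111 139986 zc126 k (by omega) (by omega)
            · skip
              by_cases hh131 : k < 142208
              · skip
                exact zRange_sound mdata z3 rhoW 1111 141097 zc127 k (by omega) (by omega)
              · skip
                by_cases hh132 : k < 143319
                · skip
                  exact zRange_sound mdata z3 rhoW 1111 142208 zc128 k (by omega) (by omega)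
                · skip
                  exact zRange_sound mdata z3 rhoW 1111 143319 zc129 k (by omega) (by omega)
          · skip
            by_cases hh133 : k < 146652
            · skip
              by_cases hh134 : k < 145541
              · skip
                exact zRange_sound mdata z3 rhoW 1111 144430 zc130 k (by omega) (by omega)
              · skip
                exact zRange_sound mdata z3 rhoW 1111 145541 zc131 k (by omega) (by omega)
            · skip
              by_cases hh135 : k < 147763
              · skip
                exact zRange_sound mdata z3 rhoW 1111 146652 zc132 k (by omega) (by omega)
              · skip
                by_cases hh136 : k < 148874
                · skip
                  exact zRange_sound mdata z3 rhoW 1111 147763 zc133 k (by omega) (by omega)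
                · skip
                  exact zRange_sound mdata z3 rhoW 1111 148874 zc134 k (by omega) (by omega)
        · skip
          by_cases hh137 : k < 155540
          · skip
            by_cases hh138 : k < 152207
            · skip
              by_cases hh139 : k < 151096
              · skip
                exact zRange_sound mdata z3 rhoW 1111 149985 zc135 k (by omega) (by omega)
              · skip
                exact zRange_sound mdata z3 rhoW 1111 151096 zc136 k (by omega) (by omega)
            · skip
              by_cases hh140 : k < 153318
              · skip
                exact zRange_sound mdata z3 rhoW 1111 152207 zc137 k (by omega) (by omega)
              · skip
                by_cases hh141 : k < 154429
                · skip
                  exact zRange_sound mdata z3 rhoW 1111 153318 zc138 k (by omega) (by omega)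
                · skip
                  exact zRange_sound mdata z3 rhoW 1111 154429 zc139 k (by omega) (by omega)
          · skip
            by_cases hh142 : k < 158873
            · skip
              by_cases hh143 : k < 156651
              · skip
                exact zRange_sound mdata z3 rhoW 1111 155540 zc140 k (by omega) (by omega)
              · skip
                by_cases hh144 : k < 157762
                · skip
                  exact zRange_sound mdata z3 rhoW 1111 156651 zc141 k (by omega) (by omega)
                · skip
                  exact zRange_sound mdata z3 rhoW 1111 157762 zc142 k (by omega) (by omega)
            · skip
              by_cases hh145 : k < 159984
              · skip
                exact zRange_sound mdata z3 rhoW 1111 158873 zc143 k (by omega) (by omega)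
              · skip
                by_cases hh146 : k < 161095
                · skip
                  exact zRange_sound mdata z3 rhoW 1111 159984 zc144 k (by omega) (by omega)
                · skip
                  exact zRange_sound mdata z3 rhoW 1111 161095 zc145 k (by omega) (by omega)
      · skip
        by_cases hh147 : k < 173316
        · skip
          by_cases hh148 : k < 167761
          · skip
            by_cases hh149 : k < 164428
            · skip
              by_cases hh150 : k < 163317
              · skip
                exact zRange_sound mdata z3 rhoW 1111 162206 zc146 k (by omega) (by omega)
              · skip
                exact zRange_sound mdata z3 rhoW 1111 163317 zc147 k (by omega) (by omega)
            · skip
              by_cases hh151 : k < 165539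
              · skip
                exact zRange_sound mdata z3 rhoW 1111 164428 zc148 k (by omega) (by omega)
              · skip
                by_cases hh152 : k < 166650
                · skip
                  exact zRange_sound mdata z3 rhoW 1111 165539 zc149 k (by omega) (by omega)
                · skip
                  exact zRange_sound mdata z3 rhoW 1111 166650 zc150 k (by omega) (by omega)
          · skip
            by_cases hh153 : k < 169983
            · skip
              by_cases hh154 : k < 168872
              · skip
                exact zRange_sound mdata z3 rhoW 1111 167761 zc151 k (by omega) (by omega)
              · skip
                exact zRange_sound mdata z3 rhoW 1111 168872 zc152 k (by omega) (by omega)
            · skip
              by_cases hh155 : k < 171094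
              · skip
                exact zRange_sound mdata z3 rhoW 1111 169983 zc153 k (by omega) (by omega)
              · skip
                by_cases hh156 : k < 172205
                · skip
                  exact zRange_sound mdata z3 rhoW 1111 171094 zc154 k (by omega) (by omega)
                · skip
                  exact zRange_sound mdata z3 rhoW 1111 172205 zc155 k (by omega) (by omega)
        · skip
          by_cases hh157 : k < 178871
          · skip
            by_cases hh158 : k < 175538
            · skip
              by_cases hh159 : k < 174427
              · skip
                exact zRange_sound mdata z3 rhoW 1111 173316 zc156 k (by omega) (by omega)
              · skip
                exact zRange_sound mdata z3 rhoW 1111 174427 zc157 k (by omega) (by omega)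
            · skip
              by_cases hh160 : k < 176649
              · skip
                exact zRange_sound mdata z3 rhoW 1111 175538 zc158 k (by omega) (by omega)
              · skip
                by_cases hh161 : k < 177760
                · skip
                  exact zRange_sound mdata z3 rhoW 1111 176649 zc159 k (by omega) (by omega)
                · skip
                  exact zRange_sound mdata z3 rhoW 1111 177760 zc160 k (by omega) (by omega)
          · skip
            by_cases hh162 : k < 182204
            · skip
              by_cases hh163 : k < 179982
              · skip
                exact zRange_sound mdata z3 rhoW 1111 178871 zc161 k (by omega) (by omega)
              · skip
                by_cases hh164 : k < 181093
                · skip
                  exact zRange_sound mdata z3 rhoW 1111 179982 zc162 k (by omega) (by omega)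
                · skip
                  exact zRange_sound mdata z3 rhoW 1111 181093 zc163 k (by omega) (by omega)
            · skip
              by_cases hh165 : k < 183315
              · skip
                exact zRange_sound mdata z3 rhoW 1111 182204 zc164 k (by omega) (by omega)
              · skip
                by_cases hh166 : k < 184426
                · skip
                  exact zRange_sound mdata z3 rhoW 1111 183315 zc165 k (by omega) (by omega)
                · skip
                  exact zRange_sound mdata z3 rhoW 902 184426 zc166 k (by omega) (by omega)

end Cfsg.Agent.Lib.Helper19.Fi22MM3
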