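import Cfsg.Agent.Lib.Helper19.Fi22MM2Glue
import Cfsg.Agent.Lib.Helper6.Fi22M.Defs

set_option autoImplicit false
set_option maxRecDepth 100000
set_option linter.unusedVariables false

/-! SPARE (not imported by S2053, which uses helper9's `exists_hom_A`; this copy lives in the
sub-namespace `Helper19A`). S2053-[EX-2] (helper6's skeleton `exists_hom_A`): the covering group `PW1` acts on the 28160
cosets of its rotation subgroup; `rho3` acts as the fixed-point-free central involution
`k ↦ k xor 1`, `rho1` acts trivially. -/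

namespace Cfsg.Agent.Lib.Helper6.Fi22M

open Cfsg Cfsg.Agent.Helper4.TC Cfsg.Agent.Lib.Helper19.CentModel

namespace Helper19A

theorem cov : coveredBy Cfsg.Agent.Lib.Helper19.Fi22MM2.basesM (coxL ++ [rho2, rho1]) = true := by
  decide +kernel

theorem rho_eq : Cfsg.Agent.Lib.Helper19.Fi22MM2.rhoW = rho3 := by decide +kernel

theorem exists_hom_A : ∃ (Δ : Type) (_ : Group Δ) (φ : PW1 →* Δ),
    φ r3 ≠ 1 ∧ φ r3 ^ 2 = 1 ∧ φ r1 = 1 := by
  have hcod : Coding dec enc Cfsg.Agent.Lib.Helper19.Fi22MM2.mdata.nc := Fi22U62.coding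
  have hm := Cfsg.Agent.Lib.Helper19.Fi22MM2.model_ok
  have hone : ∀ b ∈ coxL ++ [rho2, rho1], evc (permG hm hcod) dec b = 1 :=
    evc_eq_one_of_covered hcod hm _ Helper19A.cov
  obtain ⟨Δ, hΔ, φ, h1, h2, h3⟩ := exists_hom_central hcod hm z2
    Cfsg.Agent.Lib.Helper19.Fi22MM2.rhoW
    (lettersOK_sound _ _ Cfsg.Agent.Lib.Helper19.Fi22MM2.rhoc_ok)
    Cfsg.Agent.Lib.Helper19.Fi22MM2.z_ok 2 z2_iter (by decide)
    (coxL ++ [rho2]) [rho1, rho3] gensL
    (fun b hb => hone b (by
      rcases List.mem_append.mp hb with h | h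
      · exact List.mem_append_left _ h
      · rcases List.mem_singleton.mp h with rfl
        exact List.mem_append_right _ (List.mem_cons_self)))
    (fun ρ hρ => by
      rcases List.mem_cons.mp hρ with rfl | h
      · right
        exact hone _ (List.mem_append_right _ (List.mem_cons_of_mem _ List.mem_cons_self))
      · rcases List.mem_singleton.mp h with rfl
        left
        exact Helper19A.rho_eq.symm)
  rw [Helper19A.rho_eq] at h1 h2
  refine ⟨Δ, hΔ, φ, h1, h2, ?_⟩
  exact h3 rho1 (hone _ (List.mem_append_right _ (List.mem_cons_of_mem _ List.mem_cons_self)))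

end Helper19A

end Cfsg.Agent.Lib.Helper6.Fi22M
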