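import Cfsg.Agent.Lib.Helper19.Fi22MM3Glue
import Cfsg.Agent.Lib.Helper6.Fi22M.Defs

set_option autoImplicit false
set_option maxRecDepth 100000
set_option linter.unusedVariables false

/-! S2053-[EX-3] (helper6's skeleton `exists_hom_B`): the covering group `PW1` acts on 185328 points
(three over each coset of a subgroup `O₈⁺(2):S₃` of `Fi22`); `rho1` acts as the fixed-point-free
central shift of the fibres, of order 3, and `rho3` acts trivially. -/

namespace Cfsg.Agent.Lib.Helper6.Fi22M

open Cfsg Cfsg.Agent.Helper4.TC Cfsg.Agent.Lib.Helper19.CentModel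

namespace Helper19B

theorem cov : coveredBy Cfsg.Agent.Lib.Helper19.Fi22MM3.basesM (coxL ++ [rho2, rho3]) = true := by
  decide +kernel

theorem rho_eq : Cfsg.Agent.Lib.Helper19.Fi22MM3.rhoW = rho1 := by decide +kernel

end Helper19B

theorem exists_hom_B : ∃ (Δ : Type) (_ : Group Δ) (φ : PW1 →* Δ),
    φ r1 ≠ 1 ∧ φ r1 ^ 3 = 1 ∧ φ r3 = 1 := by
  have hcod : Coding dec enc Cfsg.Agent.Lib.Helper19.Fi22MM3.mdata.nc := Fi22U62.coding
  have hm := Cfsg.Agent.Lib.Helper19.Fi22MM3.model_ok
  have hone : ∀ b ∈ coxL ++ [rho2, rho3], evc (permG hm hcod) dec b = 1 :=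
    evc_eq_one_of_covered hcod hm _ Helper19B.cov
  obtain ⟨Δ, hΔ, φ, h1, h2, h3⟩ := exists_hom_central hcod hm z3
    Cfsg.Agent.Lib.Helper19.Fi22MM3.rhoW
    (lettersOK_sound _ _ Cfsg.Agent.Lib.Helper19.Fi22MM3.rhoc_ok)
    Cfsg.Agent.Lib.Helper19.Fi22MM3.z_ok 3 z3_iter (by decide)
    (coxL ++ [rho2]) [rho1, rho3] gensL
    (fun b hb => hone b (by
      rcases List.mem_append.mp hb with h | h
      · exact List.mem_append_left _ h
      · rcases List.mem_singleton.mp h with rfl
        exact List.mem_append_right _ (List.mem_cons_self)))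
    (fun ρ hρ => by
      rcases List.mem_cons.mp hρ with rfl | h
      · left
        exact Helper19B.rho_eq.symm
      · rcases List.mem_singleton.mp h with rfl
        right
        exact hone _ (List.mem_append_right _ (List.mem_cons_of_mem _ List.mem_cons_self)))
  rw [Helper19B.rho_eq] at h1 h2
  refine ⟨Δ, hΔ, φ, h1, h2, ?_⟩
  exact h3 rho3 (hone _ (List.mem_append_right _ (List.mem_cons_of_mem _ List.mem_cons_self)))

end Cfsg.Agent.Lib.Helper6.Fi22M
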