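import Mathlib
import Cfsg.Prelude.Def_GeometricClasses
import Cfsg.Agent.Lib.Helper16.GeoTRDefs

/-!
# GeoTR, group TR-K (class 3: extension fields)  (helper19, for helper16's block TR)
-/

set_option autoImplicit false
set_option linter.unusedSectionVars false

namespace Cfsg.Agent.Lib.Helper19.GeoTR

open Matrix Cfsg.Geo Cfsg.Agent.Lib.Helper16.GeoTR
open scoped Kronecker

variable {κ ι : Type} [Fintype κ] [DecidableEq κ] [Fintype ι] [DecidableEq ι] {F : Type*} [Field F]

/-- members of `tK e K` are reindexed members of `K` -/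
theorem exists_of_mem_tK (e : κ ≃ ι) (K : Subalgebra F (Matrix κ κ F)) {x : Matrix ι ι F} (hx : x ∈ tK e K) :
    ∃ k ∈ K, x = Matrix.reindex e e k := by
  unfold tK at hx
  rw [Subalgebra.mem_map] at hx
  obtain ⟨k, hk, rfl⟩ := hx
  exact ⟨k, hk, rfl⟩

theorem reindex_mem_tK (e : κ ≃ ι) (K : Subalgebra F (Matrix κ κ F)) {k : Matrix κ κ F} (hk : k ∈ K) :
    Matrix.reindex e e k ∈ tK e K := by
  unfold tK
  rw [Subalgebra.mem_map]
  exact ⟨k, hk, rfl⟩

theorem reindex_mul' (e : κ ≃ ι) (M N : Matrix κ κ F) :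
    Matrix.reindex e e (M * N) = Matrix.reindex e e M * Matrix.reindex e e N := by
  simp only [Matrix.reindex_apply]
  rw [Matrix.submatrix_mul_equiv]

theorem reindex_one' (e : κ ≃ ι) : Matrix.reindex e e (1 : Matrix κ κ F) = 1 := by
  simp only [Matrix.reindex_apply]
  exact Matrix.submatrix_one_equiv e.symm

theorem reindex_eq_zero' (e : κ ≃ ι) {M : Matrix κ κ F} (h : Matrix.reindex e e M = 0) : M = 0 := by
  have := congrArg (Matrix.reindex e e).symm h
  simpa using this

/-- the action of a reindexed matrix, read back along `e` -/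
theorem reindex_mulVec_comp (e : κ ≃ ι) (k : Matrix κ κ F) (u : ι → F) :
    ((Matrix.reindex e e k) *ᵥ u) ∘ e = k *ᵥ (u ∘ e) := by
  rw [reindex_mulVec, rv_comp']

theorem isFieldSubalgebra_tK (e : κ ≃ ι) (r : ℕ) (K : Subalgebra F (Matrix κ κ F)) (h : IsFieldSubalgebra r K) :
    IsFieldSubalgebra r (tK e K) := by
  refine ⟨?_, ?_, ?_⟩
  · intro x hx y hy
    obtain ⟨k, hk, rfl⟩ := exists_of_mem_tK e K hx
    obtain ⟨k', hk', rfl⟩ := exists_of_mem_tK e K hy
    rw [← reindex_mul', ← reindex_mul', h.comm k hk k' hk']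
  · intro x hx hx0
    obtain ⟨k, hk, rfl⟩ := exists_of_mem_tK e K hx
    have hk0 : k ≠ 0 := by
      rintro rfl
      apply hx0
      simp
    obtain ⟨y, hy, hky⟩ := h.inv k hk hk0
    refine ⟨Matrix.reindex e e y, reindex_mem_tK e K hy, ?_⟩
    rw [← reindex_mul', hky, reindex_one']
  · have h1 : Module.finrank F (tK e K) = Module.finrank F K := by
      unfold tK
      exact (LinearEquiv.finrank_eq (Subalgebra.equivMapOfInjective K
        (Matrix.reindexAlgEquiv F F e : Matrix κ κ F →ₐ[F] Matrix ι ι F)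
        (Matrix.reindexAlgEquiv F F e).injective).toLinearEquiv).symm
    rw [h1]
    exact h.finrank_eq

theorem isSelfAdjointFor_tK (e : κ ≃ ι) {f : (κ → F) → (κ → F) → F} (K : Subalgebra F (Matrix κ κ F))
    (h : IsSelfAdjointFor f K) : IsSelfAdjointFor (tf e f) (tK e K) := by
  intro x hx u v
  obtain ⟨k, hk, rfl⟩ := exists_of_mem_tK e K hx
  rw [tf_apply, tf_apply, reindex_mulVec_comp, reindex_mulVec_comp]
  exact h k hk (u ∘ e) (v ∘ e)

/-- the converse (needed for `¬ IsSelfAdjointFor`) -/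
theorem isSelfAdjointFor_of_tK (e : κ ≃ ι) {f : (κ → F) → (κ → F) → F} (K : Subalgebra F (Matrix κ κ F))
    (h : IsSelfAdjointFor (tf e f) (tK e K)) : IsSelfAdjointFor f K := by
  intro k hk u v
  have h1 := h (Matrix.reindex e e k) (reindex_mem_tK e K hk) (rv e u) (rv e v)
  rw [tf_apply, tf_apply, reindex_mulVec_comp, reindex_mulVec_comp, rv_comp', rv_comp'] at h1
  exact h1

theorem isAdjointClosedFor_tK (e : κ ≃ ι) {f : (κ → F) → (κ → F) → F} (K : Subalgebra F (Matrix κ κ F))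
    (h : IsAdjointClosedFor f K) : IsAdjointClosedFor (tf e f) (tK e K) := by
  intro x hx
  obtain ⟨k, hk, rfl⟩ := exists_of_mem_tK e K hx
  obtain ⟨k', hk', hkk'⟩ := h k hk
  refine ⟨Matrix.reindex e e k', reindex_mem_tK e K hk', fun u v => ?_⟩
  rw [tf_apply, tf_apply, reindex_mulVec_comp, reindex_mulVec_comp]
  exact hkk' (u ∘ e) (v ∘ e)

theorem alt_tK (e : κ ≃ ι) {f : (κ → F) → (κ → F) → F} (K : Subalgebra F (Matrix κ κ F))
    (h : ∀ k ∈ K, ∀ v, f (k *ᵥ v) v = 0) : ∀ k ∈ tK e K, ∀ v, tf e f (k *ᵥ v) v = 0 := by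
  intro x hx v
  obtain ⟨k, hk, rfl⟩ := exists_of_mem_tK e K hx
  rw [tf_apply, reindex_mulVec_comp]
  exact h k hk (v ∘ e)

theorem reindex_symm_mul' (e : κ ≃ ι) (M N : Matrix ι ι F) :
    Matrix.reindex e.symm e.symm (M * N) = Matrix.reindex e.symm e.symm M * Matrix.reindex e.symm e.symm N := by
  simp only [Matrix.reindex_apply, Equiv.symm_symm]
  rw [Matrix.submatrix_mul_equiv]

theorem reindex_symm_glReindex (e : κ ≃ ι) (g : GL κ F) :
    Matrix.reindex e.symm e.symm ((glReindex e g : GL ι F) : Matrix ι ι F) = (g : Matrix κ κ F) := by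
  ext i j
  simp [glReindex_apply]

theorem mem_subalgebraNormalizer_iff {K : Subalgebra F (Matrix ι ι F)} {g : GL ι F} :
    g ∈ subalgebraNormalizer K ↔
      ∀ k : Matrix ι ι F, k ∈ K ↔ (g : Matrix ι ι F) * k * ((g⁻¹ : GL ι F) : Matrix ι ι F) ∈ K := Iff.rfl

theorem mem_subalgebraNormalizer_tK (e : κ ≃ ι) (K : Subalgebra F (Matrix κ κ F)) {g : GL κ F}
    (h : g ∈ subalgebraNormalizer K) : glReindex e g ∈ subalgebraNormalizer (tK e K) := by
  rw [mem_subalgebraNormalizer_iff] at h ⊢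
  intro x
  rw [mem_tK, mem_tK, reindex_symm_mul', reindex_symm_mul', ← map_inv, reindex_symm_glReindex, reindex_symm_glReindex]
  exact h _

end Cfsg.Agent.Lib.Helper19.GeoTR
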