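import Mathlib
import Cfsg.Prelude.Def_GeometricClasses
import Cfsg.Agent.Lib.Helper16.GeoTRDefs

/-!
# GeoTR, groups TR-T (class 4) and TR-P (class 7): tensor structures  (helper19, for helper16's block TR)
-/

set_option autoImplicit false
set_option linter.unusedSectionVars false

namespace Cfsg.Agent.Lib.Helper19.GeoTR

open Matrix Cfsg.Geo Cfsg.Agent.Lib.Helper16.GeoTR
open scoped Kronecker

variable {κ ι : Type} [Fintype κ] [DecidableEq κ] [Fintype ι] [DecidableEq ι] {F : Type*} [Field F]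

/-- reindexing twice -/
theorem glReindex_glReindex_symm_trans {τ : Type} [Fintype τ] [DecidableEq τ] (e : κ ≃ ι) (e₁ : κ ≃ τ) (k : GL τ F) :
    glReindex e (glReindex e₁.symm k) = glReindex (e.symm.trans e₁).symm k := by
  apply Units.ext
  ext i j
  rfl

/-- `(x ∘ (e.symm.trans e₁)) ∘ e = x ∘ e₁` -/
theorem comp_trans_comp {τ : Type} (e : κ ≃ ι) (e₁ : κ ≃ τ) (x : τ → F) :
    (x ∘ (e.symm.trans e₁)) ∘ e = x ∘ e₁ := by
  funext i
  simp

/-- conjugates of transported standard subgroups -/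
theorem mem_conj_map_glReindex {τ : Type} [Fintype τ] [DecidableEq τ] (e : κ ≃ ι) (e₁ : κ ≃ τ)
    (S : Subgroup (GL τ F)) (P : GL κ F) {g : GL κ F}
    (h : g ∈ (S.map (glReindex (F := F) e₁.symm).toMonoidHom).map (MulAut.conj P).toMonoidHom) :
    glReindex e g ∈
      (S.map (glReindex (F := F) (e.symm.trans e₁).symm).toMonoidHom).map (MulAut.conj (glReindex e P)).toMonoidHom := by
  obtain ⟨_, ⟨k, hk, rfl⟩, rfl⟩ := h
  refine ⟨glReindex (e.symm.trans e₁).symm k, ⟨k, hk, rfl⟩, ?_⟩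
  simp only [MulEquiv.toMonoidHom_eq_coe, MonoidHom.coe_coe, MulAut.conj_apply, map_mul, map_inv]
  rw [glReindex_glReindex_symm_trans]

theorem mem_tensorProductSubgroup_glReindex (e : κ ≃ ι) (n₁ n₂ : ℕ) (e₁ : κ ≃ Fin n₁ × Fin n₂) (P : GL κ F) {g : GL κ F}
    (h : g ∈ tensorProductSubgroup n₁ n₂ e₁ P) :
    glReindex e g ∈ tensorProductSubgroup n₁ n₂ (e.symm.trans e₁) (glReindex e P) :=
  mem_conj_map_glReindex e e₁ (kroneckerSubgroup n₁ n₂ F) P h

theorem isTensorFormStructure_tf (e : κ ≃ ι) (σ : F → F) {f : (κ → F) → (κ → F) → F} {n₁ n₂ : ℕ}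
    (f₁ : (Fin n₁ → F) → (Fin n₁ → F) → F) (f₂ : (Fin n₂ → F) → (Fin n₂ → F) → F) (e₁ : κ ≃ Fin n₁ × Fin n₂) (P : GL κ F)
    (h : IsTensorFormStructure σ f f₁ f₂ e₁ P) :
    IsTensorFormStructure σ (tf e f) f₁ f₂ (e.symm.trans e₁) (glReindex e P) := by
  obtain ⟨c, hc, hxy⟩ := h
  refine ⟨c, hc, fun x y => ?_⟩
  rw [tf_apply, glReindex_mulVec_comp, glReindex_mulVec_comp, comp_trans_comp, comp_trans_comp]
  exact hxy x y

theorem mem_tensorWreathSubgroup_glReindex (e : κ ≃ ι) (k t : ℕ) (e₁ : κ ≃ (Fin t → Fin k)) (P : GL κ F) {g : GL κ F}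
    (h : g ∈ tensorWreathSubgroup k t e₁ P) :
    glReindex e g ∈ tensorWreathSubgroup k t (e.symm.trans e₁) (glReindex e P) :=
  mem_conj_map_glReindex e e₁ (tensorWreathStandard k t F) P h

theorem isTensorPowerFormStructure_tf (e : κ ≃ ι) (σ : F → F) {f : (κ → F) → (κ → F) → F} {k t : ℕ}
    (f₁ : (Fin k → F) → (Fin k → F) → F) (e₁ : κ ≃ (Fin t → Fin k)) (P : GL κ F)
    (h : IsTensorPowerFormStructure σ f f₁ e₁ P) :
    IsTensorPowerFormStructure σ (tf e f) f₁ (e.symm.trans e₁) (glReindex e P) := by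
  obtain ⟨c, hc, hxy⟩ := h
  refine ⟨c, hc, fun x y => ?_⟩
  rw [tf_apply, glReindex_mulVec_comp, glReindex_mulVec_comp, comp_trans_comp, comp_trans_comp]
  exact hxy x y

end Cfsg.Agent.Lib.Helper19.GeoTR
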