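import Cfsg.Agent.Lib.Helper19.HSEXCertA
import Cfsg.Agent.Lib.Helper19.HSEXCertS0
import Cfsg.Agent.Lib.Helper19.HSEXCertS1
import Cfsg.Agent.Lib.Helper19.HSEXCertS2
import Cfsg.Agent.Lib.Helper19.HSEXCertS3
import Cfsg.Agent.Lib.Helper19.HSEXCertS4
import Cfsg.Agent.Lib.Helper19.HSEXCertS5
import Cfsg.Agent.Lib.Helper19.HSEXCertS6
import Cfsg.Agent.Lib.Helper19.HSEXCertS7
import Cfsg.Agent.Lib.Helper19.HSEXCertS8
import Cfsg.Agent.Lib.Helper19.HSEXCertS9
import Cfsg.Agent.Lib.Helper19.HSEXCertS10
import Cfsg.Agent.Lib.Helper19.HSEXCertS11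
import Cfsg.Agent.Lib.Helper19.HSEXCertS12

/-!
# A verified Schreier–Sims chain on 804 points: the double cover 2.HS on 100 + 704 points (S2046 piece EX)
-/

set_option autoImplicit false
set_option maxRecDepth 100000

namespace Cfsg.Agent.Lib.Helper19.HSEX.PD

open Cfsg.Agent.Lib.Helper28.BSGS Cfsg.Agent.Lib.Helper11.Ico

theorem sift3_all :
    (gens.drop 5).all (fun g => tr3.all fun e => siftB 804 10 ((3, tr3) :: rest4) [g.1, e.2.1]) = true := by
  apply all_getD (gens.drop 5) (0, 0)
  intro i hi
  rw [drop3_length] at hi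
  interval_cases i
  · exact sift3_0
  · exact sift3_1
  · exact sift3_2
  · exact sift3_3
  · exact sift3_4

theorem level3_ok : levelOK 804 10 (gens.drop 5) (3, tr3) rest4 = true := by
  show ((decide ((3 : ℕ) < 804) && headOK 804 10 3 tr3 && tr3.all (entryOK 804 10 3) &&
    nodupB (tr3.map fun e => e.1) &&
    orbitOK 10 (gens.drop 5) [3] ((tr3.map fun e => e.1).tail)) &&
    (gens.drop 5).all (fun g => tr3.all fun e => siftB 804 10 ((3, tr3) :: rest4) [g.1, e.2.1])) = true
  rw [Bool.and_eq_true]
  exact ⟨l3_static, sift3_all⟩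

theorem chain3_ok : checkChain 804 10 (gens.drop 5) rest3 = true := by
  show (levelOK 804 10 (gens.drop 5) (3, tr3) rest4 &&
    checkChain 804 10 (nextGens 10 (gens.drop 5) 3) rest4) = true
  rw [level3_ok, nextGens3, chain4_ok]
  rfl

theorem sift2_all :
    (gens.drop 4).all (fun g => tr2.all fun e => siftB 804 10 ((2, tr2) :: rest3) [g.1, e.2.1]) = true := by
  apply all_getD (gens.drop 4) (0, 0)
  intro i hi
  rw [drop2_length] at hi
  interval_cases i
  · exact sift2_0
  · exact sift2_1
  · exact sift2_2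
  · exact sift2_3
  · exact sift2_4
  · exact sift2_5

theorem level2_ok : levelOK 804 10 (gens.drop 4) (2, tr2) rest3 = true := by
  show ((decide ((2 : ℕ) < 804) && headOK 804 10 2 tr2 && tr2.all (entryOK 804 10 2) &&
    nodupB (tr2.map fun e => e.1) &&
    orbitOK 10 (gens.drop 4) [2] ((tr2.map fun e => e.1).tail)) &&
    (gens.drop 4).all (fun g => tr2.all fun e => siftB 804 10 ((2, tr2) :: rest3) [g.1, e.2.1])) = true
  rw [Bool.and_eq_true]
  exact ⟨l2_static, sift2_all⟩

theorem chain2_ok : checkChain 804 10 (gens.drop 4) rest2 = true := by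
  show (levelOK 804 10 (gens.drop 4) (2, tr2) rest3 &&
    checkChain 804 10 (nextGens 10 (gens.drop 4) 2) rest3) = true
  rw [level2_ok, nextGens2, chain3_ok]
  rfl

theorem sift1_all :
    (gens.drop 3).all (fun g => tr1.all fun e => siftB 804 10 ((0, tr1) :: rest2) [g.1, e.2.1]) = true := by
  apply all_getD (gens.drop 3) (0, 0)
  intro i hi
  rw [drop1_length] at hi
  interval_cases i
  · exact sift1_0
  · exact sift1_1
  · exact sift1_2
  · exact sift1_3
  · exact sift1_4
  · exact sift1_5
  · exact sift1_6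

theorem level1_ok : levelOK 804 10 (gens.drop 3) (0, tr1) rest2 = true := by
  show ((decide ((0 : ℕ) < 804) && headOK 804 10 0 tr1 && tr1.all (entryOK 804 10 0) &&
    nodupB (tr1.map fun e => e.1) &&
    orbitOK 10 (gens.drop 3) [0] ((tr1.map fun e => e.1).tail)) &&
    (gens.drop 3).all (fun g => tr1.all fun e => siftB 804 10 ((0, tr1) :: rest2) [g.1, e.2.1])) = true
  rw [Bool.and_eq_true]
  exact ⟨l1_static, sift1_all⟩

theorem chain1_ok : checkChain 804 10 (gens.drop 3) rest1 = true := by
  show (levelOK 804 10 (gens.drop 3) (0, tr1) rest2 &&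
    checkChain 804 10 (nextGens 10 (gens.drop 3) 0) rest2) = true
  rw [level1_ok, nextGens1, chain2_ok]
  rfl

theorem sift0_all :
    gens.all (fun g => tr0.all fun e => siftB 804 10 ((1, tr0) :: rest1) [g.1, e.2.1]) = true := by
  apply all_getD gens (0, 0)
  intro i hi
  rw [gens_length] at hi
  interval_cases i
  · exact sift0_0
  · exact sift0_1
  · exact sift0_2
  · exact sift0_3
  · exact sift0_4
  · exact sift0_5
  · exact sift0_6
  · exact sift0_7
  · exact sift0_8
  · exact sift0_9

theorem level0_ok : levelOK 804 10 gens (1, tr0) rest1 = true := by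
  show ((decide ((1 : ℕ) < 804) && headOK 804 10 1 tr0 && tr0.all (entryOK 804 10 1) &&
    nodupB (tr0.map fun e => e.1) &&
    orbitOK 10 gens [1] ((tr0.map fun e => e.1).tail)) &&
    gens.all (fun g => tr0.all fun e => siftB 804 10 ((1, tr0) :: rest1) [g.1, e.2.1])) = true
  rw [Bool.and_eq_true]
  exact ⟨l0_static, sift0_all⟩

theorem chain0_ok : checkChain 804 10 gens rest0 = true := by
  show (levelOK 804 10 gens (1, tr0) rest1 &&
    checkChain 804 10 (nextGens 10 gens 1) rest1) = true
  rw [level0_ok, nextGens0, chain1_ok]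
  rfl

theorem chain_ok : checkChain 804 10 gens levels = true := chain0_ok

/-- **The group generated by the tables has order 88704000.** -/
theorem card_genGroup : Nat.card (genGroup 804 10 gens) = 88704000 := by
  rw [← size_ok]
  exact (perm_main 804 10 gens levels gens_ok chain_ok).1

end Cfsg.Agent.Lib.Helper19.HSEX.PD
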