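import Cfsg.Agent.Lib.Helper19.HSEXData
import Cfsg.Agent.Lib.Helper11.IcoChunk

set_option autoImplicit false
set_option maxRecDepth 100000
set_option maxHeartbeats 0

namespace Cfsg.Agent.Lib.Helper19.HSEX.PD

open Cfsg.Agent.Lib.Helper28.BSGS Cfsg.Agent.Lib.Helper11.Ico

theorem gens_ok : gensOK 804 10 gens = true := by decide +kernel

theorem size_ok : codeSize levels = 88704000 := by decide +kernel

theorem gens_length : gens.length = 10 := by decide +kernel

theorem nextGens0 : nextGens 10 gens 1 = gens.drop 3 := by decide +kernel

theorem l0_static : (decide ((1 : ℕ) < 804) && headOK 804 10 1 tr0 && tr0.all (entryOK 804 10 1) &&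
    nodupB (tr0.map fun e => e.1) &&
    orbitOK 10 gens [1] ((tr0.map fun e => e.1).tail)) = true := by decide +kernel

theorem nextGens1 : nextGens 10 (gens.drop 3) 0 = gens.drop 4 := by decide +kernel

theorem drop1_length : (gens.drop 3).length = 7 := by decide +kernel

theorem l1_static : (decide ((0 : ℕ) < 804) && headOK 804 10 0 tr1 && tr1.all (entryOK 804 10 0) &&
    nodupB (tr1.map fun e => e.1) &&
    orbitOK 10 (gens.drop 3) [0] ((tr1.map fun e => e.1).tail)) = true := by decide +kernel

theorem nextGens2 : nextGens 10 (gens.drop 4) 2 = gens.drop 5 := by decide +kernel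

theorem drop2_length : (gens.drop 4).length = 6 := by decide +kernel

theorem l2_static : (decide ((2 : ℕ) < 804) && headOK 804 10 2 tr2 && tr2.all (entryOK 804 10 2) &&
    nodupB (tr2.map fun e => e.1) &&
    orbitOK 10 (gens.drop 4) [2] ((tr2.map fun e => e.1).tail)) = true := by decide +kernel

theorem nextGens3 : nextGens 10 (gens.drop 5) 3 = gens.drop 6 := by decide +kernel

theorem drop3_length : (gens.drop 5).length = 5 := by decide +kernel

theorem l3_static : (decide ((3 : ℕ) < 804) && headOK 804 10 3 tr3 && tr3.all (entryOK 804 10 3) &&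
    nodupB (tr3.map fun e => e.1) &&
    orbitOK 10 (gens.drop 5) [3] ((tr3.map fun e => e.1).tail)) = true := by decide +kernel

/-- the tail of the chain, checked in one go -/
theorem chain4_ok : checkChain 804 10 (gens.drop 6) rest4 = true := by decide +kernel

end Cfsg.Agent.Lib.Helper19.HSEX.PD
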