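import Cfsg.Agent.Lib.Helper18.HSMultDefs
import Cfsg.Agent.Lib.Helper4.TC.U35PSMain
import Cfsg.Agent.Lib.Helper9.U35MinPerm
import Cfsg.Agent.Lib.Helper1.HSMultSD

/-!
# S2046-[C1] (helper19, for helper18's front): the subgroup `UK = ⟨x, y⟩` of `Kab`

`UK` is an image of helper4's presented simple group of order 126000 (six relators, checked on the 100 points),
hence `|UK| = 126000` and `UK` is perfect; `r = x y` (order 8) and an explicit involution `s` with
`s r s⁻¹ = r ^ 3` generate a semidihedral subgroup of order 16, of odd index, so by helper1's [SD'] no stem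
extension of `UK` has a non-trivial `2`-group as kernel.
-/

set_option autoImplicit false

namespace Cfsg.Agent.Lib.Helper18.HSMult

open Cfsg.Agent.Lib.Helper28.BSGS Cfsg.Agent.Lib.Helper28.HSAData Cfsg.Agent.Lib.Helper28.HSA
open Cfsg.H5.TCk

namespace Helper19C1

open scoped Pointwise commutatorElement
open Cfsg.Agent.Lib.Helper9.U35Min Cfsg.Agent.Helper4.Pres.U35

/-- a subgroup generated by `r, s` with the semidihedral relations has order 16 -/
theorem card_closure_sd16 {U : Type*} [Group U] [Finite U] (r s : U) (hr8 : r ^ 8 = 1) (hr4 : r ^ 4 ≠ 1)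
    (hs : s * s = 1) (hsr : s * r * s⁻¹ = r ^ 3) : Nat.card (Subgroup.closure {r, s}) = 16 := by
  classical
  set N : Subgroup U := Subgroup.zpowers r with hN
  set T : Subgroup U := Subgroup.zpowers s with hT
  have hcl : Subgroup.closure {r, s} = N ⊔ T := by
    rw [hN, hT, Subgroup.zpowers_eq_closure, Subgroup.zpowers_eq_closure, ← Subgroup.closure_union]
    rfl
  have hor : orderOf r = 8 := by
    have h1 : orderOf r ∣ 2 ^ 3 := orderOf_dvd_of_pow_eq_one (by simpa using hr8)
    obtain ⟨k, hk, hk'⟩ := (Nat.dvd_prime_pow Nat.prime_two).mp h1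
    have h2 : ¬ orderOf r ∣ 4 := fun h => hr4 (orderOf_dvd_iff_pow_eq_one.mp h)
    interval_cases k
    · rw [hk'] at h2; exact absurd (by norm_num) h2
    · rw [hk'] at h2; exact absurd (by norm_num) h2
    · rw [hk'] at h2; exact absurd (by norm_num) h2
    · simpa using hk'
  have hcN : Nat.card N = 8 := by rw [hN, Nat.card_zpowers, hor]
  have hos : orderOf s ∣ 2 := orderOf_dvd_of_pow_eq_one (by rw [pow_two]; exact hs)
  have hcT : Nat.card T ≤ 2 := by
    rw [hT, Nat.card_zpowers]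
    exact Nat.le_of_dvd (by norm_num) hos
  have hsN : s ∈ Subgroup.normalizer (N : Set U) := by
    apply Subgroup.mem_normalizer_fintype
    intro n hn
    obtain ⟨i, rfl⟩ := Subgroup.mem_zpowers_iff.mp hn
    rw [← conj_zpow, hsr]
    exact Subgroup.zpow_mem _ (Subgroup.pow_mem _ (Subgroup.mem_zpowers r) 3) i
  have hTN : T ≤ Subgroup.normalizer (N : Set U) := by
    rw [hT, Subgroup.zpowers_le]; exact hsN
  have hset : ((N ⊔ T : Subgroup U) : Set U) = (N : Set U) * (T : Set U) :=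
    Subgroup.coe_mul_of_right_le_normalizer_left N T hTN
  have hle : Nat.card (N ⊔ T : Subgroup U) ≤ 16 := by
    have h1 : Nat.card (N ⊔ T : Subgroup U) = Nat.card ((N : Set U) * (T : Set U) : Set U) := by
      rw [← hset]; rfl
    rw [h1]
    calc Nat.card ((N : Set U) * (T : Set U) : Set U) ≤ Nat.card (N : Set U) * Nat.card (T : Set U) :=
          Set.natCard_mul_le
      _ ≤ 8 * 2 := Nat.mul_le_mul (le_of_eq hcN) hcT
  have hdvd : 8 ∣ Nat.card (N ⊔ T : Subgroup U) := by
    rw [← hcN]; exact Subgroup.card_dvd_of_le le_sup_left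
  have hsnot : s ∉ N := by
    intro hsN'
    obtain ⟨k, hk⟩ := Subgroup.mem_zpowers_iff.mp hsN'
    have hc : s * r = r * s := by
      rw [← hk]
      exact ((Commute.refl r).zpow_left k).eq
    have h3 : r = r ^ 3 := by rw [← hsr, hc, mul_inv_cancel_right]
    have h2 : r ^ 2 = 1 := by
      have : r * r ^ 2 = r * 1 := by rw [← pow_succ', mul_one]; exact h3.symm
      exact mul_left_cancel this
    apply hr4
    calc r ^ 4 = (r ^ 2) ^ 2 := by rw [← pow_mul]
      _ = 1 := by rw [h2, one_pow]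
  have hne : Nat.card (N ⊔ T : Subgroup U) ≠ 8 := by
    intro h8
    have heq : N = N ⊔ T := Subgroup.eq_of_le_of_card_ge le_sup_left (by rw [h8, hcN])
    apply hsnot
    rw [heq]
    exact (le_sup_right : T ≤ N ⊔ T) (Subgroup.mem_zpowers s)
  have hpos : 0 < Nat.card (N ⊔ T : Subgroup U) := Nat.card_pos
  rw [hcl]
  obtain ⟨c, hc⟩ := hdvd
  have : c = 2 := by
    have h1 : c ≤ 2 := by omega
    have h2 : c ≠ 1 := by omega
    have h3 : c ≠ 0 := by omega
    omega
  omega

/-- two elements of a group satisfying the six relators, the first not `1`, not commuting, generate a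
perfect subgroup of order 126000 -/
theorem core {K : Type*} [Group K] (x y : K) (hrel : RelsHold x y) (hx : x ≠ 1) (hnc : x * y ≠ y * x) :
    Nat.card (Subgroup.closure {x, y}) = 126000 ∧
      Subgroup.closure {x, y} ≤ ⁅Subgroup.closure {x, y}, Subgroup.closure {x, y}⁆ := by
  have hsimp : IsSimpleGroup P := Cfsg.Agent.Helper4.TC.U35PS.main.1
  have hcard : Nat.card P = 126000 := Cfsg.Agent.Helper4.TC.U35PS.main.2
  set φ : P →* K := PresentedGroup.toGroup (rel_ok x y hrel) with hφ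
  have hφa : φ pa = x := PresentedGroup.toGroup.of (rel_ok x y hrel)
  have hφb : φ pb = y := PresentedGroup.toGroup.of (rel_ok x y hrel)
  have hinj : Function.Injective φ := by
    rw [← MonoidHom.ker_eq_bot_iff]
    rcases IsSimpleGroup.eq_bot_or_eq_top_of_normal φ.ker inferInstance with h | h
    · exact h
    · exfalso
      apply hx
      have : pa ∈ φ.ker := by rw [h]; trivial
      rw [MonoidHom.mem_ker, hφa] at this
      exact this
  have hrange : φ.range = Subgroup.closure {x, y} := by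
    rw [MonoidHom.range_eq_map, ← PresentedGroup.closure_range_of, MonoidHom.map_closure]
    congr 1
    ext z
    constructor
    · rintro ⟨_, ⟨g, rfl⟩, rfl⟩
      cases g
      · right; exact hφb
      · left; exact hφa
    · rintro (rfl | rfl)
      · exact ⟨_, ⟨Gen.a, rfl⟩, hφa⟩
      · exact ⟨_, ⟨Gen.b, rfl⟩, hφb⟩
  have hperf : commutator P = ⊤ := by
    rcases IsSimpleGroup.eq_bot_or_eq_top_of_normal (commutator P) inferInstance with h | h
    · exfalso
      apply hnc
      have h1 : ⁅pa, pb⁆ ∈ commutator P := by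
        rw [commutator_def]
        exact Subgroup.commutator_mem_commutator (Subgroup.mem_top _) (Subgroup.mem_top _)
      rw [h, Subgroup.mem_bot, commutatorElement_eq_one_iff_mul_comm] at h1
      rw [← hφa, ← hφb, ← map_mul, ← map_mul, h1]
    · exact h
  constructor
  · rw [← hrange, ← hcard]
    exact (Nat.card_congr (Equiv.ofInjective φ hinj)).symm
  · rw [← hrange, MonoidHom.range_eq_map, ← Subgroup.map_commutator, ← commutator_def, hperf]

/-! ### words in `x, y` on the 100 points -/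

section letters
variable {M : Type*} [Group M] (γ : ℕ → M)

theorem gl0 : gl γ 0 = γ 0 := rfl
theorem gl1 : gl γ 1 = (γ 0)⁻¹ := rfl
theorem gl2 : gl γ 2 = γ 1 := rfl
theorem gl3 : gl γ 3 = (γ 1)⁻¹ := rfl

theorem ev_pow (w : List ℕ) (n : ℕ) : ev γ (List.replicate n w).flatten = ev γ w ^ n := by
  induction n with
  | zero => rw [pow_zero]; rfl
  | succ n ih => rw [List.replicate_succ, List.flatten_cons, ev_append, ih, pow_succ']

end letters

theorem evK_eq_one (w : List ℕ) (hw : ∀ l ∈ w, l < 6) (h : wordId 100 7 (w.map ltab) = true) :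
    ev gK w = 1 := by
  apply Subtype.ext
  rw [coe_ev]
  exact eq_one_of_wordId 100 7 (ev_acts w hw) h

theorem evK_eq (w w' : List ℕ) (hw : ∀ l ∈ w, l < 6) (hw' : ∀ l ∈ w', l < 6)
    (h : wordEq 100 7 (w.map ltab) (w'.map ltab) = true) : ev gK w = ev gK w' := by
  apply Subtype.ext
  rw [coe_ev, coe_ev]
  exact eq_of_wordEq 100 7 (ev_acts w hw) (ev_acts w' hw') h

theorem evK_ne (w w' : List ℕ) (hw : ∀ l ∈ w, l < 6) (hw' : ∀ l ∈ w', l < 6) (a : ℕ) (ha : a < 100)
    (h : evalW 7 (w.map ltab) a ≠ evalW 7 (w'.map ltab) a) : ev gK w ≠ ev gK w' := by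
  intro he
  apply h
  have h1 : ((ev gP w) ⟨a, ha⟩).val = evalW 7 (w.map ltab) a := ev_acts w hw ⟨a, ha⟩
  have h2 : ((ev gP w') ⟨a, ha⟩).val = evalW 7 (w'.map ltab) a := ev_acts w' hw' ⟨a, ha⟩
  rw [← h1, ← h2, ← coe_ev, ← coe_ev, he]

theorem ev_mem_UK (w : List ℕ) (hw : ∀ l ∈ w, l < 4) : ev gK w ∈ UK := by
  induction w with
  | nil => exact UK.one_mem
  | cons l w ih =>
    refine UK.mul_mem ?_ (ih fun l' hl' => hw l' (List.mem_cons_of_mem _ hl'))
    have hl := hw l List.mem_cons_self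
    interval_cases l
    · exact gK_mem_UK 0 (by norm_num)
    · exact UK.inv_mem (gK_mem_UK 0 (by norm_num))
    · exact gK_mem_UK 1 (by norm_num)
    · exact UK.inv_mem (gK_mem_UK 1 (by norm_num))

/-! the six relators -/

theorem rel1 : wordId 100 7 (([0, 0] : List ℕ).map ltab) = true := by decide +kernel
theorem rel2 : wordId 100 7 (([2, 2, 2, 2, 2, 2, 2, 2, 2, 2] : List ℕ).map ltab) = true := by decide +kernel
theorem rel3 : wordId 100 7 (([0, 2, 2, 2, 0, 2, 2, 2, 0, 2, 2, 2, 0, 2, 2, 2, 0, 2, 2, 2, 0, 2, 2, 2,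
    0, 2, 2, 2] : List ℕ).map ltab) = true := by decide +kernel
theorem rel4 : wordId 100 7 (([0, 2, 0, 2, 0, 2, 0, 2, 0, 2, 0, 2, 0, 2, 0, 2] : List ℕ).map ltab) = true := by
  decide +kernel
theorem rel5 : wordId 100 7 (([0, 2, 2, 2, 2, 2, 0, 2, 2, 2, 2, 2, 0, 2, 2, 2, 2, 2] : List ℕ).map ltab) = true := by
  decide +kernel
theorem rel6 : wordId 100 7 (([0, 3, 0, 2, 2, 0, 3, 0, 3, 0, 3, 0, 2, 2, 0, 3, 0, 2, 2, 2, 2] : List ℕ).map ltab)
    = true := by decide +kernel

theorem rels_K : RelsHold (gK 0) (gK 1) := by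
  have h1 := evK_eq_one _ (by decide) rel1
  have h2 := evK_eq_one _ (by decide) rel2
  have h3 := evK_eq_one _ (by decide) rel3
  have h4 := evK_eq_one _ (by decide) rel4
  have h5 := evK_eq_one _ (by decide) rel5
  have h6 := evK_eq_one _ (by decide) rel6
  simp only [ev, gl0, gl2, gl3, mul_one] at h1 h2 h3 h4 h5 h6
  refine ⟨?_, ?_, ?_, ?_, ?_, ?_⟩ <;> try simp only [mul_assoc]
  exacts [h1, h2, h3, h4, h5, h6]

theorem gK0_ne_one : gK 0 ≠ 1 := by
  intro h
  exact b_ne_one (congrArg Subtype.val h)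

theorem gK_nc : gK 0 * gK 1 ≠ gK 1 * gK 0 := by
  have h := evK_ne [0, 2] [2, 0] (by decide) (by decide) 0 (by norm_num) (by decide +kernel)
  simpa only [ev, gl0, gl2, mul_one] using h

/-- `r = x y` -/
def rw8 : List ℕ := [0, 2]

/-- an involution inverting-and-cubing `r` -/
def sw8 : List ℕ := [2, 2, 2, 0, 3, 3, 0, 3, 3, 3, 0, 3, 3, 0, 2, 2, 2, 2]

theorem r8_ok : wordId 100 7 ((List.replicate 8 rw8).flatten.map ltab) = true := by decide +kernel
theorem s2_ok : wordId 100 7 ((sw8 ++ sw8).map ltab) = true := by decide +kernel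
theorem srs_ok : wordEq 100 7 ((sw8 ++ rw8 ++ winv sw8).map ltab) ((List.replicate 3 rw8).flatten.map ltab) = true := by
  decide +kernel
theorem r4_ne : evalW 7 ((List.replicate 4 rw8).flatten.map ltab) 0 ≠ evalW 7 (([] : List ℕ).map ltab) 0 := by
  decide +kernel

theorem lt4_lt6 {w : List ℕ} (h : ∀ l ∈ w, l < 4) : ∀ l ∈ w, l < 6 := fun l hl => lt_trans (h l hl) (by norm_num)

/-- `r` as an element of `UK` -/
def rU : ↥UK := ⟨ev gK rw8, ev_mem_UK rw8 (by decide)⟩

/-- `s` as an element of `UK` -/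
def sU : ↥UK := ⟨ev gK sw8, ev_mem_UK sw8 (by decide)⟩

theorem rU_pow8 : rU ^ 8 = 1 := by
  apply Subtype.ext
  rw [Subgroup.coe_pow, Subgroup.coe_one]
  show ev gK rw8 ^ 8 = 1
  rw [← ev_pow]
  exact evK_eq_one _ (by decide) r8_ok

theorem rU_pow4 : rU ^ 4 ≠ 1 := by
  intro h
  have h1 := congrArg Subtype.val h
  rw [Subgroup.coe_pow, Subgroup.coe_one] at h1
  have h2 : ev gK rw8 ^ 4 = 1 := h1
  rw [← ev_pow] at h2
  exact evK_ne _ [] (by decide) (by decide) 0 (by norm_num) r4_ne h2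

theorem sU_sq : sU * sU = 1 := by
  apply Subtype.ext
  rw [Subgroup.coe_mul, Subgroup.coe_one]
  show ev gK sw8 * ev gK sw8 = 1
  rw [← ev_append]
  exact evK_eq_one _ (by decide) s2_ok

theorem sU_conj : sU * rU * sU⁻¹ = rU ^ 3 := by
  apply Subtype.ext
  rw [Subgroup.coe_mul, Subgroup.coe_mul, Subgroup.coe_inv, Subgroup.coe_pow]
  show ev gK sw8 * ev gK rw8 * (ev gK sw8)⁻¹ = ev gK rw8 ^ 3
  rw [← ev_winv, ← ev_append, ← ev_append, ← ev_pow]
  exact evK_eq _ _ (by decide) (by decide) srs_ok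

end Helper19C1

open Helper19C1

theorem card_UK : Nat.card UK = 126000 := (core (gK 0) (gK 1) rels_K gK0_ne_one gK_nc).1

theorem UK_perfect : UK ≤ ⁅UK, UK⁆ := (core (gK 0) (gK 1) rels_K gK0_ne_one gK_nc).2

theorem UK_two : ∀ (Λ : Type) [Group Λ] [Finite Λ] (τ : Λ →* ↥UK), Cfsg.IsStemExtension τ →
    IsPGroup 2 τ.ker → τ.ker = ⊥ := by
  intro Λ _ _ τ hτ h2
  have : Finite ↥Kab := finite_K
  have : Finite ↥UK := inferInstance
  have h16 := card_closure_sd16 rU sU rU_pow8 rU_pow4 sU_sq sU_conj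
  have hidx := (Subgroup.closure {rU, sU}).card_mul_index
  rw [h16, card_UK] at hidx
  have hodd : Odd (Subgroup.closure {rU, sU}).index := ⟨3937, by omega⟩
  exact ker_eq_bot_of_sd16_odd_index τ hτ h2 rU sU rU_pow8 rU_pow4 sU_sq sU_conj hodd

end Cfsg.Agent.Lib.Helper18.HSMult
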