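import Cfsg.Agent.Lib.Helper19.HSEXData
import Cfsg.Agent.Lib.Helper19.HSMultEXData
import Cfsg.Agent.Lib.Helper28.HSA

/-!
# S2046 piece [EX] (helper19): the Boolean certificates for the double cover `2.HS` on 804 points
(besides the chain certificate `HSEXCert`)
-/

set_option autoImplicit false
set_option Elab.async false
set_option maxHeartbeats 0

namespace Cfsg.Agent.Lib.Helper19.HSEX

open Cfsg.Agent.Lib.Helper28.BSGS

/-- the table preserves the set of the first 100 points -/
def invB (t : ℕ) : Bool :=
  (List.range 804).all fun x => decide (look 10 t x < 100) == decide (x < 100)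

/-- the 7-bit table is the restriction of the 10-bit table to the first 100 points -/
def resB (t r : ℕ) : Bool := (List.range 100).all fun x => look 10 t x == look 7 r x

set_option maxRecDepth 1000000 in
theorem res_fst : RES.map Prod.fst = PD.gens := by
  decide +kernel

set_option maxRecDepth 1000000 in
theorem res_inv : RES.all (fun p => invB p.1.1) = true := by
  decide +kernel

set_option maxRecDepth 1000000 in
theorem res_ok : RES.all (fun p => resB p.1.1 p.2) = true := by
  decide +kernel

set_option maxRecDepth 1000000 in
theorem res_sift :
    RES.all (fun p => siftB 100 7 Cfsg.Agent.Lib.Helper28.HSAData.LEVELS [p.2]) = true := by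
  decide +kernel

set_option maxRecDepth 1000000 in
theorem pairX_ok : pairOK 804 10 tX tXi = true := by
  decide +kernel

set_option maxRecDepth 1000000 in
theorem siftX_ok : siftB 804 10 PD.levels [tX] = true := by
  decide +kernel

set_option maxRecDepth 1000000 in
theorem resX_ok : resB tX Cfsg.Agent.Lib.Helper28.HSAData.tb = true := by
  decide +kernel

set_option maxRecDepth 1000000 in
theorem pairA_ok : pairOK 804 10 tA tAi = true := by
  decide +kernel

set_option maxRecDepth 1000000 in
theorem siftA_ok : siftB 804 10 PD.levels [tA] = true := by
  decide +kernel

set_option maxRecDepth 1000000 in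
theorem resA_ok : resB tA Cfsg.Agent.Lib.Helper28.HSAData.ta = true := by
  decide +kernel

set_option maxRecDepth 1000000 in
theorem pairT_ok : pairOK 804 10 tT tTi = true := by
  decide +kernel

set_option maxRecDepth 1000000 in
theorem siftT_ok : siftB 804 10 PD.levels [tT] = true := by
  decide +kernel

set_option maxRecDepth 1000000 in
theorem pairV_ok : pairOK 804 10 tV tVi = true := by
  decide +kernel

set_option maxRecDepth 1000000 in
theorem siftV_ok : siftB 804 10 PD.levels [tV] = true := by
  decide +kernel

set_option maxRecDepth 1000000 in
theorem pairZ_ok : pairOK 804 10 tz tz = true := by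
  decide +kernel

set_option maxRecDepth 1000000 in
theorem siftZ_ok : siftB 804 10 PD.levels [tz] = true := by
  decide +kernel

set_option maxRecDepth 1000000 in
theorem commZ_ok : wordEq 804 10 [tz] [tT, tV, tTi, tVi] = true := by
  decide +kernel

set_option maxRecDepth 1000000 in
theorem resZ_ok : ((List.range 100).all fun x => look 10 tz x == x) = true := by
  decide +kernel

set_option maxRecDepth 1000000 in
theorem moveZ_ok : look 10 tz 100 = 101 := by
  decide +kernel

end Cfsg.Agent.Lib.Helper19.HSEX
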