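import Mathlib
import Cfsg.Prelude.Def_KGroupFacts

/-!
# S2046 piece [EX] (helper19): generic glue

* `stem_of_card_two`: a surjection of finite groups whose source has twice the order of the target and whose
  kernel contains a non-trivial commutator is a stem extension with kernel of order 2.
* `presQ`, `resHom`: the restriction of the permutations of `Fin N` that preserve the first `M` points.
-/

set_option autoImplicit false

namespace Cfsg.Agent.Lib.Helper19.HSEX

open scoped commutatorElement

/-- a surjection of finite groups with `|Γ| = 2 |K|` whose kernel contains a commutator `z ≠ 1` is a stem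
extension with kernel cyclic of order 2 -/
theorem stem_of_card_two {Γ K : Type*} [Group Γ] [Group K] [Finite Γ] (σ : Γ →* K)
    (hsurj : Function.Surjective σ) (hcard : Nat.card Γ = 2 * Nat.card K)
    (z T V : Γ) (hz : σ z = 1) (hz1 : z ≠ 1) (hcomm : z = ⁅T, V⁆) :
    Cfsg.IsStemExtension σ ∧ Nonempty (σ.ker ≃* Multiplicative (ZMod 2)) := by
  have hK : Finite K := Finite.of_surjective σ hsurj
  have hker : Nat.card σ.ker = 2 := by
    have h1 := Subgroup.card_mul_index σ.ker
    rw [Subgroup.index_ker, MonoidHom.range_eq_top.mpr hsurj, Subgroup.card_top, hcard] at h1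
    have hKpos : 0 < Nat.card K := Nat.card_pos
    exact Nat.eq_of_mul_eq_mul_right hKpos h1
  -- the kernel is `{1, z}`
  have hzk : z ∈ σ.ker := MonoidHom.mem_ker.mpr hz
  have hall : ∀ k ∈ σ.ker, k = 1 ∨ k = z := by
    intro k hk
    by_cases h1 : k = 1
    · exact Or.inl h1
    · right
      obtain ⟨y, _, hy⟩ := (Nat.card_eq_two_iff' (1 : σ.ker)).mp hker
      have e1 : (⟨k, hk⟩ : σ.ker) = y := hy _ (fun h => h1 (congrArg Subtype.val h))
      have e2 : (⟨z, hzk⟩ : σ.ker) = y := hy _ (fun h => hz1 (congrArg Subtype.val h))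
      exact congrArg Subtype.val (e1.trans e2.symm)
  refine ⟨⟨hsurj, ?_, ?_⟩, ?_⟩
  · -- central
    intro k hk
    rw [Subgroup.mem_center_iff]
    intro g
    rcases hall k hk with rfl | rfl
    · rw [mul_one, one_mul]
    · have hn : g * k * g⁻¹ ∈ σ.ker := (MonoidHom.normal_ker σ).conj_mem k hk g
      rcases hall _ hn with h | h
      · exfalso
        apply hz1
        have : k = g⁻¹ * (g * k * g⁻¹) * g := by group
        rw [this, h]; group
      · calc g * k = (g * k * g⁻¹) * g := by group
          _ = k * g := by rw [h]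
  · -- inside the commutator subgroup
    intro k hk
    rcases hall k hk with rfl | rfl
    · exact Subgroup.one_mem _
    · rw [hcomm, commutator_def]
      exact Subgroup.commutator_mem_commutator (Subgroup.mem_top T) (Subgroup.mem_top V)
  · have : Fact (Nat.Prime 2) := ⟨Nat.prime_two⟩
    exact ⟨mulEquivOfPrimeCardEq (p := 2) hker (by rw [Nat.card_eq_fintype_card]; rfl)⟩

/-- the permutations of `Fin N` that preserve the set of the first `M` points -/
def presQ (N M : ℕ) : Subgroup (Equiv.Perm (Fin N)) where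
  carrier := {f | ∀ x : Fin N, (f x).val < M ↔ x.val < M}
  mul_mem' := by
    intro f g hf hg x
    show ((f (g x)).val < M) ↔ _
    rw [hf (g x), hg x]
  one_mem' := fun x => Iff.rfl
  inv_mem' := by
    intro f hf x
    have := hf (f⁻¹ x)
    have e : f (f⁻¹ x) = x := f.apply_symm_apply x
    rw [e] at this
    exact this.symm

theorem mem_presQ {N M : ℕ} {f : Equiv.Perm (Fin N)} :
    f ∈ presQ N M ↔ ∀ x : Fin N, (f x).val < M ↔ x.val < M := Iff.rfl

/-- the restriction to the first `M` points, as a permutation -/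
def resPerm {N M : ℕ} (h : M ≤ N) (f : presQ N M) : Equiv.Perm (Fin M) where
  toFun x := ⟨(f.1 (Fin.castLE h x)).val, (f.2 (Fin.castLE h x)).mpr x.isLt⟩
  invFun x := ⟨(f.1⁻¹ (Fin.castLE h x)).val, ((presQ N M).inv_mem f.2 (Fin.castLE h x)).mpr x.isLt⟩
  left_inv x := by
    apply Fin.ext
    show (f.1⁻¹ (Fin.castLE h ⟨(f.1 (Fin.castLE h x)).val, _⟩)).val = x.val
    have : Fin.castLE h ⟨(f.1 (Fin.castLE h x)).val, (f.2 (Fin.castLE h x)).mpr x.isLt⟩ =
        f.1 (Fin.castLE h x) := Fin.ext rfl
    rw [this]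
    have e : f.1⁻¹ (f.1 (Fin.castLE h x)) = Fin.castLE h x := f.1.symm_apply_apply _
    rw [e]
    rfl
  right_inv x := by
    apply Fin.ext
    show (f.1 (Fin.castLE h ⟨(f.1⁻¹ (Fin.castLE h x)).val, _⟩)).val = x.val
    have : Fin.castLE h ⟨(f.1⁻¹ (Fin.castLE h x)).val,
        ((presQ N M).inv_mem f.2 (Fin.castLE h x)).mpr x.isLt⟩ = f.1⁻¹ (Fin.castLE h x) := Fin.ext rfl
    rw [this]
    have e : f.1 (f.1⁻¹ (Fin.castLE h x)) = Fin.castLE h x := f.1.apply_symm_apply _
    rw [e]
    rfl

theorem resPerm_apply {N M : ℕ} (h : M ≤ N) (f : presQ N M) (x : Fin M) :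
    (resPerm h f x).val = (f.1 (Fin.castLE h x)).val := rfl

/-- restriction to the first `M` points as a homomorphism -/
def resHom {N M : ℕ} (h : M ≤ N) : presQ N M →* Equiv.Perm (Fin M) where
  toFun := resPerm h
  map_one' := by
    apply Equiv.ext
    intro x
    apply Fin.ext
    rfl
  map_mul' := by
    intro f g
    apply Equiv.ext
    intro x
    apply Fin.ext
    show ((f.1 * g.1) (Fin.castLE h x)).val = (f.1 (Fin.castLE h (resPerm h g x))).val
    have : Fin.castLE h (resPerm h g x) = g.1 (Fin.castLE h x) := Fin.ext rfl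
    rw [this]
    rfl

theorem resHom_apply {N M : ℕ} (h : M ≤ N) (f : presQ N M) (x : Fin M) :
    (resHom h f x).val = (f.1 (Fin.castLE h x)).val := rfl

end Cfsg.Agent.Lib.Helper19.HSEX
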