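import Cfsg.Agent.Lib.Helper19.HSEXCert
import Cfsg.Agent.Lib.Helper19.HSMultEXCert
import Cfsg.Agent.Lib.Helper19.HSMultEXGlue

/-!
# S2046 piece [EX] (helper19, for the architect helper18): existence of the double cover `2.HS`

`Γ₀ = ⟨X, Y, G⟩` is a permutation group on `804 = 100 + 704` points of order `88704000 = 2 * 44352000` (verified
Schreier–Sims chain, `HSEXCert`); it preserves the first 100 points, on which it induces helper28's
`HSA.Kab = ⟨a, b⟩` (the restrictions of the strong generators sift through the chain of `HSA`; `a` and `b` are the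
restrictions of `A` and `X`); the kernel of the restriction has order 2 and contains the commutator `z = ⁅T, V⁆ ≠ 1`.
-/

set_option autoImplicit false

namespace Cfsg.Agent.Lib.Helper18.HSMult

namespace Helper19

open Cfsg.Agent.Lib.Helper28.BSGS Cfsg.Agent.Lib.Helper28.HSA Cfsg.Agent.Lib.Helper19.HSEX
open scoped commutatorElement

attribute [local irreducible] checkChain codeSize gensOK siftB levelOK pairOK wordEq

/-- permutations of the 804 points -/
abbrev P804 : Type := Equiv.Perm (Fin 804)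

/-- the double cover as a permutation group on 804 points -/
def Γ0 : Subgroup P804 := genGroup 804 10 PD.gens

theorem card_Γ0 : Nat.card Γ0 = 88704000 := PD.card_genGroup

theorem h100 : 100 ≤ 804 := by norm_num

theorem mem_of_sift {t ti : ℕ} (hp : pairOK 804 10 t ti = true)
    (hs : siftB 804 10 PD.levels [t] = true) : permOf 804 10 t ti ∈ Γ0 :=
  (perm_main 804 10 PD.gens PD.levels PD.gens_ok PD.chain_ok).2 [t] _
    (actsByW_single (permOf_apply hp)) hs

/-- a table pair preserving the first 100 points and restricting to a 7-bit table -/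
theorem acts_res {t ti r : ℕ} (hp : pairOK 804 10 t ti = true) (hr : resB t r = true)
    (hQ : permOf 804 10 t ti ∈ presQ 804 100) : ActsT (resHom h100 ⟨_, hQ⟩) r := by
  intro x
  rw [resHom_apply]
  show (permOf 804 10 t ti (Fin.castLE h100 x)).val = look 7 r x.val
  rw [permOf_apply hp]
  unfold resB at hr
  exact beq_iff_eq.mp (List.all_eq_true.mp hr x.val (List.mem_range.mpr x.isLt))

theorem gen_spec (s : P804) (hs : s ∈ semGens 804 10 PD.gens) :
    ∃ h : s ∈ presQ 804 100, resHom h100 ⟨s, h⟩ ∈ Kab := by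
  unfold semGens at hs
  rw [List.mem_map] at hs
  obtain ⟨g, hg, rfl⟩ := hs
  have hpair : pairOK 804 10 g.1 g.2 = true := gensOK_spec 804 10 PD.gens_ok g hg
  rw [← res_fst, List.mem_map] at hg
  obtain ⟨p, hp, rfl⟩ := hg
  have h1 := List.all_eq_true.mp res_inv p hp
  have h2 := List.all_eq_true.mp res_ok p hp
  have h3 := List.all_eq_true.mp res_sift p hp
  have hQ : permOf 804 10 p.1.1 p.1.2 ∈ presQ 804 100 := by
    intro x
    rw [permOf_apply hpair]
    unfold invB at h1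
    have := List.all_eq_true.mp h1 x.val (List.mem_range.mpr x.isLt)
    rw [beq_iff_eq, decide_eq_decide] at this
    exact this
  refine ⟨hQ, ?_⟩
  have hact := acts_res hpair h2 hQ
  have h0 : resHom h100 ⟨_, hQ⟩ ∈ H0 :=
    (perm_main 100 7 Cfsg.Agent.Lib.Helper28.HSAData.GENS Cfsg.Agent.Lib.Helper28.HSAData.LEVELS
      gens_ok chain_ok).2 [p.2] _ hact.word h3
  rw [H0_eq] at h0
  exact h0

theorem all_spec : ∀ γ ∈ Γ0, ∃ h : γ ∈ presQ 804 100, resHom h100 ⟨γ, h⟩ ∈ Kab := by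
  intro γ hγ
  refine Subgroup.closure_induction
    (p := fun γ _ => ∃ h : γ ∈ presQ 804 100, resHom h100 ⟨γ, h⟩ ∈ Kab) ?_ ?_ ?_ ?_ hγ
  · intro s hs
    exact gen_spec s hs
  · refine ⟨Subgroup.one_mem _, ?_⟩
    have : (⟨1, Subgroup.one_mem _⟩ : presQ 804 100) = 1 := rfl
    rw [this, map_one]
    exact Subgroup.one_mem _
  · rintro x y _ _ ⟨h1, k1⟩ ⟨h2, k2⟩
    refine ⟨Subgroup.mul_mem _ h1 h2, ?_⟩
    have : (⟨x * y, Subgroup.mul_mem _ h1 h2⟩ : presQ 804 100) = ⟨x, h1⟩ * ⟨y, h2⟩ := rfl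
    rw [this, map_mul]
    exact Subgroup.mul_mem _ k1 k2
  · rintro x _ ⟨h1, k1⟩
    refine ⟨Subgroup.inv_mem _ h1, ?_⟩
    have : (⟨x⁻¹, Subgroup.inv_mem _ h1⟩ : presQ 804 100) = (⟨x, h1⟩ : presQ 804 100)⁻¹ := rfl
    rw [this, map_inv]
    exact Subgroup.inv_mem _ k1

theorem le_presQ : Γ0 ≤ presQ 804 100 := fun γ hγ => (all_spec γ hγ).1

/-- restriction to the first 100 points -/
def σ0 : Γ0 →* P100 := (resHom h100).comp (Subgroup.inclusion le_presQ)

theorem σ0_val (γ : Γ0) (h : γ.1 ∈ presQ 804 100) : σ0 γ = resHom h100 ⟨γ.1, h⟩ := rfl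

theorem σ0_mem (γ : Γ0) : σ0 γ ∈ Kab := by
  obtain ⟨h, k⟩ := all_spec γ.1 γ.2
  rw [σ0_val γ h]
  exact k

/-- the covering map -/
def σ : Γ0 →* Kab := σ0.codRestrict Kab σ0_mem

theorem σ_val (γ : Γ0) : (σ γ : P100) = σ0 γ := rfl

/-- the elements `X`, `A`, `T`, `V`, `z` of the cover -/
def Xe : Γ0 := ⟨permOf 804 10 tX tXi, mem_of_sift pairX_ok siftX_ok⟩
def Ae : Γ0 := ⟨permOf 804 10 tA tAi, mem_of_sift pairA_ok siftA_ok⟩
def Te : Γ0 := ⟨permOf 804 10 tT tTi, mem_of_sift pairT_ok siftT_ok⟩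
def Ve : Γ0 := ⟨permOf 804 10 tV tVi, mem_of_sift pairV_ok siftV_ok⟩
def Ze : Γ0 := ⟨permOf 804 10 tz tz, mem_of_sift pairZ_ok siftZ_ok⟩

theorem σ_X : (σ Xe : P100) = b := by
  rw [σ_val, σ0_val Xe (le_presQ Xe.2)]
  exact (acts_res pairX_ok resX_ok (le_presQ Xe.2)).ext b_acts

theorem σ_A : (σ Ae : P100) = a := by
  rw [σ_val, σ0_val Ae (le_presQ Ae.2)]
  exact (acts_res pairA_ok resA_ok (le_presQ Ae.2)).ext a_acts

theorem σ_surj : Function.Surjective σ := by
  have hle : Subgroup.closure ({a, b} : Set P100) ≤ (σ.range).map Kab.subtype := by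
    rw [Subgroup.closure_le]
    intro t ht
    rcases ht with rfl | ht
    · exact ⟨σ Ae, ⟨Ae, rfl⟩, σ_A⟩
    · rw [Set.mem_singleton_iff] at ht
      subst ht
      exact ⟨σ Xe, ⟨Xe, rfl⟩, σ_X⟩
  intro k
  obtain ⟨k', ⟨γ, hγ⟩, hk'⟩ := hle k.2
  exact ⟨γ, by rw [hγ]; exact Subtype.ext hk'⟩

theorem σ_Z : σ Ze = 1 := by
  apply Subtype.ext
  rw [σ_val, σ0_val Ze (le_presQ Ze.2)]
  apply Equiv.ext
  intro x
  apply Fin.ext
  rw [resHom_apply]
  show (permOf 804 10 tz tz (Fin.castLE h100 x)).val = x.val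
  rw [permOf_apply pairZ_ok]
  exact beq_iff_eq.mp (List.all_eq_true.mp resZ_ok x.val (List.mem_range.mpr x.isLt))

theorem Z_ne_one : Ze ≠ 1 := by
  intro h
  have h1 : permOf 804 10 tz tz = 1 := congrArg Subtype.val h
  have h2 := permOf_apply pairZ_ok (⟨100, by norm_num⟩ : Fin 804)
  rw [h1] at h2
  have h3 : ((1 : P804) (⟨100, by norm_num⟩ : Fin 804)).val = 100 := rfl
  rw [h3, moveZ_ok] at h2
  exact absurd h2 (by norm_num)

theorem Z_comm : Ze = ⁅Te, Ve⁆ := by
  apply Subtype.ext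
  show permOf 804 10 tz tz =
    permOf 804 10 tT tTi * permOf 804 10 tV tVi * (permOf 804 10 tT tTi)⁻¹ * (permOf 804 10 tV tVi)⁻¹
  rw [mul_assoc, mul_assoc]
  exact eq_of_wordEq 804 10 (actsByW_single (permOf_apply pairZ_ok))
    (actsByW_cons (permOf_apply pairT_ok) (actsByW_cons (permOf_apply pairV_ok)
      (actsByW_cons (permOf_inv_apply pairT_ok) (actsByW_single (permOf_inv_apply pairV_ok)))))
    commZ_ok

theorem card_eq : Nat.card Γ0 = 2 * Nat.card Kab := by
  rw [card_Γ0, card_Kab]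

end Helper19

/-- **[EX]** existence of the double cover `2.HS`: a finite stem extension of `HSA.Kab ≅ HS` with kernel of order 2 -/
theorem exists_cover : ∃ (Γ : Type) (_ : Group Γ) (_ : Finite Γ)
    (σ : Γ →* ↥Cfsg.Agent.Lib.Helper28.HSA.Kab),
    Cfsg.IsStemExtension σ ∧ Nonempty (σ.ker ≃* Multiplicative (ZMod 2)) :=
  ⟨Helper19.Γ0, inferInstance, inferInstance, Helper19.σ,
    Cfsg.Agent.Lib.Helper19.HSEX.stem_of_card_two Helper19.σ Helper19.σ_surj Helper19.card_eq
      Helper19.Ze Helper19.Te Helper19.Ve Helper19.σ_Z Helper19.Z_ne_one Helper19.Z_comm⟩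

end Cfsg.Agent.Lib.Helper18.HSMult
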