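import Mathlib
import Cfsg.Agent.Lib.Helper16.UnitaryCount3

/-!
# Arithmetic of the orders of `q`, `q^2` and `-q` modulo an odd prime `r`
-/

set_option autoImplicit false
set_option linter.unusedSectionVars false
set_option linter.unusedVariables false

namespace Cfsg.Agent.Lib.Helper19.HS

open Cfsg.Agent.Lib.Helper16

section arith
variable (r : ℕ) [hr : Fact r.Prime] (q : ℕ)

theorem zq_ne_zero (hrq : ¬ r ∣ q) : (q : ZMod r) ≠ 0 := by
  rwa [Ne, ZMod.natCast_eq_zero_iff]

theorem orderOf_pos_of_ne_zero (x : ZMod r) (hx : x ≠ 0) : 0 < orderOf x := by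
  apply orderOf_pos_iff.mpr
  rw [isOfFinOrder_iff_pow_eq_one]
  exact ⟨r - 1, Nat.sub_pos_of_lt hr.out.one_lt, ZMod.pow_card_sub_one_eq_one hx⟩

theorem neg_one_ne_one_zmod (hr2 : r ≠ 2) : (-1 : ZMod r) ≠ 1 := by
  intro h
  have h2 : ((2 : ℕ) : ZMod r) = 0 := by
    have : (1 : ZMod r) + 1 = 0 := by
      nth_rewrite 1 [← h]
      ring
    push_cast
    rw [← this]
    ring
  rw [ZMod.natCast_eq_zero_iff] at h2
  exact hr2 ((Nat.prime_dvd_prime_iff_eq hr.out Nat.prime_two).mp h2)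

/-- `b = ord_r(q^2)` -/
theorem b_eq (i : ℕ) (hi : i = orderOf (q : ZMod r)) :
    (if Even i then i / 2 else i) = orderOf ((q : ZMod r) ^ 2) := by
  rw [orderOf_pow' _ (by norm_num : (2 : ℕ) ≠ 0), ← hi]
  split_ifs with he
  · have : Nat.gcd i 2 = 2 := Nat.gcd_eq_right (even_iff_two_dvd.mp he)
    rw [this]
  · have : Nat.gcd i 2 = 1 := by
      rw [Nat.not_even_iff_odd] at he
      exact Nat.coprime_comm.mp he.coprime_two_left
    rw [this, Nat.div_one]

/-- `c = ord_r(-q)` -/
theorem c_eq (hr2 : r ≠ 2) (hrq : ¬ r ∣ q) (i : ℕ) (hi : i = orderOf (q : ZMod r)) :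
    (if i % 4 = 0 then i else if i % 4 = 2 then i / 2 else 2 * i) =
      orderOf (-(q : ZMod r)) := by
  set x := (q : ZMod r) with hx
  have hx0 : x ≠ 0 := zq_ne_zero r q hrq
  have hipos : 0 < i := by rw [hi]; exact orderOf_pos_of_ne_zero r x hx0
  have hneg1 : orderOf (-1 : ZMod r) = 2 := by
    rw [orderOf_neg_one, ZMod.ringChar_zmod_n, if_neg hr2]
  by_cases hodd : Odd i
  · have h4 : i % 4 ≠ 0 ∧ i % 4 ≠ 2 := by
      obtain ⟨t, ht⟩ := hodd
      omega
    rw [if_neg h4.1, if_neg h4.2]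
    have hcop : (orderOf (-1 : ZMod r)).Coprime (orderOf x) := by
      rw [hneg1, ← hi]
      exact (Nat.coprime_comm.mp hodd.coprime_two_right)
    have := (Commute.all (-1 : ZMod r) x).orderOf_mul_eq_mul_orderOf_of_coprime hcop
    rw [neg_one_mul, hneg1, ← hi] at this
    exact this.symm
  · rw [Nat.not_odd_iff_even] at hodd
    obtain ⟨t, ht⟩ := hodd
    have ht0 : 0 < t := by omega
    have hhalf : x ^ t = -1 := by
      have h1 : x ^ t * x ^ t = 1 := by
        rw [← pow_add, ← ht, hi]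
        exact pow_orderOf_eq_one x
      rcases mul_self_eq_one_iff.mp h1 with h | h
      · exfalso
        have : t < orderOf x := by rw [← hi]; omega
        exact pow_ne_one_of_lt_orderOf (by omega) this h
      · exact h
    have hnegx : -x = x ^ (t + 1) := by
      rw [pow_succ, hhalf, neg_one_mul]
    rw [hnegx, orderOf_pow' _ (by omega : t + 1 ≠ 0), ← hi]
    have hgdvd : Nat.gcd i (t + 1) ∣ 2 := by
      have h1 : Nat.gcd i (t + 1) ∣ 2 * (t + 1) := Dvd.dvd.mul_left (Nat.gcd_dvd_right _ _) 2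
      have h2 : Nat.gcd i (t + 1) ∣ i := Nat.gcd_dvd_left _ _
      have h3 := Nat.dvd_sub h1 h2
      have h4 : 2 * (t + 1) - i = 2 := by omega
      rwa [h4] at h3
    rcases (Nat.dvd_prime Nat.prime_two).mp hgdvd with hg | hg
    · -- gcd = 1
      have hi4 : i % 4 = 0 := by
        by_contra hne
        have ht1 : t % 2 = 1 := by omega
        have h2i : 2 ∣ i := ⟨t, by omega⟩
        have h2t : 2 ∣ t + 1 := by omega
        have := Nat.dvd_gcd h2i h2t
        rw [hg] at this
        omega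
      rw [if_pos hi4, hg, Nat.div_one]
    · have hi4 : i % 4 = 2 := by
        have h2t : 2 ∣ t + 1 := by
          rw [← hg]
          exact Nat.gcd_dvd_right _ _
        omega
      have h0 : i % 4 ≠ 0 := by omega
      rw [if_neg h0, if_pos hi4, hg]

/-- the relation between `c = ord_r(-q)` and `b = ord_r(q^2)` -/
theorem c_cases (hrq : ¬ r ∣ q) (b c : ℕ) (hb : b = orderOf ((q : ZMod r) ^ 2))
    (hc : c = orderOf (-(q : ZMod r))) :
    0 < b ∧ 0 < c ∧ (c = 2 * b ∨ (c = b ∧ ∃ k, ((q ^ 2) ^ k + q) % r = 0)) := by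
  set x := (q : ZMod r) with hx
  have hx0 : x ≠ 0 := zq_ne_zero r q hrq
  have hcpos : 0 < c := by
    rw [hc]
    exact orderOf_pos_of_ne_zero r _ (neg_ne_zero.mpr hx0)
  have hb' : b = c / Nat.gcd c 2 := by
    rw [hb, hc, ← orderOf_pow' _ (by norm_num : (2 : ℕ) ≠ 0), neg_sq]
  by_cases hev : Even c
  · have hg : Nat.gcd c 2 = 2 := Nat.gcd_eq_right (even_iff_two_dvd.mp hev)
    rw [hg] at hb'
    obtain ⟨t, ht⟩ := hev
    have : b = t := by rw [hb', ht]; omega
    refine ⟨by omega, hcpos, Or.inl (by omega)⟩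
  · rw [Nat.not_even_iff_odd] at hev
    have hg : Nat.gcd c 2 = 1 := Nat.coprime_comm.mp hev.coprime_two_left
    rw [hg, Nat.div_one] at hb'
    refine ⟨by omega, hcpos, Or.inr ⟨hb'.symm, ?_⟩⟩
    have h1 : (-x) ^ c = 1 := by rw [hc]; exact pow_orderOf_eq_one _
    rw [hev.neg_pow] at h1
    have h2 : x ^ c = -1 := by rw [← h1]; ring
    obtain ⟨t, ht⟩ := hev
    refine ⟨t + 1, ?_⟩
    apply Nat.mod_eq_zero_of_dvd
    rw [← ZMod.natCast_eq_zero_iff]
    push_cast
    rw [← hx, ← pow_mul]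
    have : 2 * (t + 1) = c + 1 := by omega
    rw [this, pow_succ, h2]
    ring

theorem neg_pow_eq_one_of_dvd_unitCount {K : Type*} [Field K] [Fintype K]
    (hK : Fintype.card K = q ^ 2) (hrq : ¬ r ∣ q) (d : ℕ) (hd : 1 ≤ d)
    (h : r ∣ unitCount K q d) : (-(q : ZMod r)) ^ d = 1 := by
  obtain ⟨i, rfl⟩ : ∃ i, d = i + 1 := ⟨d - 1, by omega⟩
  rw [unitCount_explicit hK] at h
  rcases (Nat.Prime.dvd_mul hr.out).mp h with h1 | h1
  · exact absurd (hr.out.dvd_of_dvd_pow h1) hrq
  · split_ifs at h1 with hev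
    · have hodd : Odd (i + 1) := Even.add_one hev
      rw [hodd.neg_pow]
      rw [← ZMod.natCast_eq_zero_iff] at h1
      push_cast at h1
      have : (q : ZMod r) ^ (i + 1) = -1 := by
        rw [eq_neg_iff_add_eq_zero]
        exact h1
      rw [this, neg_neg]
    · rw [Nat.not_even_iff_odd] at hev
      have hev' : Even (i + 1) := Odd.add_one hev
      rw [hev'.neg_pow]
      rw [← ZMod.natCast_eq_zero_iff] at h1
      have hq1 : 1 ≤ q ^ (i + 1) := by
        have : 0 < q := by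
          rcases Nat.eq_zero_or_pos q with h0 | h0
          · exfalso
            apply hrq
            rw [h0]
            exact dvd_zero r
          · exact h0
        exact Nat.one_le_pow _ _ this
      rw [Nat.cast_sub hq1] at h1
      push_cast at h1
      exact sub_eq_zero.mp h1

theorem dvd_unitCount_of_neg_pow_eq_one {K : Type*} [Field K] [Fintype K]
    (hK : Fintype.card K = q ^ 2) (hrq : ¬ r ∣ q) (d : ℕ) (hd : 1 ≤ d)
    (h : (-(q : ZMod r)) ^ d = 1) : r ∣ unitCount K q d := by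
  obtain ⟨i, rfl⟩ : ∃ i, d = i + 1 := ⟨d - 1, by omega⟩
  rw [unitCount_explicit hK]
  apply Dvd.dvd.mul_left
  split_ifs with hev
  · have hodd : Odd (i + 1) := Even.add_one hev
    rw [hodd.neg_pow] at h
    rw [← ZMod.natCast_eq_zero_iff]
    push_cast
    rw [← eq_neg_iff_add_eq_zero, ← h, neg_neg]
  · rw [Nat.not_even_iff_odd] at hev
    have hev' : Even (i + 1) := Odd.add_one hev
    rw [hev'.neg_pow] at h
    rw [← ZMod.natCast_eq_zero_iff]
    have hq1 : 1 ≤ q ^ (i + 1) := by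
      have : 0 < q := by
        rcases Nat.eq_zero_or_pos q with h0 | h0
        · exfalso
          apply hrq
          rw [h0]
          exact dvd_zero r
        · exact h0
      exact Nat.one_le_pow _ _ this
    rw [Nat.cast_sub hq1]
    push_cast
    rw [h, sub_self]

/-- `r ∣ unitCount d ↔ c ∣ d` -/
theorem dvd_unitCount_iff {K : Type*} [Field K] [Fintype K]
    (hK : Fintype.card K = q ^ 2) (hrq : ¬ r ∣ q) (c : ℕ) (hc : c = orderOf (-(q : ZMod r)))
    (d : ℕ) (hd : 1 ≤ d) : r ∣ unitCount K q d ↔ c ∣ d := by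
  constructor
  · intro h
    rw [hc]
    exact orderOf_dvd_of_pow_eq_one (neg_pow_eq_one_of_dvd_unitCount r q hK hrq d hd h)
  · intro h
    apply dvd_unitCount_of_neg_pow_eq_one r q hK hrq d hd
    rw [hc] at h
    exact orderOf_dvd_iff_pow_eq_one.mp h

/-- `c = 1` exactly when `r ∣ q + 1` -/
theorem c_eq_one_iff (c : ℕ) (hc : c = orderOf (-(q : ZMod r))) : c = 1 ↔ r ∣ q + 1 := by
  rw [hc, orderOf_eq_one_iff, ← ZMod.natCast_eq_zero_iff]
  push_cast
  constructor
  · intro h
    rw [← h]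
    ring
  · intro h
    have h1 : (q : ZMod r) = -1 := eq_neg_of_add_eq_zero_left h
    rw [h1, neg_neg]

/-- `i = 2` exactly when `r ∣ q + 1` (`r` odd) -/
theorem i_eq_two_iff (hr2 : r ≠ 2) (i : ℕ) (hi : i = orderOf (q : ZMod r)) :
    i = 2 ↔ r ∣ q + 1 := by
  rw [hi, ← ZMod.natCast_eq_zero_iff]
  push_cast
  constructor
  · intro h
    have h1 : (q : ZMod r) ^ 2 = 1 := by rw [← h]; exact pow_orderOf_eq_one _
    have h2 : (q : ZMod r) ≠ 1 := by
      intro h3
      rw [h3, orderOf_one] at h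
      omega
    have h3 : ((q : ZMod r) - 1) * ((q : ZMod r) + 1) = 0 := by
      have : ((q : ZMod r) - 1) * ((q : ZMod r) + 1) = (q : ZMod r) ^ 2 - 1 := by ring
      rw [this, h1, sub_self]
    rcases mul_eq_zero.mp h3 with h4 | h4
    · exact absurd (sub_eq_zero.mp h4) h2
    · exact h4
  · intro h
    have h1 : (q : ZMod r) = -1 := eq_neg_of_add_eq_zero_left h
    rw [h1, orderOf_neg_one, ZMod.ringChar_zmod_n, if_neg hr2]

end arith

end Cfsg.Agent.Lib.Helper19.HS
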