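import Mathlib
import Cfsg.Agent.Lib.Helper19.HSa

/-!
# The number of nondegenerate `m`-subspaces of the standard unitary space
-/

set_option autoImplicit false
set_option linter.unusedSectionVars false
set_option linter.unusedVariables false

namespace Cfsg.Agent.Lib.Helper19.HS

open Matrix Module Cfsg Cfsg.Agent.S0779 Cfsg.Agent.Lib.Helper6 Cfsg.Agent.Lib.Helper19.PSU
  Cfsg.Agent.Lib.Helper16

section count
variable {F : Type*} [Field F] [Fintype F] {q n : ℕ}

local notation "hh" => Cfsg.hermForm n F q

theorem restrB_nondegenerate (hF : Fintype.card F = q ^ 2) {U : Submodule F (Fin n → F)}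
    (hU : ND q U) : (restrB hF U).Nondegenerate := by
  have h1 : (restrB hF U).SeparatingLeft := fun u hu => restrB_nondeg hF hU u hu
  exact ⟨h1, herm_sepRight (conjQ hF) (conjQ_conjQ hF) _ (restrB_isSymm hF U) h1⟩

/-- the span of an orthonormal frame is nondegenerate -/
theorem nd_span_of_orthonormal (hF : Fintype.card F = q ^ 2) {m : ℕ} (v : Fin m → (Fin n → F))
    (hv : ∀ i j, hermB n hF (v i) (v j) = if i = j then 1 else 0) :
    ND q (Submodule.span F (Set.range v)) := by
  classical
  intro u hu hne
  by_contra hcon
  push Not at hcon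
  apply hne
  obtain ⟨c, rfl⟩ := (Submodule.mem_span_range_iff_exists_fun F).mp hu
  have hc : ∀ j, c j = 0 := by
    intro j
    have h1 := hcon (v j) (Submodule.subset_span ⟨j, rfl⟩)
    rw [herm_sum_left] at h1
    simp only [herm_smul_left] at h1
    have h2 : ∀ i, hh (v i) (v j) = if j = i then 1 else 0 := by
      intro i
      have := hv j i
      rwa [hermB_apply] at this
    simp only [h2, mul_ite, mul_one, mul_zero, Finset.sum_ite_eq, Finset.mem_univ, if_true] at h1
    exact h1
  simp [hc]

theorem finrank_span_of_orthonormal (hF : Fintype.card F = q ^ 2) {m : ℕ}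
    (v : Fin m → (Fin n → F))
    (hv : ∀ i j, hermB n hF (v i) (v j) = if i = j then 1 else 0) :
    finrank F (Submodule.span F (Set.range v)) = m := by
  classical
  have hli := orthonormal_li (conjQ hF) (hermB n hF) v hv
  rw [finrank_span_eq_card hli, Fintype.card_fin]

/-- the span map from orthonormal `m`-frames to nondegenerate `m`-subspaces -/
noncomputable def spanMap (hF : Fintype.card F = q ^ 2) (n m : ℕ) :
    ONF hF (hermB n hF) m → {W : Submodule F (Fin n → F) // finrank F W = m ∧ ND q W} :=
  fun v => ⟨Submodule.span F (Set.range v.1),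
    finrank_span_of_orthonormal hF v.1 v.2, nd_span_of_orthonormal hF v.1 v.2⟩

/-- the fibre of the span map over `W` is the set of orthonormal bases of `W` -/
noncomputable def spanFiberEquiv (hF : Fintype.card F = q ^ 2) (n m : ℕ)
    (W : {W : Submodule F (Fin n → F) // finrank F W = m ∧ ND q W}) :
    {v : ONF hF (hermB n hF) m // spanMap hF n m v = W} ≃ ONF hF (restrB hF W.1) m where
  toFun v := ⟨fun i => ⟨v.1.1 i, by
      have h1 : Submodule.span F (Set.range v.1.1) = W.1 := congrArg Subtype.val v.2
      rw [← h1]
      exact Submodule.subset_span ⟨i, rfl⟩⟩, fun i j => by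
      rw [restrB_apply]
      have := v.1.2 i j
      rwa [hermB_apply] at this⟩
  invFun w := ⟨⟨fun i => (w.1 i : Fin n → F), fun i j => by
      rw [hermB_apply]
      have := w.2 i j
      rwa [restrB_apply] at this⟩, by
    apply Subtype.ext
    change Submodule.span F (Set.range fun i => (w.1 i : Fin n → F)) = W.1
    apply Submodule.eq_of_le_of_finrank_eq
    · rw [Submodule.span_le]
      rintro _ ⟨i, rfl⟩
      exact (w.1 i).2
    · rw [W.2.1]
      apply finrank_span_of_orthonormal hF
      intro i j
      rw [hermB_apply]
      have := w.2 i j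
      rwa [restrB_apply] at this⟩
  left_inv v := by
    apply Subtype.ext
    apply Subtype.ext
    rfl
  right_inv w := by
    apply Subtype.ext
    rfl

/-- the number of nondegenerate `m`-subspaces -/
theorem card_nd_mul (hF : Fintype.card F = q ^ 2) (n m : ℕ) :
    Nat.card {W : Submodule F (Fin n → F) // finrank F W = m ∧ ND q W} *
      ∏ i ∈ Finset.range m, unitCount F q (i + 1) =
    ∏ j ∈ Finset.range m, unitCount F q (n - j) := by
  classical
  have h1 := card_onf hF (hermB_isSymm hF) (hermB_nondeg hF n) m
  rw [Module.finrank_fin_fun] at h1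
  rw [← h1]
  haveI : Finite (ONF hF (hermB n hF) m) := finite_onf hF _ m
  haveI : Finite (Submodule F (Fin n → F)) := by
    apply Finite.of_injective (fun W : Submodule F (Fin n → F) => (W : Set (Fin n → F)))
    exact SetLike.coe_injective
  haveI : Fintype {W : Submodule F (Fin n → F) // finrank F W = m ∧ ND q W} := Fintype.ofFinite _
  rw [Nat.card_congr (Equiv.sigmaFiberEquiv (spanMap hF n m)).symm, Nat.card_sigma]
  have hfib : ∀ W, Nat.card {v : ONF hF (hermB n hF) m // spanMap hF n m v = W} =
      ∏ i ∈ Finset.range m, unitCount F q (i + 1) := by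
    intro W
    rw [Nat.card_congr (spanFiberEquiv hF n m W)]
    exact card_onf_full hF (restrB_isSymm hF W.1) (restrB_nondegenerate hF W.2.2) m W.2.1
  simp only [hfib, Finset.sum_const, Finset.card_univ, smul_eq_mul]
  rw [Nat.card_eq_fintype_card]

end count

end Cfsg.Agent.Lib.Helper19.HS
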