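import Mathlib
import Cfsg.Agent.Lib.Helper19.HSc
import Cfsg.Agent.Lib.Helper19.HSd
import Cfsg.Agent.Lib.Helper15.PSub11

/-!
# Models: orthogonal sums of isometries in standard coordinates
-/

set_option autoImplicit false
set_option linter.unusedSectionVars false
set_option linter.unusedVariables false

namespace Cfsg.Agent.Lib.Helper19.HS

open Matrix Module Polynomial Cfsg Cfsg.Agent.S0779 Cfsg.Agent.Lib.Helper6
  Cfsg.Agent.Lib.Helper19.PSU Cfsg.Agent.Lib.Helper15.PSub Cfsg.Agent.Lib.Helper16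

section transport
variable {F : Type*} [Field F] [Fintype F] {q : ℕ}

/-- transport of an isometry of a nondegenerate hermitian space to standard coordinates,
keeping track of scalar powers -/
theorem exists_std_matrix2 (hF : Fintype.card F = q ^ 2) {U : Type*} [AddCommGroup U] [Module F U]
    [FiniteDimensional F U] (B : U →ₛₗ[conjQ hF] U →ₗ[F] F) (hS : B.IsSymm)
    (hN : ∀ u, (∀ v, B u v = 0) → u = 0) (k : ℕ) (hk : finrank F U = k) (T : U →ₗ[F] U)
    (hT : ∀ x y, B (T x) (T y) = B x y) :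
    ∃ M : Matrix (Fin k) (Fin k) F, Pres q M ∧
      M.det = LinearMap.det T ∧ (∀ (s : ℕ) (z : F), T ^ s = z • 1 → M ^ s = z • 1) ∧
      (∀ c : F, finrank F (eig M c) = finrank F (LinearMap.ker (T - c • LinearMap.id))) := by
  classical
  obtain ⟨φ, hφ⟩ := exists_std_herm hF B hS hN k hk
  set T' : (Fin k → F) →ₗ[F] (Fin k → F) := φ.conj T with hT'
  set M := LinearMap.toMatrix' T' with hM
  have hMv : ∀ x, M *ᵥ x = φ (T (φ.symm x)) := by
    intro x
    rw [hM, LinearMap.toMatrix'_mulVec, hT', LinearEquiv.conj_apply]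
    rfl
  refine ⟨M, ?_, ?_, ?_, ?_⟩
  · intro x y
    rw [hMv, hMv, hφ, hT, ← hφ, LinearEquiv.apply_symm_apply, LinearEquiv.apply_symm_apply]
  · rw [hM, LinearMap.det_toMatrix', hT', LinearEquiv.conj_apply, LinearMap.comp_assoc,
      LinearMap.det_conj]
  · intro s z hs
    have hpow : ∀ (i : ℕ) (x : Fin k → F), (M ^ i) *ᵥ x = φ ((T ^ i) (φ.symm x)) := by
      intro i
      induction i with
      | zero =>
        intro x
        simp
      | succ i ih =>
        intro x
        rw [pow_succ, ← Matrix.mulVec_mulVec, ih, hMv, LinearEquiv.symm_apply_apply, pow_succ,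
          Module.End.mul_apply]
    apply eq_of_mulVec_eq
    intro x
    rw [hpow, hs, LinearMap.smul_apply, Module.End.one_apply, map_smul,
      LinearEquiv.apply_symm_apply, Matrix.smul_mulVec, Matrix.one_mulVec]
  · intro c
    have h1 : eig M c = (LinearMap.ker (T - c • LinearMap.id)).map (φ : U →ₗ[F] (Fin k → F)) := by
      ext v
      rw [mem_eig, Submodule.mem_map]
      constructor
      · intro h
        refine ⟨φ.symm v, ?_, ?_⟩
        · rw [LinearMap.mem_ker, LinearMap.sub_apply, LinearMap.smul_apply, LinearMap.id_apply,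
            sub_eq_zero]
          apply φ.injective
          rw [map_smul, LinearEquiv.apply_symm_apply, ← hMv]
          exact h
        · exact LinearEquiv.apply_symm_apply φ v
      · rintro ⟨u, hu, rfl⟩
        rw [LinearMap.mem_ker, LinearMap.sub_apply, LinearMap.smul_apply, LinearMap.id_apply,
          sub_eq_zero] at hu
        rw [hMv]
        change φ (T (φ.symm (φ u))) = c • φ u
        rw [LinearEquiv.symm_apply_apply, hu, map_smul]
    rw [h1]
    exact LinearEquiv.finrank_map_eq φ _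

end transport

section sum
variable {F : Type*} [Field F] [Fintype F] {q : ℕ}

/-- the orthogonal sum of two standard hermitian spaces -/
noncomputable def sumB (hF : Fintype.card F = q ^ 2) (k₁ k₂ : ℕ) :
    ((Fin k₁ → F) × (Fin k₂ → F)) →ₛₗ[conjQ hF] ((Fin k₁ → F) × (Fin k₂ → F)) →ₗ[F] F :=
  LinearMap.mk₂'ₛₗ (conjQ hF) (RingHom.id F)
    (fun x y => hermForm k₁ F q y.1 x.1 + hermForm k₂ F q y.2 x.2)
    (fun x x' y => by
      simp only [Prod.fst_add, Prod.snd_add, herm_add_right hF]; ring)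
    (fun c x y => by
      simp only [Prod.smul_fst, Prod.smul_snd, herm_smul_right, smul_eq_mul, conjQ_apply]; ring)
    (fun x y y' => by
      simp only [Prod.fst_add, Prod.snd_add, herm_add_left]; ring)
    (fun c x y => by
      simp only [Prod.smul_fst, Prod.smul_snd, herm_smul_left, smul_eq_mul, RingHom.id_apply]
      ring)

theorem sumB_apply (hF : Fintype.card F = q ^ 2) (k₁ k₂ : ℕ)
    (x y : (Fin k₁ → F) × (Fin k₂ → F)) :
    sumB hF k₁ k₂ x y = hermForm k₁ F q y.1 x.1 + hermForm k₂ F q y.2 x.2 := rfl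

theorem sumB_isSymm (hF : Fintype.card F = q ^ 2) (k₁ k₂ : ℕ) : (sumB hF k₁ k₂).IsSymm :=
  ⟨fun x y => by
    rw [sumB_apply, sumB_apply, map_add, conjQ_apply, conjQ_apply, herm_conj hF, herm_conj hF]⟩

theorem sumB_nondeg (hF : Fintype.card F = q ^ 2) (k₁ k₂ : ℕ) (u : (Fin k₁ → F) × (Fin k₂ → F))
    (hu : ∀ v, sumB hF k₁ k₂ u v = 0) : u = 0 := by
  apply Prod.ext
  · apply herm_nondeg hF
    intro y
    apply herm_swap_zero hF
    have := hu (y, 0)
    rwa [sumB_apply, herm_zero_left, add_zero] at this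
  · apply herm_nondeg hF
    intro y
    apply herm_swap_zero hF
    have := hu (0, y)
    rwa [sumB_apply, herm_zero_left, zero_add] at this

theorem prodMap_pow_apply {A B : Type*} [AddCommGroup A] [Module F A] [AddCommGroup B]
    [Module F B] (f : A →ₗ[F] A) (g : B →ₗ[F] B) (s : ℕ) (x : A × B) :
    ((f.prodMap g) ^ s) x = ((f ^ s) x.1, (g ^ s) x.2) := by
  induction s generalizing x with
  | zero => simp
  | succ s ih =>
    rw [pow_succ, Module.End.mul_apply, ih, pow_succ, pow_succ, Module.End.mul_apply,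
      Module.End.mul_apply]
    rfl

theorem toLin'_pow_apply {k : ℕ} (M : Matrix (Fin k) (Fin k) F) (s : ℕ) (x : Fin k → F) :
    ((Matrix.toLin' M) ^ s) x = (M ^ s) *ᵥ x := by
  rw [← Matrix.toLin'_pow, Matrix.toLin'_apply]

theorem finrank_ker_prodMap {A B : Type*} [AddCommGroup A] [Module F A] [AddCommGroup B]
    [Module F B] [FiniteDimensional F A] [FiniteDimensional F B]
    (f : A →ₗ[F] A) (g : B →ₗ[F] B) :
    finrank F (LinearMap.ker (f.prodMap g)) =
      finrank F (LinearMap.ker f) + finrank F (LinearMap.ker g) := by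
  rw [LinearMap.ker_prodMap]
  rw [LinearEquiv.finrank_eq (prodSubEquiv (LinearMap.ker f) (LinearMap.ker g)),
    Module.finrank_prod]

/-- orthogonal sums of isometries in standard coordinates -/
theorem exists_sum_matrix (hF : Fintype.card F = q ^ 2) (k₁ k₂ : ℕ)
    (M₁ : Matrix (Fin k₁) (Fin k₁) F) (M₂ : Matrix (Fin k₂) (Fin k₂) F)
    (h₁ : Pres q M₁) (h₂ : Pres q M₂) :
    ∃ M : Matrix (Fin (k₁ + k₂)) (Fin (k₁ + k₂)) F, Pres q M ∧ M.det = M₁.det * M₂.det ∧
      (∀ (s : ℕ) (z : F), M₁ ^ s = z • 1 → M₂ ^ s = z • 1 → M ^ s = z • 1) ∧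
      (∀ c : F, finrank F (eig M c) = finrank F (eig M₁ c) + finrank F (eig M₂ c)) := by
  classical
  set T : ((Fin k₁ → F) × (Fin k₂ → F)) →ₗ[F] ((Fin k₁ → F) × (Fin k₂ → F)) :=
    (Matrix.toLin' M₁).prodMap (Matrix.toLin' M₂) with hT
  have hTiso : ∀ x y, sumB hF k₁ k₂ (T x) (T y) = sumB hF k₁ k₂ x y := by
    intro x y
    rw [sumB_apply, sumB_apply, hT]
    simp only [LinearMap.prodMap_apply, Matrix.toLin'_apply]
    rw [h₁, h₂]
  have hk : finrank F ((Fin k₁ → F) × (Fin k₂ → F)) = k₁ + k₂ := by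
    rw [Module.finrank_prod, Module.finrank_fin_fun, Module.finrank_fin_fun]
  obtain ⟨M, hM1, hM2, hM3, hM4⟩ := exists_std_matrix2 hF (sumB hF k₁ k₂) (sumB_isSymm hF k₁ k₂)
    (sumB_nondeg hF k₁ k₂) (k₁ + k₂) hk T hTiso
  refine ⟨M, hM1, ?_, ?_, ?_⟩
  · rw [hM2, hT, LinearMap.det_prodMap, LinearMap.det_toLin', LinearMap.det_toLin']
  · intro s z hs1 hs2
    apply hM3
    apply LinearMap.ext
    intro x
    rw [hT, prodMap_pow_apply, toLin'_pow_apply, toLin'_pow_apply, hs1, hs2,
      Matrix.smul_mulVec, Matrix.smul_mulVec, Matrix.one_mulVec, Matrix.one_mulVec]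
    rfl
  · intro c
    rw [hM4]
    have h1 : T - c • LinearMap.id =
        (Matrix.toLin' (M₁ - c • (1 : Matrix (Fin k₁) (Fin k₁) F))).prodMap
          (Matrix.toLin' (M₂ - c • (1 : Matrix (Fin k₂) (Fin k₂) F))) := by
      apply LinearMap.ext
      intro x
      rw [hT]
      simp only [LinearMap.sub_apply, LinearMap.prodMap_apply, LinearMap.smul_apply,
        LinearMap.id_apply, Matrix.toLin'_apply, Matrix.sub_mulVec, Matrix.smul_mulVec,
        Matrix.one_mulVec]
      rfl
    rw [h1, finrank_ker_prodMap]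
    rfl

end sum

section rep
variable {F : Type*} [Field F] [Fintype F] {q : ℕ}

theorem pres_one (k : ℕ) : Pres q (1 : Matrix (Fin k) (Fin k) F) := by
  intro u v
  rw [Matrix.one_mulVec, Matrix.one_mulVec]

theorem eig_one_one (k : ℕ) : eig (1 : Matrix (Fin k) (Fin k) F) 1 = ⊤ := by
  rw [eq_top_iff]
  intro v _
  rw [mem_eig, Matrix.one_mulVec, one_smul]

/-- `t` orthogonal copies of an isometry without fixed vectors, plus an identity block -/
theorem exists_rep_matrix (hF : Fintype.card F = q ^ 2) (c : ℕ) (a : Matrix (Fin c) (Fin c) F)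
    (ha : Pres q a) (r : ℕ) (har : a ^ r = 1) (hfix : finrank F (eig a 1) = 0) (k t : ℕ) :
    ∀ n : ℕ, n = c * t + k → ∃ M : Matrix (Fin n) (Fin n) F, Pres q M ∧ M ^ r = 1 ∧
      finrank F (eig M 1) = k := by
  induction t with
  | zero =>
    intro n hn
    rw [mul_zero, zero_add] at hn
    subst hn
    refine ⟨1, pres_one n, one_pow r, ?_⟩
    rw [eig_one_one, finrank_top, Module.finrank_fin_fun]
  | succ t ih =>
    intro n hn
    obtain ⟨M', hM'1, hM'2, hM'3⟩ := ih (c * t + k) rfl
    obtain ⟨M, hM1, _, hM3, hM4⟩ := exists_sum_matrix hF c (c * t + k) a M' ha hM'1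
    have hn' : n = c + (c * t + k) := by rw [hn]; ring
    subst hn'
    refine ⟨M, hM1, ?_, ?_⟩
    · have := hM3 r 1 (by rw [har, one_smul]) (by rw [hM'2, one_smul])
      rwa [one_smul] at this
    · rw [hM4, hfix, hM'3, zero_add]

end rep

section cauchy
variable {F : Type*} [Field F] [Fintype F] {q : ℕ}

theorem pres_of_mem_GU {k : ℕ} (g : GL (Fin k) F) (hg : g ∈ Cfsg.GU k F q) :
    Pres q (g : Matrix (Fin k) (Fin k) F) := (mem_GU_iff g).mp hg

/-- an isometry of order `r` of the standard space of dimension `c = ord_r(-q)` without fixed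
vectors -/
theorem exists_atom_matrix (hF : Fintype.card F = q ^ 2) (p : ℕ) [hp : Fact p.Prime] [CharP F p]
    (r : ℕ) [hr : Fact r.Prime] (hrp : r ≠ p) (c : ℕ) (hc : c = orderOf (-(q : ZMod r))) :
    ∃ a : Matrix (Fin c) (Fin c) F, Pres q a ∧ a ^ r = 1 ∧ finrank F (eig a 1) = 0 := by
  classical
  have hrq : ¬ r ∣ q := not_dvd_q hF p r hr.out hrp
  have hcpos : 0 < c := by
    rw [hc]
    exact orderOf_pos_of_ne_zero r _ (neg_ne_zero.mpr (zq_ne_zero r q hrq))
  -- `r` divides the order of `GU_c(q)`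
  have hdvd : r ∣ Nat.card (Cfsg.GU c F q) := by
    rw [card_GU hF]
    apply Dvd.dvd.mul_left
    have h1 : r ∣ unitCount F q c := (dvd_unitCount_iff r q hF hrq c hc c hcpos).mpr dvd_rfl
    obtain ⟨i, hi⟩ : ∃ i, c = i + 1 := ⟨c - 1, by omega⟩
    rw [hi, unitCount_explicit hF] at h1
    have h2 : r ∣ (if Even i then q ^ (i + 1) + 1 else q ^ (i + 1) - 1) := by
      rcases (Nat.Prime.dvd_mul hr.out).mp h1 with h | h
      · exact absurd (hr.out.dvd_of_dvd_pow h) hrq
      · exact h
    rw [hi]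
    exact Dvd.dvd.trans h2 (Finset.dvd_prod_of_mem _ (Finset.mem_range.mpr (Nat.lt_succ_self i)))
  obtain ⟨g, hg⟩ := exists_prime_orderOf_dvd_card' r hdvd
  set a : Matrix (Fin c) (Fin c) F := ((g : GL (Fin c) F) : Matrix (Fin c) (Fin c) F) with ha
  have hapres : Pres q a := pres_of_mem_GU _ g.2
  have har : a ^ r = 1 := by
    have h1 : g ^ r = 1 := by rw [← hg]; exact pow_orderOf_eq_one g
    have h2 := congrArg (fun x : Cfsg.GU c F q => ((x : GL (Fin c) F) : Matrix (Fin c) (Fin c) F)) h1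
    simpa using h2
  have hane : a ≠ 1 := by
    intro h
    have h1 : g = 1 := by
      apply Subtype.ext
      apply Units.ext
      exact h
    rw [h1, orderOf_one] at hg
    exact hr.out.one_lt.ne hg
  refine ⟨a, hapres, har, ?_⟩
  have hss := isSemisimple_of_pow_eq_one p r hr.out hrp har
  have hr1 : 1 ≤ r := hr.out.one_lt.le
  have hC : ND q (⊤ ⊓ eig a 1) :=
    nd_inf_eig_one hF hapres hss r hr1 har (nd_top hF) (inv_top a)
  rw [top_inf_eq] at hC
  have hM : ND q (perp q (eig a 1)) := nd_perp hF hC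
  have hMI : Inv a (perp q (eig a 1)) := (inv_eig a 1).perp hF hapres
  have hMfix : ∀ u ∈ perp q (eig a 1), a *ᵥ u = u → u = 0 := by
    intro u hu hau
    have h1 : u ∈ eig a 1 ⊓ perp q (eig a 1) := by
      refine ⟨?_, hu⟩
      rw [SetLike.mem_coe, mem_eig, one_smul]
      exact hau
    rw [(nd_iff _).mp hC] at h1
    exact (Submodule.mem_bot F).mp h1
  have hdim := finrank_perp_add hF (eig a 1)
  by_cases hM0 : finrank F (perp q (eig a 1)) = 0
  · exfalso
    apply hane
    have htop : eig a 1 = ⊤ := by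
      apply Submodule.eq_top_of_finrank_eq
      rw [Module.finrank_fin_fun]
      omega
    apply eq_of_mulVec_eq
    intro u
    have : u ∈ eig a 1 := by rw [htop]; exact Submodule.mem_top
    rw [mem_eig, one_smul] at this
    rw [this, Matrix.one_mulVec]
  · have h1 := dvd_unitCount hF r hapres har hM hMI hMfix
    have h2 := (dvd_unitCount_iff r q hF hrq c hc _ (by omega)).mp h1
    have h3 := Nat.le_of_dvd (by omega) h2
    omega

end cauchy

end Cfsg.Agent.Lib.Helper19.HS
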