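import Mathlib
import Cfsg.Agent.Lib.Helper19.HSf

/-!
# Nondegenerate invariant subspaces of semisimple isometries of prime order
-/

set_option autoImplicit false
set_option linter.unusedSectionVars false
set_option linter.unusedVariables false

namespace Cfsg.Agent.Lib.Helper19.HS

open Matrix Module Polynomial Cfsg Cfsg.Agent.S0779 Cfsg.Agent.Lib.Helper6
  Cfsg.Agent.Lib.Helper19.PSU Cfsg.Agent.Lib.Helper15.PSub Cfsg.Agent.Lib.Helper16

section main
variable {F : Type*} [Field F] [Fintype F] {q n : ℕ}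

local notation "hh" => Cfsg.hermForm n F q

theorem cast_card_eq (hF : Fintype.card F = q ^ 2) (r : ℕ) :
    ((Fintype.card F : ℕ) : ZMod r) = (q : ZMod r) ^ 2 := by
  rw [hF]
  push_cast
  rfl

/-- subspaces of an eigenspace are invariant -/
theorem inv_of_le_eig {y : Matrix (Fin n) (Fin n) F} {c : F} {W : Submodule F (Fin n → F)}
    (h : W ≤ eig y c) : Inv y W := by
  intro u hu
  have := h hu
  rw [mem_eig] at this
  rw [this]
  exact W.smul_mem c hu

/-- the moved part of a nondegenerate invariant subspace has dimension divisible by `c` -/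
theorem nd_inv_dims (hF : Fintype.card F = q ^ 2) (p : ℕ) [hp : Fact p.Prime] [CharP F p]
    (r : ℕ) [hr : Fact r.Prime] (hrp : r ≠ p)
    {y : Matrix (Fin n) (Fin n) F} (hy : Pres q y) (hyr : y ^ r = 1)
    (c : ℕ) (hc : c = orderOf (-(q : ZMod r)))
    {W : Submodule F (Fin n → F)} (hW : ND q W) (hI : Inv y W) :
    ∃ j, finrank F W = finrank F ↥(W ⊓ eig y 1) + c * j := by
  have hrq : ¬ r ∣ q := not_dvd_q hF p r hr.out hrp
  have hss := isSemisimple_of_pow_eq_one p r hr.out hrp hyr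
  have hr1 : 1 ≤ r := hr.out.one_lt.le
  have hW1 : ND q (W ⊓ eig y 1) := nd_inf_eig_one hF hy hss r hr1 hyr hW hI
  have hW1I : Inv y (W ⊓ eig y 1) := hI.inf (inv_eig y 1)
  have hW2 : ND q (perp q (W ⊓ eig y 1) ⊓ W) := nd_inf_perp hF hW1 hW inf_le_left
  have hW2I : Inv y (perp q (W ⊓ eig y 1) ⊓ W) := (hW1I.perp hF hy).inf hI
  have hdim := finrank_inf_perp hF hW1 (inf_le_left : W ⊓ eig y 1 ≤ W)
  have hfix : ∀ u ∈ perp q (W ⊓ eig y 1) ⊓ W, y *ᵥ u = u → u = 0 := by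
    intro u hu hyu
    have h1 : u ∈ (W ⊓ eig y 1) ⊓ perp q (W ⊓ eig y 1) := by
      refine ⟨⟨hu.2, ?_⟩, hu.1⟩
      rw [SetLike.mem_coe, mem_eig, one_smul]
      exact hyu
    rw [(nd_iff _).mp hW1] at h1
    exact (Submodule.mem_bot F).mp h1
  by_cases h0 : finrank F ↥(perp q (W ⊓ eig y 1) ⊓ W) = 0
  · exact ⟨0, by omega⟩
  · have h1 := dvd_unitCount hF r hy hyr hW2 hW2I hfix
    obtain ⟨j, hj⟩ := (dvd_unitCount_iff r q hF hrq c hc _ (by omega)).mp h1
    exact ⟨j, by omega⟩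

/-- existence of nondegenerate invariant subspaces of prescribed dimension -/
theorem exists_nd_inv (hF : Fintype.card F = q ^ 2) (p : ℕ) [hp : Fact p.Prime] [CharP F p]
    (r : ℕ) [hr : Fact r.Prime] (hrp : r ≠ p)
    {y : Matrix (Fin n) (Fin n) F} (hy : Pres q y) (hyr : y ^ r = 1)
    (c : ℕ) (hc : c = orderOf (-(q : ZMod r)))
    (m j : ℕ) (hj1 : c * j + finrank F (eig y 1) ≤ n) (hj2 : c * j ≤ m)
    (hj3 : m ≤ c * j + finrank F (eig y 1)) :
    ∃ W : Submodule F (Fin n → F), finrank F W = m ∧ ND q W ∧ Inv y W := by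
  have hrq : ¬ r ∣ q := not_dvd_q hF p r hr.out hrp
  have hss := isSemisimple_of_pow_eq_one p r hr.out hrp hyr
  have hr1 : 1 ≤ r := hr.out.one_lt.le
  obtain ⟨hb0, hc0, hcases⟩ := c_cases r q hrq (orderOf ((q : ZMod r) ^ 2)) c rfl hc
  have hC : ND q (eig y 1) := by
    have := nd_inf_eig_one hF hy hss r hr1 hyr (nd_top hF) (inv_top y)
    rwa [top_inf_eq] at this
  have hM : ND q (perp q (eig y 1)) := nd_perp hF hC
  have hMI : Inv y (perp q (eig y 1)) := (inv_eig y 1).perp hF hy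
  have hMdim := finrank_perp_add hF (eig y 1)
  -- peel atoms from the moved part
  obtain ⟨W₁, hW₁M, hW₁, hW₁I, hW₁d⟩ := peel hF hy c
    (fun U => ND q U ∧ Inv y U ∧ ∀ u ∈ U, y *ᵥ u = u → u = 0)
    (fun U hU => ⟨hU.1, hU.2.1⟩)
    (fun U hU hne => exists_atom hF p r hrp hy hyr _ c
      (by rw [cast_card_eq hF]) hb0
      (fun d hd hdvd => (dvd_unitCount_iff r q hF hrq c hc d hd).mp hdvd) hcases
      hU.1 hU.2.1 hU.2.2 hne)
    (fun U A hU hAU hA hAI => ⟨nd_inf_perp hF hA hU.1 hAU, (hAI.perp hF hy).inf hU.2.1,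
      fun u hu => hU.2.2 u hu.2⟩)
    j (perp q (eig y 1))
    ⟨hM, hMI, by
      intro u hu hyu
      have h1 : u ∈ eig y 1 ⊓ perp q (eig y 1) := by
        refine ⟨?_, hu⟩
        rw [SetLike.mem_coe, mem_eig, one_smul]
        exact hyu
      rw [(nd_iff _).mp hC] at h1
      exact (Submodule.mem_bot F).mp h1⟩
    (by omega)
  obtain ⟨W₀, hW₀C, hW₀, hW₀d⟩ := exists_nd_le hF hC (m - c * j) (by omega)
  have hW₀I : Inv y W₀ := inv_of_le_eig hW₀C
  have hperp : W₀ ≤ perp q W₁ := by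
    intro w₀ hw₀ w₁ hw₁
    exact herm_swap_zero hF (hW₁M hw₁ w₀ (hW₀C hw₀))
  refine ⟨W₀ ⊔ W₁, ?_, nd_sup hF hW₀ hW₁ hperp, hW₀I.sup hW₁I⟩
  rw [finrank_sup_of_perp hW₁ hperp, hW₀d, hW₁d]
  omega

/-- the moved part of the whole space -/
theorem moved_dvd (hF : Fintype.card F = q ^ 2) (p : ℕ) [hp : Fact p.Prime] [CharP F p]
    (r : ℕ) [hr : Fact r.Prime] (hrp : r ≠ p)
    {y : Matrix (Fin n) (Fin n) F} (hy : Pres q y) (hyr : y ^ r = 1)
    (c : ℕ) (hc : c = orderOf (-(q : ZMod r))) :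
    ∃ j, n = finrank F (eig y 1) + c * j := by
  obtain ⟨j, hj⟩ := nd_inv_dims hF p r hrp hy hyr c hc (nd_top hF) (inv_top y)
  rw [top_inf_eq, finrank_top, Module.finrank_fin_fun] at hj
  exact ⟨j, hj⟩

end main

section scalar
variable {F : Type*} [Field F] [Fintype F] {q n : ℕ}

theorem pres_smul {x : Matrix (Fin n) (Fin n) F} (hx : Pres q x) (a : F) (ha : a ^ (q + 1) = 1) :
    Pres q (a • x) := by
  intro u v
  rw [Matrix.smul_mulVec, Matrix.smul_mulVec, herm_smul_left, herm_smul_right, hx]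
  have : a * (a ^ q * hermForm n F q u v) = a ^ (q + 1) * hermForm n F q u v := by ring
  rw [this, ha, one_mul]

theorem inv_smul_iff {x : Matrix (Fin n) (Fin n) F} (a : F) (ha : a ≠ 0)
    (W : Submodule F (Fin n → F)) : Inv (a • x) W ↔ Inv x W := by
  constructor
  · intro h u hu
    have := h u hu
    rw [Matrix.smul_mulVec] at this
    have h2 := W.smul_mem a⁻¹ this
    rwa [smul_smul, inv_mul_cancel₀ ha, one_smul] at h2
  · intro h u hu
    rw [Matrix.smul_mulVec]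
    exact W.smul_mem a (h u hu)

end scalar

end Cfsg.Agent.Lib.Helper19.HS
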