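import Mathlib
import Cfsg.Agent.Lib.Helper19.HSg
import Cfsg.Agent.Lib.Helper15.PSub4

/-!
# Isometries `x` with `x ^ r = z`, `z` not an `r`-th power
-/

set_option autoImplicit false
set_option linter.unusedSectionVars false
set_option linter.unusedVariables false

namespace Cfsg.Agent.Lib.Helper19.HS

open Matrix Module Polynomial Cfsg Cfsg.Agent.S0779 Cfsg.Agent.Lib.Helper6
  Cfsg.Agent.Lib.Helper19.PSU Cfsg.Agent.Lib.Helper15.PSub Cfsg.Agent.Lib.Helper16

section typeZ
variable {F : Type*} [Field F] [Fintype F] {q n : ℕ}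

local notation "hh" => Cfsg.hermForm n F q

theorem toLin'_pow_eq_smul {x : Matrix (Fin n) (Fin n) F} (r : ℕ) (z : F)
    (hxr : x ^ r = z • (1 : Matrix (Fin n) (Fin n) F)) :
    (Matrix.toLin' x) ^ r = z • (1 : (Fin n → F) →ₗ[F] (Fin n → F)) := by
  rw [← Matrix.toLin'_pow, hxr, map_smul, Matrix.toLin'_one]
  rfl

theorem isSemisimple_of_pow_eq_smul' (p : ℕ) [hp : Fact p.Prime] [CharP F p] (r : ℕ)
    (hr : r.Prime) (hrp : r ≠ p) {x : Matrix (Fin n) (Fin n) F} (z : F) (hz : z ≠ 0)
    (hxr : x ^ r = z • (1 : Matrix (Fin n) (Fin n) F)) :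
    Module.End.IsSemisimple (Matrix.toLin' x) :=
  isSemisimple_of_pow_eq_smul _ r (cast_ne_zero_of_ne p r hr hrp) z hz (toLin'_pow_eq_smul r z hxr)

/-- invariant subspaces have dimension divisible by `r` -/
theorem dvd_finrank_Z (r : ℕ) (hr : r.Prime) {x : Matrix (Fin n) (Fin n) F} (z : F)
    (hxr : x ^ r = z • (1 : Matrix (Fin n) (Fin n) F)) (hz : ∀ b : F, b ^ r ≠ z)
    {W : Submodule F (Fin n → F)} (hW : Inv x W) : r ∣ finrank F W :=
  dvd_finrank_of_not_pow r hr z hz (Matrix.toLin' x) (toLin'_pow_eq_smul r z hxr) W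
    ((inv_iff_invt x W).mp hW)

/-- atoms of dimension `r` -/
theorem exists_atom_Z (hF : Fintype.card F = q ^ 2) (r : ℕ) (hr : r.Prime)
    {x : Matrix (Fin n) (Fin n) F} (hx : Pres q x) (z : F)
    (hxr : x ^ r = z • (1 : Matrix (Fin n) (Fin n) F)) (hz : ∀ b : F, b ^ r ≠ z)
    {U : Submodule F (Fin n → F)} (hU : ND q U) (hI : Inv x U) (hne : U ≠ ⊥) :
    ∃ A : Submodule F (Fin n → F), A ≤ U ∧ ND q A ∧ Inv x A ∧ finrank F A = r := by
  classical
  set f := Matrix.toLin' x with hfdef
  have hf := toLin'_pow_eq_smul r z hxr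
  have hP : Irreducible (X ^ r - C z : F[X]) := X_pow_sub_C_irreducible_of_prime hr hz
  have hPf : aeval f (X ^ r - C z : F[X]) = 0 := aeval_X_pow_sub_C f r z hf
  obtain ⟨e, heU, hee⟩ := exists_aniso hF (ne_bot_not_ti hU hne)
  have he0 : e ≠ 0 := by
    rintro rfl
    exact hee (herm_zero_left 0)
  obtain ⟨W', hW'inv, heW', hW'dim, hW'min⟩ := exists_cyclic f _ hP e he0
    (by rw [hPf, LinearMap.zero_apply])
  rw [natDegree_X_pow_sub_C] at hW'dim
  have hW'I : Inv x W' := (inv_iff_invt x W').mpr hW'inv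
  have hW'U : W' ≤ U := hW'min U ((inv_iff_invt x U).mp hI) heU
  have h1 : r ∣ finrank F ↥(W' ⊓ perp q W') :=
    dvd_finrank_Z r hr z hxr hz (hW'I.inf (hW'I.perp hF hx))
  have h2 : finrank F ↥(W' ⊓ perp q W') ≤ r := by
    rw [← hW'dim]
    exact Submodule.finrank_mono inf_le_left
  obtain ⟨t, ht⟩ := h1
  have ht' : t = 0 ∨ t = 1 := by
    rcases t with _ | _ | t
    · left; rfl
    · right; rfl
    · exfalso
      rw [ht] at h2
      have := hr.pos
      nlinarith
  rcases ht' with rfl | rfl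
  · refine ⟨W', hW'U, ?_, hW'I, hW'dim⟩
    rw [nd_iff]
    rw [mul_zero] at ht
    exact Submodule.finrank_eq_zero.mp ht
  · exfalso
    rw [mul_one] at ht
    have h3 : W' ⊓ perp q W' = W' :=
      Submodule.eq_of_le_of_finrank_eq inf_le_left (by rw [ht, hW'dim])
    have h4 : W' ≤ perp q W' := le_of_eq_of_le h3.symm inf_le_right
    exact hee (h4 heW' e heW')

/-- nondegenerate invariant subspaces of every dimension divisible by `r` -/
theorem exists_nd_inv_Z (hF : Fintype.card F = q ^ 2) (r : ℕ) (hr : r.Prime)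
    {x : Matrix (Fin n) (Fin n) F} (hx : Pres q x) (z : F)
    (hxr : x ^ r = z • (1 : Matrix (Fin n) (Fin n) F)) (hz : ∀ b : F, b ^ r ≠ z)
    (j : ℕ) (hj : r * j ≤ n) :
    ∃ W : Submodule F (Fin n → F), finrank F W = r * j ∧ ND q W ∧ Inv x W := by
  obtain ⟨W, _, hW, hWI, hWd⟩ := peel hF hx r (fun U => ND q U ∧ Inv x U) (fun U hU => hU)
    (fun U hU hne => exists_atom_Z hF r hr hx z hxr hz hU.1 hU.2 hne)
    (fun U A hU hAU hA hAI => ⟨nd_inf_perp hF hA hU.1 hAU, (hAI.perp hF hx).inf hU.2⟩)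
    j ⊤ ⟨nd_top hF, inv_top x⟩ (by rw [finrank_top, Module.finrank_fin_fun]; exact hj)
  exact ⟨W, hWd, hW, hWI⟩

/-- the determinant -/
theorem det_Z (r : ℕ) (hr : r.Prime) (hodd : Odd r) {x : Matrix (Fin n) (Fin n) F} (z : F)
    (hxr : x ^ r = z • (1 : Matrix (Fin n) (Fin n) F)) (hz : ∀ b : F, b ^ r ≠ z) :
    r ∣ n ∧ x.det = z ^ (n / r) := by
  have h := det_of_not_pow r hr z hz (Matrix.toLin' x) (toLin'_pow_eq_smul r z hxr)
  rw [Module.finrank_fin_fun, LinearMap.det_toLin'] at h
  refine ⟨h.1, ?_⟩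
  rw [h.2, (Odd.add_one hodd).neg_one_pow, one_mul]

end typeZ

section shift
variable {F : Type*} [Field F] [Fintype F] {q : ℕ}

/-- the standard hermitian form on functions on `ZMod r` -/
noncomputable def shiftB (hF : Fintype.card F = q ^ 2) (r : ℕ) [NeZero r] :
    (ZMod r → F) →ₛₗ[conjQ hF] (ZMod r → F) →ₗ[F] F :=
  LinearMap.mk₂'ₛₗ (conjQ hF) (RingHom.id F)
    (fun u w => ∑ i, w i * conjQ hF (u i))
    (fun u u' w => by
      simp only [Pi.add_apply, map_add, mul_add, Finset.sum_add_distrib])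
    (fun c u w => by
      simp only [Pi.smul_apply, smul_eq_mul, map_mul, Finset.mul_sum]
      apply Finset.sum_congr rfl
      intro i _
      ring)
    (fun u w w' => by
      simp only [Pi.add_apply, add_mul, Finset.sum_add_distrib])
    (fun c u w => by
      simp only [Pi.smul_apply, smul_eq_mul, RingHom.id_apply, Finset.mul_sum]
      apply Finset.sum_congr rfl
      intro i _
      ring)

theorem shiftB_apply (hF : Fintype.card F = q ^ 2) (r : ℕ) [NeZero r] (u w : ZMod r → F) :
    shiftB hF r u w = ∑ i, w i * conjQ hF (u i) := rfl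

theorem shiftB_isSymm (hF : Fintype.card F = q ^ 2) (r : ℕ) [NeZero r] : (shiftB hF r).IsSymm :=
  ⟨fun u w => by
    rw [shiftB_apply, shiftB_apply, map_sum]
    apply Finset.sum_congr rfl
    intro i _
    rw [map_mul, conjQ_conjQ, mul_comm]⟩

theorem shiftB_nondeg (hF : Fintype.card F = q ^ 2) (r : ℕ) [NeZero r] (u : ZMod r → F)
    (hu : ∀ w, shiftB hF r u w = 0) : u = 0 := by
  classical
  funext i
  have h := hu (Pi.single i 1)
  rw [shiftB_apply] at h
  simp only [Pi.single_apply, ite_mul, one_mul, zero_mul, Finset.sum_ite_eq', Finset.mem_univ,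
    if_true] at h
  rw [conjQ_apply] at h
  exact pow_eq_zero_iff (by have := two_le_q hF; omega) |>.mp h

/-- a monomial isometry of `F^r` whose `r`-th power is the scalar `z` -/
theorem exists_shift_matrix (hF : Fintype.card F = q ^ 2) (r : ℕ) [NeZero r] (z : F)
    (hz : z ^ (q + 1) = 1) :
    ∃ M : Matrix (Fin r) (Fin r) F, Pres q M ∧ M ^ r = z • (1 : Matrix (Fin r) (Fin r) F) := by
  classical
  set d : ZMod r → F := fun i => if i = 0 then z else 1 with hd
  have hdq : ∀ i, d i * conjQ hF (d i) = 1 := by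
    intro i
    rw [conjQ_apply, ← pow_succ']
    simp only [hd]
    split_ifs
    · exact hz
    · exact one_pow _
  let T : (ZMod r → F) →ₗ[F] (ZMod r → F) :=
    { toFun := fun v i => d i * v (i + 1)
      map_add' := by
        intro v w
        funext i
        simp only [Pi.add_apply, mul_add]
      map_smul' := by
        intro c v
        funext i
        simp only [Pi.smul_apply, smul_eq_mul, RingHom.id_apply]
        ring }
  have hTapp : ∀ v i, T v i = d i * v (i + 1) := fun v i => rfl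
  have hTiso : ∀ u w, shiftB hF r (T u) (T w) = shiftB hF r u w := by
    intro u w
    rw [shiftB_apply, shiftB_apply]
    rw [← Equiv.sum_comp (Equiv.addRight (1 : ZMod r)) (fun i => w i * conjQ hF (u i))]
    apply Finset.sum_congr rfl
    intro i _
    rw [hTapp, hTapp, map_mul, Equiv.coe_addRight]
    have : d i * w (i + 1) * (conjQ hF (d i) * conjQ hF (u (i + 1))) =
        (d i * conjQ hF (d i)) * (w (i + 1) * conjQ hF (u (i + 1))) := by ring
    rw [this, hdq, one_mul]
  have hpow : ∀ (k : ℕ) (v : ZMod r → F) (i : ZMod r),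
      (T ^ k) v i = (∏ l ∈ Finset.range k, d (i + (l : ZMod r))) * v (i + (k : ZMod r)) := by
    intro k
    induction k with
    | zero =>
      intro v i
      simp
    | succ k ih =>
      intro v i
      rw [pow_succ, Module.End.mul_apply, ih, hTapp, Finset.prod_range_succ]
      push_cast
      rw [add_assoc]
      ring
  have hprod : ∀ i : ZMod r, ∏ l ∈ Finset.range r, d (i + (l : ZMod r)) = z := by
    intro i
    have hlt : (-i).val < r := ZMod.val_lt _
    rw [Finset.prod_eq_single (-i).val]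
    · simp only [hd]
      rw [ZMod.natCast_zmod_val, add_neg_cancel, if_pos rfl]
    · intro l hl hne
      simp only [hd]
      rw [if_neg]
      intro h0
      apply hne
      have h1 : (l : ZMod r) = -i := by
        rw [← sub_eq_zero, sub_neg_eq_add, add_comm]
        exact h0
      rw [← h1, ZMod.val_natCast_of_lt (Finset.mem_range.mp hl)]
    · intro h
      exact absurd (Finset.mem_range.mpr hlt) h
  have hTr : T ^ r = z • (1 : (ZMod r → F) →ₗ[F] (ZMod r → F)) := by
    apply LinearMap.ext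
    intro v
    funext i
    rw [hpow, hprod, ZMod.natCast_self, add_zero]
    rfl
  have hk : finrank F (ZMod r → F) = r := by
    rw [Module.finrank_pi, ZMod.card]
  obtain ⟨M, hM1, _, hM3, _⟩ := exists_std_matrix2 hF (shiftB hF r) (shiftB_isSymm hF r)
    (shiftB_nondeg hF r) r hk T hTiso
  exact ⟨M, hM1, hM3 r z hTr⟩

/-- `t` orthogonal copies of a monomial isometry -/
theorem exists_Z_matrix (hF : Fintype.card F = q ^ 2) (r : ℕ) [NeZero r] (z : F)
    (hz : z ^ (q + 1) = 1) (t : ℕ) :
    ∀ n : ℕ, n = r * t → ∃ M : Matrix (Fin n) (Fin n) F, Pres q M ∧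
      M ^ r = z • (1 : Matrix (Fin n) (Fin n) F) := by
  obtain ⟨M₀, hM₀, hM₀r⟩ := exists_shift_matrix hF r z hz
  induction t with
  | zero =>
    intro n hn
    rw [mul_zero] at hn
    subst hn
    refine ⟨1, pres_one 0, ?_⟩
    ext i
    exact i.elim0
  | succ t ih =>
    intro n hn
    obtain ⟨M', hM'1, hM'2⟩ := ih (r * t) rfl
    obtain ⟨M, hM1, _, hM3, _⟩ := exists_sum_matrix hF r (r * t) M₀ M' hM₀ hM'1
    have hn' : n = r + r * t := by rw [hn]; ring
    subst hn'
    exact ⟨M, hM1, hM3 r z hM₀r hM'2⟩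

end shift

end Cfsg.Agent.Lib.Helper19.HS
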