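import Mathlib
import Cfsg.Agent.Lib.Helper19.HSh

/-!
# Elements of order two modulo scalars whose eigenspaces are totally isotropic
-/

set_option autoImplicit false
set_option linter.unusedSectionVars false
set_option linter.unusedVariables false

namespace Cfsg.Agent.Lib.Helper19.HS

open Matrix Module Polynomial Cfsg Cfsg.Agent.S0779 Cfsg.Agent.Lib.Helper6
  Cfsg.Agent.Lib.Helper19.PSU Cfsg.Agent.Lib.Helper15.PSub Cfsg.Agent.Lib.Helper16

section hyp
variable {F : Type*} [Field F] [Fintype F] {q n : ℕ}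

local notation "hh" => Cfsg.hermForm n F q

/-- nondegenerate invariant subspaces have even dimension when both eigenspaces are totally
isotropic -/
theorem even_of_ts_eig (hF : Fintype.card F = q ^ 2) (x : Matrix (Fin n) (Fin n) F) (ν : F)
    (h2 : (2 : F) ≠ 0) (hν : ν ≠ 0) (hpair : TSPair q (eig x ν) (eig x (-ν)))
    {W : Submodule F (Fin n → F)} (hW : ND q W) (hI : Inv x W) : Even (finrank F W) := by
  have hsplit : ∀ w ∈ W, ∃ a ∈ W ⊓ eig x ν, ∃ b ∈ W ⊓ eig x (-ν), a + b = w := by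
    intro w hw
    obtain ⟨a, ha, b, hb, hab⟩ := hpair.dec w
    have hxw : x *ᵥ w = ν • a - ν • b := by
      rw [← hab, Matrix.mulVec_add, (mem_eig x ν a).mp ha, (mem_eig x (-ν) b).mp hb, neg_smul,
        sub_eq_add_neg]
    have h1 : ν⁻¹ • (x *ᵥ w) = a - b := by
      rw [hxw, smul_sub, smul_smul, smul_smul, inv_mul_cancel₀ hν, one_smul, one_smul]
    have h3 : a - b ∈ W := by
      rw [← h1]
      exact W.smul_mem _ (hI w hw)
    have ha' : a ∈ W := by
      have h4 : (2 : F)⁻¹ • (w + (a - b)) ∈ W := W.smul_mem _ (W.add_mem hw h3)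
      have h5 : (2 : F)⁻¹ • (w + (a - b)) = a := by
        rw [← hab]
        have : a + b + (a - b) = (2 : F) • a := by rw [two_smul]; abel
        rw [this, smul_smul, inv_mul_cancel₀ h2, one_smul]
      rwa [h5] at h4
    have hb' : b ∈ W := by
      have : b = w - a := by rw [← hab]; abel
      rw [this]
      exact W.sub_mem hw ha'
    exact ⟨a, ⟨ha', ha⟩, b, ⟨hb', hb⟩, hab⟩
  have hsup : (W ⊓ eig x ν) ⊔ (W ⊓ eig x (-ν)) = W := by
    apply le_antisymm (sup_le inf_le_left inf_le_left)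
    intro w hw
    obtain ⟨a, ha, b, hb, hab⟩ := hsplit w hw
    rw [← hab]
    exact Submodule.add_mem _ (Submodule.mem_sup_left ha) (Submodule.mem_sup_right hb)
  have hinf : (W ⊓ eig x ν) ⊓ (W ⊓ eig x (-ν)) = ⊥ := by
    rw [eq_bot_iff, ← hpair.disjoint hF]
    exact inf_le_inf inf_le_right inf_le_right
  have hdim := Submodule.finrank_sup_add_finrank_inf_eq (W ⊓ eig x ν) (W ⊓ eig x (-ν))
  rw [hsup, hinf, finrank_bot, add_zero] at hdim
  have hle1 : finrank F ↥(W ⊓ eig x ν) ≤ finrank F ↥(W ⊓ eig x (-ν)) := by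
    apply finrank_le_of_pairing hF
    intro w hw hz
    by_contra hne
    obtain ⟨v, hv, hwv⟩ := hW w hw.1 hne
    apply hwv
    obtain ⟨a, ha, b, hb, hab⟩ := hsplit v hv
    rw [← hab, herm_add_right hF, hpair.ts0 w hw.2 a ha.2, hz b hb, add_zero]
  have hle2 : finrank F ↥(W ⊓ eig x (-ν)) ≤ finrank F ↥(W ⊓ eig x ν) := by
    apply finrank_le_of_pairing hF
    intro w hw hz
    by_contra hne
    obtain ⟨v, hv, hwv⟩ := hW w hw.1 hne
    apply hwv
    obtain ⟨a, ha, b, hb, hab⟩ := hsplit v hv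
    rw [← hab, herm_add_right hF, hpair.ts1 w hw.2 b hb.2, hz a ha, add_zero]
  exact ⟨finrank F ↥(W ⊓ eig x ν), by omega⟩

/-- nondegenerate invariant subspaces of every even dimension -/
theorem exists_nd_inv_hyp (hF : Fintype.card F = q ^ 2) (p : ℕ) [hp : Fact p.Prime] [CharP F p]
    (hp2 : p ≠ 2) (x : Matrix (Fin n) (Fin n) F) (hx : Pres q x) (ν : F)
    (hν : ν ≠ 0) (hx2 : x ^ 2 = (ν ^ 2) • (1 : Matrix (Fin n) (Fin n) F))
    (hpair : TSPair q (eig x ν) (eig x (-ν))) (s : ℕ) (hs : 2 * s ≤ n) :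
    ∃ W : Submodule F (Fin n → F), finrank F W = 2 * s ∧ ND q W ∧ Inv x W := by
  have hss : Module.End.IsSemisimple (Matrix.toLin' x) :=
    isSemisimple_of_pow_eq_smul' p 2 Nat.prime_two (Ne.symm hp2) (ν ^ 2) (pow_ne_zero 2 hν) hx2
  have hk := hpair.finrank_left hF
  obtain ⟨W₀, hW₀le, hW₀d⟩ := exists_le_finrank_eq (eig x ν) s (by omega)
  have hW₀I : Inv x W₀ := inv_of_le_eig hW₀le
  have hW₀ti : TI q W₀ := fun u hu v hv => hpair.ts0 u (hW₀le hu) v (hW₀le hv)
  obtain ⟨W', _, hW'I, hnd, hdim⟩ := exists_partner hF hx hss (nd_top hF) (inv_top x)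
    (le_top : W₀ ≤ ⊤) hW₀I hW₀ti
  exact ⟨W₀ ⊔ W', by rw [hdim, hW₀d], hnd, hW₀I.sup hW'I⟩

/-- the hyperbolic model: an isometry acting as `ν` and `-ν` on two complementary totally
isotropic subspaces -/
theorem exists_hyp_matrix (hF : Fintype.card F = q ^ 2) (hqodd : Odd q) (h2 : (2 : F) ≠ 0)
    (k : ℕ) (ν : F) (hνq : ν ^ (q + 1) = -1) :
    ∀ n : ℕ, n = k + k → ∃ M : Matrix (Fin n) (Fin n) F, Pres q M ∧
      M ^ 2 = (ν ^ 2) • (1 : Matrix (Fin n) (Fin n) F) := by
  intro n hn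
  subst hn
  set T : ((Fin k → F) × (Fin k → F)) →ₗ[F] ((Fin k → F) × (Fin k → F)) :=
    (ν • LinearMap.id).prodMap ((-ν) • LinearMap.id) with hT
  have hTapp : ∀ x, T x = (ν • x.1, (-ν) • x.2) := fun x => rfl
  have hTiso : ∀ x y, hypB hF k (T x) (T y) = hypB hF k x y := by
    intro x y
    rw [hypB_apply, hypB_apply, hTapp, hTapp]
    simp only [herm_smul_left, herm_smul_right]
    have e1 : (-ν) ^ q * (ν * hermForm k F q y.1 x.2) = hermForm k F q y.1 x.2 := by
      rw [hqodd.neg_pow]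
      have : -ν ^ q * (ν * hermForm k F q y.1 x.2) = -(ν ^ (q + 1)) * hermForm k F q y.1 x.2 := by
        ring
      rw [this, hνq, neg_neg, one_mul]
    have e2 : ν ^ q * (-ν * hermForm k F q y.2 x.1) = hermForm k F q y.2 x.1 := by
      have : ν ^ q * (-ν * hermForm k F q y.2 x.1) = -(ν ^ (q + 1)) * hermForm k F q y.2 x.1 := by
        ring
      rw [this, hνq, neg_neg, one_mul]
    rw [e1, e2]
  have hk : finrank F ((Fin k → F) × (Fin k → F)) = k + k := by
    rw [Module.finrank_prod, Module.finrank_fin_fun]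
  obtain ⟨M, hM1, _, hM3, _⟩ := exists_std_matrix2 hF (hypB hF k) (hypB_isSymm hF k)
    (hypB_nondeg hF k) (k + k) hk T hTiso
  refine ⟨M, hM1, hM3 2 (ν ^ 2) ?_⟩
  apply LinearMap.ext
  intro x
  rw [pow_two, Module.End.mul_apply, hTapp, hTapp]
  simp only [smul_smul, LinearMap.smul_apply, Module.End.one_apply]
  apply Prod.ext
  · simp only [Prod.smul_fst]
    rw [← pow_two]
  · simp only [Prod.smul_snd]
    rw [neg_mul_neg, ← pow_two]

end hyp

section arith2
variable {F : Type*} [Field F] [Fintype F] {q : ℕ}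

/-- the obstruction: `ν^(q+1) = -1`, `ν^n = (-1)^(n/2)` is impossible when `q ≡ 3 (mod 4)` and
`(n)_2 ≤ (q+1)_2` -/
theorem two_contra (ν : F) (h2 : (2 : F) ≠ 0) (hνq : ν ^ (q + 1) = -1) (k : ℕ) (hk : k ≠ 0)
    (hνn : ν ^ (2 * k) = (-1) ^ k) (hq4 : q % 4 = 3)
    (hle : padicValNat 2 (2 * k) ≤ padicValNat 2 (q + 1)) : False := by
  obtain ⟨u, hu, hq1⟩ := two_adic_decomp (q + 1) (by omega)
  obtain ⟨n', hn', hn1⟩ := two_adic_decomp (2 * k) (by omega)
  set e := padicValNat 2 (q + 1) with he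
  set f := padicValNat 2 (2 * k) with hf
  have hne1 : (-1 : F) ≠ 1 := neg_one_ne_one h2
  -- `e ≥ 2`
  have he2 : 2 ≤ e := by
    by_contra hlt
    have : e = 0 ∨ e = 1 := by omega
    obtain ⟨u', rfl⟩ := hu
    rcases this with h | h
    · rw [h] at hq1; omega
    · rw [h] at hq1; omega
  have hf1 : 1 ≤ f := by
    by_contra hlt
    have : f = 0 := by omega
    rw [this] at hn1
    obtain ⟨u', rfl⟩ := hn'
    omega
  set μ := ν ^ n' with hμ
  have hμq : μ ^ (q + 1) = -1 := by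
    rw [hμ, ← pow_mul, mul_comm, pow_mul, hνq, hn'.neg_one_pow]
  have hμf : μ ^ (2 ^ f) = (-1) ^ k := by
    rw [hμ, ← pow_mul, mul_comm, ← hn1, hνn]
  -- `μ ^ (2^(f+1)) = 1`
  by_cases hfe : f < e
  · have h1 : μ ^ (2 ^ (f + 1)) = 1 := by
      rw [pow_succ, pow_mul, hμf, ← pow_mul, mul_comm, pow_mul, neg_one_sq, one_pow]
    have h3 : μ ^ (q + 1) = 1 := by
      have : q + 1 = 2 ^ (f + 1) * (2 ^ (e - (f + 1)) * u) := by
        rw [← mul_assoc, ← pow_add, hq1]
        congr 2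
        omega
      rw [this, pow_mul, h1, one_pow]
    rw [hμq] at h3
    exact hne1 h3
  · have hfe' : f = e := by omega
    -- then `f ≥ 2` so `k` is even
    have hkeven : Even k := by
      have h4 : 2 ^ 2 ∣ 2 * k := by
        rw [hn1]
        exact Dvd.dvd.mul_right (pow_dvd_pow 2 (by omega)) _
      have : 2 ∣ k := by omega
      exact even_iff_two_dvd.mpr this
    rw [hkeven.neg_one_pow] at hμf
    have h3 : μ ^ (q + 1) = 1 := by
      rw [hq1, ← hfe', pow_mul, hμf, one_pow]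
    rw [hμq] at h3
    exact hne1 h3

theorem exists_sqrt_of_norm_one (hF : Fintype.card F = q ^ 2) (hqodd : Odd q) (h2 : (2 : F) ≠ 0)
    (a : F) (ha : a ^ (q + 1) = 1) : ∃ ν : F, ν ^ 2 = a := by
  have ha0 : a ≠ 0 := by
    rintro rfl
    rw [zero_pow (by omega)] at ha
    exact zero_ne_one ha
  have hchar : ringChar F ≠ 2 := by
    intro h
    apply h2
    have := CharP.cast_eq_zero F (ringChar F)
    rw [h] at this
    exact_mod_cast this
  have hsq : IsSquare a := by
    rw [FiniteField.isSquare_iff hchar ha0, hF]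
    obtain ⟨t, ht⟩ := hqodd
    have h1 : q ^ 2 / 2 = (q + 1) * t := by
      rw [ht]
      have : (2 * t + 1) ^ 2 = 2 * ((2 * t + 1 + 1) * t) + 1 := by ring
      rw [this]
      omega
    rw [h1, pow_mul, ha, one_pow]
  obtain ⟨ν, hν⟩ := hsq
  exact ⟨ν, by rw [pow_two, ← hν]⟩

/-- existence of the scalar for the hyperbolic derangement -/
theorem exists_nu (hF : Fintype.card F = q ^ 2) (hqodd : Odd q) (h2 : (2 : F) ≠ 0) (k : ℕ)
    (hcond : ¬ (padicValNat 2 (2 * k) ≤ padicValNat 2 (q + 1) ∧ q % 4 = 3)) (hk : k ≠ 0) :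
    ∃ ν : F, ν ^ (q + 1) = -1 ∧ ν ^ (2 * k) = (-1) ^ k := by
  have hne1 : (-1 : F) ≠ 1 := neg_one_ne_one h2
  -- it suffices to find `τ` of norm one with `τ^k = 1` and `(-τ)^((q+1)/2) = -1`
  suffices hτ : ∃ τ : F, τ ^ (q + 1) = 1 ∧ τ ^ k = 1 ∧ (-τ) ^ ((q + 1) / 2) = -1 by
    obtain ⟨τ, hτ1, hτ2, hτ3⟩ := hτ
    have hnorm : (-τ) ^ (q + 1) = 1 := by
      rw [(Odd.add_one hqodd).neg_pow, hτ1]
    obtain ⟨ν, hν⟩ := exists_sqrt_of_norm_one hF hqodd h2 (-τ) hnorm
    refine ⟨ν, ?_, ?_⟩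
    · have : q + 1 = 2 * ((q + 1) / 2) := by
        obtain ⟨t, ht⟩ := hqodd
        omega
      rw [this, pow_mul, hν, hτ3]
    · rw [pow_mul, hν, neg_pow, hτ2, mul_one]
  by_cases hq4 : q % 4 = 3
  · have hlt : padicValNat 2 (q + 1) < padicValNat 2 (2 * k) := by
      by_contra h
      exact hcond ⟨by omega, hq4⟩
    obtain ⟨u, hu, hq1⟩ := two_adic_decomp (q + 1) (by omega)
    obtain ⟨n', hn', hn1⟩ := two_adic_decomp (2 * k) (by omega)
    set e := padicValNat 2 (q + 1) with he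
    set f := padicValNat 2 (2 * k) with hf
    have he2 : 2 ≤ e := by
      by_contra hlt'
      have : e = 0 ∨ e = 1 := by omega
      obtain ⟨u', rfl⟩ := hu
      rcases this with h | h
      · rw [h] at hq1; omega
      · rw [h] at hq1; omega
    obtain ⟨ζ, hζ⟩ := exists_prim_root hF
    have hζ1 : (ζ : F) ^ (q + 1) = 1 := by
      rw [← Units.val_pow_eq_pow_val, hζ.pow_eq_one, Units.val_one]
    -- `ζ^((q+1)/2) = -1`
    have hhalf : (ζ : F) ^ (2 ^ (e - 1) * u) = -1 := by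
      have hsq : ((ζ : F) ^ (2 ^ (e - 1) * u)) * ((ζ : F) ^ (2 ^ (e - 1) * u)) = 1 := by
        rw [← pow_add, ← two_mul, ← mul_assoc, ← pow_succ', Nat.sub_add_cancel (by omega), ← hq1,
          hζ1]
      rcases mul_self_eq_one_iff.mp hsq with h | h
      · exfalso
        have hpos : 0 < 2 ^ (e - 1) * u := by
          obtain ⟨u', rfl⟩ := hu
          positivity
        have hlt' : 2 ^ (e - 1) * u < q + 1 := by
          rw [hq1]
          have : 2 ^ e = 2 * 2 ^ (e - 1) := by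
            rw [← pow_succ', Nat.sub_add_cancel (by omega)]
          rw [this]
          nlinarith
        have := hζ.pow_ne_one_of_pos_of_lt hpos.ne' hlt'
        apply this
        apply Units.ext
        rw [Units.val_pow_eq_pow_val, Units.val_one]
        exact h
      · exact h
    refine ⟨(ζ : F) ^ u, ?_, ?_, ?_⟩
    · rw [← pow_mul, mul_comm, pow_mul, hζ1, one_pow]
    · -- `2^e ∣ k`
      have hk2 : 2 ^ e ∣ k := by
        have h4 : 2 ^ (e + 1) ∣ 2 * k := by
          rw [hn1]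
          exact Dvd.dvd.mul_right (pow_dvd_pow 2 (by omega)) _
        rw [pow_succ'] at h4
        exact (Nat.mul_dvd_mul_iff_left (by norm_num)).mp h4
      obtain ⟨t, ht⟩ := hk2
      rw [ht, ← pow_mul, ← mul_assoc, mul_comm u, ← hq1, pow_mul, hζ1, one_pow]
    · have hhalf' : (q + 1) / 2 = 2 ^ (e - 1) * u := by
        rw [hq1]
        have : 2 ^ e = 2 * 2 ^ (e - 1) := by
          rw [← pow_succ', Nat.sub_add_cancel (by omega)]
        rw [this, mul_assoc, Nat.mul_div_cancel_left _ (by norm_num)]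
      have heven : Even ((q + 1) / 2) := by
        rw [hhalf']
        apply Even.mul_right
        exact (Nat.even_pow.mpr ⟨even_two, by omega⟩)
      rw [heven.neg_pow, hhalf', ← pow_mul, mul_comm u, pow_mul, hhalf, hu.neg_one_pow]
  · refine ⟨1, one_pow _, one_pow _, ?_⟩
    have hodd' : Odd ((q + 1) / 2) := by
      obtain ⟨t, ht⟩ := hqodd
      have : q % 4 = 1 := by omega
      rw [Nat.odd_iff]
      omega
    rw [hodd'.neg_pow, one_pow]

end arith2

end Cfsg.Agent.Lib.Helper19.HS
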