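import Mathlib
import Cfsg.Agent.Lib.Helper19.HSh

/-!
# Arithmetic of `r`-th powers among elements of norm one
-/

set_option autoImplicit false
set_option linter.unusedSectionVars false
set_option linter.unusedVariables false

namespace Cfsg.Agent.Lib.Helper19.HS

open Matrix Module Polynomial Cfsg Cfsg.Agent.S0779 Cfsg.Agent.Lib.Helper6
  Cfsg.Agent.Lib.Helper19.PSU

section arith3
variable {F : Type*} [Field F] [Fintype F] {q : ℕ}

/-- an `r`-th root of an element of norm one has norm one when `r ∣ q + 1` is odd -/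
theorem norm_one_of_pow (hF : Fintype.card F = q ^ 2) (r : ℕ) (hr : r.Prime) (hodd : Odd r)
    (hrq : r ∣ q + 1) (b z : F) (hb : b ^ r = z) (hz : z ^ (q + 1) = 1) : b ^ (q + 1) = 1 := by
  have hq2 := two_le_q hF
  have hb0 : b ≠ 0 := by
    rintro rfl
    rw [zero_pow hr.ne_zero] at hb
    rw [← hb, zero_pow (by omega)] at hz
    exact zero_ne_one hz
  have h1 : (b ^ (q + 1)) ^ (q - 1) = 1 := by
    rw [← pow_mul]
    have : (q + 1) * (q - 1) = q ^ 2 - 1 := by
      obtain ⟨s, rfl⟩ : ∃ s, q = s + 1 := ⟨q - 1, by omega⟩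
      simp only [Nat.add_sub_cancel]
      have : (s + 1) ^ 2 = (s + 1 + 1) * s + 1 := by ring
      rw [this, Nat.add_sub_cancel]
    rw [this, ← hF]
    exact FiniteField.pow_card_sub_one_eq_one b hb0
  have h2 : (b ^ (q + 1)) ^ r = 1 := by
    rw [← pow_mul, mul_comm, pow_mul, hb, hz]
  have h3 : (b ^ (q + 1)) ^ Nat.gcd (q - 1) r = 1 := pow_gcd_eq_one.mpr ⟨h1, h2⟩
  have hg : Nat.gcd (q - 1) r = 1 := by
    have hcop : Nat.Coprime r (q - 1) := by
      rw [Nat.Prime.coprime_iff_not_dvd hr]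
      intro hd
      have h4 : r ∣ (q + 1) - (q - 1) := Nat.dvd_sub hrq hd
      have h5 : (q + 1) - (q - 1) = 2 := by omega
      rw [h5] at h4
      have h6 := (Nat.prime_dvd_prime_iff_eq hr Nat.prime_two).mp h4
      rw [h6] at hodd
      exact absurd hodd (by decide)
    exact Nat.Coprime.symm hcop
  rw [hg, pow_one] at h3
  exact h3

/-- existence of a norm-one scalar which is not an `r`-th power, with `z ^ (n / r) = 1` -/
theorem exists_nonpow (hF : Fintype.card F = q ^ 2) (r : ℕ) [hr : Fact r.Prime] (hodd : Odd r)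
    (hrq : r ∣ q + 1) (n : ℕ) (hn : n ≠ 0)
    (hv : padicValNat r (q + 1) < padicValNat r n) :
    ∃ z : F, z ^ (q + 1) = 1 ∧ z ^ (n / r) = 1 ∧ ∀ b : F, b ^ r ≠ z := by
  obtain ⟨ζ, hζ⟩ := exists_prim_root hF
  have hζF : IsPrimitiveRoot (ζ : F) (q + 1) := IsPrimitiveRoot.coe_units_iff.mpr hζ
  have hζ1 : (ζ : F) ^ (q + 1) = 1 := hζF.pow_eq_one
  set e := padicValNat r (q + 1) with he
  obtain ⟨u, hu⟩ : r ^ e ∣ q + 1 := pow_padicValNat_dvd
  have hru : ¬ r ∣ u := by
    intro hd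
    obtain ⟨u', rfl⟩ := hd
    have h1 : r ^ (e + 1) ∣ q + 1 := ⟨u', by rw [hu, pow_succ]; ring⟩
    have h2 := (padicValNat_dvd_iff_le (by omega : q + 1 ≠ 0)).mp h1
    omega
  have hre1 : r ^ (e + 1) ∣ n := (padicValNat_dvd_iff_le hn).mpr (by omega)
  obtain ⟨n', hn'⟩ := hre1
  have hnr : n / r = r ^ e * n' := by
    rw [hn', pow_succ, mul_assoc, mul_comm (r ^ e), mul_assoc,
      Nat.mul_div_cancel_left _ hr.out.pos, mul_comm]
  refine ⟨(ζ : F) ^ u, ?_, ?_, ?_⟩
  · rw [← pow_mul, mul_comm, pow_mul, hζ1, one_pow]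
  · rw [hnr, ← pow_mul, ← mul_assoc, mul_comm u, ← hu, pow_mul, hζ1, one_pow]
  · intro b hb
    have hb1 : b ^ (q + 1) = 1 := by
      apply norm_one_of_pow hF r hr.out hodd hrq b _ hb
      rw [← pow_mul, mul_comm, pow_mul, hζ1, one_pow]
    have hb0 : b ≠ 0 := by
      rintro rfl
      rw [zero_pow (by omega)] at hb1
      exact zero_ne_one hb1
    obtain ⟨s, _, hs⟩ := hζF.eq_pow_of_pow_eq_one hb1
    obtain ⟨w, hw⟩ := hrq
    have hw0 : 0 < w := by
      rcases Nat.eq_zero_or_pos w with h | h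
      · rw [h, mul_zero] at hw
        omega
      · exact h
    have h3 : (ζ : F) ^ (s * r) = (ζ : F) ^ u := by
      rw [pow_mul, hs]
      exact hb
    have h4 : (ζ : F) ^ (u * w) = 1 := by
      rw [pow_mul, ← h3, ← pow_mul, mul_assoc, ← hw, mul_comm, pow_mul, hζ1, one_pow]
    have h5 := (hζF.pow_eq_one_iff_dvd _).mp h4
    rw [hw] at h5
    exact hru ((Nat.mul_dvd_mul_iff_right hw0).mp h5)

/-- conversely, when `(n)_r ≤ (q+1)_r` every norm-one `z` with `z ^ (n / r) = 1` is an `r`-th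
power of an element of norm one -/
theorem exists_root_norm_one (hF : Fintype.card F = q ^ 2) (r : ℕ) [hr : Fact r.Prime]
    (n : ℕ) (hn : n ≠ 0) (hrn : r ∣ n)
    (hv : padicValNat r n ≤ padicValNat r (q + 1)) (z : F) (hz : z ^ (q + 1) = 1)
    (hzn : z ^ (n / r) = 1) : ∃ l : F, l ^ (q + 1) = 1 ∧ l ^ r = z := by
  obtain ⟨ζ, hζ⟩ := exists_prim_root hF
  have hζF : IsPrimitiveRoot (ζ : F) (q + 1) := IsPrimitiveRoot.coe_units_iff.mpr hζ
  have hζ1 : (ζ : F) ^ (q + 1) = 1 := hζF.pow_eq_one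
  have hz0 : z ≠ 0 := by
    rintro rfl
    rw [zero_pow (by omega)] at hz
    exact zero_ne_one hz
  obtain ⟨s, _, hsz⟩ := hζF.eq_pow_of_pow_eq_one hz
  have hrs : r ∣ s := by
    by_contra hrs
    have h1 : (ζ : F) ^ (s * (n / r)) = 1 := by
      rw [pow_mul, hsz, hzn]
    have h2 := (hζF.pow_eq_one_iff_dvd _).mp h1
    set e := padicValNat r (q + 1) with he
    have h3 : r ^ e ∣ s * (n / r) := dvd_trans pow_padicValNat_dvd h2
    have hcop : Nat.Coprime (r ^ e) s := by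
      apply Nat.Coprime.pow_left
      exact (Nat.Prime.coprime_iff_not_dvd hr.out).mpr hrs
    have h4 : r ^ e ∣ n / r := hcop.dvd_of_dvd_mul_left h3
    have h5 : r ^ (e + 1) ∣ n := by
      obtain ⟨n', hn'⟩ := hrn
      rw [hn', Nat.mul_div_cancel_left _ hr.out.pos] at h4
      rw [hn', pow_succ, mul_comm]
      exact Nat.mul_dvd_mul_left r h4
    have h6 := (padicValNat_dvd_iff_le hn).mp h5
    omega
  obtain ⟨s', rfl⟩ := hrs
  refine ⟨(ζ : F) ^ s', ?_, ?_⟩
  · rw [← pow_mul, mul_comm, pow_mul, hζ1, one_pow]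
  · rw [← pow_mul, mul_comm, hsz]

end arith3

end Cfsg.Agent.Lib.Helper19.HS
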