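import Mathlib
import Cfsg.Agent.Lib.Helper19.HSg
import Cfsg.Agent.Lib.Helper14.GUConj7
import Cfsg.Agent.Lib.Helper15.PSub12

/-!
# Unipotent isometries: invariant nondegenerate subspaces and Jordan types
-/

set_option autoImplicit false
set_option linter.unusedSectionVars false
set_option linter.unusedVariables false

namespace Cfsg.Agent.Lib.Helper19.HS

open Matrix Module Polynomial Cfsg Cfsg.Agent.S0779 Cfsg.Agent.Lib.Helper6
  Cfsg.Agent.Lib.Helper19.PSU Cfsg.Agent.Lib.Helper15.PSub Cfsg.Agent.Lib.Helper14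
  Cfsg.Agent.Lib.Helper14.GUConj

section unip
variable {F : Type*} [Field F] [Fintype F] {q : ℕ}

theorem matrix_sub_one_pow_char (p : ℕ) [Fact p.Prime] [CharP F p] {k : ℕ}
    (A : Matrix (Fin k) (Fin k) F) : (A - 1) ^ p = A ^ p - 1 := by
  have hpoly : ((Polynomial.X : Polynomial F) - 1) ^ p = Polynomial.X ^ p - 1 := by
    have : CharP (Polynomial F) p := inferInstance
    rw [sub_pow_char, one_pow]
  have h := congrArg (Polynomial.aeval A) hpoly
  simpa using h

/-- a matrix with `A ^ p = 1` in characteristic `p` is conjugate to an isometry -/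
theorem exists_conj_pres (hF : Fintype.card F = q ^ 2) (p : ℕ) [hp : Fact p.Prime] [CharP F p]
    {k : ℕ} (A : Matrix (Fin k) (Fin k) F) (hA : A ^ p = 1) :
    ∃ c : Matrix (Fin k) (Fin k) F, IsUnit c.det ∧ Pres q (c * A * c⁻¹) := by
  classical
  have hpp : p ≠ 0 := hp.out.ne_zero
  have hAu : IsUnit A := IsUnit.of_pow_eq_one hA hpp
  have hAd : IsUnit A.det := (Matrix.isUnit_iff_isUnit_det A).mp hAu
  set g : GL (Fin k) F := hAu.unit with hg
  have hgA : (g : Matrix (Fin k) (Fin k) F) = A := hAu.unit_spec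
  have hsd : IsUnit (sharp hF A).det := by
    rw [det_sharp]
    exact hAd.map _
  set g' : GL (Fin k) F := (Matrix.nonsingInvUnit (sharp hF A) hsd)⁻¹ with hg'
  have hg'A : (g' : Matrix (Fin k) (Fin k) F) = (sharp hF (g : Matrix (Fin k) (Fin k) F))⁻¹ := by
    rw [hg', Matrix.coe_units_inv, hgA]
    rfl
  have hnil : IsNilpotent (nilOf g) := by
    rw [isNilpotent_nilOf_iff]
    refine ⟨p, ?_⟩
    rw [hgA, matrix_sub_one_pow_char, hA, sub_self]
  have hconj := isConj_sharp_inv hF g g' hg'A hnil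
  obtain ⟨t, ht⟩ := isConj_iff.mp hconj
  have ht1 : t * g = g' * t := by
    rw [← ht, inv_mul_cancel_right]
  have ht2 : (t : Matrix (Fin k) (Fin k) F) * A = (sharp hF A)⁻¹ * (t : Matrix (Fin k) (Fin k) F) := by
    have := congrArg (fun y : GL (Fin k) F => (y : Matrix (Fin k) (Fin k) F)) ht1
    simp only [Units.val_mul] at this
    rw [hgA, hg'A, hgA] at this
    exact this
  have htd : IsUnit (t : Matrix (Fin k) (Fin k) F).det :=
    (Matrix.isUnit_iff_isUnit_det _).mp t.isUnit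
  have hkey : sharp hF A * (t : Matrix (Fin k) (Fin k) F) * A = (t : Matrix (Fin k) (Fin k) F) := by
    rw [Matrix.mul_assoc, ht2, Matrix.mul_nonsing_inv_cancel_left _ _ hsd]
  obtain ⟨W, hWd, hW⟩ := exists_unitary_conj hF A (t : Matrix (Fin k) (Fin k) F) htd hkey
  exact ⟨W, hWd, (pres_iff hF _).mpr hW⟩

/-- an endomorphism with `f ^ p = 1` in characteristic `p` becomes an isometry in suitable
coordinates -/
theorem exists_equiv_pres (hF : Fintype.card F = q ^ 2) (p : ℕ) [hp : Fact p.Prime] [CharP F p]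
    {U : Type*} [AddCommGroup U] [Module F U] [FiniteDimensional F U] (k : ℕ)
    (hk : finrank F U = k) (f : U →ₗ[F] U) (hf : f ^ p = 1) :
    ∃ (e : U ≃ₗ[F] (Fin k → F)) (B : Matrix (Fin k) (Fin k) F), Pres q B ∧
      ∀ u, e (f u) = B *ᵥ e u := by
  classical
  let b : Basis (Fin k) F U := Module.finBasisOfFinrankEq F U hk
  set A := LinearMap.toMatrix b b f with hA
  have hAp : A ^ p = 1 := by
    rw [hA, LinearMap.toMatrix_pow, hf, LinearMap.toMatrix_one]
  obtain ⟨c, hcd, hc⟩ := exists_conj_pres hF p A hAp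
  have h1 : c * c⁻¹ = 1 := Matrix.mul_nonsing_inv c hcd
  have h2 : c⁻¹ * c = 1 := Matrix.nonsing_inv_mul c hcd
  let ce : (Fin k → F) ≃ₗ[F] (Fin k → F) :=
    LinearEquiv.ofLinear (Matrix.toLin' c) (Matrix.toLin' c⁻¹)
      (by rw [← Matrix.toLin'_mul, h1, Matrix.toLin'_one])
      (by rw [← Matrix.toLin'_mul, h2, Matrix.toLin'_one])
  have hce : ∀ v, ce v = c *ᵥ v := fun v => Matrix.toLin'_apply c v
  refine ⟨b.equivFun.trans ce, c * A * c⁻¹, hc, ?_⟩
  intro u
  rw [LinearEquiv.trans_apply, LinearEquiv.trans_apply, hce, hce, Basis.equivFun_apply,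
    Basis.equivFun_apply]
  have h3 : (b.repr (f u) : Fin k → F) = A *ᵥ (b.repr u : Fin k → F) := by
    rw [hA, LinearMap.toMatrix_mulVec_repr]
  rw [h3, Matrix.mulVec_mulVec, Matrix.mulVec_mulVec, Matrix.mul_assoc, Matrix.mul_assoc, h2,
    Matrix.mul_one]

end unip

section transfer
variable {F : Type*} [Field F] [Fintype F] {q n : ℕ}

/-- transfer of a nondegenerate invariant subspace along an isometric conjugation -/
theorem nd_inv_transfer (hF : Fintype.card F = q ^ 2) (u y M : Matrix (Fin n) (Fin n) F)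
    (hu : Pres q u) (hconj : u * y = M * u)
    (W : Submodule F (Fin n → F)) (hW : ND q W) (hInv : Inv M W) :
    ∃ W' : Submodule F (Fin n → F), finrank F W' = finrank F W ∧ ND q W' ∧ Inv y W' := by
  classical
  have hinj : Function.Injective (Matrix.toLin' u) := by
    intro a b hab
    rw [Matrix.toLin'_apply, Matrix.toLin'_apply] at hab
    exact hu.injective hF hab
  let ue : (Fin n → F) ≃ₗ[F] (Fin n → F) := LinearEquiv.ofInjectiveEndo (Matrix.toLin' u) hinj
  have hue : ∀ v, ue v = u *ᵥ v := fun v => by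
    change (LinearEquiv.ofInjectiveEndo (Matrix.toLin' u) hinj) v = u *ᵥ v
    rw [LinearEquiv.coe_ofInjectiveEndo, Matrix.toLin'_apply]
  refine ⟨W.map (ue.symm : (Fin n → F) →ₗ[F] (Fin n → F)), LinearEquiv.finrank_map_eq ue.symm W,
    ?_, ?_⟩
  · rintro v ⟨w, hw, rfl⟩ hv
    have hw0 : w ≠ 0 := by
      rintro rfl
      apply hv
      simp
    obtain ⟨w', hw', hne⟩ := hW w hw hw0
    refine ⟨ue.symm w', ⟨w', hw', rfl⟩, ?_⟩
    rw [← hu]
    change hermForm n F q (u *ᵥ (ue.symm w)) (u *ᵥ (ue.symm w')) ≠ 0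
    rw [← hue, ← hue, LinearEquiv.apply_symm_apply, LinearEquiv.apply_symm_apply]
    exact hne
  · rintro v ⟨w, hw, rfl⟩
    refine ⟨M *ᵥ w, hInv w hw, ?_⟩
    apply ue.injective
    change ue (ue.symm (M *ᵥ w)) = ue (y *ᵥ (ue.symm w))
    rw [LinearEquiv.apply_symm_apply, hue, Matrix.mulVec_mulVec, hconj, ← Matrix.mulVec_mulVec,
      ← hue, LinearEquiv.apply_symm_apply]

end transfer

section core
variable {F : Type*} [Field F] [Fintype F] {q : ℕ}

/-- an isometry with `y ^ p = 1` having an invariant decomposition `U ⊕ W` with `dim U = m`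
fixes a nondegenerate `m`-space -/
theorem exists_nd_inv_unip (hF : Fintype.card F = q ^ 2) (p : ℕ) [hp : Fact p.Prime] [CharP F p]
    {n m : ℕ} (y : Matrix (Fin n) (Fin n) F) (hy : Pres q y) (hyp : y ^ p = 1)
    (U W : Submodule F (Fin n → F)) (hUW : IsCompl U W)
    (hU : U ∈ Module.End.invtSubmodule (Matrix.toLin' y))
    (hW : W ∈ Module.End.invtSubmodule (Matrix.toLin' y)) (hUm : finrank F U = m) :
    ∃ W' : Submodule F (Fin n → F), finrank F W' = m ∧ ND q W' ∧ Inv y W' := by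
  classical
  have hsum := Submodule.finrank_add_eq_of_isCompl hUW
  rw [Module.finrank_fin_fun] at hsum
  have hmn : m ≤ n := by omega
  have hWd : finrank F W = n - m := by omega
  set f := Matrix.toLin' y with hf
  have hfp : f ^ p = 1 := by
    rw [hf, ← Matrix.toLin'_pow, hyp, Matrix.toLin'_one]
    rfl
  have hU' : ∀ x ∈ U, f x ∈ U := fun x hx => hU hx
  have hW' : ∀ x ∈ W, f x ∈ W := fun x hx => hW hx
  set fU := f.restrict hU' with hfU
  set fW := f.restrict hW' with hfW
  have hfUp : fU ^ p = 1 := by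
    apply LinearMap.ext
    intro u
    apply Subtype.ext
    rw [hfU, Module.End.pow_restrict]
    change (f ^ p) (u : Fin n → F) = u
    rw [hfp]
    rfl
  have hfWp : fW ^ p = 1 := by
    apply LinearMap.ext
    intro u
    apply Subtype.ext
    rw [hfW, Module.End.pow_restrict]
    change (f ^ p) (u : Fin n → F) = u
    rw [hfp]
    rfl
  obtain ⟨eU, BU, hBU, heU⟩ := exists_equiv_pres hF p m hUm fU hfUp
  obtain ⟨eW, BW, hBW, heW⟩ := exists_equiv_pres hF p (n - m) hWd fW hfWp
  set ψ : (Fin n → F) ≃ₗ[F] ((Fin m → F) × (Fin (n - m) → F)) :=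
    (Submodule.prodEquivOfIsCompl U W hUW).symm.trans (eU.prodCongr eW) with hψ
  set T : ((Fin m → F) × (Fin (n - m) → F)) →ₗ[F] ((Fin m → F) × (Fin (n - m) → F)) :=
    (Matrix.toLin' BU).prodMap (Matrix.toLin' BW) with hT
  have hTapp : ∀ a, T a = (BU *ᵥ a.1, BW *ᵥ a.2) := fun a => by
    rw [hT, LinearMap.prodMap_apply, Matrix.toLin'_apply, Matrix.toLin'_apply]
  have hψT : ∀ v, ψ (y *ᵥ v) = T (ψ v) := by
    intro v
    obtain ⟨a, rfl⟩ := (Submodule.prodEquivOfIsCompl U W hUW).surjective v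
    have h1 : y *ᵥ (Submodule.prodEquivOfIsCompl U W hUW a) =
        Submodule.prodEquivOfIsCompl U W hUW (fU a.1, fW a.2) := by
      rw [Submodule.coe_prodEquivOfIsCompl', Submodule.coe_prodEquivOfIsCompl',
        Matrix.mulVec_add]
      simp only [hfU, hfW, LinearMap.coe_restrict_apply, hf, Matrix.toLin'_apply]
    rw [h1, hψ, LinearEquiv.trans_apply, LinearEquiv.trans_apply, LinearEquiv.symm_apply_apply,
      LinearEquiv.symm_apply_apply, hTapp, LinearEquiv.prodCongr_apply,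
      LinearEquiv.prodCongr_apply, heU, heW]
  have hTiso : ∀ a b, sumB hF m (n - m) (T a) (T b) = sumB hF m (n - m) a b := by
    intro a b
    rw [sumB_apply, sumB_apply, hTapp, hTapp, hBU, hBW]
  have hk : finrank F ((Fin m → F) × (Fin (n - m) → F)) = n := by
    rw [Module.finrank_prod, Module.finrank_fin_fun, Module.finrank_fin_fun]
    omega
  obtain ⟨φ, hφ⟩ := exists_std_herm hF (sumB hF m (n - m)) (sumB_isSymm hF m (n - m))
    (sumB_nondeg hF m (n - m)) n hk
  set M : Matrix (Fin n) (Fin n) F := LinearMap.toMatrix'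
    ((φ : _ →ₗ[F] (Fin n → F)) ∘ₗ T ∘ₗ (φ.symm : (Fin n → F) →ₗ[F] _)) with hM
  have hMv : ∀ x, M *ᵥ x = φ (T (φ.symm x)) := by
    intro x
    rw [hM, LinearMap.toMatrix'_mulVec]
    rfl
  have hMpres : Pres q M := by
    intro x x'
    rw [hMv, hMv, hφ, hTiso, ← hφ, LinearEquiv.apply_symm_apply, LinearEquiv.apply_symm_apply]
  set Θ : (Fin n → F) ≃ₗ[F] (Fin n → F) := ψ.trans φ with hΘ
  set G : Matrix (Fin n) (Fin n) F := LinearMap.toMatrix' (Θ : (Fin n → F) →ₗ[F] (Fin n → F))
    with hG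
  have hGv : ∀ x, G *ᵥ x = φ (ψ x) := by
    intro x
    rw [hG, LinearMap.toMatrix'_mulVec]
    rfl
  have hGd : IsUnit G.det := by
    rw [hG, LinearMap.det_toMatrix']
    exact LinearEquiv.isUnit_det' Θ
  have hconj : G * y = M * G := by
    apply eq_of_mulVec_eq
    intro v
    rw [← Matrix.mulVec_mulVec, ← Matrix.mulVec_mulVec, hGv, hGv, hMv, hψT,
      LinearEquiv.symm_apply_apply]
  obtain ⟨u, hud, hu1, hu2⟩ := gu_conj_core hF y M G ((pres_iff hF y).mp hy)
    ((pres_iff hF M).mp hMpres) hGd hconj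
  have hupres : Pres q u := (pres_iff hF u).mpr hu1
  -- the nondegenerate invariant subspace of `M`
  set WM : Submodule F (Fin n → F) :=
    (LinearMap.range (LinearMap.inl F (Fin m → F) (Fin (n - m) → F))).map
      (φ : _ →ₗ[F] (Fin n → F)) with hWM
  have hWMmem : ∀ x, x ∈ WM ↔ ∃ a : Fin m → F, x = φ (a, 0) := by
    intro x
    constructor
    · rintro ⟨_, ⟨a, rfl⟩, rfl⟩
      exact ⟨a, rfl⟩
    · rintro ⟨a, rfl⟩
      exact ⟨(a, 0), ⟨a, rfl⟩, rfl⟩
  have hWMd : finrank F WM = m := by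
    rw [hWM]
    have h1 := LinearEquiv.finrank_map_eq φ
      (LinearMap.range (LinearMap.inl F (Fin m → F) (Fin (n - m) → F)))
    rw [h1, LinearMap.finrank_range_of_inj LinearMap.inl_injective, Module.finrank_fin_fun]
  have hWMnd : ND q WM := by
    intro x hx hx0
    obtain ⟨a, rfl⟩ := (hWMmem x).mp hx
    have ha0 : a ≠ 0 := by
      rintro rfl
      apply hx0
      have : ((0 : Fin m → F), (0 : Fin (n - m) → F)) = 0 := rfl
      rw [this, map_zero]
    have : ∃ a', hermForm m F q a a' ≠ 0 := by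
      by_contra hcon
      push Not at hcon
      exact ha0 (herm_nondeg hF a hcon)
    obtain ⟨a', ha'⟩ := this
    refine ⟨φ (a', 0), (hWMmem _).mpr ⟨a', rfl⟩, ?_⟩
    rw [hφ, sumB_apply]
    simp only [herm_zero_left, add_zero]
    exact ha'
  have hWMinv : Inv M WM := by
    intro x hx
    obtain ⟨a, rfl⟩ := (hWMmem x).mp hx
    rw [hMv, LinearEquiv.symm_apply_apply, hTapp]
    refine (hWMmem _).mpr ⟨BU *ᵥ a, ?_⟩
    simp only [Matrix.mulVec_zero]
  obtain ⟨W', hW'd, hW'nd, hW'inv⟩ := nd_inv_transfer hF u y M hupres hu2 WM hWMnd hWMinv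
  exact ⟨W', by rw [hW'd, hWMd], hW'nd, hW'inv⟩

/-- if all unipotent isometries of determinant one fix a nondegenerate `m`-space, then every
unipotent endomorphism of determinant one has an invariant decomposition -/
theorem exists_compl_of_nd (hF : Fintype.card F = q ^ 2) (p : ℕ) [hp : Fact p.Prime] [CharP F p]
    {n m : ℕ}
    (H : ∀ B : Matrix (Fin n) (Fin n) F, Pres q B → B.det = 1 → B ^ p = 1 →
      (∀ z : F, B ≠ z • (1 : Matrix (Fin n) (Fin n) F)) →
      ∃ W : Submodule F (Fin n → F), finrank F W = m ∧ ND q W ∧ Inv B W) :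
    ∀ x : (Fin n → F) →ₗ[F] (Fin n → F), LinearMap.det x = 1 → x ^ p = 1 →
      (∀ z : F, x ≠ z • (1 : (Fin n → F) →ₗ[F] (Fin n → F))) →
      ∃ U W : Submodule F (Fin n → F), IsCompl U W ∧ U ∈ Module.End.invtSubmodule x ∧
        W ∈ Module.End.invtSubmodule x ∧ finrank F U = m := by
  classical
  intro x hdet hxp hns
  obtain ⟨e, B, hB, he⟩ := exists_equiv_pres hF p n (Module.finrank_fin_fun F) x hxp
  have hBe : ∀ v, B *ᵥ v = e (x (e.symm v)) := by
    intro v
    rw [he, LinearEquiv.apply_symm_apply]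
  have hBlin : Matrix.toLin' B =
      (e : (Fin n → F) →ₗ[F] (Fin n → F)) ∘ₗ x ∘ₗ (e.symm : (Fin n → F) →ₗ[F] (Fin n → F)) := by
    apply LinearMap.ext
    intro v
    rw [Matrix.toLin'_apply, hBe]
    rfl
  have hBdet : B.det = 1 := by
    rw [← LinearMap.det_toLin', hBlin, LinearMap.det_conj, hdet]
  have hBpow : ∀ (i : ℕ) (v : Fin n → F), (B ^ i) *ᵥ (e v) = e ((x ^ i) v) := by
    intro i
    induction i with
    | zero =>
      intro v
      simp
    | succ i ih =>
      intro v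
      rw [pow_succ, ← Matrix.mulVec_mulVec, ← he, ih, pow_succ, Module.End.mul_apply]
  have hBp : B ^ p = 1 := by
    apply eq_of_mulVec_eq
    intro v
    obtain ⟨w, rfl⟩ := e.surjective v
    rw [hBpow, hxp, Module.End.one_apply, Matrix.one_mulVec]
  have hBns : ∀ z : F, B ≠ z • (1 : Matrix (Fin n) (Fin n) F) := by
    intro z hz
    apply hns z
    apply LinearMap.ext
    intro v
    apply e.injective
    rw [he, hz, Matrix.smul_mulVec, Matrix.one_mulVec, LinearMap.smul_apply,
      Module.End.one_apply, map_smul]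
  obtain ⟨W', hW'd, hW'nd, hW'inv⟩ := H B hB hBdet hBp hBns
  have hcompl : IsCompl W' (perp q W') :=
    ⟨disjoint_iff.mpr ((nd_iff W').mp hW'nd), codisjoint_iff.mpr (sup_perp_eq_top hF hW'nd)⟩
  have hperpinv : Inv B (perp q W') := hW'inv.perp hF hB
  have hinvt : ∀ S : Submodule F (Fin n → F), Inv B S →
      S.map (e.symm : (Fin n → F) →ₗ[F] (Fin n → F)) ∈ Module.End.invtSubmodule x := by
    intro S hS
    rw [Module.End.mem_invtSubmodule]
    rintro _ ⟨w, hw, rfl⟩
    rw [Submodule.mem_comap]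
    refine ⟨B *ᵥ w, hS w hw, ?_⟩
    change e.symm (B *ᵥ w) = x (e.symm w)
    rw [hBe, LinearEquiv.symm_apply_apply]
  refine ⟨W'.map (e.symm : (Fin n → F) →ₗ[F] (Fin n → F)),
    (perp q W').map (e.symm : (Fin n → F) →ₗ[F] (Fin n → F)), ?_, hinvt W' hW'inv,
    hinvt _ hperpinv, ?_⟩
  · have := (Submodule.orderIsoMapComap e.symm).isCompl_iff.mp hcompl
    simpa [Submodule.orderIsoMapComap_apply'] using this
  · rw [LinearEquiv.finrank_map_eq e.symm W', hW'd]

end core

end Cfsg.Agent.Lib.Helper19.HS
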