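import Mathlib
import Cfsg.Agent.Lib.Helper19.HSe
import Cfsg.Agent.Lib.Helper19.HSi
import Cfsg.Agent.Lib.Helper19.HSj
import Cfsg.Agent.Lib.Helper19.HSk

/-!
# Elements of prime order fixing a nondegenerate `m`-space: the four cases
-/

set_option autoImplicit false
set_option linter.unusedSectionVars false
set_option linter.unusedVariables false

namespace Cfsg.Agent.Lib.Helper19.HS

open Matrix Module Polynomial Cfsg Cfsg.Agent.S0779 Cfsg.Agent.Lib.Helper6
  Cfsg.Agent.Lib.Helper19.PSU Cfsg.Agent.Lib.Helper15.PSub Cfsg.Agent.Lib.Helper16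

section tools
variable {F : Type*} [Field F] [Fintype F] {q n : ℕ}

theorem smul_one_inj (hn : 0 < n) (a b : F)
    (h : a • (1 : Matrix (Fin n) (Fin n) F) = b • 1) : a = b := by
  have := congrFun (congrFun h ⟨0, hn⟩) ⟨0, hn⟩
  simpa using this

theorem scalar_norm_one (hF : Fintype.card F = q ^ 2) (hn : 0 < n) (z : F)
    (h : Pres q (z • (1 : Matrix (Fin n) (Fin n) F))) : z ^ (q + 1) = 1 := by
  classical
  have h1 := h (Pi.single ⟨0, hn⟩ 1) (Pi.single ⟨0, hn⟩ 1)
  rw [Matrix.smul_mulVec, Matrix.one_mulVec, herm_smul_left, herm_smul_right,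
    herm_single_right hF] at h1
  simp only [Pi.single_eq_same, mul_one] at h1
  rw [pow_succ']
  exact h1

/-- scaling an isometry with `x ^ r = z • 1` by the inverse of an `r`-th root of norm one -/
theorem scale_pow_one {x : Matrix (Fin n) (Fin n) F} (hx : Pres q x) (r : ℕ) (z l : F)
    (hz : x ^ r = z • (1 : Matrix (Fin n) (Fin n) F)) (hl1 : l ^ (q + 1) = 1) (hlr : l ^ r = z)
    (hl0 : l ≠ 0) : Pres q (l⁻¹ • x) ∧ (l⁻¹ • x) ^ r = 1 := by
  refine ⟨pres_smul hx l⁻¹ (by rw [inv_pow, hl1, inv_one]), ?_⟩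
  have hz0 : z ≠ 0 := by
    rw [← hlr]
    exact pow_ne_zero r hl0
  rw [_root_.smul_pow, hz, smul_smul, inv_pow, hlr, inv_mul_cancel₀ hz0, one_smul]

theorem norm_gcd_one (r : ℕ) (hr : r.Prime) (hrq1 : ¬ r ∣ q + 1) (d : F) (h1 : d ^ r = 1)
    (h2 : d ^ (q + 1) = 1) : d = 1 := by
  have h3 : d ^ Nat.gcd r (q + 1) = 1 := pow_gcd_eq_one.mpr ⟨h1, h2⟩
  have hg : Nat.gcd r (q + 1) = 1 := (Nat.Prime.coprime_iff_not_dvd hr).mpr hrq1
  rwa [hg, pow_one] at h3

end tools

section caseP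
variable {F : Type*} [Field F] [Fintype F] {q : ℕ}

theorem case_p (hF : Fintype.card F = q ^ 2) (p : ℕ) [hp : Fact p.Prime] [CharP F p]
    (n m : ℕ) (hn : 0 < n) (hmn : m ≤ n) :
    (∀ x : Matrix (Fin n) (Fin n) F, Pres q x → x.det = 1 →
      (∃ z : F, x ^ p = z • (1 : Matrix (Fin n) (Fin n) F)) →
      (∀ z : F, x ≠ z • (1 : Matrix (Fin n) (Fin n) F)) →
      ∃ W : Submodule F (Fin n → F), finrank F W = m ∧ ND q W ∧ Inv x W) ↔
    (∀ μ : Multiset ℕ, (∀ a ∈ μ, 0 < a ∧ a ≤ p) → μ.sum = n →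
      ∃ ν : Multiset ℕ, ν ≤ μ ∧ ν.sum = m) := by
  constructor
  · intro H
    exact unip_necessity p n m hmn (exists_compl_of_nd hF p
      (fun B hB hdet hBp hns => H B hB hdet ⟨1, by rw [hBp, one_smul]⟩ hns))
  · intro hpart x hx hdet ⟨z, hz⟩ hns
    have hz1 : z ^ (q + 1) = 1 := scalar_norm_one hF hn z (by rw [← hz]; exact hx.pow p)
    obtain ⟨l, hl⟩ : ∃ l : F, l ^ p = z := by
      obtain ⟨l, hl⟩ := surjective_frobenius F p z
      exact ⟨l, by rw [← hl, frobenius_def]⟩
    have hl1 : l ^ (q + 1) = 1 := by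
      have h1 : (l ^ (q + 1)) ^ p = 1 := by rw [← pow_mul, mul_comm, pow_mul, hl, hz1]
      apply frobenius_inj F p
      rw [frobenius_def, frobenius_def, h1, one_pow]
    have hl0 : l ≠ 0 := by
      rintro rfl
      rw [zero_pow (by omega)] at hl1
      exact zero_ne_one hl1
    obtain ⟨hy, hyp⟩ := scale_pow_one hx p z l hz hl1 hl hl0
    have hlin : (Matrix.toLin' (l⁻¹ • x)) ^ p = 1 := by
      rw [← Matrix.toLin'_pow, hyp, Matrix.toLin'_one]
      rfl
    obtain ⟨U, W, hUW, hU, hW, hUm⟩ := unip_split p (Matrix.toLin' (l⁻¹ • x)) hlin m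
      (fun μ hμ hs => hpart μ hμ (by rw [hs, Module.finrank_fin_fun]))
    obtain ⟨W', hW'd, hW'nd, hW'inv⟩ := exists_nd_inv_unip hF p (l⁻¹ • x) hy hyp U W hUW hU hW hUm
    exact ⟨W', hW'd, hW'nd, (inv_smul_iff l⁻¹ (inv_ne_zero hl0) W').mp hW'inv⟩

end caseP

section caseTwo
variable {F : Type*} [Field F] [Fintype F] {q : ℕ}

theorem case_two (hF : Fintype.card F = q ^ 2) (p : ℕ) [hp : Fact p.Prime] [CharP F p]
    (hp2 : p ≠ 2) (n m : ℕ) (hn : 0 < n) (hmn : m ≤ n) :
    (∀ x : Matrix (Fin n) (Fin n) F, Pres q x → x.det = 1 →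
      (∃ z : F, x ^ 2 = z • (1 : Matrix (Fin n) (Fin n) F)) →
      (∀ z : F, x ≠ z • (1 : Matrix (Fin n) (Fin n) F)) →
      ∃ W : Submodule F (Fin n → F), finrank F W = m ∧ ND q W ∧ Inv x W) ↔
    (Odd n ∨ Even m ∨ (padicValNat 2 n ≤ padicValNat 2 (q + 1) ∧ q % 4 = 3)) := by
  have : Fact (Nat.Prime 2) := ⟨Nat.prime_two⟩
  have hqodd : Odd q := by
    rw [← Nat.not_even_iff_odd, even_iff_two_dvd]
    exact not_dvd_q hF p 2 Nat.prime_two (Ne.symm hp2)
  have h2F : (2 : F) ≠ 0 := by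
    have := cast_ne_zero_of_ne (F := F) p 2 Nat.prime_two (Ne.symm hp2)
    exact_mod_cast this
  have hne1 : (-1 : F) ≠ 1 := neg_one_ne_one h2F
  constructor
  · intro H
    by_contra hcon
    push Not at hcon
    obtain ⟨hnodd, hmev, hcond⟩ := hcon
    rw [Nat.not_odd_iff_even] at hnodd
    obtain ⟨k, hk⟩ := hnodd
    have hk0 : k ≠ 0 := by omega
    have hcond' : ¬ (padicValNat 2 (2 * k) ≤ padicValNat 2 (q + 1) ∧ q % 4 = 3) := by
      rintro ⟨h1, h2⟩
      have h3 : 2 * k = n := by omega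
      rw [h3] at h1
      exact absurd h2 (hcond h1)
    obtain ⟨ν, hνq, hνn⟩ := exists_nu hF hqodd h2F k hcond' hk0
    obtain ⟨M, hM, hM2⟩ := exists_hyp_matrix hF hqodd h2F k ν hνq n hk
    have hν0 : ν ≠ 0 := by
      rintro rfl
      rw [zero_pow (by omega)] at hνq
      exact neg_ne_zero.mpr one_ne_zero hνq.symm
    have hpair := tspair_of_eig hF M hM ν h2F hν0 hM2 hνq hqodd
    have hnn : ν ≠ -ν := by
      intro h
      have h3 : (2 : F) * ν = 0 := by
        rw [two_mul]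
        nth_rewrite 2 [h]
        exact add_neg_cancel ν
      rcases mul_eq_zero.mp h3 with h4 | h4
      · exact h2F h4
      · exact hν0 h4
    have hdet : M.det = 1 := by
      rw [det_of_eig M ν (-ν) hnn hpair.sup, ← hpair.finrank_eq hF]
      have h1 := hpair.finrank_left hF
      have h2 : finrank F (eig M ν) = k := by omega
      rw [h2, ← mul_pow]
      have h3 : ν * -ν = -(ν ^ 2) := by ring
      rw [h3, neg_pow, ← pow_mul, hνn, ← mul_pow]
      norm_num
    have hns : ∀ z : F, M ≠ z • (1 : Matrix (Fin n) (Fin n) F) := by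
      intro z hz
      have hz1 : z ^ (q + 1) = 1 := scalar_norm_one hF hn z (by rw [← hz]; exact hM)
      have hz2 : z ^ 2 = ν ^ 2 := by
        apply smul_one_inj hn
        rw [← hM2, hz, _root_.smul_pow, one_pow]
      have hq1 : q + 1 = 2 * ((q + 1) / 2) := by
        obtain ⟨t, ht⟩ := hqodd
        omega
      have h3 : z ^ (q + 1) = ν ^ (q + 1) := by
        rw [hq1, pow_mul, pow_mul, hz2]
      rw [hz1, hνq] at h3
      exact hne1 h3.symm
    obtain ⟨W, hWd, hWnd, hWI⟩ := H M hM hdet ⟨ν ^ 2, hM2⟩ hns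
    have := even_of_ts_eig hF M ν h2F hν0 hpair hWnd hWI
    rw [hWd] at this
    exact hmev this
  · intro hcond x hx hdet ⟨z, hz⟩ hns
    have hz1 : z ^ (q + 1) = 1 := scalar_norm_one hF hn z (by rw [← hz]; exact hx.pow 2)
    obtain ⟨ν, hν⟩ := exists_sqrt_of_norm_one hF hqodd h2F z hz1
    have hν0 : ν ≠ 0 := by
      rintro rfl
      rw [zero_pow (by norm_num)] at hν
      rw [← hν, zero_pow (by omega)] at hz1
      exact zero_ne_one hz1
    have hε : ν ^ (q + 1) * ν ^ (q + 1) = 1 := by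
      rw [← pow_add, ← two_mul, pow_mul, hν, hz1]
    rcases mul_self_eq_one_iff.mp hε with h1 | h1
    · -- the involution case
      obtain ⟨hy, hy2⟩ := scale_pow_one hx 2 z ν hz h1 hν hν0
      have hc1 : orderOf (-(q : ZMod 2)) = 1 := by
        apply (c_eq_one_iff 2 q _ rfl).mpr
        obtain ⟨t, ht⟩ := hqodd
        exact ⟨t + 1, by omega⟩
      have hfle : finrank F (eig (ν⁻¹ • x) 1) ≤ n := by
        have := Submodule.finrank_le (eig (ν⁻¹ • x) 1)
        rwa [Module.finrank_fin_fun] at this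
      obtain ⟨W, hWd, hWnd, hWI⟩ := exists_nd_inv hF p 2 (Ne.symm hp2) hy hy2
        (orderOf (-(q : ZMod 2))) rfl m (min m (n - finrank F (eig (ν⁻¹ • x) 1)))
        (by rw [hc1, one_mul]; have := min_le_right m (n - finrank F (eig (ν⁻¹ • x) 1)); omega)
        (by rw [hc1, one_mul]; exact min_le_left _ _)
        (by
          rw [hc1, one_mul]
          rcases le_total m (n - finrank F (eig (ν⁻¹ • x) 1)) with h | h
          · rw [min_eq_left h]; omega
          · rw [min_eq_right h]; omega)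
      exact ⟨W, hWd, hWnd, (inv_smul_iff ν⁻¹ (inv_ne_zero hν0) W).mp hWI⟩
    · -- the hyperbolic case
      have hx2 : x ^ 2 = (ν ^ 2) • (1 : Matrix (Fin n) (Fin n) F) := by rw [hν, hz]
      have hpair := tspair_of_eig hF x hx ν h2F hν0 hx2 h1 hqodd
      have hk := hpair.finrank_left hF
      have hnn : ν ≠ -ν := by
        intro h
        have h3 : (2 : F) * ν = 0 := by
          rw [two_mul]
          nth_rewrite 2 [h]
          exact add_neg_cancel ν
        rcases mul_eq_zero.mp h3 with h4 | h4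
        · exact h2F h4
        · exact hν0 h4
      rcases hcond with hodd | hev | ⟨hle, hq4⟩
      · exfalso
        obtain ⟨t, ht⟩ := hodd
        omega
      · obtain ⟨s, hs⟩ := hev
        obtain ⟨W, hWd, hWnd, hWI⟩ := exists_nd_inv_hyp hF p hp2 x hx ν hν0 hx2 hpair s
          (by omega)
        exact ⟨W, by rw [hWd]; omega, hWnd, hWI⟩
      · exfalso
        set k := finrank F (eig x ν) with hkdef
        have hk0 : k ≠ 0 := by omega
        have hdet' := det_of_eig x ν (-ν) hnn hpair.sup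
        rw [← hpair.finrank_eq hF, hdet, ← mul_pow] at hdet'
        have h3 : ν * -ν = -(ν ^ 2) := by ring
        rw [h3, neg_pow, ← pow_mul] at hdet'
        have hνn : ν ^ (2 * k) = (-1) ^ k := by
          have h4 : ((-1 : F) ^ k) * ((-1) ^ k) = 1 := by
            rw [← mul_pow]
            norm_num
          calc ν ^ (2 * k) = ((-1 : F) ^ k * (-1) ^ k) * ν ^ (2 * k) := by rw [h4, one_mul]
            _ = (-1) ^ k * ((-1) ^ k * ν ^ (2 * k)) := by ring
            _ = (-1) ^ k := by rw [← hdet', mul_one]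
        exact two_contra ν h2F h1 k hk0 hνn hq4 (by rw [hk]; exact hle)

end caseTwo

end Cfsg.Agent.Lib.Helper19.HS
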