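import Mathlib
import Cfsg.Agent.Lib.Helper19.HSl

/-!
# Elements of odd prime order `r ≠ p` fixing a nondegenerate `m`-space
-/

set_option autoImplicit false
set_option linter.unusedSectionVars false
set_option linter.unusedVariables false

namespace Cfsg.Agent.Lib.Helper19.HS

open Matrix Module Polynomial Cfsg Cfsg.Agent.S0779 Cfsg.Agent.Lib.Helper6
  Cfsg.Agent.Lib.Helper19.PSU Cfsg.Agent.Lib.Helper15.PSub Cfsg.Agent.Lib.Helper16

section caseOddA
variable {F : Type*} [Field F] [Fintype F] {q : ℕ}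

/-- an `r`-th root of norm one when `r ∤ q + 1` -/
theorem exists_root_of_coprime (hF : Fintype.card F = q ^ 2) (r : ℕ) (hr : r.Prime)
    (hrq1 : ¬ r ∣ q + 1) (z : F)
    (hz1 : z ^ (q + 1) = 1) : ∃ l : F, l ^ (q + 1) = 1 ∧ l ^ r = z := by
  have hq2 := two_le_q hF
  have hcop : Nat.Coprime r (q + 1) := (Nat.Prime.coprime_iff_not_dvd hr).mpr hrq1
  obtain ⟨a, -, ha⟩ := Nat.exists_mul_mod_eq_one_of_coprime hcop (by omega)
  refine ⟨z ^ a, ?_, ?_⟩
  · rw [← pow_mul, mul_comm, pow_mul, hz1, one_pow]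
  · have h1 := Nat.div_add_mod (r * a) (q + 1)
    rw [ha] at h1
    rw [← pow_mul, mul_comm, ← h1, pow_add, pow_mul, hz1, one_pow, one_mul, pow_one]

theorem case_odd_a (hF : Fintype.card F = q ^ 2) (p : ℕ) [hp : Fact p.Prime] [CharP F p]
    (r : ℕ) [hr : Fact r.Prime] (hrp : r ≠ p) (hrq1 : ¬ r ∣ q + 1)
    (c : ℕ) (hc : c = orderOf (-(q : ZMod r)))
    (n m : ℕ) (hn : 0 < n) (hmn : m ≤ n) (hcn : c ≤ n) (hkm : n % c < m) :
    (∀ x : Matrix (Fin n) (Fin n) F, Pres q x → x.det = 1 →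
      (∃ z : F, x ^ r = z • (1 : Matrix (Fin n) (Fin n) F)) →
      (∀ z : F, x ≠ z • (1 : Matrix (Fin n) (Fin n) F)) →
      ∃ W : Submodule F (Fin n → F), finrank F W = m ∧ ND q W ∧ Inv x W) ↔
    (c ≤ m ∧ m % c ≤ n % c) := by
  have hrq : ¬ r ∣ q := not_dvd_q hF p r hr.out hrp
  have hcpos : 0 < c := by
    rw [hc]
    exact orderOf_pos_of_ne_zero r _ (neg_ne_zero.mpr (zq_ne_zero r q hrq))
  constructor
  · intro H
    obtain ⟨a, ha, har, hfix⟩ := exists_atom_matrix hF p r hrp c hc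
    obtain ⟨M, hM, hMr, hMfix⟩ := exists_rep_matrix hF c a ha r har hfix (n % c) (n / c) n
      (Nat.div_add_mod n c).symm
    have hdet : M.det = 1 := by
      apply norm_gcd_one r hr.out hrq1
      · rw [← Matrix.det_pow, hMr, Matrix.det_one]
      · exact det_norm_of_pres hF M hM
    have hns : ∀ z : F, M ≠ z • (1 : Matrix (Fin n) (Fin n) F) := by
      intro z hz
      have hz1 : z ^ (q + 1) = 1 := scalar_norm_one hF hn z (by rw [← hz]; exact hM)
      have hzr : z ^ r = 1 := by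
        have h5 : (z • (1 : Matrix (Fin n) (Fin n) F)) ^ r = 1 := by rw [← hz]; exact hMr
        rw [_root_.smul_pow, one_pow] at h5
        apply smul_one_inj hn
        rw [h5, one_smul]
      have hz' : z = 1 := norm_gcd_one r hr.out hrq1 z hzr hz1
      rw [hz', one_smul] at hz
      rw [hz, eig_one_one, finrank_top, Module.finrank_fin_fun] at hMfix
      have := Nat.mod_lt n hcpos
      omega
    obtain ⟨W, hWd, hWnd, hWI⟩ := H M hM hdet ⟨1, by rw [hMr, one_smul]⟩ hns
    obtain ⟨j, hj⟩ := nd_inv_dims hF p r hrp hM hMr c hc hWnd hWI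
    have hle : finrank F ↥(W ⊓ eig M 1) ≤ n % c := by
      rw [← hMfix]
      exact Submodule.finrank_mono inf_le_right
    have hlt := Nat.mod_lt n hcpos
    have hmod : m % c = finrank F ↥(W ⊓ eig M 1) := by
      rw [← hWd, hj, Nat.add_mul_mod_self_left, Nat.mod_eq_of_lt (by omega)]
    refine ⟨?_, by omega⟩
    by_contra hlt'
    push Not at hlt'
    rw [Nat.mod_eq_of_lt hlt'] at hmod
    omega
  · rintro ⟨hcm, hmod⟩ x hx hdet ⟨z, hz⟩ hns
    have hz1 : z ^ (q + 1) = 1 := scalar_norm_one hF hn z (by rw [← hz]; exact hx.pow r)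
    obtain ⟨l, hl1, hlr⟩ := exists_root_of_coprime hF r hr.out hrq1 z hz1
    have hl0 : l ≠ 0 := by
      rintro rfl
      rw [zero_pow (by omega)] at hl1
      exact zero_ne_one hl1
    obtain ⟨hy, hyr⟩ := scale_pow_one hx r z l hz hl1 hlr hl0
    obtain ⟨j₀, hj₀⟩ := moved_dvd hF p r hrp hy hyr c hc
    set f := finrank F (eig (l⁻¹ • x) 1) with hf
    have h1 : n % c = f % c := by rw [hj₀, Nat.add_mul_mod_self_left]
    have h2 : f % c ≤ f := Nat.mod_le _ _
    have h3 : c * (m / c) + m % c = m := Nat.div_add_mod m c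
    obtain ⟨W, hWd, hWnd, hWI⟩ := exists_nd_inv hF p r hrp hy hyr c hc m (min (m / c) j₀)
      (by
        have : c * min (m / c) j₀ ≤ c * j₀ := Nat.mul_le_mul_left c (min_le_right _ _)
        omega)
      (by
        have : c * min (m / c) j₀ ≤ c * (m / c) := Nat.mul_le_mul_left c (min_le_left _ _)
        omega)
      (by
        rcases le_total (m / c) j₀ with h | h
        · rw [min_eq_left h]
          omega
        · rw [min_eq_right h]
          omega)
    exact ⟨W, hWd, hWnd, (inv_smul_iff l⁻¹ (inv_ne_zero hl0) W).mp hWI⟩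

end caseOddA

section caseOddB
variable {F : Type*} [Field F] [Fintype F] {q : ℕ}

theorem case_odd_b (hF : Fintype.card F = q ^ 2) (p : ℕ) [hp : Fact p.Prime] [CharP F p]
    (r : ℕ) [hr : Fact r.Prime] (hrp : r ≠ p) (hodd : Odd r) (hrq1 : r ∣ q + 1)
    (n m : ℕ) (hn : 0 < n) (hmn : m ≤ n) :
    (∀ x : Matrix (Fin n) (Fin n) F, Pres q x → x.det = 1 →
      (∃ z : F, x ^ r = z • (1 : Matrix (Fin n) (Fin n) F)) →
      (∀ z : F, x ≠ z • (1 : Matrix (Fin n) (Fin n) F)) →
      ∃ W : Submodule F (Fin n → F), finrank F W = m ∧ ND q W ∧ Inv x W) ↔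
    (r ∣ m ∨ padicValNat r n ≤ padicValNat r (q + 1)) := by
  have : NeZero r := ⟨hr.out.ne_zero⟩
  constructor
  · intro H
    by_contra hcon
    push Not at hcon
    obtain ⟨hrm, hv⟩ := hcon
    obtain ⟨z, hz1, hzn, hzb⟩ := exists_nonpow hF r hodd hrq1 n hn.ne' hv
    have hrn : r ∣ n := dvd_of_one_le_padicValNat (by omega)
    obtain ⟨t, ht⟩ := hrn
    obtain ⟨M, hM, hMr⟩ := exists_Z_matrix hF r z hz1 t n ht
    have hdet : M.det = 1 := by
      rw [(det_Z r hr.out hodd z hMr hzb).2, hzn]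
    have hns : ∀ b : F, M ≠ b • (1 : Matrix (Fin n) (Fin n) F) := by
      intro b hb
      apply hzb b
      apply smul_one_inj hn
      rw [← hMr, hb, _root_.smul_pow, one_pow]
    obtain ⟨W, hWd, hWnd, hWI⟩ := H M hM hdet ⟨z, hMr⟩ hns
    have := dvd_finrank_Z r hr.out z hMr hzb hWI
    rw [hWd] at this
    exact hrm this
  · intro hcond x hx hdet ⟨z, hz⟩ hns
    have hz1 : z ^ (q + 1) = 1 := scalar_norm_one hF hn z (by rw [← hz]; exact hx.pow r)
    by_cases hl : ∃ l : F, l ^ (q + 1) = 1 ∧ l ^ r = z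
    · obtain ⟨l, hl1, hlr⟩ := hl
      have hl0 : l ≠ 0 := by
        rintro rfl
        rw [zero_pow (by omega)] at hl1
        exact zero_ne_one hl1
      obtain ⟨hy, hyr⟩ := scale_pow_one hx r z l hz hl1 hlr hl0
      have hc1 : orderOf (-(q : ZMod r)) = 1 := (c_eq_one_iff r q _ rfl).mpr hrq1
      have hfle : finrank F (eig (l⁻¹ • x) 1) ≤ n := by
        have := Submodule.finrank_le (eig (l⁻¹ • x) 1)
        rwa [Module.finrank_fin_fun] at this
      obtain ⟨W, hWd, hWnd, hWI⟩ := exists_nd_inv hF p r hrp hy hyr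
        (orderOf (-(q : ZMod r))) rfl m (min m (n - finrank F (eig (l⁻¹ • x) 1)))
        (by rw [hc1, one_mul]; have := min_le_right m (n - finrank F (eig (l⁻¹ • x) 1)); omega)
        (by rw [hc1, one_mul]; exact min_le_left _ _)
        (by
          rw [hc1, one_mul]
          rcases le_total m (n - finrank F (eig (l⁻¹ • x) 1)) with h | h
          · rw [min_eq_left h]; omega
          · rw [min_eq_right h]; omega)
      exact ⟨W, hWd, hWnd, (inv_smul_iff l⁻¹ (inv_ne_zero hl0) W).mp hWI⟩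
    · have hzb : ∀ b : F, b ^ r ≠ z := fun b hb =>
        hl ⟨b, norm_one_of_pow hF r hr.out hodd hrq1 b z hb hz1, hb⟩
      obtain ⟨hrn, hdetZ⟩ := det_Z r hr.out hodd z hz hzb
      rcases hcond with hrm | hv
      · obtain ⟨j, hj⟩ := hrm
        obtain ⟨W, hWd, hWnd, hWI⟩ := exists_nd_inv_Z hF r hr.out hx z hz hzb j (by omega)
        exact ⟨W, by rw [hWd, hj], hWnd, hWI⟩
      · exfalso
        exact hl (exists_root_norm_one hF r n hn.ne' hrn hv z hz1 (by rw [← hdetZ, hdet]))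

end caseOddB

section count
variable {F : Type*} [Field F] [Fintype F] {q : ℕ}

/-- the arithmetic consequence of `r` dividing the number of nondegenerate `m`-spaces -/
theorem of_dvd_card (hF : Fintype.card F = q ^ 2) (p : ℕ) [hp : Fact p.Prime] [CharP F p]
    (r : ℕ) [hr : Fact r.Prime] (hrp : r ≠ p) (c : ℕ) (hc : c = orderOf (-(q : ZMod r)))
    (n m : ℕ) (hmn : m ≤ n)
    (hrΩ : r ∣ Nat.card {W : Submodule F (Fin n → F) // finrank F W = m ∧ ND q W}) :
    c ≤ n ∧ n % c < m := by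
  have hrq : ¬ r ∣ q := not_dvd_q hF p r hr.out hrp
  have h1 := card_nd_mul hF n m
  have h2 : r ∣ ∏ j ∈ Finset.range m, unitCount F q (n - j) := by
    rw [← h1]
    exact Dvd.dvd.mul_right hrΩ _
  obtain ⟨j, hj, hdvd⟩ := (Prime.dvd_finsetProd_iff (Nat.Prime.prime hr.out) _).mp h2
  rw [Finset.mem_range] at hj
  have h3 := (dvd_unitCount_iff r q hF hrq c hc (n - j) (by omega)).mp hdvd
  have hle : c ≤ n - j := Nat.le_of_dvd (by omega) h3
  refine ⟨by omega, ?_⟩
  obtain ⟨s, hs⟩ := h3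
  have h4 : n = j + c * s := by omega
  have h5 : n % c = j % c := by rw [h4, Nat.add_mul_mod_self_left]
  have h6 : j % c ≤ j := Nat.mod_le _ _
  omega

end count

end Cfsg.Agent.Lib.Helper19.HS
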