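import Mathlib
import Cfsg.Agent.Lib.Helper1.Frattini
import Cfsg.Prelude.Def_Transfer

/-!
# Heisenberg groups of rank `n` (extraspecial groups of order `p ^ (2 n + 1)` and exponent `p`)

Abstract coordinates `HeisCoordN` and a concrete realisation inside `GL (Fin (n + 2)) F`.
-/

set_option autoImplicit false
set_option linter.style.haveILetI false
set_option linter.unusedSectionVars false

namespace Cfsg.Agent.Lib.Helper19.HeisN

open scoped commutatorElement

/-- Heisenberg coordinates of rank `n` on a group `P` over a field `F`. -/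
structure HeisCoordN (F : Type*) [Field F] (n : ℕ) (P : Type*) [Group P] where
  /-- the coordinate map -/
  h : (Fin n → F) → F → (Fin n → F) → P
  h_mul : ∀ a x y a' x' y', h a x y * h a' x' y' = h (a + a') (x + x' + a ⬝ᵥ y') (y + y')
  h_inj : ∀ a x y a' x' y', h a x y = h a' x' y' → a = a' ∧ x = x' ∧ y = y'
  h_surj : ∀ g : P, ∃ a x y, g = h a x y

namespace HeisCoordN

variable {F : Type*} [Field F] {n : ℕ} {P : Type*} [Group P] (C : HeisCoordN F n P)
include C

theorem h_congr {a a' : Fin n → F} {x x' : F} {y y' : Fin n → F} (ha : a = a') (hx : x = x')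
    (hy : y = y') : C.h a x y = C.h a' x' y' := by
  subst ha hx hy; rfl

theorem h_zero : C.h 0 0 0 = 1 := by
  have := C.h_mul 0 0 0 0 0 0
  simp only [add_zero, zero_dotProduct] at this
  exact mul_eq_left.1 this

theorem h_inv (a : Fin n → F) (x : F) (y : Fin n → F) :
    (C.h a x y)⁻¹ = C.h (-a) (-x + a ⬝ᵥ y) (-y) := by
  rw [inv_eq_iff_mul_eq_one, C.h_mul, ← C.h_zero]
  apply C.h_congr
  · exact add_neg_cancel a
  · rw [dotProduct_neg]; ring
  · exact add_neg_cancel y

theorem h_central (c : F) (g : P) : C.h 0 c 0 * g = g * C.h 0 c 0 := by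
  obtain ⟨a, x, y, rfl⟩ := C.h_surj g
  rw [C.h_mul, C.h_mul]
  apply C.h_congr
  · rw [zero_add, add_zero]
  · rw [zero_dotProduct, dotProduct_zero]; ring
  · rw [zero_add, add_zero]

theorem h_comm (a : Fin n → F) (x : F) (y : Fin n → F) (a' : Fin n → F) (x' : F)
    (y' : Fin n → F) :
    ⁅C.h a x y, C.h a' x' y'⁆ = C.h 0 (a ⬝ᵥ y' - a' ⬝ᵥ y) 0 := by
  rw [commutatorElement_def, C.h_inv, C.h_inv, C.h_mul, C.h_mul, C.h_mul]
  apply C.h_congr
  · abel
  · simp only [add_dotProduct, dotProduct_neg, neg_dotProduct]; ring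
  · abel

theorem mem_center_iff (a : Fin n → F) (x : F) (y : Fin n → F) :
    C.h a x y ∈ Subgroup.center P ↔ a = 0 ∧ y = 0 := by
  rw [Subgroup.mem_center_iff]
  constructor
  · intro h
    constructor
    · funext i
      have h2 := h (C.h 0 0 (Pi.single i 1))
      rw [C.h_mul, C.h_mul] at h2
      obtain ⟨-, h2, -⟩ := C.h_inj _ _ _ _ _ _ h2
      rw [zero_dotProduct, dotProduct_single_one] at h2
      show a i = 0
      linear_combination -h2
    · funext i
      have h1 := h (C.h (Pi.single i 1) 0 0)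
      rw [C.h_mul, C.h_mul] at h1
      obtain ⟨-, h1, -⟩ := C.h_inj _ _ _ _ _ _ h1
      rw [single_one_dotProduct, dotProduct_zero] at h1
      show y i = 0
      linear_combination h1
  · rintro ⟨rfl, rfl⟩ g
    exact (C.h_central x g).symm

theorem center_eq :
    (Subgroup.center P : Set P) = Set.range (fun c : F => C.h 0 c 0) := by
  ext g
  obtain ⟨a, x, y, rfl⟩ := C.h_surj g
  rw [SetLike.mem_coe, C.mem_center_iff]
  constructor
  · rintro ⟨rfl, rfl⟩
    exact ⟨x, rfl⟩
  · rintro ⟨c, hc⟩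
    obtain ⟨h1, -, h3⟩ := C.h_inj _ _ _ _ _ _ hc
    exact ⟨h1.symm, h3.symm⟩

theorem card_center : Nat.card (Subgroup.center P) = Nat.card F := by
  have : Nat.card (Subgroup.center P) = Nat.card (Set.range (fun c : F => C.h 0 c 0)) := by
    rw [← C.center_eq]
    rfl
  rw [this]
  apply Nat.card_range_of_injective
  intro c c' hcc
  exact (C.h_inj _ _ _ _ _ _ hcc).2.1

theorem commutator_eq_center (hn : 0 < n) : commutator P = Subgroup.center P := by
  apply le_antisymm
  · rw [commutator_eq_closure, Subgroup.closure_le]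
    rintro g ⟨g₁, g₂, rfl⟩
    obtain ⟨a, x, y, rfl⟩ := C.h_surj g₁
    obtain ⟨a', x', y', rfl⟩ := C.h_surj g₂
    rw [C.h_comm, SetLike.mem_coe, C.mem_center_iff]
    exact ⟨rfl, rfl⟩
  · intro g hg
    have hg' : g ∈ (Subgroup.center P : Set P) := hg
    rw [C.center_eq] at hg'
    obtain ⟨c, rfl⟩ := hg'
    have : C.h 0 c 0 = ⁅C.h (Pi.single (⟨0, hn⟩ : Fin n) 1) 0 0,
        C.h 0 0 (Pi.single (⟨0, hn⟩ : Fin n) c)⁆ := by
      rw [C.h_comm]
      apply C.h_congr rfl _ rfl
      rw [single_one_dotProduct, zero_dotProduct, Pi.single_eq_same, sub_zero]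
    change C.h 0 c 0 ∈ commutator P
    rw [this, commutator_eq_closure]
    exact Subgroup.subset_closure ⟨_, _, rfl⟩

theorem h_pow (a : Fin n → F) (x : F) (y : Fin n → F) (k : ℕ) :
    C.h a x y ^ k =
      C.h ((k : F) • a) (k * x + (k.choose 2 : ℕ) * (a ⬝ᵥ y)) ((k : F) • y) := by
  induction k with
  | zero =>
    rw [pow_zero, ← C.h_zero]
    apply C.h_congr
    · rw [Nat.cast_zero, zero_smul]
    · simp
    · rw [Nat.cast_zero, zero_smul]
  | succ k ih =>
    rw [pow_succ, ih, C.h_mul, Nat.choose_succ_succ, Nat.choose_one_right]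
    apply C.h_congr
    · push_cast; rw [add_smul, one_smul]
    · rw [smul_dotProduct, smul_eq_mul]; push_cast; ring
    · push_cast; rw [add_smul, one_smul]

theorem h_pow_char (p : ℕ) [Fact p.Prime] [CharP F p] (hp : p ≠ 2) (g : P) : g ^ p = 1 := by
  obtain ⟨a, x, y, rfl⟩ := C.h_surj g
  have hpp : p.Prime := Fact.out
  have h2 : 2 < p := lt_of_le_of_ne hpp.two_le (Ne.symm hp)
  have hdvd : p ∣ p.choose 2 := hpp.dvd_choose_self (by norm_num) h2
  have h0 : ((p.choose 2 : ℕ) : F) = 0 := (CharP.cast_eq_zero_iff F p _).2 hdvd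
  rw [C.h_pow, h0, CharP.cast_eq_zero F p, ← C.h_zero]
  apply C.h_congr
  · rw [zero_smul]
  · ring
  · rw [zero_smul]

/-- the coordinate bijection -/
noncomputable def equiv : (Fin n → F) × F × (Fin n → F) ≃ P :=
  Equiv.ofBijective (fun t => C.h t.1 t.2.1 t.2.2) (by
    constructor
    · rintro ⟨a, x, y⟩ ⟨a', x', y'⟩ h
      obtain ⟨h1, h2, h3⟩ := C.h_inj _ _ _ _ _ _ h
      simp only [Prod.mk.injEq]
      exact ⟨h1, h2, h3⟩
    · intro g
      obtain ⟨a, x, y, rfl⟩ := C.h_surj g
      exact ⟨(a, x, y), rfl⟩)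

theorem card_eq [Finite F] : Nat.card P = Nat.card F ^ (2 * n + 1) := by
  rw [← Nat.card_congr C.equiv, Nat.card_prod, Nat.card_prod, Nat.card_fun, Nat.card_fin]
  ring

theorem isExtraspecial (hn : 0 < n) (p : ℕ) [Fact p.Prime] [CharP F p] (hp : p ≠ 2)
    (hF : Nat.card F = p) :
    Cfsg.IsExtraspecial p P ∧ Nat.card P = p ^ (2 * n + 1) ∧ ∀ g : P, g ^ p = 1 := by
  haveI : Finite F := Nat.finite_of_card_ne_zero (by
    rw [hF]; exact (Fact.out : p.Prime).ne_zero)
  have hcard : Nat.card P = p ^ (2 * n + 1) := by rw [C.card_eq, hF]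
  haveI : Finite P := Nat.finite_of_card_ne_zero (by
    rw [hcard]; exact pow_ne_zero _ (Fact.out : p.Prime).ne_zero)
  have hP : IsPGroup p P := IsPGroup.of_card hcard
  refine ⟨⟨⟨hP, ?_, C.commutator_eq_center hn⟩, ?_⟩, hcard, C.h_pow_char p hp⟩
  · apply le_antisymm
    · apply Cfsg.Agent.Lib.Helper1.frattini_le_of_commutator_le_of_pow_mem (p := p)
      · exact (C.commutator_eq_center hn).le
      · intro x
        rw [C.h_pow_char p hp x]
        exact one_mem _
    · rw [← C.commutator_eq_center hn]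
      exact Cfsg.Agent.Lib.Helper1.IsPGroup.commutator_le_frattini hP
  · rw [C.card_center, hF]

end HeisCoordN

section Concrete

variable {F : Type*} [Field F] {n : ℕ}

/-- The first row: `(0, a, c)`. -/
def rowv (a : Fin n → F) (c : F) : Fin (n + 2) → F :=
  (Fin.cons (0 : F) (Fin.snoc a c : Fin (n + 1) → F) : Fin (n + 2) → F)

/-- The last column: `(0, b, 0)`. -/
def colv (b : Fin n → F) : Fin (n + 2) → F :=
  (Fin.cons (0 : F) (Fin.snoc b 0 : Fin (n + 1) → F) : Fin (n + 2) → F)

theorem rowv_zero_idx (a : Fin n → F) (c : F) : rowv a c 0 = 0 := Fin.cons_zero _ _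

theorem colv_zero_idx (b : Fin n → F) : colv b 0 = 0 := Fin.cons_zero _ _

theorem rowv_mid (a : Fin n → F) (c : F) (k : Fin n) : rowv a c k.castSucc.succ = a k := by
  show (Fin.cons (0 : F) (Fin.snoc a c : Fin (n + 1) → F) : Fin (n + 2) → F) k.castSucc.succ = a k
  rw [Fin.cons_succ, Fin.snoc_castSucc]

theorem rowv_last (a : Fin n → F) (c : F) : rowv a c (Fin.last (n + 1)) = c := by
  show (Fin.cons (0 : F) (Fin.snoc a c : Fin (n + 1) → F) : Fin (n + 2) → F)
    (Fin.succ (Fin.last n)) = c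
  rw [Fin.cons_succ, Fin.snoc_last]

theorem colv_mid (b : Fin n → F) (k : Fin n) : colv b k.castSucc.succ = b k := by
  show (Fin.cons (0 : F) (Fin.snoc b 0 : Fin (n + 1) → F) : Fin (n + 2) → F) k.castSucc.succ = b k
  rw [Fin.cons_succ, Fin.snoc_castSucc]

theorem colv_last (b : Fin n → F) : colv b (Fin.last (n + 1)) = 0 := by
  show (Fin.cons (0 : F) (Fin.snoc b 0 : Fin (n + 1) → F) : Fin (n + 2) → F)
    (Fin.succ (Fin.last n)) = 0
  rw [Fin.cons_succ, Fin.snoc_last]

/-- function extensionality on `Fin (n + 2)` through the three kinds of indices -/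
theorem ext3 {u v : Fin (n + 2) → F} (h0 : u 0 = v 0)
    (hm : ∀ k : Fin n, u k.castSucc.succ = v k.castSucc.succ)
    (hl : u (Fin.last (n + 1)) = v (Fin.last (n + 1))) : u = v := by
  funext i
  refine Fin.cases h0 (fun j => ?_) i
  refine Fin.lastCases ?_ (fun k => hm k) j
  exact hl

theorem rowv_add (a a' : Fin n → F) (c c' t : F) :
    rowv (a + a') (c + c' + t) = rowv a c + rowv a' c' + t • rowv (0 : Fin n → F) 1 := by
  apply ext3
  · simp only [Pi.add_apply, Pi.smul_apply, rowv_zero_idx, smul_eq_mul, mul_zero, add_zero]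
  · intro k
    simp only [Pi.add_apply, Pi.smul_apply, rowv_mid, smul_eq_mul, Pi.zero_apply, mul_zero,
      add_zero]
  · simp only [Pi.add_apply, Pi.smul_apply, rowv_last, smul_eq_mul, mul_one]

theorem colv_add (b b' : Fin n → F) : colv (b + b') = colv b + colv b' := by
  apply ext3
  · simp only [Pi.add_apply, colv_zero_idx, add_zero]
  · intro k
    simp only [Pi.add_apply, colv_mid]
  · simp only [Pi.add_apply, colv_last, add_zero]

theorem rowv_zero : rowv (0 : Fin n → F) 0 = 0 := by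
  apply ext3
  · simp only [rowv_zero_idx, Pi.zero_apply]
  · intro k
    simp only [rowv_mid, Pi.zero_apply]
  · simp only [rowv_last, Pi.zero_apply]

theorem colv_zero : colv (0 : Fin n → F) = 0 := by
  apply ext3
  · simp only [colv_zero_idx, Pi.zero_apply]
  · intro k
    simp only [colv_mid, Pi.zero_apply]
  · simp only [colv_last, Pi.zero_apply]

theorem rowv_dot_colv (a : Fin n → F) (c : F) (b : Fin n → F) :
    rowv a c ⬝ᵥ colv b = a ⬝ᵥ b := by
  simp only [dotProduct]
  rw [Fin.sum_univ_succ, Fin.sum_univ_castSucc]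
  simp only [rowv_zero_idx, colv_zero_idx, rowv_mid, colv_mid, mul_zero, zero_add]
  have h1 : rowv a c (Fin.succ (Fin.last n)) = c := rowv_last a c
  have h2 : colv b (Fin.succ (Fin.last n)) = 0 := colv_last b
  rw [h1, h2, mul_zero, add_zero]

/-- the first standard basis vector -/
def e0 (F : Type*) [Field F] (n : ℕ) : Fin (n + 2) → F := Pi.single 0 1

/-- the last standard basis vector -/
def el (F : Type*) [Field F] (n : ℕ) : Fin (n + 2) → F := rowv (0 : Fin n → F) 1

theorem rowv_dot_e0 (a : Fin n → F) (c : F) : rowv a c ⬝ᵥ e0 F n = 0 := by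
  rw [e0, dotProduct_single_one, rowv_zero_idx]

theorem el_dot_e0 : el F n ⬝ᵥ e0 F n = 0 := rowv_dot_e0 _ _

theorem el_dot_colv (b : Fin n → F) : el F n ⬝ᵥ colv b = 0 := by
  rw [el, rowv_dot_colv, zero_dotProduct]

/-- the nilpotent part of a Heisenberg matrix -/
def nm (a : Fin n → F) (c : F) (b : Fin n → F) : Matrix (Fin (n + 2)) (Fin (n + 2)) F :=
  Matrix.vecMulVec (e0 F n) (rowv a c) + Matrix.vecMulVec (colv b) (el F n)

theorem nm_mul (a a' : Fin n → F) (c c' : F) (b b' : Fin n → F) :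
    nm a c b * nm a' c' b' = (a ⬝ᵥ b') • Matrix.vecMulVec (e0 F n) (el F n) := by
  unfold nm
  rw [add_mul, mul_add, mul_add, Matrix.vecMulVec_mul_vecMulVec, Matrix.vecMulVec_mul_vecMulVec,
    Matrix.vecMulVec_mul_vecMulVec, Matrix.vecMulVec_mul_vecMulVec, rowv_dot_e0, rowv_dot_colv,
    el_dot_e0, el_dot_colv]
  simp only [zero_smul, Matrix.vecMulVec_zero, Matrix.vecMulVec_smul, zero_add, add_zero]

theorem nm_add (a a' : Fin n → F) (c c' t : F) (b b' : Fin n → F) :
    nm (a + a') (c + c' + t) (b + b') =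
      nm a c b + nm a' c' b' + t • Matrix.vecMulVec (e0 F n) (el F n) := by
  unfold nm
  rw [rowv_add, colv_add, Matrix.vecMulVec_add, Matrix.vecMulVec_add, Matrix.add_vecMulVec,
    Matrix.vecMulVec_smul]
  rw [el]
  abel

theorem nm_zero : nm (0 : Fin n → F) 0 0 = 0 := by
  unfold nm
  rw [rowv_zero, colv_zero, Matrix.vecMulVec_zero, Matrix.zero_vecMulVec, add_zero]

/-- the Heisenberg matrix -/
def mm (a : Fin n → F) (c : F) (b : Fin n → F) : Matrix (Fin (n + 2)) (Fin (n + 2)) F :=
  1 + nm a c b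

theorem mm_mul (a a' : Fin n → F) (c c' : F) (b b' : Fin n → F) :
    mm a c b * mm a' c' b' = mm (a + a') (c + c' + a ⬝ᵥ b') (b + b') := by
  unfold mm
  rw [nm_add, add_mul, mul_add, mul_add, one_mul, mul_one, one_mul, nm_mul]
  abel

theorem mm_zero : mm (0 : Fin n → F) 0 0 = 1 := by
  unfold mm
  rw [nm_zero, add_zero]

theorem nm_row (a : Fin n → F) (c : F) (b : Fin n → F) (j : Fin (n + 2)) :
    nm a c b 0 j = rowv a c j := by
  rw [nm, Matrix.add_apply, Matrix.vecMulVec_apply, Matrix.vecMulVec_apply, e0,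
    Pi.single_eq_same, one_mul, colv_zero_idx, zero_mul, add_zero]

theorem nm_col (a : Fin n → F) (c : F) (b : Fin n → F) (k : Fin n) :
    nm a c b k.castSucc.succ (Fin.last (n + 1)) = b k := by
  rw [nm, Matrix.add_apply, Matrix.vecMulVec_apply, Matrix.vecMulVec_apply, e0,
    Pi.single_eq_of_ne (Fin.succ_ne_zero _), zero_mul, zero_add, colv_mid, el, rowv_last, mul_one]

theorem mm_inj {a a' : Fin n → F} {c c' : F} {b b' : Fin n → F}
    (h : mm a c b = mm a' c' b') : a = a' ∧ c = c' ∧ b = b' := by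
  have h' : nm a c b = nm a' c' b' := add_left_cancel h
  refine ⟨?_, ?_, ?_⟩
  · funext k
    have := congrFun (congrFun h' 0) k.castSucc.succ
    rwa [nm_row, nm_row, rowv_mid, rowv_mid] at this
  · have := congrFun (congrFun h' 0) (Fin.last (n + 1))
    rwa [nm_row, nm_row, rowv_last, rowv_last] at this
  · funext k
    have := congrFun (congrFun h' k.castSucc.succ) (Fin.last (n + 1))
    rwa [nm_col, nm_col] at this

/-- the Heisenberg matrix as an invertible matrix -/
def mg (a : Fin n → F) (c : F) (b : Fin n → F) : Matrix.GeneralLinearGroup (Fin (n + 2)) F :=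
  ⟨mm a c b, mm (-a) (-c + a ⬝ᵥ b) (-b), by
    rw [mm_mul, ← mm_zero]
    congr 1
    · exact add_neg_cancel a
    · rw [dotProduct_neg]; ring
    · exact add_neg_cancel b, by
    rw [mm_mul, ← mm_zero]
    congr 1
    · exact neg_add_cancel a
    · rw [neg_dotProduct]; ring
    · exact neg_add_cancel b⟩

theorem mg_mul (a a' : Fin n → F) (c c' : F) (b b' : Fin n → F) :
    mg a c b * mg a' c' b' = mg (a + a') (c + c' + a ⬝ᵥ b') (b + b') :=
  Units.ext (mm_mul a a' c c' b b')

theorem mg_zero : mg (0 : Fin n → F) 0 0 = 1 := Units.ext mm_zero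

theorem mg_inv (a : Fin n → F) (c : F) (b : Fin n → F) :
    (mg a c b)⁻¹ = mg (-a) (-c + a ⬝ᵥ b) (-b) := by
  rw [inv_eq_iff_mul_eq_one, mg_mul, ← mg_zero]
  congr 1
  · exact add_neg_cancel a
  · rw [dotProduct_neg]; ring
  · exact add_neg_cancel b

/-- the Heisenberg subgroup of `GL (Fin (n + 2)) F` -/
def heisSub (F : Type*) [Field F] (n : ℕ) :
    Subgroup (Matrix.GeneralLinearGroup (Fin (n + 2)) F) where
  carrier := {g | ∃ (a : Fin n → F) (c : F) (b : Fin n → F), g = mg a c b}
  mul_mem' := by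
    rintro _ _ ⟨a, c, b, rfl⟩ ⟨a', c', b', rfl⟩
    exact ⟨_, _, _, mg_mul a a' c c' b b'⟩
  one_mem' := ⟨0, 0, 0, mg_zero.symm⟩
  inv_mem' := by
    rintro _ ⟨a, c, b, rfl⟩
    exact ⟨_, _, _, mg_inv a c b⟩

/-- the standard coordinates on the Heisenberg subgroup -/
def heisCoord (F : Type*) [Field F] (n : ℕ) : HeisCoordN F n ↥(heisSub F n) where
  h a x y := ⟨mg a x y, ⟨a, x, y, rfl⟩⟩
  h_mul a x y a' x' y' := Subtype.ext (mg_mul a a' x x' y y')
  h_inj a x y a' x' y' hh := by
    have h1 : mg a x y = mg a' x' y' := congrArg Subtype.val hh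
    have h2 : mm a x y = mm a' x' y' := congrArg Units.val h1
    exact mm_inj h2
  h_surj g := by
    obtain ⟨a, c, b, hg⟩ := g.2
    exact ⟨a, c, b, Subtype.ext hg⟩

end Concrete

end Cfsg.Agent.Lib.Helper19.HeisN
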