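import Mathlib
import Cfsg.Prelude.Def_KGroupFacts

/-!
# A criterion for an outer automorphism group of order two (variant)

Let `G` be a finite group in which `⟨a⟩` is a Sylow `p`-subgroup of order `p`, and suppose that an
element `m` conjugates `a` to `a ^ r`, where the powers of `r` exhaust the units modulo `p`.  Then
every automorphism is, modulo inner automorphisms, one that fixes `a`.  If moreover `τ` is an
automorphism that is not inner and every automorphism `φ` fixing `a` satisfies `φ ∈ Inn G` or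
`τ * φ ∈ Inn G`, then the outer automorphism group of `G` has order two.
(Adapted from helper28's `OutTwo`, where the automorphisms fixing `a` are all inner.)
-/

set_option autoImplicit false

namespace Cfsg.Agent.Lib.Helper19.J2OTwo

variable {G : Type*} [Group G]

theorem conj_pow_pow' {m a : G} {r : ℕ} (h : m * a * m⁻¹ = a ^ r) (i : ℕ) :
    m ^ i * a * (m ^ i)⁻¹ = a ^ r ^ i := by
  induction i with
  | zero => simp
  | succ i ih =>
    have h1 : m ^ (i + 1) * a * (m ^ (i + 1))⁻¹ = m * (m ^ i * a * (m ^ i)⁻¹) * m⁻¹ := by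
      rw [pow_succ']; group
    rw [h1, ih]
    have h2 : m * a ^ r ^ i * m⁻¹ = (m * a * m⁻¹) ^ r ^ i := by
      rw [conj_pow]
    rw [h2, h, ← pow_mul, pow_succ, mul_comm]

theorem pow_eq_of_mod' {a : G} {p : ℕ} (ha : a ^ p = 1) (k : ℕ) : a ^ k = a ^ (k % p) := by
  conv_lhs => rw [← Nat.div_add_mod k p]
  rw [pow_add, pow_mul, ha, one_pow, one_mul]

/-- every automorphism is, modulo inner automorphisms, one that fixes `a` -/
theorem exists_fix [Finite G] {p : ℕ} [hp : Fact p.Prime] {a m : G} {r : ℕ}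
    (ha : orderOf a = p) (hfac : (Nat.card G).factorization p = 1)
    (hm : m * a * m⁻¹ = a ^ r)
    (hr : ∀ k : ℕ, 1 ≤ k → k < p → ∃ i : ℕ, k * r ^ i % p = 1)
    (φ : MulAut G) : ∃ c : G, (MulAut.conj c * φ) a = a := by
  have hp1 : 1 < p := hp.out.one_lt
  have hap : a ^ p = 1 := by rw [← ha]; exact pow_orderOf_eq_one a
  have ha1 : a ≠ 1 := by
    intro h
    rw [h, orderOf_one] at ha
    omega
  have hP : Nat.card (Subgroup.zpowers a) = p ^ (Nat.card G).factorization p := by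
    rw [hfac, pow_one, Nat.card_zpowers, ha]
  have hQ : Nat.card ((Subgroup.zpowers a).map φ.toMonoidHom) =
      p ^ (Nat.card G).factorization p := by
    rw [Subgroup.card_map_of_injective φ.injective]; exact hP
  obtain ⟨g, hg⟩ := MulAction.exists_smul_eq G (Sylow.ofCard _ hP) (Sylow.ofCard _ hQ)
  have h1 : φ a ∈ ((Sylow.ofCard _ hQ : Sylow p G) : Subgroup G) := by
    rw [Sylow.coe_ofCard]
    exact Subgroup.mem_map_of_mem _ (Subgroup.mem_zpowers a)
  rw [← hg, Sylow.coe_subgroup_smul, Subgroup.mem_smul_pointwise_iff_exists] at h1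
  obtain ⟨s, hs, hsx⟩ := h1
  rw [Sylow.coe_ofCard] at hs
  rw [MulAut.smul_def, MulAut.conj_apply] at hsx
  obtain ⟨k, hk⟩ := Subgroup.mem_zpowers_iff.mp hs
  have hpz : (0 : ℤ) < p := by exact_mod_cast hp.out.pos
  have hkp : a ^ (k % p) = s := by
    have := zpow_mod_orderOf a k
    rw [ha] at this
    rw [← hk]
    exact this
  have hjk : (((k % p).toNat : ℕ) : ℤ) = k % p :=
    Int.toNat_of_nonneg (Int.emod_nonneg _ (ne_of_gt hpz))
  have hjp : (k % p).toNat < p := by
    have := Int.emod_lt_of_pos k hpz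
    omega
  have hsj : a ^ (k % p).toNat = s := by
    rw [← zpow_natCast, hjk]; exact hkp
  have hj1 : 1 ≤ (k % p).toNat := by
    rcases Nat.eq_zero_or_pos (k % p).toNat with h0 | h0
    · exfalso
      rw [h0, pow_zero] at hsj
      rw [← hsj, mul_one, mul_inv_cancel] at hsx
      exact ha1 (φ.injective (by rw [← hsx, map_one]))
    · exact h0
  obtain ⟨i, hi⟩ := hr _ hj1 hjp
  refine ⟨m ^ i * g⁻¹, ?_⟩
  have hval : (MulAut.conj (m ^ i * g⁻¹) * φ) a = a ^ ((k % p).toNat * r ^ i % p) := by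
    rw [MulAut.mul_apply, MulAut.conj_apply, ← hsx, ← hsj]
    have h2 : m ^ i * g⁻¹ * (g * a ^ (k % p).toNat * g⁻¹) * (m ^ i * g⁻¹)⁻¹ =
        m ^ i * a ^ (k % p).toNat * (m ^ i)⁻¹ := by group
    rw [h2, ← conj_pow, conj_pow_pow' hm, ← pow_mul, mul_comm, ← pow_eq_of_mod' hap]
  rw [hval, hi, pow_one]

/-- the criterion: `Out G` has order two -/
theorem out_card_two_fix [Finite G] {p : ℕ} [hp : Fact p.Prime] {a m : G} {r : ℕ}
    (ha : orderOf a = p) (hfac : (Nat.card G).factorization p = 1)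
    (hm : m * a * m⁻¹ = a ^ r)
    (hr : ∀ k : ℕ, 1 ≤ k → k < p → ∃ i : ℕ, k * r ^ i % p = 1)
    (τ : MulAut G) (hτn : τ ∉ Cfsg.Inn G)
    (hfix : ∀ φ : MulAut G, φ a = a → φ ∈ Cfsg.Inn G ∨ τ * φ ∈ Cfsg.Inn G) :
    Nat.card (Cfsg.Out G) = 2 := by
  show Nat.card (MulAut G ⧸ Cfsg.Inn G) = 2
  rw [← Subgroup.index_eq_card, Subgroup.index_eq_two_iff_exists_notMem_and']
  refine ⟨τ, hτn, ?_⟩
  intro φ
  obtain ⟨c, hc⟩ := exists_fix ha hfac hm hr φ
  have hcinn : MulAut.conj c ∈ Cfsg.Inn G := ⟨c, rfl⟩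
  have hcinv : (MulAut.conj c)⁻¹ ∈ Cfsg.Inn G := (Cfsg.Inn G).inv_mem hcinn
  have h2 : φ = (MulAut.conj c)⁻¹ * (MulAut.conj c * φ) := by group
  rcases hfix _ hc with h1 | h1
  · right
    rw [h2]
    exact (Cfsg.Inn G).mul_mem hcinv h1
  · left
    have h3 : τ * φ = (τ * (MulAut.conj c)⁻¹ * τ⁻¹) * (τ * (MulAut.conj c * φ)) := by group
    rw [h3]
    exact (Cfsg.Inn G).mul_mem ((Cfsg.innNormal G).conj_mem _ hcinv τ) h1

end Cfsg.Agent.Lib.Helper19.J2OTwo
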