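import Cfsg.Agent.Lib.Helper19.J2O

/-!
# The outer automorphism group of a certified copy of `J₂` of degree 315  (helper19)

Any group `genGroup 315 9 gens` of order 604800 whose generators include the four reflection tables
`RTL` (the reflections in the lines 13, 277, 4, 195 of helper11's numbering) is the group generated by
`a` and `b` of `J2O`, so its outer automorphism group has order two.
-/

set_option autoImplicit false

namespace Cfsg.Agent.Lib.Helper19.J2O

open Cfsg.Agent.Lib.Helper28.BSGS Cfsg.Agent.Lib.Helper19.J2OData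

/-- isomorphic groups have outer automorphism groups of the same order (helper28's
`HSBridge.out_card_congr`, restated here to keep the import closure small) -/
theorem out_card_congr' {G : Type*} {H : Type*} [Group G] [Group H] (e : G ≃* H) :
    Nat.card (Cfsg.Out G) = Nat.card (Cfsg.Out H) := by
  show Nat.card (MulAut G ⧸ Cfsg.Inn G) = Nat.card (MulAut H ⧸ Cfsg.Inn H)
  rw [← Subgroup.index_eq_card, ← Subgroup.index_eq_card,
    ← Subgroup.index_map_equiv (Cfsg.Inn G) (MulAut.congr e)]
  congr 1
  ext φ
  constructor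
  · rintro ⟨ψ, ⟨g, rfl⟩, rfl⟩
    refine ⟨e g, ?_⟩
    ext x
    simp [MulAut.congr]
  · rintro ⟨h, rfl⟩
    refine ⟨MulAut.conj (e.symm h), ⟨e.symm h, rfl⟩, ?_⟩
    ext x
    simp [MulAut.congr]

theorem closure_refl_le_genGroup (gens : List (ℕ × ℕ)) (hg : gensOK 315 9 gens = true)
    (hsub : ∀ t ∈ RTL, (t, t) ∈ gens) : Subgroup.closure reflSet ≤ genGroup 315 9 gens := by
  rw [Subgroup.closure_le]
  rintro g ⟨t, ht, hact⟩
  have hmem := hsub t ht
  have hp := gensOK_spec 315 9 hg (t, t) hmem
  have h1 : permOf 315 9 t t ∈ genGroup 315 9 gens :=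
    Subgroup.subset_closure (mem_semGens 315 9 hmem)
  rw [SetLike.mem_coe, hact.ext (actsT_permOf hp)]
  exact h1

theorem closure_refl_eq_genGroup (gens : List (ℕ × ℕ)) (hg : gensOK 315 9 gens = true)
    (hsub : ∀ t ∈ RTL, (t, t) ∈ gens) (hcard : Nat.card (genGroup 315 9 gens) = 604800) :
    Subgroup.closure reflSet = genGroup 315 9 gens := by
  apply Subgroup.eq_of_le_of_card_ge (closure_refl_le_genGroup gens hg hsub)
  rw [hcard, card_closure_refl]

/-- the outer automorphism group of a certified copy of `J₂` has order two -/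
theorem out_card_genGroup (gens : List (ℕ × ℕ)) (hg : gensOK 315 9 gens = true)
    (hsub : ∀ t ∈ RTL, (t, t) ∈ gens) (hcard : Nat.card (genGroup 315 9 gens) = 604800) :
    Nat.card (Cfsg.Out (genGroup 315 9 gens)) = 2 := by
  rw [← closure_refl_eq_genGroup gens hg hsub hcard]
  exact out_card_closure

end Cfsg.Agent.Lib.Helper19.J2O
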