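import Cfsg.Agent.Lib.Helper19.J2ODefs

/-!
# Certificates for the automorphisms of the Hall–Janko group on 315 points: the small checks

Generated by a script (helper19).
-/

set_option autoImplicit false
set_option Elab.async false

namespace Cfsg.Agent.Lib.Helper19.J2O

open Cfsg.Agent.Lib.Helper28.BSGS Cfsg.Agent.Lib.Helper19.J2OData
open Cfsg.Agent.Lib.Helper28.BSGSMat (Tree sortedB)

set_option maxRecDepth 1000000 in
theorem gens_ok : gensOK 315 9 GENS = true := by
  decide +kernel

set_option maxRecDepth 1000000 in
theorem size_ok : codeSize LEVELS = 604800 := by
  decide +kernel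

set_option maxRecDepth 1000000 in
theorem slp_ok : slpOK [ta, tai, tb] SLP = true := by
  decide +kernel

set_option maxRecDepth 1000000 in
theorem pre_ok : slpOK RTL PRE = true := by
  decide +kernel

set_option maxRecDepth 1000000 in
theorem pre_known : ([ta, tai, tb].all fun t => (slpKnown RTL PRE).contains t) = true := by
  decide +kernel

set_option maxRecDepth 1000000 in
theorem rtl_pairs : (RTL.all fun t => pairOK 315 9 t t) = true := by
  decide +kernel

set_option maxRecDepth 1000000 in
theorem pair_a : pairOK 315 9 ta tai = true := by
  decide +kernel

set_option maxRecDepth 1000000 in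
theorem pair_b : pairOK 315 9 tb tb = true := by
  decide +kernel

set_option maxRecDepth 1000000 in
theorem pair_c : pairOK 315 9 tc tci = true := by
  decide +kernel

set_option maxRecDepth 1000000 in
theorem pair_s : pairOK 315 9 ts ts = true := by
  decide +kernel

set_option maxRecDepth 1000000 in
theorem pair_sbs : pairOK 315 9 tsbs tsbs = true := by
  decide +kernel

set_option maxRecDepth 1000000 in
theorem rels_ok : RELS.all (relHolds ta tb) = true := by
  decide +kernel

set_option maxRecDepth 1000000 in
theorem good_ok : (List.range 14).all goodOK = true := by
  decide +kernel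

set_option maxRecDepth 1000000 in
theorem len_GOODL : GOODL.length = 14 := by
  decide +kernel

set_option maxRecDepth 1000000 in
theorem len_IV : IV.toList.length = 2835 := by
  decide +kernel

set_option maxRecDepth 1000000 in
theorem iv_sorted : sortedB (IV.toList.map fun e => e.1) = true := by
  decide +kernel

set_option maxRecDepth 1000000 in
theorem len_ST : ST.toList.length = 128 := by
  decide +kernel

set_option maxRecDepth 1000000 in
theorem st_sorted : sortedB (ST.toList.map fun e => e.1) = true := by
  decide +kernel

set_option maxRecDepth 1000000 in
theorem c_conj : wordEq 315 9 [tc, ta, tci] [ta, ta, ta] = true := by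
  decide +kernel

set_option maxRecDepth 1000000 in
theorem s_conj : wordEq 315 9 [ts, ta, ts] [ta] = true := by
  decide +kernel

set_option maxRecDepth 1000000 in
theorem s_sq : wordId 315 9 [ts, ts] = true := by
  decide +kernel

set_option maxRecDepth 1000000 in
theorem s_ne : wordId 315 9 [ts] = false := by
  decide +kernel

set_option maxRecDepth 1000000 in
theorem sbs_eq : wordEq 315 9 [ts, tb, ts] [tsbs] = true := by
  decide +kernel

set_option maxRecDepth 1000000 in
theorem a_pow : wordId 315 9 (List.replicate 7 ta) = true := by
  decide +kernel

set_option maxRecDepth 1000000 in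
theorem a_ne : wordId 315 9 [ta] = false := by
  decide +kernel

set_option maxRecDepth 1000000 in
theorem b_sq : wordId 315 9 [tb, tb] = true := by
  decide +kernel

set_option maxRecDepth 1000000 in
theorem b_ne : wordId 315 9 [tb] = false := by
  decide +kernel

set_option maxRecDepth 1000000 in
theorem fix_s : fixCount ts = 21 := by
  decide +kernel

set_option maxRecDepth 1000000 in
theorem fix_g : ((List.range 315).filter fun i => Nat.beq (look 9 tg i) i) = [X1] := by
  decide +kernel

set_option maxRecDepth 1000000 in
theorem x1_lt : X1 < 315 := by
  decide +kernel

set_option maxRecDepth 1000000 in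
theorem fix_g_val : look 9 tg X1 = X1 := by
  decide +kernel

set_option maxRecDepth 1000000 in
theorem gens_slp : GENS.all (fun g => (g.1 == ta && g.2 == tai) || (g.1 == tb && g.2 == tb) || SLP.any (fun e => e.1 == g.1 && e.2.1 == g.2)) = true := by
  decide +kernel

set_option maxRecDepth 1000000 in
theorem gens_ab : (GENS.contains (ta, tai) && GENS.contains (tb, tb)) = true := by
  decide +kernel

set_option maxRecDepth 1000000 in
theorem known_ok : (tc :: tsbs :: tg :: (SGL ++ RTL)).all (fun t => (slpKnown [ta, tai, tb] SLP).contains t) = true := by
  decide +kernel

set_option maxRecDepth 1000000 in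
theorem st_one : (ST.toList.any fun e => wordId 315 9 [e.2.1]) = true := by
  decide +kernel

end Cfsg.Agent.Lib.Helper19.J2O
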