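import Cfsg.Agent.Lib.Helper19.J2OCert10

/-!
# Certificates for the automorphisms of the Hall–Janko group on 315 points: the table of involutions, part 11

Generated by a script (helper19).
-/

set_option autoImplicit false
set_option Elab.async false

namespace Cfsg.Agent.Lib.Helper19.J2O

open Cfsg.Agent.Lib.Helper28.BSGS Cfsg.Agent.Lib.Helper19.J2OData
open Cfsg.Agent.Lib.Helper28.BSGSMat (Tree sortedB)

set_option maxRecDepth 1000000 in
theorem hiv90_ok : ((hchunk 27 IV.toList 90).all ivOK) = true := by
  decide +kernel

set_option maxRecDepth 1000000 in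
theorem hiv91_ok : ((hchunk 27 IV.toList 91).all ivOK) = true := by
  decide +kernel

set_option maxRecDepth 1000000 in
theorem hiv92_ok : ((hchunk 27 IV.toList 92).all ivOK) = true := by
  decide +kernel

set_option maxRecDepth 1000000 in
theorem hiv93_ok : ((hchunk 27 IV.toList 93).all ivOK) = true := by
  decide +kernel

set_option maxRecDepth 1000000 in
theorem hiv94_ok : ((hchunk 27 IV.toList 94).all ivOK) = true := by
  decide +kernel

set_option maxRecDepth 1000000 in
theorem hiv95_ok : ((hchunk 27 IV.toList 95).all ivOK) = true := by
  decide +kernel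

set_option maxRecDepth 1000000 in
theorem hiv96_ok : ((hchunk 27 IV.toList 96).all ivOK) = true := by
  decide +kernel

set_option maxRecDepth 1000000 in
theorem hiv97_ok : ((hchunk 27 IV.toList 97).all ivOK) = true := by
  decide +kernel

set_option maxRecDepth 1000000 in
theorem hiv98_ok : ((hchunk 27 IV.toList 98).all ivOK) = true := by
  decide +kernel

end Cfsg.Agent.Lib.Helper19.J2O
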