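import Cfsg.Agent.Lib.Helper19.J2OCert2

/-!
# Certificates for the automorphisms of the Hall–Janko group on 315 points: the table of involutions, part 3

Generated by a script (helper19).
-/

set_option autoImplicit false
set_option Elab.async false

namespace Cfsg.Agent.Lib.Helper19.J2O

open Cfsg.Agent.Lib.Helper28.BSGS Cfsg.Agent.Lib.Helper19.J2OData
open Cfsg.Agent.Lib.Helper28.BSGSMat (Tree sortedB)

set_option maxRecDepth 1000000 in
theorem hiv18_ok : ((hchunk 27 IV.toList 18).all ivOK) = true := by
  decide +kernel

set_option maxRecDepth 1000000 in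
theorem hiv19_ok : ((hchunk 27 IV.toList 19).all ivOK) = true := by
  decide +kernel

set_option maxRecDepth 1000000 in
theorem hiv20_ok : ((hchunk 27 IV.toList 20).all ivOK) = true := by
  decide +kernel

set_option maxRecDepth 1000000 in
theorem hiv21_ok : ((hchunk 27 IV.toList 21).all ivOK) = true := by
  decide +kernel

set_option maxRecDepth 1000000 in
theorem hiv22_ok : ((hchunk 27 IV.toList 22).all ivOK) = true := by
  decide +kernel

set_option maxRecDepth 1000000 in
theorem hiv23_ok : ((hchunk 27 IV.toList 23).all ivOK) = true := by
  decide +kernel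

set_option maxRecDepth 1000000 in
theorem hiv24_ok : ((hchunk 27 IV.toList 24).all ivOK) = true := by
  decide +kernel

set_option maxRecDepth 1000000 in
theorem hiv25_ok : ((hchunk 27 IV.toList 25).all ivOK) = true := by
  decide +kernel

set_option maxRecDepth 1000000 in
theorem hiv26_ok : ((hchunk 27 IV.toList 26).all ivOK) = true := by
  decide +kernel

end Cfsg.Agent.Lib.Helper19.J2O
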