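import Cfsg.Agent.Lib.Helper19.J2OCert5

/-!
# Certificates for the automorphisms of the Hall–Janko group on 315 points: the table of involutions, part 6

Generated by a script (helper19).
-/

set_option autoImplicit false
set_option Elab.async false

namespace Cfsg.Agent.Lib.Helper19.J2O

open Cfsg.Agent.Lib.Helper28.BSGS Cfsg.Agent.Lib.Helper19.J2OData
open Cfsg.Agent.Lib.Helper28.BSGSMat (Tree sortedB)

set_option maxRecDepth 1000000 in
theorem hiv45_ok : ((hchunk 27 IV.toList 45).all ivOK) = true := by
  decide +kernel

set_option maxRecDepth 1000000 in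
theorem hiv46_ok : ((hchunk 27 IV.toList 46).all ivOK) = true := by
  decide +kernel

set_option maxRecDepth 1000000 in
theorem hiv47_ok : ((hchunk 27 IV.toList 47).all ivOK) = true := by
  decide +kernel

set_option maxRecDepth 1000000 in
theorem hiv48_ok : ((hchunk 27 IV.toList 48).all ivOK) = true := by
  decide +kernel

set_option maxRecDepth 1000000 in
theorem hiv49_ok : ((hchunk 27 IV.toList 49).all ivOK) = true := by
  decide +kernel

set_option maxRecDepth 1000000 in
theorem hiv50_ok : ((hchunk 27 IV.toList 50).all ivOK) = true := by
  decide +kernel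

set_option maxRecDepth 1000000 in
theorem hiv51_ok : ((hchunk 27 IV.toList 51).all ivOK) = true := by
  decide +kernel

set_option maxRecDepth 1000000 in
theorem hiv52_ok : ((hchunk 27 IV.toList 52).all ivOK) = true := by
  decide +kernel

set_option maxRecDepth 1000000 in
theorem hiv53_ok : ((hchunk 27 IV.toList 53).all ivOK) = true := by
  decide +kernel

end Cfsg.Agent.Lib.Helper19.J2O
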