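import Cfsg.Agent.Lib.Helper19.J2OCert7

/-!
# Certificates for the automorphisms of the Hall–Janko group on 315 points: the table of involutions, part 8

Generated by a script (helper19).
-/

set_option autoImplicit false
set_option Elab.async false

namespace Cfsg.Agent.Lib.Helper19.J2O

open Cfsg.Agent.Lib.Helper28.BSGS Cfsg.Agent.Lib.Helper19.J2OData
open Cfsg.Agent.Lib.Helper28.BSGSMat (Tree sortedB)

set_option maxRecDepth 1000000 in
theorem hiv63_ok : ((hchunk 27 IV.toList 63).all ivOK) = true := by
  decide +kernel

set_option maxRecDepth 1000000 in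
theorem hiv64_ok : ((hchunk 27 IV.toList 64).all ivOK) = true := by
  decide +kernel

set_option maxRecDepth 1000000 in
theorem hiv65_ok : ((hchunk 27 IV.toList 65).all ivOK) = true := by
  decide +kernel

set_option maxRecDepth 1000000 in
theorem hiv66_ok : ((hchunk 27 IV.toList 66).all ivOK) = true := by
  decide +kernel

set_option maxRecDepth 1000000 in
theorem hiv67_ok : ((hchunk 27 IV.toList 67).all ivOK) = true := by
  decide +kernel

set_option maxRecDepth 1000000 in
theorem hiv68_ok : ((hchunk 27 IV.toList 68).all ivOK) = true := by
  decide +kernel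

set_option maxRecDepth 1000000 in
theorem hiv69_ok : ((hchunk 27 IV.toList 69).all ivOK) = true := by
  decide +kernel

set_option maxRecDepth 1000000 in
theorem hiv70_ok : ((hchunk 27 IV.toList 70).all ivOK) = true := by
  decide +kernel

set_option maxRecDepth 1000000 in
theorem hiv71_ok : ((hchunk 27 IV.toList 71).all ivOK) = true := by
  decide +kernel

end Cfsg.Agent.Lib.Helper19.J2O
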