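import Cfsg.Agent.Lib.Helper19.J2OCertA7

/-!
# Certificates for the automorphisms of the Hall–Janko group on 315 points: the Schreier–Sims chain

Generated by a script (helper19).
-/

set_option autoImplicit false
set_option Elab.async false

namespace Cfsg.Agent.Lib.Helper19.J2O

open Cfsg.Agent.Lib.Helper28.BSGS Cfsg.Agent.Lib.Helper19.J2OData
open Cfsg.Agent.Lib.Helper28.BSGSMat (Tree sortedB)

set_option maxRecDepth 1000000 in
theorem hlen0 : GENS.length = 8 := by
  decide +kernel

set_option maxRecDepth 1000000 in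
theorem hpre0 : levelPre GENS (0, htr0) = true := by
  decide +kernel

theorem hsift0 : ∀ i, i < 8 → siftGen (0, htr0) [(1, htr1), (4, htr2)] (GENS.getD i (0, 0)) = true := by
  intro i hi
  interval_cases i
  · exact hsift0_0
  · exact hsift0_1
  · exact hsift0_2
  · exact hsift0_3
  · exact hsift0_4
  · exact hsift0_5
  · exact hsift0_6
  · exact hsift0_7

set_option maxRecDepth 1000000 in
theorem hlen1 : (nextGens 9 GENS 0).length = 6 := by
  decide +kernel

set_option maxRecDepth 1000000 in
theorem hpre1 : levelPre (nextGens 9 GENS 0) (1, htr1) = true := by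
  decide +kernel

set_option maxRecDepth 1000000 in
theorem hsift1_0 : siftGen (1, htr1) [(4, htr2)] ((nextGens 9 GENS 0).getD 0 (0, 0)) = true := by
  decide +kernel

set_option maxRecDepth 1000000 in
theorem hsift1_1 : siftGen (1, htr1) [(4, htr2)] ((nextGens 9 GENS 0).getD 1 (0, 0)) = true := by
  decide +kernel

set_option maxRecDepth 1000000 in
theorem hsift1_2 : siftGen (1, htr1) [(4, htr2)] ((nextGens 9 GENS 0).getD 2 (0, 0)) = true := by
  decide +kernel

set_option maxRecDepth 1000000 in
theorem hsift1_3 : siftGen (1, htr1) [(4, htr2)] ((nextGens 9 GENS 0).getD 3 (0, 0)) = true := by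
  decide +kernel

set_option maxRecDepth 1000000 in
theorem hsift1_4 : siftGen (1, htr1) [(4, htr2)] ((nextGens 9 GENS 0).getD 4 (0, 0)) = true := by
  decide +kernel

set_option maxRecDepth 1000000 in
theorem hsift1_5 : siftGen (1, htr1) [(4, htr2)] ((nextGens 9 GENS 0).getD 5 (0, 0)) = true := by
  decide +kernel

theorem hsift1 : ∀ i, i < 6 → siftGen (1, htr1) [(4, htr2)] ((nextGens 9 GENS 0).getD i (0, 0)) = true := by
  intro i hi
  interval_cases i
  · exact hsift1_0
  · exact hsift1_1
  · exact hsift1_2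
  · exact hsift1_3
  · exact hsift1_4
  · exact hsift1_5

set_option maxRecDepth 1000000 in
theorem hlen2 : (nextGens 9 (nextGens 9 GENS 0) 1).length = 3 := by
  decide +kernel

set_option maxRecDepth 1000000 in
theorem hpre2 : levelPre (nextGens 9 (nextGens 9 GENS 0) 1) (4, htr2) = true := by
  decide +kernel

set_option maxRecDepth 1000000 in
theorem hsift2_0 : siftGen (4, htr2) [] ((nextGens 9 (nextGens 9 GENS 0) 1).getD 0 (0, 0)) = true := by
  decide +kernel

set_option maxRecDepth 1000000 in
theorem hsift2_1 : siftGen (4, htr2) [] ((nextGens 9 (nextGens 9 GENS 0) 1).getD 1 (0, 0)) = true := by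
  decide +kernel

set_option maxRecDepth 1000000 in
theorem hsift2_2 : siftGen (4, htr2) [] ((nextGens 9 (nextGens 9 GENS 0) 1).getD 2 (0, 0)) = true := by
  decide +kernel

theorem hsift2 : ∀ i, i < 3 → siftGen (4, htr2) [] ((nextGens 9 (nextGens 9 GENS 0) 1).getD i (0, 0)) = true := by
  intro i hi
  interval_cases i
  · exact hsift2_0
  · exact hsift2_1
  · exact hsift2_2

set_option maxRecDepth 1000000 in
theorem hlen3 : (nextGens 9 (nextGens 9 (nextGens 9 GENS 0) 1) 4).isEmpty = true := by
  decide +kernel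

theorem levels_eq : LEVELS = [(0, htr0), (1, htr1), (4, htr2)] := rfl

theorem levels_eq0 : ∃ rest, LEVELS = (B0, htr0) :: rest := ⟨_, rfl⟩

theorem chain_ok : checkChain 315 9 GENS LEVELS = true := by
  rw [levels_eq]
  refine checkChain_cons _ _ _ (levelOK_of _ _ _ 8 hlen0 hpre0 hsift0) ?_
  refine checkChain_cons _ _ _ (levelOK_of _ _ _ 6 hlen1 hpre1 hsift1) ?_
  refine checkChain_cons _ _ _ (levelOK_of _ _ _ 3 hlen2 hpre2 hsift2) ?_
  unfold checkChain
  exact hlen3

end Cfsg.Agent.Lib.Helper19.J2O
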