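import Cfsg.Agent.Lib.Helper19.J2OCertA2

/-!
# Certificates for the automorphisms of the Hall–Janko group on 315 points: the Schreier–Sims chain, first level, generator 3

Generated by a script (helper19).
-/

set_option autoImplicit false
set_option Elab.async false

namespace Cfsg.Agent.Lib.Helper19.J2O

open Cfsg.Agent.Lib.Helper28.BSGS Cfsg.Agent.Lib.Helper19.J2OData
open Cfsg.Agent.Lib.Helper28.BSGSMat (Tree sortedB)

set_option maxRecDepth 1000000 in
theorem hsift0_3 : siftGen (0, htr0) [(1, htr1), (4, htr2)] (GENS.getD 3 (0, 0)) = true := by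
  decide +kernel

end Cfsg.Agent.Lib.Helper19.J2O
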