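import Cfsg.Agent.Lib.Helper19.J2OCert0

/-!
# Certificates for the automorphisms of the Hall–Janko group on 315 points: the Sylow 2-subgroup

Generated by a script (helper19).
-/

set_option autoImplicit false
set_option Elab.async false

namespace Cfsg.Agent.Lib.Helper19.J2O

open Cfsg.Agent.Lib.Helper28.BSGS Cfsg.Agent.Lib.Helper19.J2OData
open Cfsg.Agent.Lib.Helper28.BSGSMat (Tree sortedB)

set_option maxRecDepth 1000000 in
theorem hst0_ok : ((hchunk 16 ST.toList 0).all stOK) = true := by
  decide +kernel

set_option maxRecDepth 1000000 in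
theorem hst1_ok : ((hchunk 16 ST.toList 1).all stOK) = true := by
  decide +kernel

set_option maxRecDepth 1000000 in
theorem hst2_ok : ((hchunk 16 ST.toList 2).all stOK) = true := by
  decide +kernel

set_option maxRecDepth 1000000 in
theorem hst3_ok : ((hchunk 16 ST.toList 3).all stOK) = true := by
  decide +kernel

set_option maxRecDepth 1000000 in
theorem hst4_ok : ((hchunk 16 ST.toList 4).all stOK) = true := by
  decide +kernel

set_option maxRecDepth 1000000 in
theorem hst5_ok : ((hchunk 16 ST.toList 5).all stOK) = true := by
  decide +kernel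

set_option maxRecDepth 1000000 in
theorem hst6_ok : ((hchunk 16 ST.toList 6).all stOK) = true := by
  decide +kernel

set_option maxRecDepth 1000000 in
theorem hst7_ok : ((hchunk 16 ST.toList 7).all stOK) = true := by
  decide +kernel

theorem hst_chunks : ∀ i, i < 8 → ((hchunk 16 ST.toList i).all stOK) = true := by
  intro i hi
  interval_cases i
  · exact hst0_ok
  · exact hst1_ok
  · exact hst2_ok
  · exact hst3_ok
  · exact hst4_ok
  · exact hst5_ok
  · exact hst6_ok
  · exact hst7_ok

theorem st_all : ∀ e ∈ ST.toList, stOK e = true :=
  all_of_hchunks (s := 16) (by norm_num) ST.toList stOK 8 (by rw [len_ST]) hst_chunks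

end Cfsg.Agent.Lib.Helper19.J2O
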