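import Cfsg.Agent.Lib.Helper19.J2OCertA
import Cfsg.Agent.Lib.Helper19.J2OCertC
import Cfsg.Agent.Lib.Helper19.J2OCert1
import Cfsg.Agent.Lib.Helper19.J2OCert2
import Cfsg.Agent.Lib.Helper19.J2OCert3
import Cfsg.Agent.Lib.Helper19.J2OCert4
import Cfsg.Agent.Lib.Helper19.J2OCert5
import Cfsg.Agent.Lib.Helper19.J2OCert6
import Cfsg.Agent.Lib.Helper19.J2OCert7
import Cfsg.Agent.Lib.Helper19.J2OCert8
import Cfsg.Agent.Lib.Helper19.J2OCert9
import Cfsg.Agent.Lib.Helper19.J2OCert10
import Cfsg.Agent.Lib.Helper19.J2OCert11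
import Cfsg.Agent.Lib.Helper19.J2OCert12

/-!
# Certificates for the automorphisms of the Hall–Janko group on 315 points: all entries of the table of involutions

Generated by a script (helper19).
-/

set_option autoImplicit false
set_option Elab.async false

namespace Cfsg.Agent.Lib.Helper19.J2O

open Cfsg.Agent.Lib.Helper28.BSGS Cfsg.Agent.Lib.Helper19.J2OData
open Cfsg.Agent.Lib.Helper28.BSGSMat (Tree sortedB)

set_option maxRecDepth 1000000 in
theorem st_idx : (ST.toList.all fun e => decide (e.2.2.2 / 1000 < 3)) = true := by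
  decide +kernel

set_option maxRecDepth 1000000 in
theorem len_SGL : SGL.length = 3 := by
  decide +kernel

set_option maxRecDepth 1000000 in
theorem tr0_all : ((List.range 315).all fun x => htr0.any fun e => Nat.beq e.1 x) = true := by
  decide +kernel

theorem hiv_chunks : ∀ i, i < 105 → ((hchunk 27 IV.toList i).all ivOK) = true := by
  intro i hi
  interval_cases i
  · exact hiv0_ok
  · exact hiv1_ok
  · exact hiv2_ok
  · exact hiv3_ok
  · exact hiv4_ok
  · exact hiv5_ok
  · exact hiv6_ok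
  · exact hiv7_ok
  · exact hiv8_ok
  · exact hiv9_ok
  · exact hiv10_ok
  · exact hiv11_ok
  · exact hiv12_ok
  · exact hiv13_ok
  · exact hiv14_ok
  · exact hiv15_ok
  · exact hiv16_ok
  · exact hiv17_ok
  · exact hiv18_ok
  · exact hiv19_ok
  · exact hiv20_ok
  · exact hiv21_ok
  · exact hiv22_ok
  · exact hiv23_ok
  · exact hiv24_ok
  · exact hiv25_ok
  · exact hiv26_ok
  · exact hiv27_ok
  · exact hiv28_ok
  · exact hiv29_ok
  · exact hiv30_ok
  · exact hiv31_ok
  · exact hiv32_ok
  · exact hiv33_ok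
  · exact hiv34_ok
  · exact hiv35_ok
  · exact hiv36_ok
  · exact hiv37_ok
  · exact hiv38_ok
  · exact hiv39_ok
  · exact hiv40_ok
  · exact hiv41_ok
  · exact hiv42_ok
  · exact hiv43_ok
  · exact hiv44_ok
  · exact hiv45_ok
  · exact hiv46_ok
  · exact hiv47_ok
  · exact hiv48_ok
  · exact hiv49_ok
  · exact hiv50_ok
  · exact hiv51_ok
  · exact hiv52_ok
  · exact hiv53_ok
  · exact hiv54_ok
  · exact hiv55_ok
  · exact hiv56_ok
  · exact hiv57_ok
  · exact hiv58_ok
  · exact hiv59_ok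
  · exact hiv60_ok
  · exact hiv61_ok
  · exact hiv62_ok
  · exact hiv63_ok
  · exact hiv64_ok
  · exact hiv65_ok
  · exact hiv66_ok
  · exact hiv67_ok
  · exact hiv68_ok
  · exact hiv69_ok
  · exact hiv70_ok
  · exact hiv71_ok
  · exact hiv72_ok
  · exact hiv73_ok
  · exact hiv74_ok
  · exact hiv75_ok
  · exact hiv76_ok
  · exact hiv77_ok
  · exact hiv78_ok
  · exact hiv79_ok
  · exact hiv80_ok
  · exact hiv81_ok
  · exact hiv82_ok
  · exact hiv83_ok
  · exact hiv84_ok
  · exact hiv85_ok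
  · exact hiv86_ok
  · exact hiv87_ok
  · exact hiv88_ok
  · exact hiv89_ok
  · exact hiv90_ok
  · exact hiv91_ok
  · exact hiv92_ok
  · exact hiv93_ok
  · exact hiv94_ok
  · exact hiv95_ok
  · exact hiv96_ok
  · exact hiv97_ok
  · exact hiv98_ok
  · exact hiv99_ok
  · exact hiv100_ok
  · exact hiv101_ok
  · exact hiv102_ok
  · exact hiv103_ok
  · exact hiv104_ok

theorem hiv_all : ∀ e ∈ IV.toList, ivOK e = true :=
  all_of_hchunks (s := 27) (by norm_num) IV.toList ivOK 105 (by rw [len_IV]) hiv_chunks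

end Cfsg.Agent.Lib.Helper19.J2O
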