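import Cfsg.Agent.Lib.Helper19.J2OData
import Cfsg.Agent.Lib.Helper11.IcoPermData

/-!
# The reflection tables of `J2OData` are the first four generators of helper11's `PD.gens`  (helper19)
-/

set_option autoImplicit false

namespace Cfsg.Agent.Lib.Helper19.J2O

open Cfsg.Agent.Lib.Helper19.J2OData

set_option maxRecDepth 1000000 in
theorem rtl_sub : ∀ t ∈ RTL, (t, t) ∈ Cfsg.Agent.Lib.Helper11.Ico.PD.gens := by
  decide +kernel

end Cfsg.Agent.Lib.Helper19.J2O
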