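import Cfsg.Agent.Lib.Helper19.J2OBridge
import Cfsg.Agent.Lib.Helper19.J2OLink
import Cfsg.Agent.Lib.Helper11.IcoPermCert

/-!
# `|Out| = 2` for helper11's certified degree-315 group  (helper19)

`out_card_PD` is the closed statement for `genGroup 315 9 PD.gens`; `out_card_of_equiv` transports it
to any group isomorphic to it (e.g. `Cfsg.Spor.J2` through helper16's `IcoFinal.J2Equiv`).
-/

set_option autoImplicit false

namespace Cfsg.Agent.Lib.Helper19.J2O

open Cfsg.Agent.Lib.Helper28.BSGS Cfsg.Agent.Lib.Helper11.Ico

/-- the outer automorphism group of helper11's certified permutation group of degree 315 and order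
604800 has order two -/
theorem out_card_PD : Nat.card (Cfsg.Out (genGroup 315 9 PD.gens)) = 2 :=
  out_card_genGroup PD.gens PD.gens_ok rtl_sub PD.card_genGroup

/-- any group isomorphic to the certified degree-315 group has outer automorphism group of order two -/
theorem out_card_of_equiv {G : Type*} [Group G] (e : G ≃* genGroup 315 9 PD.gens) :
    Nat.card (Cfsg.Out G) = 2 := by
  rw [out_card_congr' e]
  exact out_card_PD

end Cfsg.Agent.Lib.Helper19.J2O
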