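import Mathlib
import Cfsg.Agent.Lib.Helper7.L34Data
import Cfsg.Agent.Lib.Helper6.FFour
import Cfsg.Agent.Lib.Helper17.O73MultTR
import Cfsg.Agent.Lib.Helper1.WeakL11

/-!
# S2088 piece [B1] (helper19, for helper17 / helper7): transport of the `PSL₃(4)` data from the concrete field `K4`
to an arbitrary field `F : Type u` with four elements
-/

set_option autoImplicit false

namespace Cfsg.Agent.Lib.Helper7.L34

universe u

open Cfsg Cfsg.H5.TCk

namespace Helper19

/-- the isomorphism of special linear groups induced by an isomorphism of rings -/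
def slEquiv {n : Type} [Fintype n] [DecidableEq n] {R : Type*} {S : Type*} [CommRing R] [CommRing S]
    (e : R ≃+* S) : Matrix.SpecialLinearGroup n R ≃* Matrix.SpecialLinearGroup n S where
  toFun := Matrix.SpecialLinearGroup.map e.toRingHom
  invFun := Matrix.SpecialLinearGroup.map e.symm.toRingHom
  left_inv A := by
    apply Subtype.ext
    ext i j
    simp [Matrix.SpecialLinearGroup.map_apply_coe, RingHom.mapMatrix_apply]
  right_inv A := by
    apply Subtype.ext
    ext i j
    simp [Matrix.SpecialLinearGroup.map_apply_coe, RingHom.mapMatrix_apply]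
  map_mul' := map_mul _

/-- transport of generator data along an isomorphism of groups -/
theorem data_of_equiv {P : Type*} {Q : Type*} [Group P] [Group Q] (e : P ≃* Q)
    (rc r3 : List (List ℕ)) (wa wb : List ℕ)
    (hK : ∃ g h : ℕ → P,
      Subgroup.closure (Set.range fun i : Fin 4 => g i.val) = ⊤ ∧ (∀ r ∈ rc, ev g r = 1) ∧
      ev g wa = 1 ∧ ev g wb = 1 ∧
      Nat.card (Subgroup.closure (Set.range fun i : Fin 3 => h i.val)) = 72 ∧
      (∀ r ∈ r3, ev h r = 1)) :
    ∃ g h : ℕ → Q,
      Subgroup.closure (Set.range fun i : Fin 4 => g i.val) = ⊤ ∧ (∀ r ∈ rc, ev g r = 1) ∧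
      ev g wa = 1 ∧ ev g wb = 1 ∧
      Nat.card (Subgroup.closure (Set.range fun i : Fin 3 => h i.val)) = 72 ∧
      (∀ r ∈ r3, ev h r = 1) := by
  obtain ⟨g, h, hgen, hrc, hwa, hwb, hcard, hr3⟩ := hK
  have hev : ∀ (γ : ℕ → P) (w : List ℕ), ev γ w = 1 → ev (fun i => e (γ i)) w = 1 := by
    intro γ w hw
    have := Cfsg.H5.StemTC.map_ev (e : P →* Q) γ w
    rw [hw, map_one] at this
    exact this.symm
  refine ⟨fun i => e (g i), fun i => e (h i), ?_, fun r hr => hev g r (hrc r hr), hev g wa hwa,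
    hev g wb hwb, ?_, fun r hr => hev h r (hr3 r hr)⟩
  · have := Cfsg.Agent.Lib.Helper10.Weak.closure_map_range (e : P →* Q) g 4
    rw [hgen] at this
    show Subgroup.closure (Set.range fun i : Fin 4 => (e : P →* Q) (g i.val)) = ⊤
    rw [this, ← MonoidHom.range_eq_map, MonoidHom.range_eq_top]
    exact e.surjective
  · have := Cfsg.Agent.Lib.Helper10.Weak.closure_map_range (e : P →* Q) h 3
    show Nat.card (Subgroup.closure (Set.range fun i : Fin 3 => (e : P →* Q) (h i.val))) = 72
    rw [this, Subgroup.card_map_of_injective (show Function.Injective (e : P →* Q) from e.injective)]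
    exact hcard

end Helper19

/-- **[B1]** transport of the data from `PSL₃(K4)` to `PSL₃(F)` for a field `F` with four elements -/
theorem exists_l34_data_of_K4 {F : Type u} [Field F] [Fintype F] (hF : Fintype.card F = 4) (hK : ∃ g h : ℕ → Matrix.ProjectiveSpecialLinearGroup (Fin 3) Cfsg.Agent.Lib.Helper6.FFour.K4, Subgroup.closure (Set.range fun i : Fin 4 => g i.val) = ⊤ ∧ (∀ r ∈ relsCov, ev g r = 1) ∧ ev g wordKa = 1 ∧ ev g wordKb = 1 ∧ Nat.card (Subgroup.closure (Set.range fun i : Fin 3 => h i.val)) = 72 ∧ (∀ r ∈ rels3, ev h r = 1)) : ∃ g h : ℕ → Matrix.ProjectiveSpecialLinearGroup (Fin 3) F, Subgroup.closure (Set.range fun i : Fin 4 => g i.val) = ⊤ ∧ (∀ r ∈ relsCov, ev g r = 1) ∧ ev g wordKa = 1 ∧ ev g wordKb = 1 ∧ Nat.card (Subgroup.closure (Set.range fun i : Fin 3 => h i.val)) = 72 ∧ (∀ r ∈ rels3, ev h r = 1) := by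
  have hK4 : Fintype.card Cfsg.Agent.Lib.Helper6.FFour.K4 = 4 := by decide
  let e0 : Cfsg.Agent.Lib.Helper6.FFour.K4 ≃+* F :=
    FiniteField.ringEquivOfCardEq (hK4.trans hF.symm)
  obtain ⟨χ⟩ := Cfsg.Agent.Lib.Helper2.O73Mult.Helper17.nonempty_quot_center_equiv
    (Helper19.slEquiv (n := Fin 3) e0)
  exact Helper19.data_of_equiv χ relsCov rels3 wordKa wordKb hK

end Cfsg.Agent.Lib.Helper7.L34
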