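import Cfsg.Agent.Lib.Helper19.LawOPLUS

/-!
# S2355 farm, SPARE of piece [OMINUS]: `GL_m(F)` embeds in the isometry group of
`Σ x_i y_i + (z₁² + a z₁ z₂ + b z₂²)` via `g ↦ fromBlocks (fromBlocks g 0 0 (g⁻¹)ᵀ) 0 0 1`.
(helper17 holds the official piece; this one has a spare name.)
-/

set_option autoImplicit false

namespace Cfsg.Agent.Lib.Helper29.Law

open Matrix

namespace Helper19

/-- the block matrix `diag(g, (g⁻¹)ᵀ, 1₂)` as a monoid hom. -/
noncomputable def minusHom (F : Type*) [Field F] (m : ℕ) :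
    Matrix.GeneralLinearGroup (Fin m) F →*
      Matrix ((Fin m ⊕ Fin m) ⊕ Fin 2) ((Fin m ⊕ Fin m) ⊕ Fin 2) F where
  toFun g := Matrix.fromBlocks (blockHom F m g) 0 0 (1 : Matrix (Fin 2) (Fin 2) F)
  map_one' := by
    rw [map_one, Matrix.fromBlocks_one]
  map_mul' g h := by
    rw [Matrix.fromBlocks_multiply, map_mul]
    simp

theorem minusHom_apply (F : Type*) [Field F] (m : ℕ) (g : Matrix.GeneralLinearGroup (Fin m) F) :
    minusHom F m g = Matrix.fromBlocks (blockHom F m g) 0 0 (1 : Matrix (Fin 2) (Fin 2) F) := rfl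

theorem quadFormMinus_eq (F : Type*) [Field F] (m : ℕ) (a b : F)
    (v : (Fin m ⊕ Fin m) ⊕ Fin 2 → F) :
    Cfsg.quadFormMinus m F a b v
      = Cfsg.quadFormPlus m F (fun j => v (Sum.inl j))
        + (v (Sum.inr 0) ^ 2 + a * v (Sum.inr 0) * v (Sum.inr 1) + b * v (Sum.inr 1) ^ 2) := rfl

theorem quadFormMinus_minusHom (F : Type*) [Field F] (m : ℕ) (a b : F)
    (g : Matrix.GeneralLinearGroup (Fin m) F) (u : (Fin m ⊕ Fin m) ⊕ Fin 2 → F) :
    Cfsg.quadFormMinus m F a b (minusHom F m g *ᵥ u) = Cfsg.quadFormMinus m F a b u := by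
  rw [quadFormMinus_eq, quadFormMinus_eq, minusHom_apply]
  have h := quadFormPlus_blockHom F m g (fun j => u (Sum.inl j))
  rw [← h]
  have e := Matrix.fromBlocks_mulVec (blockHom F m g) 0 0 (1 : Matrix (Fin 2) (Fin 2) F) u
  have e0 : ∀ k : Fin 2, (Matrix.fromBlocks (blockHom F m g) 0 0 (1 : Matrix (Fin 2) (Fin 2) F)
      *ᵥ u) (Sum.inr k) = u (Sum.inr k) := by
    intro k
    have := congrFun e (Sum.inr k)
    rw [this]
    simp [Function.comp_def]
  rw [e0 0, e0 1]
  congr 2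
  funext j
  have := congrFun e (Sum.inl j)
  rw [this]
  simp [Function.comp_def]

theorem minusHom_injective (F : Type*) [Field F] (m : ℕ) :
    Function.Injective (minusHom F m) := by
  intro g h hgh
  rw [minusHom_apply, minusHom_apply, Matrix.fromBlocks_inj] at hgh
  exact blockHom_injective F m hgh.1

/-- SPARE of [OMINUS] (exact skeleton statement). -/
theorem exists_GL_to_isomMinus_spare (F : Type*) [Field F] (m : ℕ) (a b : F) :
    ∃ φ : Matrix.GeneralLinearGroup (Fin m) F →* Cfsg.isometryGroup F (Cfsg.quadFormMinus m F a b),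
      Function.Injective φ := by
  refine ⟨MonoidHom.codRestrict (minusHom F m).toHomUnits _ ?_, ?_⟩
  · intro g u v
    show Cfsg.quadFormMinus m F a b
      ((((minusHom F m).toHomUnits g :
          (Matrix ((Fin m ⊕ Fin m) ⊕ Fin 2) ((Fin m ⊕ Fin m) ⊕ Fin 2) F)ˣ) :
        Matrix ((Fin m ⊕ Fin m) ⊕ Fin 2) ((Fin m ⊕ Fin m) ⊕ Fin 2) F) *ᵥ u)
        = Cfsg.quadFormMinus m F a b u
    rw [MonoidHom.coe_toHomUnits]
    exact quadFormMinus_minusHom F m a b g u
  · intro g h hgh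
    have h1 := congrArg (fun x : Cfsg.isometryGroup F (Cfsg.quadFormMinus m F a b) =>
      ((x : Matrix.GeneralLinearGroup ((Fin m ⊕ Fin m) ⊕ Fin 2) F) :
        Matrix ((Fin m ⊕ Fin m) ⊕ Fin 2) ((Fin m ⊕ Fin m) ⊕ Fin 2) F)) hgh
    exact minusHom_injective F m h1

end Helper19

end Cfsg.Agent.Lib.Helper29.Law
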