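import Cfsg.Agent.Lib.Helper19.LawOPLUS

/-!
# S2355 farm, piece [OODD]: `GL_m(F)` embeds in the isometry group of `x₀² + Σ x_i y_i`
via `g ↦ fromBlocks 1 0 0 (fromBlocks g 0 0 (g⁻¹)ᵀ)`.
-/

set_option autoImplicit false

namespace Cfsg.Agent.Lib.Helper29.Law

open Matrix

namespace Helper19

/-- the block matrix `diag(1, g, (g⁻¹)ᵀ)` as a monoid hom. -/
noncomputable def oddHom (F : Type*) [Field F] (m : ℕ) :
    Matrix.GeneralLinearGroup (Fin m) F →*
      Matrix (Unit ⊕ (Fin m ⊕ Fin m)) (Unit ⊕ (Fin m ⊕ Fin m)) F where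
  toFun g := Matrix.fromBlocks (1 : Matrix Unit Unit F) 0 0 (blockHom F m g)
  map_one' := by
    rw [map_one, Matrix.fromBlocks_one]
  map_mul' g h := by
    rw [Matrix.fromBlocks_multiply, map_mul]
    simp

theorem oddHom_apply (F : Type*) [Field F] (m : ℕ) (g : Matrix.GeneralLinearGroup (Fin m) F) :
    oddHom F m g = Matrix.fromBlocks (1 : Matrix Unit Unit F) 0 0 (blockHom F m g) := rfl

theorem quadFormOdd_eq (F : Type*) [Field F] (m : ℕ) (v : Unit ⊕ (Fin m ⊕ Fin m) → F) :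
    Cfsg.quadFormOdd m F v
      = v (Sum.inl ()) ^ 2 + Cfsg.quadFormPlus m F (fun j => v (Sum.inr j)) := rfl

theorem quadFormOdd_oddHom (F : Type*) [Field F] (m : ℕ)
    (g : Matrix.GeneralLinearGroup (Fin m) F) (u : Unit ⊕ (Fin m ⊕ Fin m) → F) :
    Cfsg.quadFormOdd m F (oddHom F m g *ᵥ u) = Cfsg.quadFormOdd m F u := by
  rw [quadFormOdd_eq, quadFormOdd_eq, oddHom_apply]
  have h := quadFormPlus_blockHom F m g (fun j => u (Sum.inr j))
  rw [← h]
  have e := Matrix.fromBlocks_mulVec (1 : Matrix Unit Unit F) 0 0 (blockHom F m g) u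
  congr 2
  · have := congrFun e (Sum.inl ())
    rw [this]
    simp [Function.comp_def]
  · funext j
    have := congrFun e (Sum.inr j)
    rw [this]
    simp [Function.comp_def]

theorem oddHom_injective (F : Type*) [Field F] (m : ℕ) :
    Function.Injective (oddHom F m) := by
  intro g h hgh
  rw [oddHom_apply, oddHom_apply, Matrix.fromBlocks_inj] at hgh
  exact blockHom_injective F m hgh.2.2.2

end Helper19

/-- [OODD] `g ↦ fromBlocks 1 0 0 (fromBlocks g 0 0 (g⁻¹)ᵀ)` preserves `x₀² + Σ x_i y_i`. -/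
theorem exists_GL_to_isomOdd (F : Type*) [Field F] (m : ℕ) :
    ∃ φ : Matrix.GeneralLinearGroup (Fin m) F →* Cfsg.isometryGroup F (Cfsg.quadFormOdd m F),
      Function.Injective φ := by
  refine ⟨MonoidHom.codRestrict (Helper19.oddHom F m).toHomUnits _ ?_, ?_⟩
  · intro g u v
    show Cfsg.quadFormOdd m F
      ((((Helper19.oddHom F m).toHomUnits g :
          (Matrix (Unit ⊕ (Fin m ⊕ Fin m)) (Unit ⊕ (Fin m ⊕ Fin m)) F)ˣ) :
        Matrix (Unit ⊕ (Fin m ⊕ Fin m)) (Unit ⊕ (Fin m ⊕ Fin m)) F) *ᵥ u)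
        = Cfsg.quadFormOdd m F u
    rw [MonoidHom.coe_toHomUnits]
    exact Helper19.quadFormOdd_oddHom F m g u
  · intro g h hgh
    have h1 := congrArg (fun x : Cfsg.isometryGroup F (Cfsg.quadFormOdd m F) =>
      ((x : Matrix.GeneralLinearGroup (Unit ⊕ (Fin m ⊕ Fin m)) F) :
        Matrix (Unit ⊕ (Fin m ⊕ Fin m)) (Unit ⊕ (Fin m ⊕ Fin m)) F)) hgh
    exact Helper19.oddHom_injective F m h1

end Cfsg.Agent.Lib.Helper29.Law
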