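import Cfsg.Agent.Lib.Helper29.Law.Defs
import Cfsg.Prelude.Def_Classical

/-!
# S2355 farm, piece [OPLUS]: `GL_m(F)` embeds in the isometry group of `Σ x_i y_i`
via `g ↦ fromBlocks g 0 0 (g⁻¹)ᵀ`.
-/

set_option autoImplicit false

namespace Cfsg.Agent.Lib.Helper29.Law

open Matrix

namespace Helper19

/-- the block matrix `diag(g, (g⁻¹)ᵀ)` as a monoid hom `GL_m(F) →* M_{2m}(F)`. -/
noncomputable def blockHom (F : Type*) [Field F] (m : ℕ) :
    Matrix.GeneralLinearGroup (Fin m) F →* Matrix (Fin m ⊕ Fin m) (Fin m ⊕ Fin m) F where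
  toFun g := Matrix.fromBlocks (g : Matrix (Fin m) (Fin m) F) 0 0
    (((g⁻¹ : Matrix.GeneralLinearGroup (Fin m) F) : Matrix (Fin m) (Fin m) F))ᵀ
  map_one' := by
    simp [Matrix.fromBlocks_one]
  map_mul' g h := by
    rw [Matrix.fromBlocks_multiply]
    simp [Matrix.transpose_mul]

theorem blockHom_apply (F : Type*) [Field F] (m : ℕ) (g : Matrix.GeneralLinearGroup (Fin m) F) :
    blockHom F m g = Matrix.fromBlocks (g : Matrix (Fin m) (Fin m) F) 0 0
      (((g⁻¹ : Matrix.GeneralLinearGroup (Fin m) F) : Matrix (Fin m) (Fin m) F))ᵀ := rfl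

/-- the key identity `(g x) ⬝ ((g⁻¹)ᵀ y) = x ⬝ y`. -/
theorem dot_block (F : Type*) [Field F] (m : ℕ) (g : Matrix.GeneralLinearGroup (Fin m) F)
    (x y : Fin m → F) :
    ((g : Matrix (Fin m) (Fin m) F) *ᵥ x) ⬝ᵥ
      ((((g⁻¹ : Matrix.GeneralLinearGroup (Fin m) F) : Matrix (Fin m) (Fin m) F))ᵀ *ᵥ y)
      = x ⬝ᵥ y := by
  rw [Matrix.mulVec_transpose, dotProduct_comm, Matrix.dotProduct_mulVec, Matrix.vecMul_vecMul,
    ← Matrix.GeneralLinearGroup.coe_mul, inv_mul_cancel, dotProduct_comm]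
  simp

/-- the plus form is `x ⬝ y`. -/
theorem quadFormPlus_eq_dot (F : Type*) [Field F] (m : ℕ) (v : Fin m ⊕ Fin m → F) :
    Cfsg.quadFormPlus m F v = (fun i => v (Sum.inl i)) ⬝ᵥ (fun i => v (Sum.inr i)) := rfl

theorem quadFormPlus_blockHom (F : Type*) [Field F] (m : ℕ)
    (g : Matrix.GeneralLinearGroup (Fin m) F) (u : Fin m ⊕ Fin m → F) :
    Cfsg.quadFormPlus m F (blockHom F m g *ᵥ u) = Cfsg.quadFormPlus m F u := by
  rw [quadFormPlus_eq_dot, quadFormPlus_eq_dot, blockHom_apply]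
  have h := dot_block F m g (fun i => u (Sum.inl i)) (fun i => u (Sum.inr i))
  rw [← h]
  congr 1
  · funext i
    have := congrFun (Matrix.fromBlocks_mulVec (g : Matrix (Fin m) (Fin m) F) 0 0
      (((g⁻¹ : Matrix.GeneralLinearGroup (Fin m) F) : Matrix (Fin m) (Fin m) F))ᵀ u) (Sum.inl i)
    rw [this]
    simp [Function.comp_def]
  · funext i
    have := congrFun (Matrix.fromBlocks_mulVec (g : Matrix (Fin m) (Fin m) F) 0 0
      (((g⁻¹ : Matrix.GeneralLinearGroup (Fin m) F) : Matrix (Fin m) (Fin m) F))ᵀ u) (Sum.inr i)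
    rw [this]
    simp [Function.comp_def]

theorem blockHom_injective (F : Type*) [Field F] (m : ℕ) :
    Function.Injective (blockHom F m) := by
  intro g h hgh
  rw [blockHom_apply, blockHom_apply, Matrix.fromBlocks_inj] at hgh
  exact Units.ext hgh.1

end Helper19

/-- [OPLUS] `g ↦ fromBlocks g 0 0 (g⁻¹)ᵀ` preserves `Σ x_i y_i`. -/
theorem exists_GL_to_isomPlus (F : Type*) [Field F] (m : ℕ) :
    ∃ φ : Matrix.GeneralLinearGroup (Fin m) F →* Cfsg.isometryGroup F (Cfsg.quadFormPlus m F),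
      Function.Injective φ := by
  refine ⟨MonoidHom.codRestrict (Helper19.blockHom F m).toHomUnits _ ?_, ?_⟩
  · intro g u v
    show Cfsg.quadFormPlus m F
      ((((Helper19.blockHom F m).toHomUnits g : (Matrix (Fin m ⊕ Fin m) (Fin m ⊕ Fin m) F)ˣ) :
        Matrix (Fin m ⊕ Fin m) (Fin m ⊕ Fin m) F) *ᵥ u) = Cfsg.quadFormPlus m F u
    rw [MonoidHom.coe_toHomUnits]
    exact Helper19.quadFormPlus_blockHom F m g u
  · intro g h hgh
    have h1 := congrArg (fun x : Cfsg.isometryGroup F (Cfsg.quadFormPlus m F) =>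
      ((x : Matrix.GeneralLinearGroup (Fin m ⊕ Fin m) F) :
        Matrix (Fin m ⊕ Fin m) (Fin m ⊕ Fin m) F)) hgh
    exact Helper19.blockHom_injective F m h1

end Cfsg.Agent.Lib.Helper29.Law
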