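import Cfsg.Agent.Lib.Helper6.M22MultCoverDefs
import Cfsg.Agent.Lib.Helper6.M22MultRelet
import Cfsg.Prelude.Def_KGroupFacts

/-!
# S2036-[G3] (helper19, for helper6's front): the two-level Todd–Coxeter bound

`Γ` over `K = ⟨γ (φ i) : i < t2⟩` (first certificate) and `K` over `⟨γ (φ j0)⟩` (second certificate, in the letters
of `K`), both through helper5's `card_le_of_bound`.
-/

set_option autoImplicit false
set_option linter.unusedVariables false

namespace Cfsg.Agent.Lib.Helper6.M22Mult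

open Cfsg Cfsg.H5.TCk

namespace Helper19G3

variable {Γ : Type*} [Group Γ]

/-- the generators of the subgroup level as elements of the subgroup -/
noncomputable def sub (γ : ℕ → Γ) (K : Subgroup Γ) (t2 : ℕ) (φ : ℕ → ℕ) (i : ℕ) : ↥K := by
  classical
  exact if h : i < t2 ∧ γ (φ i) ∈ K then ⟨γ (φ i), h.2⟩ else 1

theorem sub_val (γ : ℕ → Γ) (K : Subgroup Γ) (t2 : ℕ) (φ : ℕ → ℕ) (hK : ∀ i < t2, γ (φ i) ∈ K) (i : ℕ)
    (hi : i < t2) : ((sub γ K t2 φ i : ↥K) : Γ) = γ (φ i) := by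
  unfold sub
  rw [dif_pos ⟨hi, hK i hi⟩]

theorem gl_relet (γ : ℕ → Γ) (K : Subgroup Γ) (t2 : ℕ) (φ : ℕ → ℕ) (hK : ∀ i < t2, γ (φ i) ∈ K) (l : ℕ)
    (hl : l < 2 * t2) : ((gl (sub γ K t2 φ) l : ↥K) : Γ) = gl γ (2 * φ (l / 2) + l % 2) := by
  have h2 : l / 2 < t2 := by omega
  unfold gl
  have e1 : (2 * φ (l / 2) + l % 2) % 2 = l % 2 := by omega
  have e2 : (2 * φ (l / 2) + l % 2) / 2 = φ (l / 2) := by omega
  rw [e1, e2]
  by_cases h : l % 2 = 0
  · rw [if_pos h, if_pos h, sub_val γ K t2 φ hK _ h2]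
  · rw [if_neg h, if_neg h, Subgroup.coe_inv, sub_val γ K t2 φ hK _ h2]

theorem ev_relet (γ : ℕ → Γ) (K : Subgroup Γ) (t2 : ℕ) (φ : ℕ → ℕ) (hK : ∀ i < t2, γ (φ i) ∈ K) (w : List ℕ)
    (hw : ∀ l ∈ w, l < 2 * t2) : ((ev (sub γ K t2 φ) w : ↥K) : Γ) = ev γ (relet φ w) := by
  induction w with
  | nil => rfl
  | cons l w ih =>
    have h1 := gl_relet γ K t2 φ hK l (hw l List.mem_cons_self)
    have h2 := ih fun l' hl' => hw l' (List.mem_cons_of_mem _ hl')
    show ((gl (sub γ K t2 φ) l * ev (sub γ K t2 φ) w : ↥K) : Γ) = _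
    rw [Subgroup.coe_mul, h1, h2]
    rfl

theorem ev_single (γ : ℕ → Γ) (i : ℕ) : ev γ [2 * i] = γ i := by
  show gl γ (2 * i) * 1 = γ i
  rw [mul_one, gl_even]

end Helper19G3

open Helper19G3

/-- **[G3]** two coset enumerations: `Γ` over `K = ⟨γ (φ i) : i < t2⟩` (certificate 1, all its subgroup
words are single letters `2 * φ i`) and `K` over `⟨γ (φ j0)⟩` (certificate 2, in the letters of `K`,
single subgroup word `[2 * j0]`) -/
theorem card_le_two_level {Γ : Type*} [Group Γ] (γ : ℕ → Γ) (R : List (List ℕ))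
    (hrel : ∀ r ∈ R, ev γ r = 1)
    (t : ℕ) (hgen : Subgroup.closure (Set.range fun i : Fin t => γ i.val) = ⊤)
    (dec1 : ℕ → Cfsg.Agent.Helper4.TC.Letter (Fin t))
    (hdec1 : Cfsg.Agent.Lib.Helper5.Sp62.IsStd t dec1)
    (bases1 subs1 : List (List ℕ)) (n1 : ℕ)
    (hb1 : Finite (PresentedGroup (Cfsg.Agent.Helper4.TC.relSet dec1 bases1) ⧸
        (Subgroup.closure (Cfsg.Agent.Helper4.TC.relSet dec1 subs1)).map
          (PresentedGroup.mk (Cfsg.Agent.Helper4.TC.relSet dec1 bases1))) ∧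
      Nat.card (PresentedGroup (Cfsg.Agent.Helper4.TC.relSet dec1 bases1) ⧸
        (Subgroup.closure (Cfsg.Agent.Helper4.TC.relSet dec1 subs1)).map
          (PresentedGroup.mk (Cfsg.Agent.Helper4.TC.relSet dec1 bases1))) ≤ n1)
    (hok1 : bases1.all (okWord R) = true)
    (hlb1 : lettersLt (2 * t) bases1 = true) (hls1 : lettersLt (2 * t) subs1 = true)
    (t2 : ℕ) (φ : ℕ → ℕ) (hφ : ∀ i < t2, φ i < t)
    (hsub1 : ∀ s ∈ subs1, ∃ i < t2, s = [2 * φ i])
    (hK : ∀ i < t2, γ (φ i) ∈ Subgroup.closure {x : Γ | ∃ s ∈ subs1, x = ev γ s})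
    (dec2 : ℕ → Cfsg.Agent.Helper4.TC.Letter (Fin t2))
    (hdec2 : Cfsg.Agent.Lib.Helper5.Sp62.IsStd t2 dec2)
    (bases2 : List (List ℕ)) (j0 : ℕ) (hj0 : j0 < t2) (n2 : ℕ)
    (hb2 : Finite (PresentedGroup (Cfsg.Agent.Helper4.TC.relSet dec2 bases2) ⧸
        (Subgroup.closure (Cfsg.Agent.Helper4.TC.relSet dec2 [[2 * j0]])).map
          (PresentedGroup.mk (Cfsg.Agent.Helper4.TC.relSet dec2 bases2))) ∧
      Nat.card (PresentedGroup (Cfsg.Agent.Helper4.TC.relSet dec2 bases2) ⧸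
        (Subgroup.closure (Cfsg.Agent.Helper4.TC.relSet dec2 [[2 * j0]])).map
          (PresentedGroup.mk (Cfsg.Agent.Helper4.TC.relSet dec2 bases2))) ≤ n2)
    (hok2 : (bases2.map (relet φ)).all (okWord R) = true)
    (hlb2 : lettersLt (2 * t2) bases2 = true)
    (o : ℕ) (ho : 0 < o) (hpow : γ (φ j0) ^ o = 1) :
    Finite Γ ∧ Nat.card Γ ≤ n1 * (n2 * o) := by
  classical
  set K : Subgroup Γ := Subgroup.closure {x : Γ | ∃ s ∈ subs1, x = ev γ s} with hKdef
  set γ2 : ℕ → ↥K := sub γ K t2 φ with hγ2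
  have hval : ∀ i < t2, ((γ2 i : ↥K) : Γ) = γ (φ i) := fun i hi => sub_val γ K t2 φ hK i hi
  -- the generators of the subgroup level generate `K`
  have hgen2 : Subgroup.closure (Set.range fun i : Fin t2 => γ2 i.val) = ⊤ := by
    set S2 : Subgroup ↥K := Subgroup.closure (Set.range fun i : Fin t2 => γ2 i.val) with hS2
    have hle : K ≤ S2.map K.subtype := by
      show Subgroup.closure {x : Γ | ∃ s ∈ subs1, x = ev γ s} ≤ S2.map K.subtype
      rw [Subgroup.closure_le]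
      rintro x ⟨s, hs, rfl⟩
      obtain ⟨i, hi, rfl⟩ := hsub1 s hs
      rw [ev_single]
      refine ⟨γ2 i, Subgroup.subset_closure ⟨⟨i, hi⟩, rfl⟩, ?_⟩
      exact hval i hi
    rw [eq_top_iff]
    intro k _
    obtain ⟨k', hk', hkk⟩ := hle k.2
    have : k' = k := Subtype.ext hkk
    rw [← this]
    exact hk'
  -- the relators of the second level hold
  have hlb2' := lt_of_lettersLt hlb2
  have hrel2 : ∀ b ∈ bases2, ev γ2 b = 1 := by
    intro b hb
    apply Subtype.ext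
    rw [hγ2, ev_relet γ K t2 φ hK b (hlb2' b hb), Subgroup.coe_one]
    apply ev_of_ok γ R hrel
    rw [List.all_eq_true] at hok2
    exact hok2 _ (List.mem_map_of_mem hb)
  -- the cyclic subgroup at the bottom
  have hpow2 : γ2 j0 ^ o = 1 := by
    apply Subtype.ext
    rw [Subgroup.coe_pow, hval j0 hj0, hpow, Subgroup.coe_one]
  have hfo : IsOfFinOrder (γ2 j0) := isOfFinOrder_iff_pow_eq_one.mpr ⟨o, ho, hpow2⟩
  have hfz : Finite ↥(Subgroup.zpowers (γ2 j0)) := hfo.finite_zpowers.to_subtype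
  have hcz : Nat.card ↥(Subgroup.zpowers (γ2 j0)) ≤ o := by
    rw [Nat.card_zpowers]
    exact orderOf_le_of_pow_eq_one ho hpow2
  have hls2 : ∀ b ∈ [[2 * j0]], ∀ l ∈ b, l < 2 * t2 := by
    intro b hb l hl
    rw [List.mem_singleton] at hb
    subst hb
    rw [List.mem_singleton] at hl
    omega
  have hlev2 := Cfsg.Agent.Lib.Helper5.Sp62.card_le_of_bound dec2 hdec2 bases2 [[2 * j0]] n2 hb2 hlb2' hls2
    γ2 hrel2 hgen2 (Subgroup.zpowers (γ2 j0)) (by
      intro s hs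
      rw [List.mem_singleton] at hs
      subst hs
      rw [ev_single]
      exact Subgroup.mem_zpowers _)
  obtain ⟨hfinK, hcardK⟩ := hlev2
  have hfK : Finite ↥K := hfinK
  have hrel1 : ∀ b ∈ bases1, ev γ b = 1 := by
    intro b hb
    apply ev_of_ok γ R hrel
    rw [List.all_eq_true] at hok1
    exact hok1 b hb
  have hlev1 := Cfsg.Agent.Lib.Helper5.Sp62.card_le_of_bound dec1 hdec1 bases1 subs1 n1 hb1
    (lt_of_lettersLt hlb1) (lt_of_lettersLt hls1) γ hrel1 hgen K (by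
      intro s hs
      exact Subgroup.subset_closure ⟨s, hs, rfl⟩)
  obtain ⟨hfinΓ, hcardΓ⟩ := hlev1
  refine ⟨hfinΓ, le_trans hcardΓ (Nat.mul_le_mul_left _ (le_trans hcardK (Nat.mul_le_mul_left _ hcz)))⟩

end Cfsg.Agent.Lib.Helper6.M22Mult
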