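import Mathlib
import Cfsg.Agent.Lib.Helper19.NilCover

set_option autoImplicit false

namespace Cfsg.Agent.Lib.Helper19.NilCover2

open Cfsg.Agent.Lib.Helper19.NilCover

/-! Symmetric and alternating groups have no nilpotent minimal cover (for S3892). -/

/-- Core contradiction: an element of prime order generating a Sylow subgroup, a proper subgroup
containing its centralizer, and an element of that subgroup not normalizing it. -/
theorem no_cover_core {G : Type*} [Group G] [Finite G] {𝓐 : Finset (Subgroup G)} (hc : Cov 𝓐)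
    {p : ℕ} [Fact p.Prime] (σ : G) (hσ : orderOf σ = p) (hp2 : ¬ p ^ 2 ∣ Nat.card G)
    (M : Subgroup G) (hM : M ≠ ⊤) (hCM : ∀ g : G, g * σ = σ * g → g ∈ M)
    (m : G) (hm : m ∈ M) (hnc : ∀ τ : G, m * σ = τ * m → τ * σ ≠ σ * τ) : False := by
  have hp := (Fact.out : p.Prime)
  have hpg : IsPGroup p (Subgroup.zpowers σ) :=
    isPGroup_zpowers_of_pow_eq_one σ 1 (by rw [pow_one, ← hσ]; exact pow_orderOf_eq_one σ)
  obtain ⟨P, hP⟩ := hpg.exists_le_sylow
  have hcardP : Nat.card ↥(P : Subgroup G) = p := by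
    have h1 := P.card_eq_multiplicity
    have h2 : (Nat.card G).factorization p < 2 := by
      by_contra h
      exact hp2 ((hp.pow_dvd_iff_le_factorization Nat.card_pos.ne').mpr (by omega))
    have h3 : p ∣ Nat.card ↥(P : Subgroup G) := by
      have := Subgroup.card_dvd_of_le hP
      rwa [Nat.card_zpowers, hσ] at this
    have h4 : (Nat.card G).factorization p ≠ 0 := by
      intro h0
      rw [h1, h0, pow_zero] at h3
      exact hp.one_lt.ne' (Nat.dvd_one.mp h3)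
    have h5 : (Nat.card G).factorization p = 1 := by omega
    rw [h1, h5, pow_one]
  have hPeq : Subgroup.zpowers σ = (P : Subgroup G) :=
    Subgroup.eq_of_le_of_card_ge hP (by rw [hcardP, Nat.card_zpowers, hσ])
  have hσP : σ ∈ (P : Subgroup G) := hP (Subgroup.mem_zpowers σ)
  have hgen : ∀ y ∈ (P : Subgroup G), y ∈ Subgroup.zpowers σ := fun y hy => by
    rw [hPeq]; exact hy
  have hσ1 : σ ≠ 1 := by
    intro h
    rw [h, orderOf_one] at hσ
    exact hp.one_lt.ne hσ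
  have hH : Hyp P := by
    refine ⟨?_, Or.inl ⟨σ, hσP, hgen⟩, σ, hσP, hσ1⟩
    intro a ha b hb
    obtain ⟨i, rfl⟩ := Subgroup.mem_zpowers_iff.mp (hgen a ha)
    obtain ⟨j, rfl⟩ := Subgroup.mem_zpowers_iff.mp (hgen b hb)
    exact ((Commute.refl σ).zpow_zpow i j).eq
  have hCM' : Subgroup.centralizer ((P : Subgroup G) : Set G) ≤ M := by
    intro g hg
    apply hCM
    exact (Subgroup.mem_centralizer_iff.mp hg σ hσP).symm
  have hMN := le_normalizer_of_centralizer_le hc P hH M hM hCM'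
  have hmN := hMN hm
  have h6 : m * σ * m⁻¹ ∈ (P : Subgroup G) :=
    (Subgroup.mem_normalizer_iff.mp hmN σ).mp hσP
  obtain ⟨i, hi⟩ := Subgroup.mem_zpowers_iff.mp (hgen _ h6)
  apply hnc (m * σ * m⁻¹) (by group)
  rw [← hi]
  exact ((Commute.refl σ).zpow_left i).eq

theorem perm_center_eq_bot (n : ℕ) (hn : 3 ≤ n) :
    Subgroup.center (Equiv.Perm (Fin n)) = ⊥ := by
  rw [Subgroup.eq_bot_iff_forall]
  intro z hz
  by_contra hz1
  obtain ⟨a, ha⟩ : ∃ a, z a ≠ a := by
    by_contra hcon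
    apply hz1
    refine Equiv.Perm.ext fun x => ?_
    by_contra hx
    exact hcon ⟨x, hx⟩
  obtain ⟨c, hca, hcb⟩ : ∃ c, c ≠ a ∧ c ≠ z a := by
    by_contra hcon
    have hsub : (Finset.univ : Finset (Fin n)) ⊆ {a, z a} := by
      intro c _
      by_contra hc
      simp only [Finset.mem_insert, Finset.mem_singleton, not_or] at hc
      exact hcon ⟨c, hc.1, hc.2⟩
    have h1 := Finset.card_le_card hsub
    rw [Finset.card_univ, Fintype.card_fin] at h1
    have h2 : ({a, z a} : Finset (Fin n)).card ≤ 2 := Finset.card_le_two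
    omega
  have h := Subgroup.mem_center_iff.mp hz (Equiv.swap (z a) c)
  have h2 := DFunLike.congr_fun h a
  rw [Equiv.Perm.mul_apply, Equiv.Perm.mul_apply, Equiv.swap_apply_left,
    Equiv.swap_apply_of_ne_of_ne (Ne.symm ha) (Ne.symm hca)] at h2
  exact hcb h2

/-- The subgroup of permutations preserving the support of `s`. -/
def suppStab {α : Type*} (s : Equiv.Perm α) : Subgroup (Equiv.Perm α) where
  carrier := {g | ∀ x, s x ≠ x ↔ s (g x) ≠ g x}
  one_mem' := fun _ => Iff.rfl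
  mul_mem' := fun {a b} ha hb x => (hb x).trans (ha (b x))
  inv_mem' := fun {a} ha x => by
    have h := ha (a⁻¹ x)
    have e : a (a⁻¹ x) = x := a.apply_symm_apply x
    rw [e] at h
    exact h.symm

theorem mem_suppStab {α : Type*} (s g : Equiv.Perm α) :
    g ∈ suppStab s ↔ ∀ x, s x ≠ x ↔ s (g x) ≠ g x := Iff.rfl

theorem commute_mem_suppStab {α : Type*} (s t : Equiv.Perm α) (h : t * s = s * t) :
    t ∈ suppStab s := by
  rw [mem_suppStab]
  intro x
  have hts : s (t x) = t (s x) := (DFunLike.congr_fun h x).symm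
  rw [hts]
  exact (t.injective.ne_iff).symm

theorem three_cycle_apply {α : Type*} [DecidableEq α] {a b d : α} (hab : a ≠ b) (had : a ≠ d)
    (hbd : b ≠ d) :
    (Equiv.swap a b * Equiv.swap b d) a = b ∧ (Equiv.swap a b * Equiv.swap b d) b = d ∧
    (Equiv.swap a b * Equiv.swap b d) d = a ∧
    ∀ x, x ≠ a → x ≠ b → x ≠ d → (Equiv.swap a b * Equiv.swap b d) x = x := by
  refine ⟨?_, ?_, ?_, ?_⟩
  · rw [Equiv.Perm.mul_apply, Equiv.swap_apply_of_ne_of_ne hab had, Equiv.swap_apply_left]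
  · rw [Equiv.Perm.mul_apply, Equiv.swap_apply_left,
      Equiv.swap_apply_of_ne_of_ne had.symm hbd.symm]
  · rw [Equiv.Perm.mul_apply, Equiv.swap_apply_right, Equiv.swap_apply_right]
  · intro x hxa hxb hxd
    rw [Equiv.Perm.mul_apply, Equiv.swap_apply_of_ne_of_ne hxb hxd,
      Equiv.swap_apply_of_ne_of_ne hxa hxb]

theorem two_swaps_mem_alt {α : Type*} [Fintype α] [DecidableEq α] {a b c d : α} (hab : a ≠ b)
    (hcd : c ≠ d) : Equiv.swap a b * Equiv.swap c d ∈ alternatingGroup α := by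
  rw [Equiv.Perm.mem_alternatingGroup, map_mul, Equiv.Perm.sign_swap hab,
    Equiv.Perm.sign_swap hcd]
  simp

theorem no_cover_embedding (n : ℕ) (hn : 6 ≤ n) {G : Type*} [Group G] [Finite G]
    (φ : G →* Equiv.Perm (Fin n)) (hφ : Function.Injective φ)
    (hA : alternatingGroup (Fin n) ≤ φ.range) {𝓐 : Finset (Subgroup G)} (hc : Cov 𝓐) :
    False := by
  classical
  obtain ⟨p, hp, hkp, hp2k⟩ := Nat.exists_prime_lt_and_le_two_mul (n / 2) (by omega)
  haveI : Fact p.Prime := ⟨hp⟩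
  have hp5 : 5 ≤ p := by
    have h4 : p ≠ 4 := by
      intro h
      rw [h] at hp
      exact absurd hp (by decide)
    omega
  have hpn : p < n := by
    by_contra h
    have h1 : p = 2 * (n / 2) := by omega
    have h2 : 2 ∣ p := ⟨n / 2, h1⟩
    have h3 := (Nat.prime_dvd_prime_iff_eq Nat.prime_two hp).mp h2
    omega
  have h2p : n < 2 * p := by omega
  have hSn : Nat.card (Equiv.Perm (Fin n)) = n.factorial := by
    rw [Nat.card_eq_fintype_card, Fintype.card_perm, Fintype.card_fin]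
  have hcardG : Nat.card G = Nat.card ↥φ.range :=
    Nat.card_congr (MonoidHom.ofInjective hφ).toEquiv
  have hdvd1 : Nat.card G ∣ n.factorial := by
    rw [hcardG, ← hSn]
    exact Subgroup.card_subgroup_dvd_card φ.range
  have hdvd2 : Nat.card ↥(alternatingGroup (Fin n)) ∣ Nat.card G := by
    rw [hcardG]
    exact Subgroup.card_dvd_of_le hA
  have hAn : 2 * Nat.card ↥(alternatingGroup (Fin n)) = n.factorial := by
    haveI : Nontrivial (Fin n) := Fin.nontrivial_iff_two_le.mpr (by omega)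
    rw [two_mul_nat_card_alternatingGroup, hSn]
  have hpG : p ∣ Nat.card G := by
    have h1 : p ∣ n.factorial := (Nat.Prime.dvd_factorial hp).mpr hpn.le
    rw [← hAn] at h1
    have h2 : p ∣ Nat.card ↥(alternatingGroup (Fin n)) :=
      (hp.dvd_mul.mp h1).resolve_left (fun h => by
        have := Nat.le_of_dvd (by norm_num) h
        omega)
    exact h2.trans hdvd2
  have hp2G : ¬ p ^ 2 ∣ Nat.card G := by
    intro h
    have h1 : p ^ 2 ∣ n.factorial := h.trans hdvd1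
    have hlt : n < p ^ 2 := by nlinarith [hp5, h2p]
    have hlog : Nat.log p n < 2 := Nat.log_lt_of_lt_pow (by omega) hlt
    rw [hp.pow_dvd_factorial_iff hlog] at h1
    rw [show Finset.Ico 1 2 = {1} from by decide, Finset.sum_singleton, pow_one] at h1
    have h3 : n / p < 2 := (Nat.div_lt_iff_lt_mul hp.pos).mpr (by omega)
    omega
  obtain ⟨σ, hσ⟩ := exists_prime_orderOf_dvd_card' p hpG
  obtain ⟨s, hs⟩ : ∃ s : Equiv.Perm (Fin n), s = φ σ := ⟨_, rfl⟩
  have hso : orderOf s = p := by rw [hs, orderOf_injective φ hφ σ, hσ]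
  have hcyc : s.IsCycle :=
    Equiv.Perm.isCycle_of_prime_order' (by rw [hso]; exact hp)
      (by rw [hso, Fintype.card_fin]; exact h2p)
  have hsupp : s.support.card = p := by rw [← hcyc.orderOf, hso]
  have hF : ∀ (j : ℕ) (x : Fin n), s x ≠ x → (s ^ j) x = x → p ∣ j := by
    intro j x hx hjx
    have h1 : s ^ j = 1 := hcyc.pow_eq_one_iff.mpr ⟨x, hx, hjx⟩
    rw [← hso]
    exact orderOf_dvd_of_pow_eq_one h1
  obtain ⟨c, hc0, -⟩ := id hcyc
  obtain ⟨f, hf⟩ : ∃ f, s f = f := by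
    by_contra hcon
    have hall : s.support = Finset.univ := by
      ext x
      simp only [Equiv.Perm.mem_support, Finset.mem_univ, iff_true]
      intro hx
      exact hcon ⟨x, hx⟩
    rw [hall, Finset.card_univ, Fintype.card_fin] at hsupp
    omega
  have e3 : s ^ 3 = s * s * s := by rw [show 3 = 2 + 1 from rfl, pow_succ, pow_two]
  have hne2 : s (s c) ≠ c := by
    intro h
    have hd := hF 2 c hc0 (by rw [pow_two]; exact h)
    have := Nat.le_of_dvd (by norm_num) hd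
    omega
  have hne3 : s (s (s c)) ≠ c := by
    intro h
    have hd := hF 3 c hc0 (by rw [e3]; exact h)
    have := Nat.le_of_dvd (by norm_num) hd
    omega
  obtain ⟨c1, hc1⟩ : ∃ x, x = s c := ⟨_, rfl⟩
  obtain ⟨c2, hc2⟩ : ∃ x, x = s c1 := ⟨_, rfl⟩
  obtain ⟨c3, hc3⟩ : ∃ x, x = s c2 := ⟨_, rfl⟩
  have hA1 : c ≠ c1 := by rw [hc1]; exact hc0.symm
  have hA2 : c ≠ c2 := by rw [hc2, hc1]; exact hne2.symm
  have hA3 : c1 ≠ c2 := by rw [hc2, hc1]; exact fun h => hc0 (s.injective h).symm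
  have hD1 : c3 ≠ c := by rw [hc3, hc2, hc1]; exact hne3
  have hD2 : c3 ≠ c1 := by rw [hc3, hc2, hc1]; exact fun h => hne2 (s.injective h)
  have hD3 : c3 ≠ c2 := by
    rw [hc3, hc2, hc1]; exact fun h => hc0 (s.injective (s.injective h))
  have hE : s c3 ≠ c2 := by
    rw [hc3, hc2, hc1]; exact fun h => hne2 (s.injective (s.injective h))
  have hs1 : s c1 ≠ c1 := by rw [← hc2]; exact hA3.symm
  have hs2 : s c2 ≠ c2 := by rw [← hc3]; exact hD3
  have hcf : c ≠ f := fun h => hc0 (by rw [h]; exact hf)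
  obtain ⟨m0, hm0⟩ : ∃ m0 : Equiv.Perm (Fin n), m0 = Equiv.swap c c1 * Equiv.swap c1 c2 :=
    ⟨_, rfl⟩
  obtain ⟨hm0c, hm0c1, hm0c2, hm0x⟩ := three_cycle_apply hA1 hA2 hA3
  rw [← hm0] at hm0c hm0c1 hm0c2 hm0x
  obtain ⟨m, hmφ⟩ : ∃ m : G, φ m = m0 := by
    rw [hm0]
    exact MonoidHom.mem_range.mp (hA (two_swaps_mem_alt hA1 hA3))
  obtain ⟨g1, hg1φ⟩ : ∃ g : G, φ g = Equiv.swap c f * Equiv.swap c1 c2 :=
    MonoidHom.mem_range.mp (hA (two_swaps_mem_alt hcf hA3))
  have hM : (suppStab s).comap φ ≠ ⊤ := by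
    intro htop
    have hg : g1 ∈ (suppStab s).comap φ := by rw [htop]; exact Subgroup.mem_top _
    rw [Subgroup.mem_comap, hg1φ, mem_suppStab] at hg
    have h := (hg c).mp hc0
    have hgc : (Equiv.swap c f * Equiv.swap c1 c2) c = f := by
      rw [Equiv.Perm.mul_apply, Equiv.swap_apply_of_ne_of_ne hA1 hA2, Equiv.swap_apply_left]
    rw [hgc] at h
    exact h hf
  have hCM : ∀ g : G, g * σ = σ * g → g ∈ (suppStab s).comap φ := by
    intro g hg
    rw [Subgroup.mem_comap]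
    apply commute_mem_suppStab
    rw [hs, ← map_mul, ← map_mul, hg]
  have hm : m ∈ (suppStab s).comap φ := by
    rw [Subgroup.mem_comap, hmφ, mem_suppStab]
    intro x
    by_cases hxc : x = c
    · rw [hxc, hm0c]
      exact ⟨fun _ => hs1, fun _ => hc0⟩
    by_cases hxc1 : x = c1
    · rw [hxc1, hm0c1]
      exact ⟨fun _ => hs2, fun _ => hs1⟩
    by_cases hxc2 : x = c2
    · rw [hxc2, hm0c2]
      exact ⟨fun _ => hc0, fun _ => hs2⟩
    rw [hm0x x hxc hxc1 hxc2]
  have hnc : ∀ τ : G, m * σ = τ * m → τ * σ ≠ σ * τ := by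
    intro τ h1 h2
    have e1 : m0 * s = φ τ * m0 := by
      rw [← hmφ, hs, ← map_mul, ← map_mul, h1]
    have e2 : φ τ * s = s * φ τ := by
      rw [hs, ← map_mul, ← map_mul, h2]
    have k1 : ∀ x, φ τ (m0 x) = m0 (s x) := fun x => (DFunLike.congr_fun e1 x).symm
    have k2 : ∀ x, φ τ (s x) = s (φ τ x) := fun x => DFunLike.congr_fun e2 x
    have t1 : φ τ c1 = c2 := by
      have h := k1 c
      rw [hm0c, ← hc1, hm0c1] at h
      exact h
    have t0 : φ τ c = c3 := by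
      have h := k1 c2
      rw [hm0c2, ← hc3, hm0x c3 hD1 hD2 hD3] at h
      exact h
    have h := k2 c
    rw [← hc1, t1, t0] at h
    exact hE h.symm
  exact no_cover_core hc σ hσ hp2G _ hM hCM m hm hnc

/-! ### Small cases -/

def s4σ : Equiv.Perm (Fin 4) := Equiv.swap 0 1 * Equiv.swap 1 2
def s4m : Equiv.Perm (Fin 4) := Equiv.swap 0 1 * Equiv.swap 2 3

theorem s4_facts : s4σ ^ 3 = 1 ∧ s4σ ≠ 1 ∧ Equiv.Perm.sign s4m = 1 ∧
    (∀ g : Equiv.Perm (Fin 4), g * s4σ = s4σ * g → Equiv.Perm.sign g = 1) ∧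
    (∀ τ : Equiv.Perm (Fin 4), s4m * s4σ = τ * s4m → τ * s4σ ≠ s4σ * τ) := by
  decide +kernel

theorem alt_ne_top (n : ℕ) (hn : 2 ≤ n) : alternatingGroup (Fin n) ≠ ⊤ := by
  intro htop
  have h01 : (⟨0, by omega⟩ : Fin n) ≠ ⟨1, by omega⟩ := by
    intro h
    simp [Fin.ext_iff] at h
  have h : Equiv.swap (⟨0, by omega⟩ : Fin n) ⟨1, by omega⟩ ∈ alternatingGroup (Fin n) := by
    rw [htop]; exact Subgroup.mem_top _
  rw [Equiv.Perm.mem_alternatingGroup, Equiv.Perm.sign_swap h01] at h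
  exact absurd h (by decide)

theorem no_cover_S4 {𝓐 : Finset (Subgroup (Equiv.Perm (Fin 4)))} (hc : Cov 𝓐) : False := by
  obtain ⟨h1, h2, h3, h5, h6⟩ := s4_facts
  haveI : Fact (Nat.Prime 3) := ⟨Nat.prime_three⟩
  refine no_cover_core hc (p := 3) s4σ (orderOf_eq_prime h1 h2) ?_ (alternatingGroup (Fin 4))
    (alt_ne_top 4 (by norm_num))
    (fun g hg => Equiv.Perm.mem_alternatingGroup.mpr (h5 g hg)) s4m
    (Equiv.Perm.mem_alternatingGroup.mpr h3) h6
  rw [Nat.card_eq_fintype_card, Fintype.card_perm, Fintype.card_fin]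
  decide

def s5σ : Equiv.Perm (Fin 5) :=
  Equiv.swap 0 1 * Equiv.swap 1 2 * Equiv.swap 2 3 * Equiv.swap 3 4
def s5m : Equiv.Perm (Fin 5) := Equiv.swap 0 1 * Equiv.swap 1 2

theorem s5_facts : s5σ ^ 5 = 1 ∧ s5σ ≠ 1 ∧ Equiv.Perm.sign s5m = 1 ∧
    (∀ g : Equiv.Perm (Fin 5), g * s5σ = s5σ * g → Equiv.Perm.sign g = 1) ∧
    (∀ τ : Equiv.Perm (Fin 5), s5m * s5σ = τ * s5m → τ * s5σ ≠ s5σ * τ) := by
  decide +kernel

theorem no_cover_S5 {𝓐 : Finset (Subgroup (Equiv.Perm (Fin 5)))} (hc : Cov 𝓐) : False := by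
  obtain ⟨h1, h2, h3, h5, h6⟩ := s5_facts
  haveI : Fact (Nat.Prime 5) := ⟨Nat.prime_five⟩
  refine no_cover_core hc (p := 5) s5σ (orderOf_eq_prime h1 h2) ?_ (alternatingGroup (Fin 5))
    (alt_ne_top 5 (by norm_num))
    (fun g hg => Equiv.Perm.mem_alternatingGroup.mpr (h5 g hg)) s5m
    (Equiv.Perm.mem_alternatingGroup.mpr h3) h6
  rw [Nat.card_eq_fintype_card, Fintype.card_perm, Fintype.card_fin]
  decide

def a5σ : alternatingGroup (Fin 5) :=
  ⟨Equiv.swap 0 1 * Equiv.swap 1 2, two_swaps_mem_alt (by decide) (by decide)⟩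
def a5m : alternatingGroup (Fin 5) :=
  ⟨Equiv.swap 0 1 * Equiv.swap 2 4, two_swaps_mem_alt (by decide) (by decide)⟩
def a5g : alternatingGroup (Fin 5) :=
  ⟨Equiv.swap 0 3 * Equiv.swap 1 2, two_swaps_mem_alt (by decide) (by decide)⟩

theorem a5_facts : a5σ ^ 3 = 1 ∧ a5σ ≠ 1 ∧ (a5m : Equiv.Perm (Fin 5)) 3 = 3 ∧
    (a5g : Equiv.Perm (Fin 5)) 3 ≠ 3 ∧
    (∀ g : alternatingGroup (Fin 5), g * a5σ = a5σ * g → (g : Equiv.Perm (Fin 5)) 3 = 3) ∧
    (∀ τ : alternatingGroup (Fin 5), a5m * a5σ = τ * a5m → τ * a5σ ≠ a5σ * τ) := by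
  decide +kernel

theorem no_cover_A5 {𝓐 : Finset (Subgroup ↥(alternatingGroup (Fin 5)))} (hc : Cov 𝓐) :
    False := by
  obtain ⟨h1, h2, h3, h4, h5, h6⟩ := a5_facts
  haveI : Fact (Nat.Prime 3) := ⟨Nat.prime_three⟩
  obtain ⟨M, hM⟩ : ∃ M : Subgroup ↥(alternatingGroup (Fin 5)),
      M = (MulAction.stabilizer (Equiv.Perm (Fin 5)) (3 : Fin 5)).comap
        (alternatingGroup (Fin 5)).subtype := ⟨_, rfl⟩
  have hmem : ∀ g : ↥(alternatingGroup (Fin 5)),
      g ∈ M ↔ (g : Equiv.Perm (Fin 5)) 3 = 3 := by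
    intro g
    rw [hM, Subgroup.mem_comap, MulAction.mem_stabilizer_iff]
    rfl
  refine no_cover_core hc (p := 3) a5σ (orderOf_eq_prime h1 h2) ?_ M ?_
    (fun g hg => (hmem g).mpr (h5 g hg)) a5m ((hmem _).mpr h3) h6
  · intro h
    have h9 : 3 ^ 2 ∣ Nat.card (Equiv.Perm (Fin 5)) :=
      h.trans (Subgroup.card_subgroup_dvd_card _)
    rw [Nat.card_eq_fintype_card, Fintype.card_perm, Fintype.card_fin] at h9
    exact absurd h9 (by decide)
  · intro htop
    apply h4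
    have h : a5g ∈ M := by rw [htop]; exact Subgroup.mem_top _
    exact (hmem _).mp h

end Cfsg.Agent.Lib.Helper19.NilCover2
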