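import Mathlib
import Cfsg.Prelude.Def_GeometricClasses
import Cfsg.Agent.Lib.Helper1.OECorBase
import Cfsg.Agent.Lib.Helper13.OrthMax2
import Cfsg.Agent.Lib.Helper13.OrthSmallGen
import Cfsg.Agent.Lib.Helper13.OEFrame4
import Cfsg.Agent.Lib.Helper11.OECorPDEC
import Cfsg.Agent.Lib.Helper22.OECorPTEN
import Cfsg.Agent.Lib.Helper28.OEPlusA
import Cfsg.Agent.Lib.Helper16.OEPlusA5
import Cfsg.Agent.Lib.Helper16.OEPlusT
import Cfsg.Agent.Lib.Helper16.OEPlusT4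
import Cfsg.Agent.Lib.Helper27.OEPlusX
import Cfsg.Agent.Lib.Helper6.OEPlusX
import Cfsg.Agent.Lib.Helper3.OEC6Plus
import Cfsg.Agent.Lib.Helper15.TensSwap
import Cfsg.Agent.Lib.Helper29.S5814AFLD
import Cfsg.Agent.Lib.Helper29.AschCorB
import Cfsg.Agent.Lib.Helper6.S5814PSUBF
import Cfsg.Agent.Lib.Helper9.HubCorA1

/-!
# Row S5871 (`Ω₁₂⁺`) from the even-orthogonal hub `HubOE Q` (helper19, on helper13's plus-row skeleton)

`final12` : the verbatim conclusion `Row12P Q H` of the frozen row S5871 from `HubOE Q` and two explicit hypotheses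
(`hX3` : helper6's X3 in its `omegaGL` shape; `hX7` : helper13's X7, or the containment form).  Everything else is wired to
landed pieces: generic exits of helper1 (`OECorBase`), properness pieces of helper21 / helper11 / helper16 / helper22 /
helper6, A1 and the small-field pieces of helper13 (`OrthMax2`, `OrthSmallGen`, `OEFrame4`), T1 / X5 / X6 of helper28,
A5 / T2 / T4 of helper16, X1 / X2 of helper27, X4 of helper6, C6 of helper3, the tensor swap of helper15.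
-/

set_option autoImplicit false
set_option linter.unusedSectionVars false
set_option linter.unusedVariables false

namespace Cfsg.Agent.Lib.Helper19.OECor12p

open Matrix Cfsg Cfsg.Geo Module QuadraticMap
open Cfsg.Agent.Lib.Helper1.OE
open Cfsg.Agent.Lib.Helper1.OECor
open Cfsg.Agent.Lib.Helper13 (toQF toQF_nondegenerate)

variable {F : Type*} [Field F] [Fintype F]

/-- verbatim conclusion of S5871 -/
def Row12P (Q : (Fin 12 → F) → F) (H : Subgroup (Matrix.GeneralLinearGroup (Fin 12) F)) : Prop :=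
    (∃ W : Submodule F (Fin 12 → F), W ≠ ⊥ ∧ Cfsg.Geo.IsTotallySingularQuad Q W ∧ Module.finrank F W ≠ 5 ∧ H = Cfsg.Geo.subspaceStabilizer W ⊓ Cfsg.Geo.omegaGL Q) ∨
    (Odd (Fintype.card F) ∧ ∃ W : Submodule F (Fin 12 → F), W ≠ ⊥ ∧ W ≠ ⊤ ∧ Odd (Module.finrank F W) ∧ 2 * Module.finrank F W ≠ 12 ∧ Cfsg.Geo.IsNondegenerateOn (QuadraticMap.polar Q) W ∧ H = Cfsg.Geo.subspaceStabilizer W ⊓ Cfsg.Geo.omegaGL Q) ∨
    (∃ W : Submodule F (Fin 12 → F), Module.finrank F W = 2 ∧ Cfsg.Geo.IsNondegenerateOn (QuadraticMap.polar Q) W ∧ ¬ Cfsg.Geo.IsPlusTypeOn Q W ∧ H = Cfsg.Geo.subspaceStabilizer W ⊓ Cfsg.Geo.omegaGL Q) ∨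
    (4 ≤ Fintype.card F ∧ ∃ W : Submodule F (Fin 12 → F), Module.finrank F W = 2 ∧ Cfsg.Geo.IsNondegenerateOn (QuadraticMap.polar Q) W ∧ Cfsg.Geo.IsPlusTypeOn Q W ∧ H = Cfsg.Geo.subspaceStabilizer W ⊓ Cfsg.Geo.omegaGL Q) ∨
    (∃ W : Submodule F (Fin 12 → F), Module.finrank F W = 4 ∧ Cfsg.Geo.IsNondegenerateOn (QuadraticMap.polar Q) W ∧ H = Cfsg.Geo.subspaceStabilizer W ⊓ Cfsg.Geo.omegaGL Q) ∨
    (¬ Odd (Fintype.card F) ∧ ∃ v : (Fin 12 → F), Q v ≠ 0 ∧ H = Cfsg.Geo.subspaceStabilizer (Submodule.span F {v}) ⊓ Cfsg.Geo.omegaGL Q) ∨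
    ((∃ p : ℕ, p.Prime ∧ Odd p ∧ Fintype.card F = p) ∧ ∃ D : Fin 12 → Submodule F (Fin 12 → F), Cfsg.Geo.IsOrthogonalMDecomposition Q 1 D ∧ H = Cfsg.Geo.decompositionStabilizer D ⊓ Cfsg.Geo.omegaGL Q) ∨
    (7 ≤ Fintype.card F ∧ ∃ D : Fin 6 → Submodule F (Fin 12 → F), Cfsg.Geo.IsOrthogonalMDecomposition Q 2 D ∧ (∀ i, Cfsg.Geo.IsPlusTypeOn Q (D i)) ∧ H = Cfsg.Geo.decompositionStabilizer D ⊓ Cfsg.Geo.omegaGL Q) ∨
    (Fintype.card F ≠ 3 ∧ ∃ D : Fin 6 → Submodule F (Fin 12 → F), Cfsg.Geo.IsOrthogonalMDecomposition Q 2 D ∧ (∀ i, ¬ Cfsg.Geo.IsPlusTypeOn Q (D i)) ∧ H = Cfsg.Geo.decompositionStabilizer D ⊓ Cfsg.Geo.omegaGL Q) ∨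
    (Odd (Fintype.card F) ∧ 5 ≤ Fintype.card F ∧ ∃ D : Fin 4 → Submodule F (Fin 12 → F), Cfsg.Geo.IsOrthogonalMDecomposition Q 3 D ∧ H = Cfsg.Geo.decompositionStabilizer D ⊓ Cfsg.Geo.omegaGL Q) ∨
    (3 ≤ Fintype.card F ∧ ∃ D : Fin 3 → Submodule F (Fin 12 → F), Cfsg.Geo.IsOrthogonalMDecomposition Q 4 D ∧ H = Cfsg.Geo.decompositionStabilizer D ⊓ Cfsg.Geo.omegaGL Q) ∨
    (∃ D : Fin 2 → Submodule F (Fin 12 → F), Cfsg.Geo.IsOrthogonalMDecomposition Q 6 D ∧ H = Cfsg.Geo.decompositionStabilizer D ⊓ Cfsg.Geo.omegaGL Q) ∨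
    (∃ D : Fin 2 → Submodule F (Fin 12 → F), Cfsg.Geo.IsMDecomposition 6 D ∧ (∀ i, Cfsg.Geo.IsTotallySingularQuad Q (D i)) ∧ H = Cfsg.Geo.decompositionStabilizer D ⊓ Cfsg.Geo.omegaGL Q) ∨
    (∃ K : Subalgebra F (Matrix (Fin 12) (Fin 12) F), Cfsg.Geo.IsFieldSubalgebra 2 K ∧ H = Cfsg.Geo.subalgebraNormalizer K ⊓ Cfsg.Geo.omegaGL Q) ∨
    (∃ K : Subalgebra F (Matrix (Fin 12) (Fin 12) F), Cfsg.Geo.IsFieldSubalgebra 3 K ∧ H = Cfsg.Geo.subalgebraNormalizer K ⊓ Cfsg.Geo.omegaGL Q) ∨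
    (∃ K : Subalgebra F (Matrix (Fin 12) (Fin 12) F), Cfsg.Geo.IsFieldSubalgebra 2 K ∧ Cfsg.Geo.IsAdjointClosedFor (QuadraticMap.polar Q) K ∧ ¬ Cfsg.Geo.IsSelfAdjointFor (QuadraticMap.polar Q) K ∧ (∀ k ∈ K, ∃ c : F, ∀ v : (Fin 12 → F), Q (Matrix.mulVec k v) = c * Q v) ∧ H = Cfsg.Geo.subalgebraNormalizer K ⊓ Cfsg.Geo.omegaGL Q) ∨
    (3 ≤ Fintype.card F ∧ ∃ (e : Fin 12 ≃ Fin 2 × Fin 6) (P : Matrix.GeneralLinearGroup (Fin 12) F) (f₁ : (Fin 2 → F) → (Fin 2 → F) → F) (f₂ : (Fin 6 → F) → (Fin 6 → F) → F), Cfsg.Geo.IsSymplecticForm f₁ ∧ Cfsg.Geo.IsSymplecticForm f₂ ∧ Cfsg.Geo.IsTensorFormStructure id (QuadraticMap.polar Q) f₁ f₂ e P ∧ (∀ (x₁ : Fin 2 → F) (x₂ : Fin 6 → F), Q (Matrix.mulVec (P : Matrix (Fin 12) (Fin 12) F) ((fun a : Fin 2 × Fin 6 => x₁ a.1 * x₂ a.2) ∘ e)) = 0) ∧ H = Cfsg.Geo.tensorProductSubgroup 2 6 e P ⊓ Cfsg.Geo.omegaGL Q) ∨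
    (∃ (F₀ : Subfield F) (r : ℕ) (P : Matrix.GeneralLinearGroup (Fin 12) F) (ζ : F), r.Prime ∧ Fintype.card F = Nat.card F₀ ^ r ∧ ζ ≠ 0 ∧ Cfsg.Geo.IsQuadFormRationalStructure (fun v : Fin 12 → F => ζ * Q v) F₀ P ∧ H = Cfsg.Geo.subfieldSubgroup F₀ P ⊓ Cfsg.Geo.omegaGL Q) ∨
    Cfsg.Geo.InOrthogonalResidualClass H

/-! ## arithmetic -/

theorem card_ne_six : Fintype.card F ≠ 6 := by
  intro h
  obtain ⟨p, -, n, hp, hc⟩ := FiniteField.card' F
  rw [h] at hc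
  have h2 : 2 ∣ p ^ (n : ℕ) := by rw [← hc]; norm_num
  have h3 : 3 ∣ p ^ (n : ℕ) := by rw [← hc]; norm_num
  have e2 := (Nat.prime_dvd_prime_iff_eq Nat.prime_two hp).mp (Nat.prime_two.dvd_of_dvd_pow h2)
  have e3 := (Nat.prime_dvd_prime_iff_eq Nat.prime_three hp).mp (Nat.prime_three.dvd_of_dvd_pow h3)
  omega

theorem pow_ne_twelve {k t : ℕ} (hk : 2 ≤ k) (ht : 2 ≤ t) : k ^ t ≠ 12 := by
  intro h
  have hk4 : k < 4 := by
    by_contra hne
    have h4 : 4 ≤ k := by omega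
    have : 4 ^ 2 ≤ k ^ t := (Nat.pow_le_pow_left h4 2).trans (Nat.pow_le_pow_right (by omega) ht)
    omega
  have ht4 : t < 4 := by
    by_contra hne
    have h4 : 4 ≤ t := by omega
    have : 2 ^ 4 ≤ k ^ t := (Nat.pow_le_pow_left hk 4).trans (Nat.pow_le_pow_right (by omega) h4)
    omega
  interval_cases k <;> interval_cases t <;> omega

section row

variable {Q : (Fin 12 → F) → F}

theorem h5 : 5 ≤ 12 := by norm_num

/-! ## class 1 : non-degenerate subspaces -/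

/-- the exit for a non-degenerate subspace -/
theorem row_of_nondeg (hQ : IsNondegenerateQuadraticForm Q) (hplus : IsPlusTypeOn Q ⊤)
    (H : Subgroup (GL (Fin 12) F)) (hH : IsMaximalIn (omegaGL Q) H) (W : Submodule F (Fin 12 → F))
    (hW0 : W ≠ ⊥) (hW1 : W ≠ ⊤) (hW : IsNondegenerateOn (polar Q) W) (hle : H ≤ subspaceStabilizer W) :
    Row12P Q H := by
  have hΩI := omegaGL_le_iso Q
  obtain ⟨W', hpos, hhalf, hW', hHW'⟩ := exit_nd hQ h5 H hH W hW0 hW1 hW hle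
  have hW'0 := ne_bot_of_finrank_pos W' hpos
  have hW'1 := ne_top_of_finrank_lt W' (by omega)
  unfold Row12P
  rcases Nat.even_or_odd (finrank F W') with hev | hodd
  · obtain ⟨j, hj⟩ := hev
    have hj123 : j = 1 ∨ j = 2 ∨ j = 3 := by omega
    rcases hj123 with rfl | rfl | rfl
    · rcases exit_plane hQ h5 H hH W' (by omega) hW' hHW' with h | h | ⟨hq, W'', hdim, hnd, hHW''⟩ | h
      · exact Or.inr (Or.inr (Or.inl h))
      · exact Or.inr (Or.inr (Or.inr (Or.inl h)))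
      · exact Or.inr (Or.inl ⟨hq, W'', ne_bot_of_finrank_pos W'' (by omega),
          ne_top_of_finrank_lt W'' (by omega), ⟨5, by omega⟩, by omega, hnd, hHW''⟩)
      · exact Or.inr (Or.inr (Or.inr (Or.inr (Or.inr (Or.inl h)))))
    · exact Or.inr (Or.inr (Or.inr (Or.inr (Or.inl ⟨W', by omega, hW', hHW'⟩))))
    · -- dimension six : a pair of isometric halves
      obtain ⟨W'', hW'', hadd, ho, hc, -⟩ := exists_perp hQ W' hW'
      have hd' : finrank F W' = 6 := by omega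
      have hd'' : finrank F W'' = 6 := by omega
      obtain ⟨hND, hstab, -⟩ := Cfsg.Agent.Lib.Helper16.OEPlus.pair_decomp hQ 6 (by norm_num) W' W'' hW' hW'' hc ho
        hd' hd''
      have hiso := Cfsg.Agent.Lib.Helper16.OEPlus.halves_six hQ rfl hplus ![W', W''] hND
      have hOD := orthogonalMDecomposition_of_pair ![W', W''] hND hiso
      have hleD : H ≤ decompositionStabilizer ![W', W''] := by
        intro x hx
        rw [hHW'] at hx
        exact hstab ⟨hx.1, hΩI hx.2⟩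
      iterate 11 right
      left
      exact ⟨![W', W''], hOD, eq_of_le_member _ H _ hH hleD
        (not_omega_le_decomp_of_two_le hQ h5 (by norm_num) _ hND)⟩
  · have h12 : 2 * finrank F W' ≠ 12 := by
      obtain ⟨j, hj⟩ := hodd
      omega
    exact Or.inr (Or.inl ⟨odd_card_of_odd_finrank hQ W' hW' hodd, W', hW'0, hW'1, hodd, h12, hW', hHW'⟩)

/-! ## class 2 : decompositions -/

/-- all blocks of an isometric decomposition have the same type -/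
theorem all_plus_or_all_minus {t k : ℕ} (ht : 0 < t) (D : Fin t → Submodule F (Fin 12 → F))
    (hD : IsOrthogonalMDecomposition Q k D) :
    (∀ i, IsPlusTypeOn Q (D i)) ∨ (∀ i, ¬ IsPlusTypeOn Q (D i)) := by
  by_cases h0 : IsPlusTypeOn Q (D ⟨0, ht⟩)
  · exact Or.inl fun i =>
      (Cfsg.Agent.Lib.Helper28.OEPlus.plus_iff_of_isometric _ _ (hD.isometric ⟨0, ht⟩ i)).mp h0
  · exact Or.inr fun i hi => h0
      ((Cfsg.Agent.Lib.Helper28.OEPlus.plus_iff_of_isometric _ _ (hD.isometric ⟨0, ht⟩ i)).mpr hi)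

/-- the exit for an isometric decomposition -/
theorem row_of_decomp (hQ : IsNondegenerateQuadraticForm Q) (hplus : IsPlusTypeOn Q ⊤)
    (H : Subgroup (GL (Fin 12) F)) (hH : IsMaximalIn (omegaGL Q) H) {t k : ℕ}
    (D : Fin t → Submodule F (Fin 12 → F)) (hD : IsOrthogonalMDecomposition Q k D)
    (hk1 : k = 1 → (Fintype.card F).Prime) (hle : H ≤ decompositionStabilizer D ⊓ isometryGroup F Q) :
    Row12P Q H := by
  have hΩI := omegaGL_le_iso Q
  have hc12 : Fintype.card (Fin 12) = 12 := Fintype.card_fin 12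
  have hq1 : 1 < Fintype.card F := Fintype.one_lt_card
  have hdim := Cfsg.Agent.Lib.Helper9.HubCor.mul_eq_card_of_isMDecomposition D hD.decomp.decomp
  rw [hc12] at hdim
  have ht2 := hD.decomp.decomp.two_le
  have ht12 : t ∣ 12 := Dvd.intro _ hdim
  have ht' : t ≤ 12 := Nat.le_of_dvd (by norm_num) ht12
  have hHD : H = decompositionStabilizer D ⊓ omegaGL Q :=
    eq_of_le_member _ H _ hH (hle.trans inf_le_left)
      (Cfsg.Agent.Lib.Helper11.OECorPDEC.not_omega_le_decomp hQ h5 D hD.decomp)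
  have hcases : (t = 2 ∧ k = 6) ∨ (t = 3 ∧ k = 4) ∨ (t = 4 ∧ k = 3) ∨ (t = 6 ∧ k = 2) ∨ (t = 12 ∧ k = 1) := by
    interval_cases t <;> omega
  have hnm : ∀ (K : Subgroup (GL (Fin 12) F)), decompositionStabilizer D ⊓ omegaGL Q < K → K < omegaGL Q →
      False := by
    intro K h1 h2
    rw [← hHD] at h1
    exact not_maximal_of_between _ H hH ⟨K, h1, h2⟩
  unfold Row12P
  rcases hcases with ⟨rfl, rfl⟩ | ⟨rfl, rfl⟩ | ⟨rfl, rfl⟩ | ⟨rfl, rfl⟩ | ⟨rfl, rfl⟩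
  · -- two 6-spaces
    iterate 11 right
    left
    exact ⟨D, hD, hHD⟩
  · -- three 4-spaces
    have hall : ∀ i, IsPlusTypeOn Q (D i) := by
      rcases all_plus_or_all_minus (by norm_num) D hD with h | h
      · exact h
      · exact absurd hplus (Cfsg.Agent.Lib.Helper16.OEPlus.not_plus_of_odd_minus hQ ⟨1, rfl⟩ ⟨2, rfl⟩ D hD h)
    have hq3 : 3 ≤ Fintype.card F := by
      by_contra hlt
      have hq2 : Fintype.card F = 2 := by omega
      obtain ⟨K, hK1, hK2⟩ := Cfsg.Agent.Lib.Helper13.small_decomp_not_maximal_of_le (toQF Q hQ)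
        (toQF_nondegenerate Q hQ) 4 D hD hall (Or.inr ⟨rfl, le_refl 3, hq2⟩)
      exact hnm K hK1 hK2
    iterate 10 right
    left
    exact ⟨hq3, D, hD, hHD⟩
  · -- four 3-spaces
    have hodd : Odd (Fintype.card F) :=
      odd_card_of_odd_finrank hQ (D 0) (hD.decomp.nondegenerate 0)
        (by rw [hD.decomp.decomp.finrank_eq 0]; exact ⟨1, rfl⟩)
    by_cases hq3 : Fintype.card F = 3
    · -- `O₃(3) ≀ S₄ ≤ O₁(3) ≀ S₁₂`
      obtain ⟨D', hD', hDD'⟩ := Cfsg.Agent.Lib.Helper13.OEFrame4.frame_le_decomp4 (toQF Q hQ)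
        (toQF_nondegenerate Q hQ) hq3 D hD
      have hleD' : H ≤ decompositionStabilizer D' := hle.trans hDD'
      iterate 6 right
      left
      exact ⟨⟨3, Nat.prime_three, ⟨1, rfl⟩, hq3⟩, D', hD', eq_of_le_member _ H _ hH hleD'
        (Cfsg.Agent.Lib.Helper11.OECorPDEC.not_omega_le_decomp hQ h5 D' hD'.decomp)⟩
    · have hq5 : 5 ≤ Fintype.card F := by
        obtain ⟨j, hj⟩ := hodd
        omega
      iterate 9 right
      left
      exact ⟨hodd, hq5, D, hD, hHD⟩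
  · -- six planes
    rcases all_plus_or_all_minus (by norm_num) D hD with hall | hall
    · have hq7 : 7 ≤ Fintype.card F := by
        by_contra hlt
        have hne6 := card_ne_six (F := F)
        have hq5 : Fintype.card F ≤ 5 := by omega
        have hq2345 : Fintype.card F = 2 ∨ Fintype.card F = 3 ∨ Fintype.card F = 4 ∨ Fintype.card F = 5 := by
          omega
        rcases hq2345 with hq | hq | hq | hq
        · obtain ⟨K, hK1, hK2⟩ := Cfsg.Agent.Lib.Helper13.small_decomp_not_maximal_of_le (toQF Q hQ)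
            (toQF_nondegenerate Q hQ) 2 D hD hall (Or.inl ⟨rfl, Or.inl ⟨le_refl 6, hq⟩⟩)
          exact hnm K hK1 hK2
        · obtain ⟨K, hK1, hK2⟩ := Cfsg.Agent.Lib.Helper13.frame_not_maximal_of_five_le (toQF Q hQ)
            (toQF_nondegenerate Q hQ) hq (by norm_num : 5 ≤ 6) 2 (Or.inl rfl) D hD
          exact hnm K hK1 hK2
        · obtain ⟨K, hK1, hK2⟩ := Cfsg.Agent.Lib.Helper13.small_decomp_not_maximal_of_le (toQF Q hQ)
            (toQF_nondegenerate Q hQ) 2 D hD hall (Or.inl ⟨rfl, Or.inr (Or.inl ⟨le_refl 6, hq⟩)⟩)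
          exact hnm K hK1 hK2
        · obtain ⟨K, hK1, hK2⟩ := Cfsg.Agent.Lib.Helper13.small_decomp_not_maximal_of_le (toQF Q hQ)
            (toQF_nondegenerate Q hQ) 2 D hD hall (Or.inl ⟨rfl, Or.inr (Or.inr ⟨by norm_num, hq⟩)⟩)
          exact hnm K hK1 hK2
      iterate 7 right
      left
      exact ⟨hq7, D, hD, hall, hHD⟩
    · have hq3 : Fintype.card F ≠ 3 := by
        intro hq
        obtain ⟨K, hK1, hK2⟩ := Cfsg.Agent.Lib.Helper13.frame_not_maximal_of_five_le (toQF Q hQ)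
          (toQF_nondegenerate Q hQ) hq (by norm_num : 5 ≤ 6) 2 (Or.inl rfl) D hD
        exact hnm K hK1 hK2
      iterate 8 right
      left
      exact ⟨hq3, D, hD, hall, hHD⟩
  · -- twelve lines
    have hodd : Odd (Fintype.card F) :=
      odd_card_of_odd_finrank hQ (D 0) (hD.decomp.nondegenerate 0)
        (by rw [hD.decomp.decomp.finrank_eq 0]; exact ⟨0, rfl⟩)
    iterate 6 right
    left
    exact ⟨⟨Fintype.card F, hk1 rfl, hodd, rfl⟩, D, hD, hHD⟩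

/-! ## class 4 : tensor products -/

/-- the shape of helper6's X3 : `O₃ ⊗ O₄⁺ ∩ Ω ≤ Sp₂ ⊗ Sp₆` -/
def HypX3 (Q : (Fin 12 → F) → F) : Prop :=
  ∀ (e : Fin 12 ≃ Fin 3 × Fin 4) (P : GL (Fin 12) F) (f₁ : (Fin 3 → F) → (Fin 3 → F) → F)
    (f₂ : (Fin 4 → F) → (Fin 4 → F) → F), Odd (Fintype.card F) → IsSymmetricForm f₁ → IsSymmetricForm f₂ →
    IsTensorFormStructure id (QuadraticMap.polar Q) f₁ f₂ e P →
    (∃ U : Submodule F (Fin 4 → F), finrank F U = 2 ∧ ∀ u ∈ U, ∀ v ∈ U, f₂ u v = 0) →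
    ∃ (e' : Fin 12 ≃ Fin 2 × Fin 6) (P' : GL (Fin 12) F) (g₁ : (Fin 2 → F) → (Fin 2 → F) → F)
      (g₂ : (Fin 6 → F) → (Fin 6 → F) → F), IsSymplecticForm g₁ ∧ IsSymplecticForm g₂ ∧
      IsTensorFormStructure id (QuadraticMap.polar Q) g₁ g₂ e' P' ∧
      tensorProductSubgroup 3 4 e P ⊓ omegaGL Q ≤ tensorProductSubgroup 2 6 e' P'

/-- the shape of helper13's X7 (`Sp₂(2) ⊗ Sp₆(2)` is not maximal in `Ω₁₂⁺(2)`), or the containment in the normaliser of
a quadratic field (`Sp₂(2) ⊗ Sp₆(2) ≤ ΓU₆(2)`) -/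
def HypX7 (Q : (Fin 12 → F) → F) : Prop :=
  Fintype.card F = 2 → ∀ (e : Fin 12 ≃ Fin 2 × Fin 6) (P : GL (Fin 12) F) (f₁ : (Fin 2 → F) → (Fin 2 → F) → F)
    (f₂ : (Fin 6 → F) → (Fin 6 → F) → F), IsSymplecticForm f₁ → IsSymplecticForm f₂ →
    IsTensorFormStructure id (QuadraticMap.polar Q) f₁ f₂ e P →
    (∀ (x₁ : Fin 2 → F) (x₂ : Fin 6 → F), Q ((P : Matrix (Fin 12) (Fin 12) F) *ᵥ (pure2 x₁ x₂ ∘ e)) = 0) →
    (∃ K : Subgroup (GL (Fin 12) F), tensorProductSubgroup 2 6 e P ⊓ omegaGL Q < K ∧ K < omegaGL Q) ∨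
    (∃ K : Subalgebra F (Matrix (Fin 12) (Fin 12) F), IsFieldSubalgebra 2 K ∧
      tensorProductSubgroup 2 6 e P ⊓ omegaGL Q ≤ subalgebraNormalizer K)

/-- `O₂ ⊗ O₆` -/
theorem row_of_tensor26_symm (hQ : IsNondegenerateQuadraticForm Q)
    (H : Subgroup (GL (Fin 12) F)) (hH : IsMaximalIn (omegaGL Q) H) (hq : Odd (Fintype.card F))
    (e : Fin 12 ≃ Fin 2 × Fin 6) (P : GL (Fin 12) F) (f₁ : (Fin 2 → F) → (Fin 2 → F) → F)
    (f₂ : (Fin 6 → F) → (Fin 6 → F) → F) (hf₁ : IsSymmetricForm f₁) (hf₂ : IsSymmetricForm f₂)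
    (hT : IsTensorFormStructure id (polar Q) f₁ f₂ e P)
    (hle : H ≤ tensorProductSubgroup 2 6 e P ⊓ isometryGroup F Q) : Row12P Q H := by
  unfold Row12P
  by_cases hiso : ∃ x : Fin 2 → F, x ≠ 0 ∧ f₁ x x = 0
  · obtain ⟨D, hD, hts, hleD⟩ := Cfsg.Agent.Lib.Helper27.OEPlusX.tensor_two_isotropic hQ hq (by norm_num) e P f₁ f₂
      hf₁ hf₂ hT hiso
    iterate 12 right
    left
    exact ⟨D, hD, hts, eq_of_le_member _ H _ hH (hle.trans hleD) (not_omega_le_tsPair hQ h5 6 D hD hts)⟩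
  · have haniso : ∀ x : Fin 2 → F, f₁ x x = 0 → x = 0 := by
      intro x hx
      by_contra hne
      exact hiso ⟨x, hne, hx⟩
    obtain ⟨K, hK, hac, hnsa, hsim, hleK⟩ := Cfsg.Agent.Lib.Helper27.OEPlusX.tensor_two_anisotropic hQ hq
      (by norm_num) e P f₁ f₂ hf₁ hf₂ hT haniso
    iterate 15 right
    left
    exact exit_unitary hQ h5 H hH ⟨K, hK, hac, hnsa, hsim, hle.trans hleK⟩

/-- `O₃ ⊗ O₄` -/
theorem row_of_tensor34_symm (hQ : IsNondegenerateQuadraticForm Q) (hplus : IsPlusTypeOn Q ⊤) (hX3 : HypX3 Q)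
    (H : Subgroup (GL (Fin 12) F)) (hH : IsMaximalIn (omegaGL Q) H) (hq : Odd (Fintype.card F))
    (e : Fin 12 ≃ Fin 3 × Fin 4) (P : GL (Fin 12) F) (f₁ : (Fin 3 → F) → (Fin 3 → F) → F)
    (f₂ : (Fin 4 → F) → (Fin 4 → F) → F) (hf₁ : IsSymmetricForm f₁) (hf₂ : IsSymmetricForm f₂)
    (hT : IsTensorFormStructure id (polar Q) f₁ f₂ e P)
    (hle : H ≤ tensorProductSubgroup 3 4 e P) : Row12P Q H := by
  unfold Row12P
  by_cases hp : ∃ U : Submodule F (Fin 4 → F), finrank F U = 2 ∧ ∀ u ∈ U, ∀ v ∈ U, f₂ u v = 0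
  · obtain ⟨e', P', g₁, g₂, hg₁, hg₂, hT', hle'⟩ := hX3 e P f₁ f₂ hq hf₁ hf₂ hT hp
    have hq3 : 3 ≤ Fintype.card F := by
      have hq1 : 1 < Fintype.card F := Fintype.one_lt_card
      obtain ⟨j, hj⟩ := hq
      omega
    have hleH : H ≤ tensorProductSubgroup 2 6 e' P' := fun x hx => hle' ⟨hle hx, hH.1.le hx⟩
    iterate 16 right
    left
    exact ⟨hq3, e', P', g₁, g₂, hg₁, hg₂, hT',
      fun x₁ x₂ => Cfsg.Agent.Lib.Helper28.OEPlus.pure_zero_of_odd hQ hq e' P' g₁ g₂ hg₁ hg₂ hT' x₁ x₂,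
      eq_of_le_member _ H _ hH hleH
        (Cfsg.Agent.Lib.Helper22.OECorPTEN.not_omega_le_tensor2 hQ h5 6 (by norm_num) e' P')⟩
  · exact absurd hplus
      (Cfsg.Agent.Lib.Helper6.OEPlusX.tensor_three_four_minus hQ hq e P f₁ f₂ hf₁ hf₂ hT hp)

/-- `Sp₂ ⊗ Sp₆` -/
theorem row_of_tensor26_symp (hQ : IsNondegenerateQuadraticForm Q) (hX7 : HypX7 Q)
    (H : Subgroup (GL (Fin 12) F)) (hH : IsMaximalIn (omegaGL Q) H)
    (e : Fin 12 ≃ Fin 2 × Fin 6) (P : GL (Fin 12) F) (f₁ : (Fin 2 → F) → (Fin 2 → F) → F)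
    (f₂ : (Fin 6 → F) → (Fin 6 → F) → F) (hf₁ : IsSymplecticForm f₁) (hf₂ : IsSymplecticForm f₂)
    (hT : IsTensorFormStructure id (polar Q) f₁ f₂ e P)
    (hpure : ∀ (x₁ : Fin 2 → F) (x₂ : Fin 6 → F), Q ((P : Matrix (Fin 12) (Fin 12) F) *ᵥ (pure2 x₁ x₂ ∘ e)) = 0)
    (hle : H ≤ tensorProductSubgroup 2 6 e P) : Row12P Q H := by
  have hHT : H = tensorProductSubgroup 2 6 e P ⊓ omegaGL Q :=
    eq_of_le_member _ H _ hH hle (Cfsg.Agent.Lib.Helper22.OECorPTEN.not_omega_le_tensor2 hQ h5 6 (by norm_num) e P)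
  unfold Row12P
  by_cases hq2 : Fintype.card F = 2
  · rcases hX7 hq2 e P f₁ f₂ hf₁ hf₂ hT hpure with ⟨K, hK1, hK2⟩ | ⟨K, hK, hleK⟩
    · exfalso
      rw [← hHT] at hK1
      exact not_maximal_of_between _ H hH ⟨K, hK1, hK2⟩
    · have hleH : H ≤ subalgebraNormalizer K := by
        rw [hHT]
        exact hleK
      iterate 13 right
      left
      exact ⟨K, hK, eq_of_le_member _ H _ hH hleH (not_omega_le_field hQ h5 2 Nat.prime_two K hK)⟩
  · have hq3 : 3 ≤ Fintype.card F := by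
      have hq1 : 1 < Fintype.card F := Fintype.one_lt_card
      omega
    iterate 16 right
    left
    exact ⟨hq3, e, P, f₁, f₂, hf₁, hf₂, hT, hpure, hHT⟩

end row

/-! ## the row -/

/-- **S5871** (`Ω₁₂⁺`) from the hub, X3 and X7 -/
theorem final12 (Q : (Fin 12 → F) → F) (hQ : IsNondegenerateQuadraticForm Q) (hplus : IsPlusTypeOn Q ⊤)
    (hub : HubOE Q) (hX3 : HypX3 Q) (hX7 : HypX7 Q)
    (H : Subgroup (GL (Fin 12) F)) (hH : IsMaximalIn (omegaGL Q) H) : Row12P Q H := by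
  have hΩI := omegaGL_le_iso Q
  have hc12 : Fintype.card (Fin 12) = 12 := Fintype.card_fin 12
  rcases hub H (hH.1.le.trans hΩI) with ⟨M, hM, hHM⟩ | hres
  swap
  · unfold Row12P
    iterate 18 right
    exact hres
  rcases hM with ⟨W, hW0, hW, rfl⟩ | ⟨W, hW0, hW1, hW, rfl⟩ | ⟨hq, v, hv, rfl⟩ | ⟨t, k, D, hD, hk1, rfl⟩ |
    ⟨k, D, hD, hts, rfl⟩ | ⟨r, K, hr, hK, hsa, rfl⟩ | ⟨K, hK, hac, hnsa, hsim, rfl⟩ |
    ⟨n₁, n₂, e, P, f₁, f₂, hq, h1, h2, hf₁, hf₂, hT, rfl⟩ |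
    ⟨n₁, n₂, e, P, f₁, f₂, h1, h2, hf₁, hf₂, hT, hpure, rfl⟩ | ⟨F₀, r, P, ζ, hr, hc, hζ, hrat, rfl⟩ |
    ⟨R, hq, hR, hirr, hRI, rfl⟩ | ⟨k, t, e, P, f₁, hq, hk, ht, hf₁, hT, rfl⟩ |
    ⟨k, t, e, P, f₁, hk, ht, hf₁, hT, hpure, rfl⟩
  · -- (1a) totally singular
    have hW1 : W ≠ ⊤ := ts_ne_top hQ (by norm_num) W hW
    have hHW : H = subspaceStabilizer W ⊓ omegaGL Q :=
      eq_of_le_member _ H _ hH (hHM.trans inf_le_left) (not_omega_le_stab hQ h5 W hW0 hW1)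
    have hd5 : finrank F W ≠ 5 := by
      intro hd
      have hA1 : ∃ K : Subgroup (GL (Fin 12) F), subspaceStabilizer W ⊓ omegaGL Q < K ∧ K < omegaGL Q :=
        Cfsg.Agent.Lib.Helper13.ts_hyperplane_not_maximal (toQF Q hQ)
          (toQF_nondegenerate Q hQ) h5 hplus W hW (by rw [hd])
      obtain ⟨K, hK1, hK2⟩ := hA1
      rw [← hHW] at hK1
      exact not_maximal_of_between _ H hH ⟨K, hK1, hK2⟩
    exact Or.inl ⟨W, hW0, hW, hd5, hHW⟩
  · -- (1b) non-degenerate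
    exact row_of_nondeg hQ hplus H hH W hW0 hW1 hW (hHM.trans inf_le_left)
  · -- (1c) non-singular vector
    have hv0 : v ≠ 0 := by
      rintro rfl
      apply hv
      have := hQ.smul 0 (0 : Fin 12 → F)
      rw [zero_smul] at this
      rw [this]
      ring
    have hs0 : Submodule.span F {v} ≠ ⊥ := by
      rw [Ne, Submodule.span_singleton_eq_bot]
      exact hv0
    have hs1 : Submodule.span F {v} ≠ ⊤ := by
      apply ne_top_of_finrank_lt
      rw [finrank_span_singleton hv0]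
      norm_num
    exact Or.inr (Or.inr (Or.inr (Or.inr (Or.inr (Or.inl ⟨hq, v, hv,
      eq_of_le_member _ H _ hH (hHM.trans inf_le_left) (not_omega_le_stab hQ h5 _ hs0 hs1)⟩)))))
  · -- (2a) isometric decomposition
    exact row_of_decomp hQ hplus H hH D hD hk1 hHM
  · -- (2b) totally singular halves
    have hdim := Cfsg.Agent.Lib.Helper9.HubCor.mul_eq_card_of_isMDecomposition D hD
    rw [hc12] at hdim
    have hk6 : k = 6 := by omega
    subst hk6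
    unfold Row12P
    iterate 12 right
    left
    exact ⟨D, hD, hts, eq_of_le_member _ H _ hH (hHM.trans inf_le_left) (not_omega_le_tsPair hQ h5 6 D hD hts)⟩
  · -- (3a) self-adjoint field
    have hdvd := Cfsg.Agent.Lib.Helper29.S5814.field_degree_dvd r K hK
    rw [hc12] at hdvd
    have hr23 : r = 2 ∨ r = 3 := by
      have h12 : (12 : ℕ) = 2 ^ 2 * 3 := by norm_num
      rw [h12] at hdvd
      rcases (Nat.Prime.dvd_mul hr).mp hdvd with h | h
      · exact Or.inl ((Nat.prime_dvd_prime_iff_eq hr Nat.prime_two).mp (hr.dvd_of_dvd_pow h))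
      · exact Or.inr ((Nat.prime_dvd_prime_iff_eq hr Nat.prime_three).mp h)
    unfold Row12P
    rcases hr23 with rfl | rfl
    · iterate 13 right
      left
      exact ⟨K, hK, eq_of_le_member _ H _ hH (hHM.trans inf_le_left) (not_omega_le_field hQ h5 2 hr K hK)⟩
    · iterate 14 right
      left
      exact ⟨K, hK, eq_of_le_member _ H _ hH (hHM.trans inf_le_left) (not_omega_le_field hQ h5 3 hr K hK)⟩
  · -- (3b) unitary field
    unfold Row12P
    iterate 15 right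
    left
    exact exit_unitary hQ h5 H hH ⟨K, hK, hac, hnsa, hsim, hHM.trans inf_le_left⟩
  · -- (4o) symmetric tensor product
    have hcard := Fintype.card_congr e
    rw [hc12, Fintype.card_prod, Fintype.card_fin, Fintype.card_fin] at hcard
    have h112 : n₁ ∣ 12 := Dvd.intro _ hcard.symm
    have h1' : n₁ ≤ 12 := Nat.le_of_dvd (by norm_num) h112
    have hcases : (n₁ = 2 ∧ n₂ = 6) ∨ (n₁ = 3 ∧ n₂ = 4) ∨ (n₁ = 4 ∧ n₂ = 3) ∨ (n₁ = 6 ∧ n₂ = 2) := by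
      interval_cases n₁ <;> omega
    rcases hcases with ⟨rfl, rfl⟩ | ⟨rfl, rfl⟩ | ⟨rfl, rfl⟩ | ⟨rfl, rfl⟩
    · exact row_of_tensor26_symm hQ H hH hq e P f₁ f₂ hf₁ hf₂ hT hHM
    · exact row_of_tensor34_symm hQ hplus hX3 H hH hq e P f₁ f₂ hf₁ hf₂ hT (hHM.trans inf_le_left)
    · have hsw := Cfsg.Agent.Lib.Helper15.TensSwap.tensorProductSubgroup_swap 4 3 e P
      have hTsw := Cfsg.Agent.Lib.Helper15.TensSwap.isTensorFormStructure_swap id (polar Q) f₁ f₂ e P hT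
      exact row_of_tensor34_symm hQ hplus hX3 H hH hq _ P f₂ f₁ hf₂ hf₁ hTsw (hsw ▸ (hHM.trans inf_le_left))
    · have hsw := Cfsg.Agent.Lib.Helper15.TensSwap.tensorProductSubgroup_swap 6 2 e P
      have hTsw := Cfsg.Agent.Lib.Helper15.TensSwap.isTensorFormStructure_swap id (polar Q) f₁ f₂ e P hT
      exact row_of_tensor26_symm hQ H hH hq _ P f₂ f₁ hf₂ hf₁ hTsw (hsw ▸ hHM)
  · -- (4s) symplectic tensor product
    have hcard := Fintype.card_congr e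
    rw [hc12, Fintype.card_prod, Fintype.card_fin, Fintype.card_fin] at hcard
    have h112 : n₁ ∣ 12 := Dvd.intro _ hcard.symm
    have h1' : n₁ ≤ 12 := Nat.le_of_dvd (by norm_num) h112
    obtain ⟨j₁, hj₁⟩ := Cfsg.Agent.Lib.Helper28.OEPlus.even_of_symplectic f₁ hf₁
    obtain ⟨j₂, hj₂⟩ := Cfsg.Agent.Lib.Helper28.OEPlus.even_of_symplectic f₂ hf₂
    have hcases : (n₁ = 2 ∧ n₂ = 6) ∨ (n₁ = 6 ∧ n₂ = 2) := by
      interval_cases n₁ <;> omega
    rcases hcases with ⟨rfl, rfl⟩ | ⟨rfl, rfl⟩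
    · exact row_of_tensor26_symp hQ hX7 H hH e P f₁ f₂ hf₁ hf₂ hT hpure (hHM.trans inf_le_left)
    · have hsw := Cfsg.Agent.Lib.Helper15.TensSwap.tensorProductSubgroup_swap 6 2 e P
      have hTsw := Cfsg.Agent.Lib.Helper15.TensSwap.isTensorFormStructure_swap id (polar Q) f₁ f₂ e P hT
      refine row_of_tensor26_symp hQ hX7 H hH _ P f₂ f₁ hf₂ hf₁ hTsw ?_ (hsw ▸ (hHM.trans inf_le_left))
      intro x₁ x₂
      have := hpure x₂ x₁
      have heq : (pure2 x₁ x₂ ∘ (e.trans (Equiv.prodComm (Fin 6) (Fin 2)))) = (pure2 x₂ x₁ ∘ e) := by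
        funext i
        simp only [Function.comp_apply, Equiv.trans_apply, Equiv.prodComm_apply, pure2, Prod.fst_swap,
          Prod.snd_swap]
        exact mul_comm _ _
      rw [heq]
      exact this
  · -- (5) subfield
    unfold Row12P
    iterate 17 right
    left
    exact ⟨F₀, r, P, ζ, hr, hc, hζ, hrat, eq_of_le_member _ H _ hH (hHM.trans inf_le_left)
      (not_omega_le_subfield hQ h5 F₀ (Cfsg.Agent.Lib.Helper29.AschCor.proper_of_card F₀ r hr hc) P)⟩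
  · -- (6) symplectic type : impossible in dimension 12
    exact (Cfsg.Agent.Lib.Helper3.OEC6.c6_false_twelve hQ R hR hirr hRI).elim
  · -- (7o) symmetric tensor power : impossible in dimension 12
    exfalso
    have hcard := Fintype.card_congr e
    rw [hc12, Fintype.card_fun, Fintype.card_fin, Fintype.card_fin] at hcard
    exact pow_ne_twelve hk ht hcard.symm
  · -- (7s) symplectic tensor power : impossible in dimension 12
    exfalso
    have hcard := Fintype.card_congr e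
    rw [hc12, Fintype.card_fun, Fintype.card_fin, Fintype.card_fin] at hcard
    exact pow_ne_twelve hk ht hcard.symm

end Cfsg.Agent.Lib.Helper19.OECor12p
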