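import Mathlib
import Cfsg.Prelude.Def_GeometricClasses
import Cfsg.Agent.Lib.Helper13.TensorNM
import Cfsg.Agent.Lib.Helper27.OEPlusXZ
import Cfsg.Agent.Lib.Helper2.S5662SpT6c

/-!
# `GL₂(2) ⊗ GL_s(2)` normalises a quadratic field (helper19)

Over the field with two elements `GL₂(2) ≅ S₃` normalises `F₄ = F₂[z]`, `z = !![1, 1; 1, 0]` (`z * z = z + 1`): every
conjugate of `z` is `z` or `z + 1`.  Hence the tensor product subgroup `tensorProductSubgroup 2 s e P` normalises the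
field subalgebra `K = P (F₂[z] ⊗ 1) P⁻¹` of degree `2`.  In the row S5871 (`Ω₁₂⁺(2)`) this puts `Sp₂(2) ⊗ Sp₆(2)` into
the clause "normaliser of a degree-2 subfield" (`ΓU₆(2)`), with no strictness argument.
-/

set_option autoImplicit false
set_option linter.unusedSectionVars false
set_option linter.unusedVariables false

namespace Cfsg.Agent.Lib.Helper19.OETens2Two

open scoped Matrix Kronecker
open Cfsg Cfsg.Geo Cfsg.Agent.Lib.Helper13.TNM Cfsg.Agent.Lib.Helper27.OEPlusXZ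

variable {F : Type*} [Field F]

/-! ### the field with two elements -/

theorem zero_or_one [Fintype F] (hq : Fintype.card F = 2) (x : F) : x = 0 ∨ x = 1 := by
  by_contra h
  push Not at h
  have h3 : 2 < Fintype.card F :=
    Fintype.two_lt_card_iff.mpr ⟨0, 1, x, zero_ne_one, fun h0 => h.1 h0.symm, fun h1 => h.2 h1.symm⟩
  omega

theorem one_add_one [Fintype F] (hq : Fintype.card F = 2) : (1 : F) + 1 = 0 := by
  have h := Nat.cast_card_eq_zero F
  rw [hq] at h
  have h2 : ((2 : ℕ) : F) = 1 + 1 := by norm_num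
  rw [← h2]
  exact h

/-! ### the algebra `{α + β Z}` for `Z * Z = Z + 1` -/

section alg
variable {n : ℕ}

theorem mul_form (Z : Matrix (Fin n) (Fin n) F) (hZ : Z * Z = Z + 1) (α β α' β' : F) :
    (α • (1 : Matrix (Fin n) (Fin n) F) + β • Z) * (α' • 1 + β' • Z) =
      (α * α' + β * β') • 1 + (α * β' + β * α' + β * β') • Z := by
  simp only [add_mul, mul_add, Matrix.smul_mul, Matrix.mul_smul, Matrix.one_mul, Matrix.mul_one, hZ, smul_smul,
    smul_add]
  module

/-- the subalgebra `{α + β Z}` -/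
def KW (Z : Matrix (Fin n) (Fin n) F) (hZ : Z * Z = Z + 1) : Subalgebra F (Matrix (Fin n) (Fin n) F) where
  carrier := {x | ∃ α β : F, x = α • 1 + β • Z}
  mul_mem' := by
    rintro _ _ ⟨α, β, rfl⟩ ⟨α', β', rfl⟩
    exact ⟨_, _, mul_form Z hZ α β α' β'⟩
  one_mem' := ⟨1, 0, by simp⟩
  add_mem' := by
    rintro _ _ ⟨α, β, rfl⟩ ⟨α', β', rfl⟩
    exact ⟨α + α', β + β', by module⟩
  zero_mem' := ⟨0, 0, by simp⟩
  algebraMap_mem' := fun c => ⟨c, 0, by simp [Algebra.algebraMap_eq_smul_one]⟩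

theorem isFieldSubalgebra_KW [Fintype F] (hq : Fintype.card F = 2) (Z : Matrix (Fin n) (Fin n) F)
    (hZ : Z * Z = Z + 1) (hns : ∀ c : F, Z ≠ c • 1) : IsFieldSubalgebra 2 (KW Z hZ) := by
  have h11 := one_add_one hq
  refine ⟨?_, ?_, ?_⟩
  · rintro _ ⟨α, β, rfl⟩ _ ⟨α', β', rfl⟩
    rw [mul_form Z hZ, mul_form Z hZ]
    congr 1 <;> congr 1 <;> ring
  · rintro _ ⟨α, β, rfl⟩ hx
    refine ⟨(α + β) • 1 + β • Z, ⟨_, _, rfl⟩, ?_⟩
    rw [mul_form Z hZ]
    have e2 : α * β + β * (α + β) + β * β = 0 := by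
      have : α * β + β * (α + β) + β * β = (1 + 1) * (α * β + β * β) := by ring
      rw [this, h11, zero_mul]
    have e1 : α * (α + β) + β * β = 1 := by
      rcases zero_or_one hq α with rfl | rfl <;> rcases zero_or_one hq β with rfl | rfl
      · exfalso
        apply hx
        simp
      · ring
      · ring
      · linear_combination h11
    rw [e1, e2, one_smul, zero_smul, add_zero]
  · let φ : (F × F) →ₗ[F] KW Z hZ :=
      { toFun := fun p => ⟨p.1 • 1 + p.2 • Z, ⟨p.1, p.2, rfl⟩⟩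
        map_add' := fun p q => by
          apply Subtype.ext
          simp only [Prod.fst_add, Prod.snd_add, Subalgebra.coe_add]
          module
        map_smul' := fun c p => by
          apply Subtype.ext
          simp only [Prod.smul_fst, Prod.smul_snd, smul_eq_mul, RingHom.id_apply, Subalgebra.coe_smul]
          module }
    have hinj : Function.Injective φ := by
      rw [← LinearMap.ker_eq_bot, LinearMap.ker_eq_bot']
      intro p hp
      have h1 : p.1 • (1 : Matrix (Fin n) (Fin n) F) + p.2 • Z = 0 := congrArg Subtype.val hp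
      obtain ⟨h2, h3⟩ := Cfsg.Agent.Lib.Helper2.S5662SpT6c.coeff_zero Z hns _ _ h1
      exact Prod.ext h2 h3
    have hsurj : Function.Surjective φ := by
      rintro ⟨_, α, β, rfl⟩
      exact ⟨(α, β), rfl⟩
    have e := LinearEquiv.ofBijective φ ⟨hinj, hsurj⟩
    rw [← e.finrank_eq, Module.finrank_prod, Module.finrank_self]

/-- conjugation by an element with `g Z g⁻¹ = c + Z` -/
theorem conj_form (Z : Matrix (Fin n) (Fin n) F) (g : GL (Fin n) F) (c : F)
    (hg : (g : Matrix (Fin n) (Fin n) F) * Z * ((g⁻¹ : GL (Fin n) F) : Matrix (Fin n) (Fin n) F) = c • 1 + Z)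
    (α β : F) :
    (g : Matrix (Fin n) (Fin n) F) * (α • 1 + β • Z) * ((g⁻¹ : GL (Fin n) F) : Matrix (Fin n) (Fin n) F) =
      (α + β * c) • 1 + β • Z := by
  have h1 : (g : Matrix (Fin n) (Fin n) F) * ((g⁻¹ : GL (Fin n) F) : Matrix (Fin n) (Fin n) F) = 1 := by
    rw [← Units.val_mul, mul_inv_cancel, Units.val_one]
  rw [Matrix.mul_add, Matrix.add_mul, Matrix.mul_smul, Matrix.mul_smul, Matrix.mul_one, Matrix.smul_mul,
    Matrix.smul_mul, h1, hg]
  module

theorem conj_inv (Z : Matrix (Fin n) (Fin n) F) (g : GL (Fin n) F) (c : F)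
    (hg : (g : Matrix (Fin n) (Fin n) F) * Z * ((g⁻¹ : GL (Fin n) F) : Matrix (Fin n) (Fin n) F) = c • 1 + Z) :
    ((g⁻¹ : GL (Fin n) F) : Matrix (Fin n) (Fin n) F) * Z * (((g⁻¹)⁻¹ : GL (Fin n) F) : Matrix (Fin n) (Fin n) F) =
      (-c) • 1 + Z := by
  have h2 : ((g⁻¹ : GL (Fin n) F) : Matrix (Fin n) (Fin n) F) * (g : Matrix (Fin n) (Fin n) F) = 1 := by
    rw [← Units.val_mul, inv_mul_cancel, Units.val_one]
  rw [inv_inv]
  have h3 : Z = ((g⁻¹ : GL (Fin n) F) : Matrix (Fin n) (Fin n) F) * (c • 1 + Z) * (g : Matrix (Fin n) (Fin n) F) := by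
    rw [← hg]
    simp only [Matrix.mul_assoc]
    rw [h2, Matrix.mul_one, ← Matrix.mul_assoc, h2, Matrix.one_mul]
  rw [Matrix.mul_add, Matrix.add_mul, Matrix.mul_smul, Matrix.mul_one, Matrix.smul_mul, h2] at h3
  rw [neg_smul]
  exact eq_neg_add_of_add_eq h3.symm

theorem le_normalizer_KW (Z : Matrix (Fin n) (Fin n) F) (hZ : Z * Z = Z + 1) (H : Subgroup (GL (Fin n) F))
    (hnorm : ∀ h ∈ H, ∃ c : F,
      (h : Matrix (Fin n) (Fin n) F) * Z * ((h⁻¹ : GL (Fin n) F) : Matrix (Fin n) (Fin n) F) = c • 1 + Z) :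
    H ≤ subalgebraNormalizer (KW Z hZ) := by
  intro h hh k
  obtain ⟨c, hc⟩ := hnorm h hh
  constructor
  · rintro ⟨α, β, rfl⟩
    exact ⟨α + β * c, β, conj_form Z h c hc α β⟩
  · rintro ⟨α, β, hk⟩
    have h2 : ((h⁻¹ : GL (Fin n) F) : Matrix (Fin n) (Fin n) F) * (h : Matrix (Fin n) (Fin n) F) = 1 := by
      rw [← Units.val_mul, inv_mul_cancel, Units.val_one]
    have h3 := conj_form Z h⁻¹ (-c) (conj_inv Z h c hc) α β
    rw [inv_inv, ← hk] at h3
    refine ⟨α + β * -c, β, ?_⟩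
    rw [← h3]
    simp only [Matrix.mul_assoc]
    rw [h2, Matrix.mul_one, ← Matrix.mul_assoc, h2, Matrix.one_mul]

end alg

/-! ### `2 × 2` matrices over the field with two elements -/

/-- `z = !![1, 1; 1, 0]` -/
def zz (F : Type*) [Field F] : Matrix (Fin 2) (Fin 2) F := !![1, 1; 1, 0]

theorem zz_mul_self [Fintype F] (hq : Fintype.card F = 2) : zz F * zz F = zz F + 1 := by
  have h11 := one_add_one hq
  unfold zz
  ext i j
  fin_cases i <;> fin_cases j <;> simp [Matrix.mul_apply, Fin.sum_univ_two, h11]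

/-- every conjugate of `z` is `z` or `z + 1` -/
theorem conj_zz [Fintype F] (hq : Fintype.card F = 2) (A : GL (Fin 2) F) :
    ∃ c : F, (A : Matrix (Fin 2) (Fin 2) F) * zz F * ((A⁻¹ : GL (Fin 2) F) : Matrix (Fin 2) (Fin 2) F) =
      c • 1 + zz F := by
  have h11 := one_add_one hq
  obtain ⟨w, hw⟩ : ∃ w : Matrix (Fin 2) (Fin 2) F,
      w = (A : Matrix (Fin 2) (Fin 2) F) * zz F * ((A⁻¹ : GL (Fin 2) F) : Matrix (Fin 2) (Fin 2) F) := ⟨_, rfl⟩
  rw [← hw]
  have htr : w.trace = 1 := by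
    rw [hw, Matrix.trace_mul_cycle, ← Units.val_mul, inv_mul_cancel, Units.val_one, Matrix.one_mul]
    simp [zz, Matrix.trace_fin_two]
  have hdet : w.det = -1 := by
    rw [hw, Matrix.det_mul, Matrix.det_mul, mul_right_comm, ← Matrix.det_mul, ← Units.val_mul, mul_inv_cancel,
      Units.val_one, Matrix.det_one, one_mul]
    simp [zz, Matrix.det_fin_two]
  rw [Matrix.trace_fin_two] at htr
  rw [Matrix.det_fin_two] at hdet
  have hsq : ∀ x : F, x * x = x := by
    intro x
    rcases zero_or_one hq x with rfl | rfl <;> ring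
  have hprod : w 0 1 * w 1 0 = 1 := by
    have h1 : w 1 1 = 1 - w 0 0 := by linear_combination htr
    rw [h1] at hdet
    have h2 := hsq (w 0 0)
    linear_combination (-1 : F) * hdet - h2
  have h01 : w 0 1 = 1 := by
    rcases zero_or_one hq (w 0 1) with h | h
    · rw [h, zero_mul] at hprod
      exact absurd hprod zero_ne_one
    · exact h
  have h10 : w 1 0 = 1 := by
    rw [h01, one_mul] at hprod
    exact hprod
  refine ⟨w 1 1, ?_⟩
  ext i j
  fin_cases i <;> fin_cases j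
  · show w 0 0 = _
    simp [zz]
    linear_combination htr - (w 1 1) * h11
  · show w 0 1 = _
    simp [zz, h01]
  · show w 1 0 = _
    simp [zz, h10]
  · show w 1 1 = _
    simp [zz]

/-! ### transport to `F^n` -/

section tens
variable {n s : ℕ}

theorem conjM_add {ι κ : Type} [Fintype ι] [DecidableEq ι] [Fintype κ] [DecidableEq κ] (e : ι ≃ κ) (P : GL ι F)
    (X Y : Matrix κ κ F) : conjM e P (X + Y) = conjM e P X + conjM e P Y := by
  unfold conjM
  have h : (X + Y).submatrix e e = X.submatrix e e + Y.submatrix e e := rfl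
  rw [h, Matrix.mul_add, Matrix.add_mul]

/-- the transported element `Z = z ⊗ 1` -/
def ZW (e : Fin n ≃ Fin 2 × Fin s) (P : GL (Fin n) F) : Matrix (Fin n) (Fin n) F :=
  conjM e P (zz F ⊗ₖ (1 : Matrix (Fin s) (Fin s) F))

theorem ZW_mul_self [Fintype F] (hq : Fintype.card F = 2) (e : Fin n ≃ Fin 2 × Fin s) (P : GL (Fin n) F) :
    ZW e P * ZW e P = ZW e P + 1 := by
  unfold ZW
  rw [← conjM_mul, ← Matrix.mul_kronecker_mul, zz_mul_self hq, Matrix.one_mul, Matrix.add_kronecker,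
    Matrix.one_kronecker_one, conjM_add, conjM_one]

theorem ZW_ne_smul (hs0 : 0 < s) (e : Fin n ≃ Fin 2 × Fin s) (P : GL (Fin n) F) (c : F) :
    ZW e P ≠ c • (1 : Matrix (Fin n) (Fin n) F) := by
  intro h
  have h1 : conjM e P (zz F ⊗ₖ (1 : Matrix (Fin s) (Fin s) F)) = conjM e P (c • 1) := by
    rw [conjM_smul, conjM_one]; exact h
  have h3 := conjM_injective e P h1
  have h4 := congrFun (congrFun h3 ((0 : Fin 2), (⟨0, hs0⟩ : Fin s))) ((1 : Fin 2), (⟨0, hs0⟩ : Fin s))
  rw [Matrix.kroneckerMap_apply, Matrix.one_apply_eq, mul_one, Matrix.smul_apply, smul_eq_mul,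
    Matrix.one_apply_ne (by intro h'; exact absurd (congrArg Prod.fst h') (show (0 : Fin 2) ≠ 1 by decide)), mul_zero] at h4
  simp [zz] at h4

theorem tensor_conj [Fintype F] (hq : Fintype.card F = 2) (e : Fin n ≃ Fin 2 × Fin s) (P : GL (Fin n) F)
    (g : GL (Fin n) F) (hg : g ∈ tensorProductSubgroup 2 s e P) :
    ∃ c : F, (g : Matrix (Fin n) (Fin n) F) * ZW e P * ((g⁻¹ : GL (Fin n) F) : Matrix (Fin n) (Fin n) F) =
      c • 1 + ZW e P := by
  rw [tps_eq] at hg
  obtain ⟨M, hM, rfl⟩ := Subgroup.mem_map.mp hg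
  obtain ⟨A, B, rfl⟩ := eq_kronGL_of_mem hM
  obtain ⟨c, hc⟩ := conj_zz hq A
  refine ⟨c, ?_⟩
  rw [← map_inv, psi_val', psi_val', kronGL_val, kronGL_inv_val]
  unfold ZW
  rw [← conjM_mul, ← conjM_mul, ← Matrix.mul_kronecker_mul, ← Matrix.mul_kronecker_mul, hc, Matrix.mul_one,
    ← Units.val_mul, mul_inv_cancel, Units.val_one, Matrix.add_kronecker, Matrix.smul_kronecker,
    Matrix.one_kronecker_one, conjM_add, conjM_smul, conjM_one]

/-- **`GL₂(2) ⊗ GL_s(2)` normalises a quadratic field** -/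
theorem tensor_two_le_field [Fintype F] (hq : Fintype.card F = 2) (hs0 : 0 < s) (e : Fin n ≃ Fin 2 × Fin s)
    (P : GL (Fin n) F) :
    ∃ K : Subalgebra F (Matrix (Fin n) (Fin n) F), IsFieldSubalgebra 2 K ∧
      tensorProductSubgroup 2 s e P ≤ subalgebraNormalizer K :=
  ⟨KW (ZW e P) (ZW_mul_self hq e P),
    isFieldSubalgebra_KW hq (ZW e P) (ZW_mul_self hq e P) (ZW_ne_smul hs0 e P),
    le_normalizer_KW (ZW e P) (ZW_mul_self hq e P) _ (fun g hg => tensor_conj hq e P g hg)⟩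

end tens

end Cfsg.Agent.Lib.Helper19.OETens2Two
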