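import Mathlib
import Cfsg.Prelude.Def_GeometricClasses
import Cfsg.Agent.Lib.Helper19.OECor12p
import Cfsg.Agent.Lib.Helper19.OETens2Two

/-!
# Row S5871 (`Ω₁₂⁺`) : the hypothesis `HypX7` of `final12` is REAL (helper19)

`Sp₂(2) ⊗ Sp₆(2)` normalises the quadratic field `P (F₂[z] ⊗ 1) P⁻¹` (`OETens2Two.tensor_two_le_field`).
-/

set_option autoImplicit false

namespace Cfsg.Agent.Lib.Helper19.OECor12p

open Matrix Cfsg Cfsg.Geo

variable {F : Type*} [Field F] [Fintype F]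

theorem hypX7 (Q : (Fin 12 → F) → F) : HypX7 Q := by
  intro hq e P f₁ f₂ _ _ _ _
  obtain ⟨K, hK, hle⟩ := Cfsg.Agent.Lib.Helper19.OETens2Two.tensor_two_le_field hq (by norm_num : 0 < 6) e P
  exact Or.inr ⟨K, hK, inf_le_left.trans hle⟩

/-- **S5871** (`Ω₁₂⁺`) from the hub and X3 alone -/
theorem final12' (Q : (Fin 12 → F) → F) (hQ : IsNondegenerateQuadraticForm Q) (hplus : IsPlusTypeOn Q ⊤)
    (hub : Cfsg.Agent.Lib.Helper1.OE.HubOE Q) (hX3 : HypX3 Q)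
    (H : Subgroup (GL (Fin 12) F)) (hH : IsMaximalIn (omegaGL Q) H) : Row12P Q H :=
  final12 Q hQ hplus hub hX3 (hypX7 Q) H hH

end Cfsg.Agent.Lib.Helper19.OECor12p
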