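import Cfsg.Agent.Lib.Helper19.ONMM3Words

set_option autoImplicit false
set_option maxRecDepth 100000
set_option linter.unusedVariables false
set_option Elab.async false

namespace Cfsg.Agent.Lib.Helper19.ONMM3

open Cfsg.Agent.Helper4.TC Cfsg.Agent.Lib.Helper19.CentModel

theorem rel0 : rangeS (relsRep mdata basesM) 711 0 = true := by decide +kernel
theorem rel1 : rangeS (relsRep mdata basesM) 711 711 = true := by decide +kernel
theorem rel2 : rangeS (relsRep mdata basesM) 711 1422 = true := by decide +kernel
theorem rel3 : rangeS (relsRep mdata basesM) 711 2133 = true := by decide +kernel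
theorem rel4 : rangeS (relsRep mdata basesM) 711 2844 = true := by decide +kernel
theorem rel5 : rangeS (relsRep mdata basesM) 711 3555 = true := by decide +kernel
theorem rel6 : rangeS (relsRep mdata basesM) 711 4266 = true := by decide +kernel
theorem rel7 : rangeS (relsRep mdata basesM) 711 4977 = true := by decide +kernel

end Cfsg.Agent.Lib.Helper19.ONMM3
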