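import Cfsg.Agent.Lib.Helper19.ONMM3Words

set_option autoImplicit false
set_option maxRecDepth 100000
set_option linter.unusedVariables false
set_option Elab.async false

namespace Cfsg.Agent.Lib.Helper19.ONMM3

open Cfsg.Agent.Helper4.TC Cfsg.Agent.Lib.Helper19.CentModel

theorem rel8 : rangeS (relsRep mdata basesM) 711 5688 = true := by decide +kernel
theorem rel9 : rangeS (relsRep mdata basesM) 711 6399 = true := by decide +kernel
theorem rel10 : rangeS (relsRep mdata basesM) 711 7110 = true := by decide +kernel
theorem rel11 : rangeS (relsRep mdata basesM) 711 7821 = true := by decide +kernel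
theorem rel12 : rangeS (relsRep mdata basesM) 711 8532 = true := by decide +kernel
theorem rel13 : rangeS (relsRep mdata basesM) 711 9243 = true := by decide +kernel
theorem rel14 : rangeS (relsRep mdata basesM) 711 9954 = true := by decide +kernel
theorem rel15 : rangeS (relsRep mdata basesM) 711 10665 = true := by decide +kernel

end Cfsg.Agent.Lib.Helper19.ONMM3
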