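import Cfsg.Agent.Lib.Helper19.ONMM3Words

set_option autoImplicit false
set_option maxRecDepth 100000
set_option linter.unusedVariables false
set_option Elab.async false

namespace Cfsg.Agent.Lib.Helper19.ONMM3

open Cfsg.Agent.Helper4.TC Cfsg.Agent.Lib.Helper19.CentModel

theorem rel80 : rangeS (relsRep mdata basesM) 711 56880 = true := by decide +kernel
theorem rel81 : rangeS (relsRep mdata basesM) 711 57591 = true := by decide +kernel
theorem rel82 : rangeS (relsRep mdata basesM) 711 58302 = true := by decide +kernel
theorem rel83 : rangeS (relsRep mdata basesM) 711 59013 = true := by decide +kernel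
theorem rel84 : rangeS (relsRep mdata basesM) 711 59724 = true := by decide +kernel
theorem rel85 : rangeS (relsRep mdata basesM) 711 60435 = true := by decide +kernel
theorem rel86 : rangeS (relsRep mdata basesM) 711 61146 = true := by decide +kernel
theorem rel87 : rangeS (relsRep mdata basesM) 711 61857 = true := by decide +kernel

end Cfsg.Agent.Lib.Helper19.ONMM3
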