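import Cfsg.Agent.Lib.Helper19.ONMM3Words

set_option autoImplicit false
set_option maxRecDepth 100000
set_option linter.unusedVariables false
set_option Elab.async false

namespace Cfsg.Agent.Lib.Helper19.ONMM3

open Cfsg.Agent.Helper4.TC Cfsg.Agent.Lib.Helper19.CentModel

theorem rel88 : rangeS (relsRep mdata basesM) 711 62568 = true := by decide +kernel
theorem rel89 : rangeS (relsRep mdata basesM) 711 63279 = true := by decide +kernel
theorem rel90 : rangeS (relsRep mdata basesM) 711 63990 = true := by decide +kernel
theorem rel91 : rangeS (relsRep mdata basesM) 711 64701 = true := by decide +kernel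
theorem rel92 : rangeS (relsRep mdata basesM) 711 65412 = true := by decide +kernel
theorem rel93 : rangeS (relsRep mdata basesM) 711 66123 = true := by decide +kernel
theorem rel94 : rangeS (relsRep mdata basesM) 711 66834 = true := by decide +kernel
theorem rel95 : rangeS (relsRep mdata basesM) 711 67545 = true := by decide +kernel

end Cfsg.Agent.Lib.Helper19.ONMM3
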