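import Cfsg.Agent.Lib.Helper19.ONMM3Words

set_option autoImplicit false
set_option maxRecDepth 100000
set_option linter.unusedVariables false
set_option Elab.async false

namespace Cfsg.Agent.Lib.Helper19.ONMM3

open Cfsg.Agent.Helper4.TC Cfsg.Agent.Lib.Helper19.CentModel

theorem rel96 : rangeS (relsRep mdata basesM) 711 68256 = true := by decide +kernel
theorem rel97 : rangeS (relsRep mdata basesM) 711 68967 = true := by decide +kernel
theorem rel98 : rangeS (relsRep mdata basesM) 711 69678 = true := by decide +kernel
theorem rel99 : rangeS (relsRep mdata basesM) 711 70389 = true := by decide +kernel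
theorem rel100 : rangeS (relsRep mdata basesM) 711 71100 = true := by decide +kernel
theorem rel101 : rangeS (relsRep mdata basesM) 711 71811 = true := by decide +kernel
theorem rel102 : rangeS (relsRep mdata basesM) 711 72522 = true := by decide +kernel
theorem rel103 : rangeS (relsRep mdata basesM) 711 73233 = true := by decide +kernel

end Cfsg.Agent.Lib.Helper19.ONMM3
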