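import Cfsg.Agent.Lib.Helper19.ONMM3Words

set_option autoImplicit false
set_option maxRecDepth 100000
set_option linter.unusedVariables false
set_option Elab.async false

namespace Cfsg.Agent.Lib.Helper19.ONMM3

open Cfsg.Agent.Helper4.TC Cfsg.Agent.Lib.Helper19.CentModel

theorem rel104 : rangeS (relsRep mdata basesM) 711 73944 = true := by decide +kernel
theorem rel105 : rangeS (relsRep mdata basesM) 711 74655 = true := by decide +kernel
theorem rel106 : rangeS (relsRep mdata basesM) 711 75366 = true := by decide +kernel
theorem rel107 : rangeS (relsRep mdata basesM) 711 76077 = true := by decide +kernel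
theorem rel108 : rangeS (relsRep mdata basesM) 711 76788 = true := by decide +kernel
theorem rel109 : rangeS (relsRep mdata basesM) 711 77499 = true := by decide +kernel
theorem rel110 : rangeS (relsRep mdata basesM) 711 78210 = true := by decide +kernel
theorem rel111 : rangeS (relsRep mdata basesM) 711 78921 = true := by decide +kernel

end Cfsg.Agent.Lib.Helper19.ONMM3
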