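import Cfsg.Agent.Lib.Helper19.ONMM3Words

set_option autoImplicit false
set_option maxRecDepth 100000
set_option linter.unusedVariables false
set_option Elab.async false

namespace Cfsg.Agent.Lib.Helper19.ONMM3

open Cfsg.Agent.Helper4.TC Cfsg.Agent.Lib.Helper19.CentModel

theorem rel112 : rangeS (relsRep mdata basesM) 711 79632 = true := by decide +kernel
theorem rel113 : rangeS (relsRep mdata basesM) 711 80343 = true := by decide +kernel
theorem rel114 : rangeS (relsRep mdata basesM) 711 81054 = true := by decide +kernel
theorem rel115 : rangeS (relsRep mdata basesM) 711 81765 = true := by decide +kernel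
theorem rel116 : rangeS (relsRep mdata basesM) 711 82476 = true := by decide +kernel
theorem rel117 : rangeS (relsRep mdata basesM) 711 83187 = true := by decide +kernel
theorem rel118 : rangeS (relsRep mdata basesM) 711 83898 = true := by decide +kernel
theorem rel119 : rangeS (relsRep mdata basesM) 711 84609 = true := by decide +kernel

end Cfsg.Agent.Lib.Helper19.ONMM3
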