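import Cfsg.Agent.Lib.Helper19.ONMM3Words

set_option autoImplicit false
set_option maxRecDepth 100000
set_option linter.unusedVariables false
set_option Elab.async false

namespace Cfsg.Agent.Lib.Helper19.ONMM3

open Cfsg.Agent.Helper4.TC Cfsg.Agent.Lib.Helper19.CentModel

theorem rel120 : rangeS (relsRep mdata basesM) 711 85320 = true := by decide +kernel
theorem rel121 : rangeS (relsRep mdata basesM) 711 86031 = true := by decide +kernel
theorem rel122 : rangeS (relsRep mdata basesM) 711 86742 = true := by decide +kernel
theorem rel123 : rangeS (relsRep mdata basesM) 711 87453 = true := by decide +kernel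
theorem rel124 : rangeS (relsRep mdata basesM) 711 88164 = true := by decide +kernel
theorem rel125 : rangeS (relsRep mdata basesM) 711 88875 = true := by decide +kernel
theorem rel126 : rangeS (relsRep mdata basesM) 711 89586 = true := by decide +kernel
theorem rel127 : rangeS (relsRep mdata basesM) 711 90297 = true := by decide +kernel

end Cfsg.Agent.Lib.Helper19.ONMM3
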