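import Cfsg.Agent.Lib.Helper19.ONMM3Words

set_option autoImplicit false
set_option maxRecDepth 100000
set_option linter.unusedVariables false
set_option Elab.async false

namespace Cfsg.Agent.Lib.Helper19.ONMM3

open Cfsg.Agent.Helper4.TC Cfsg.Agent.Lib.Helper19.CentModel

theorem rel128 : rangeS (relsRep mdata basesM) 711 91008 = true := by decide +kernel
theorem rel129 : rangeS (relsRep mdata basesM) 711 91719 = true := by decide +kernel
theorem rel130 : rangeS (relsRep mdata basesM) 711 92430 = true := by decide +kernel
theorem rel131 : rangeS (relsRep mdata basesM) 711 93141 = true := by decide +kernel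
theorem rel132 : rangeS (relsRep mdata basesM) 711 93852 = true := by decide +kernel
theorem rel133 : rangeS (relsRep mdata basesM) 711 94563 = true := by decide +kernel
theorem rel134 : rangeS (relsRep mdata basesM) 711 95274 = true := by decide +kernel
theorem rel135 : rangeS (relsRep mdata basesM) 711 95985 = true := by decide +kernel

end Cfsg.Agent.Lib.Helper19.ONMM3
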