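import Cfsg.Agent.Lib.Helper19.ONMM3Words

set_option autoImplicit false
set_option maxRecDepth 100000
set_option linter.unusedVariables false
set_option Elab.async false

namespace Cfsg.Agent.Lib.Helper19.ONMM3

open Cfsg.Agent.Helper4.TC Cfsg.Agent.Lib.Helper19.CentModel

theorem rel136 : rangeS (relsRep mdata basesM) 711 96696 = true := by decide +kernel
theorem rel137 : rangeS (relsRep mdata basesM) 711 97407 = true := by decide +kernel
theorem rel138 : rangeS (relsRep mdata basesM) 711 98118 = true := by decide +kernel
theorem rel139 : rangeS (relsRep mdata basesM) 711 98829 = true := by decide +kernel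
theorem rel140 : rangeS (relsRep mdata basesM) 711 99540 = true := by decide +kernel
theorem rel141 : rangeS (relsRep mdata basesM) 711 100251 = true := by decide +kernel
theorem rel142 : rangeS (relsRep mdata basesM) 711 100962 = true := by decide +kernel
theorem rel143 : rangeS (relsRep mdata basesM) 711 101673 = true := by decide +kernel

end Cfsg.Agent.Lib.Helper19.ONMM3
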