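import Cfsg.Agent.Lib.Helper19.ONMM3Words

set_option autoImplicit false
set_option maxRecDepth 100000
set_option linter.unusedVariables false
set_option Elab.async false

namespace Cfsg.Agent.Lib.Helper19.ONMM3

open Cfsg.Agent.Helper4.TC Cfsg.Agent.Lib.Helper19.CentModel

theorem rel144 : rangeS (relsRep mdata basesM) 711 102384 = true := by decide +kernel
theorem rel145 : rangeS (relsRep mdata basesM) 711 103095 = true := by decide +kernel
theorem rel146 : rangeS (relsRep mdata basesM) 711 103806 = true := by decide +kernel
theorem rel147 : rangeS (relsRep mdata basesM) 711 104517 = true := by decide +kernel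
theorem rel148 : rangeS (relsRep mdata basesM) 711 105228 = true := by decide +kernel
theorem rel149 : rangeS (relsRep mdata basesM) 711 105939 = true := by decide +kernel
theorem rel150 : rangeS (relsRep mdata basesM) 711 106650 = true := by decide +kernel
theorem rel151 : rangeS (relsRep mdata basesM) 711 107361 = true := by decide +kernel

end Cfsg.Agent.Lib.Helper19.ONMM3
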