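import Cfsg.Agent.Lib.Helper19.ONMM3Words

set_option autoImplicit false
set_option maxRecDepth 100000
set_option linter.unusedVariables false
set_option Elab.async false

namespace Cfsg.Agent.Lib.Helper19.ONMM3

open Cfsg.Agent.Helper4.TC Cfsg.Agent.Lib.Helper19.CentModel

theorem rel152 : rangeS (relsRep mdata basesM) 711 108072 = true := by decide +kernel
theorem rel153 : rangeS (relsRep mdata basesM) 711 108783 = true := by decide +kernel
theorem rel154 : rangeS (relsRep mdata basesM) 711 109494 = true := by decide +kernel
theorem rel155 : rangeS (relsRep mdata basesM) 711 110205 = true := by decide +kernel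
theorem rel156 : rangeS (relsRep mdata basesM) 711 110916 = true := by decide +kernel
theorem rel157 : rangeS (relsRep mdata basesM) 711 111627 = true := by decide +kernel
theorem rel158 : rangeS (relsRep mdata basesM) 711 112338 = true := by decide +kernel
theorem rel159 : rangeS (relsRep mdata basesM) 711 113049 = true := by decide +kernel

end Cfsg.Agent.Lib.Helper19.ONMM3
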