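import Cfsg.Agent.Lib.Helper19.ONMM3Words

set_option autoImplicit false
set_option maxRecDepth 100000
set_option linter.unusedVariables false
set_option Elab.async false

namespace Cfsg.Agent.Lib.Helper19.ONMM3

open Cfsg.Agent.Helper4.TC Cfsg.Agent.Lib.Helper19.CentModel

theorem rel16 : rangeS (relsRep mdata basesM) 711 11376 = true := by decide +kernel
theorem rel17 : rangeS (relsRep mdata basesM) 711 12087 = true := by decide +kernel
theorem rel18 : rangeS (relsRep mdata basesM) 711 12798 = true := by decide +kernel
theorem rel19 : rangeS (relsRep mdata basesM) 711 13509 = true := by decide +kernel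
theorem rel20 : rangeS (relsRep mdata basesM) 711 14220 = true := by decide +kernel
theorem rel21 : rangeS (relsRep mdata basesM) 711 14931 = true := by decide +kernel
theorem rel22 : rangeS (relsRep mdata basesM) 711 15642 = true := by decide +kernel
theorem rel23 : rangeS (relsRep mdata basesM) 711 16353 = true := by decide +kernel

end Cfsg.Agent.Lib.Helper19.ONMM3
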