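import Cfsg.Agent.Lib.Helper19.ONMM3Words

set_option autoImplicit false
set_option maxRecDepth 100000
set_option linter.unusedVariables false
set_option Elab.async false

namespace Cfsg.Agent.Lib.Helper19.ONMM3

open Cfsg.Agent.Helper4.TC Cfsg.Agent.Lib.Helper19.CentModel

theorem rel160 : rangeS (relsRep mdata basesM) 711 113760 = true := by decide +kernel
theorem rel161 : rangeS (relsRep mdata basesM) 711 114471 = true := by decide +kernel
theorem rel162 : rangeS (relsRep mdata basesM) 711 115182 = true := by decide +kernel
theorem rel163 : rangeS (relsRep mdata basesM) 711 115893 = true := by decide +kernel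
theorem rel164 : rangeS (relsRep mdata basesM) 711 116604 = true := by decide +kernel
theorem rel165 : rangeS (relsRep mdata basesM) 711 117315 = true := by decide +kernel
theorem rel166 : rangeS (relsRep mdata basesM) 711 118026 = true := by decide +kernel
theorem rel167 : rangeS (relsRep mdata basesM) 711 118737 = true := by decide +kernel

end Cfsg.Agent.Lib.Helper19.ONMM3
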