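import Cfsg.Agent.Lib.Helper19.ONMM3Words

set_option autoImplicit false
set_option maxRecDepth 100000
set_option linter.unusedVariables false
set_option Elab.async false

namespace Cfsg.Agent.Lib.Helper19.ONMM3

open Cfsg.Agent.Helper4.TC Cfsg.Agent.Lib.Helper19.CentModel

theorem rel168 : rangeS (relsRep mdata basesM) 711 119448 = true := by decide +kernel
theorem rel169 : rangeS (relsRep mdata basesM) 711 120159 = true := by decide +kernel
theorem rel170 : rangeS (relsRep mdata basesM) 711 120870 = true := by decide +kernel
theorem rel171 : rangeS (relsRep mdata basesM) 711 121581 = true := by decide +kernel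
theorem rel172 : rangeS (relsRep mdata basesM) 468 122292 = true := by decide +kernel
theorem zc0 : rangeS (zPt mdata z3 rhoW) 2580 0 = true := by decide +kernel
theorem zc1 : rangeS (zPt mdata z3 rhoW) 2580 2580 = true := by decide +kernel
theorem zc2 : rangeS (zPt mdata z3 rhoW) 2580 5160 = true := by decide +kernel

end Cfsg.Agent.Lib.Helper19.ONMM3
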