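import Cfsg.Agent.Lib.Helper19.ONMM3Words

set_option autoImplicit false
set_option maxRecDepth 100000
set_option linter.unusedVariables false
set_option Elab.async false

namespace Cfsg.Agent.Lib.Helper19.ONMM3

open Cfsg.Agent.Helper4.TC Cfsg.Agent.Lib.Helper19.CentModel

theorem zc3 : rangeS (zPt mdata z3 rhoW) 2580 7740 = true := by decide +kernel
theorem zc4 : rangeS (zPt mdata z3 rhoW) 2580 10320 = true := by decide +kernel
theorem zc5 : rangeS (zPt mdata z3 rhoW) 2580 12900 = true := by decide +kernel
theorem zc6 : rangeS (zPt mdata z3 rhoW) 2580 15480 = true := by decide +kernel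
theorem zc7 : rangeS (zPt mdata z3 rhoW) 2580 18060 = true := by decide +kernel
theorem zc8 : rangeS (zPt mdata z3 rhoW) 2580 20640 = true := by decide +kernel
theorem zc9 : rangeS (zPt mdata z3 rhoW) 2580 23220 = true := by decide +kernel
theorem zc10 : rangeS (zPt mdata z3 rhoW) 2580 25800 = true := by decide +kernel

end Cfsg.Agent.Lib.Helper19.ONMM3
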