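import Cfsg.Agent.Lib.Helper19.ONMM3Words

set_option autoImplicit false
set_option maxRecDepth 100000
set_option linter.unusedVariables false
set_option Elab.async false

namespace Cfsg.Agent.Lib.Helper19.ONMM3

open Cfsg.Agent.Helper4.TC Cfsg.Agent.Lib.Helper19.CentModel

theorem zc11 : rangeS (zPt mdata z3 rhoW) 2580 28380 = true := by decide +kernel
theorem zc12 : rangeS (zPt mdata z3 rhoW) 2580 30960 = true := by decide +kernel
theorem zc13 : rangeS (zPt mdata z3 rhoW) 2580 33540 = true := by decide +kernel
theorem zc14 : rangeS (zPt mdata z3 rhoW) 2580 36120 = true := by decide +kernel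
theorem zc15 : rangeS (zPt mdata z3 rhoW) 2580 38700 = true := by decide +kernel
theorem zc16 : rangeS (zPt mdata z3 rhoW) 2580 41280 = true := by decide +kernel
theorem zc17 : rangeS (zPt mdata z3 rhoW) 2580 43860 = true := by decide +kernel
theorem zc18 : rangeS (zPt mdata z3 rhoW) 2580 46440 = true := by decide +kernel

end Cfsg.Agent.Lib.Helper19.ONMM3
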