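import Cfsg.Agent.Lib.Helper19.ONMM3Words

set_option autoImplicit false
set_option maxRecDepth 100000
set_option linter.unusedVariables false
set_option Elab.async false

namespace Cfsg.Agent.Lib.Helper19.ONMM3

open Cfsg.Agent.Helper4.TC Cfsg.Agent.Lib.Helper19.CentModel

theorem zc19 : rangeS (zPt mdata z3 rhoW) 2580 49020 = true := by decide +kernel
theorem zc20 : rangeS (zPt mdata z3 rhoW) 2580 51600 = true := by decide +kernel
theorem zc21 : rangeS (zPt mdata z3 rhoW) 2580 54180 = true := by decide +kernel
theorem zc22 : rangeS (zPt mdata z3 rhoW) 2580 56760 = true := by decide +kernel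
theorem zc23 : rangeS (zPt mdata z3 rhoW) 2580 59340 = true := by decide +kernel
theorem zc24 : rangeS (zPt mdata z3 rhoW) 2580 61920 = true := by decide +kernel
theorem zc25 : rangeS (zPt mdata z3 rhoW) 2580 64500 = true := by decide +kernel
theorem zc26 : rangeS (zPt mdata z3 rhoW) 2580 67080 = true := by decide +kernel

end Cfsg.Agent.Lib.Helper19.ONMM3
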