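import Cfsg.Agent.Lib.Helper19.ONMM3Words

set_option autoImplicit false
set_option maxRecDepth 100000
set_option linter.unusedVariables false
set_option Elab.async false

namespace Cfsg.Agent.Lib.Helper19.ONMM3

open Cfsg.Agent.Helper4.TC Cfsg.Agent.Lib.Helper19.CentModel

theorem zc27 : rangeS (zPt mdata z3 rhoW) 2580 69660 = true := by decide +kernel
theorem zc28 : rangeS (zPt mdata z3 rhoW) 2580 72240 = true := by decide +kernel
theorem zc29 : rangeS (zPt mdata z3 rhoW) 2580 74820 = true := by decide +kernel
theorem zc30 : rangeS (zPt mdata z3 rhoW) 2580 77400 = true := by decide +kernel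
theorem zc31 : rangeS (zPt mdata z3 rhoW) 2580 79980 = true := by decide +kernel
theorem zc32 : rangeS (zPt mdata z3 rhoW) 2580 82560 = true := by decide +kernel
theorem zc33 : rangeS (zPt mdata z3 rhoW) 2580 85140 = true := by decide +kernel
theorem zc34 : rangeS (zPt mdata z3 rhoW) 2580 87720 = true := by decide +kernel

end Cfsg.Agent.Lib.Helper19.ONMM3
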