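import Cfsg.Agent.Lib.Helper19.ONMM3Words

set_option autoImplicit false
set_option maxRecDepth 100000
set_option linter.unusedVariables false
set_option Elab.async false

namespace Cfsg.Agent.Lib.Helper19.ONMM3

open Cfsg.Agent.Helper4.TC Cfsg.Agent.Lib.Helper19.CentModel

theorem zc35 : rangeS (zPt mdata z3 rhoW) 2580 90300 = true := by decide +kernel
theorem zc36 : rangeS (zPt mdata z3 rhoW) 2580 92880 = true := by decide +kernel
theorem zc37 : rangeS (zPt mdata z3 rhoW) 2580 95460 = true := by decide +kernel
theorem zc38 : rangeS (zPt mdata z3 rhoW) 2580 98040 = true := by decide +kernel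
theorem zc39 : rangeS (zPt mdata z3 rhoW) 2580 100620 = true := by decide +kernel
theorem zc40 : rangeS (zPt mdata z3 rhoW) 2580 103200 = true := by decide +kernel
theorem zc41 : rangeS (zPt mdata z3 rhoW) 2580 105780 = true := by decide +kernel
theorem zc42 : rangeS (zPt mdata z3 rhoW) 2580 108360 = true := by decide +kernel

end Cfsg.Agent.Lib.Helper19.ONMM3
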