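import Cfsg.Agent.Lib.Helper19.ONMM3Words

set_option autoImplicit false
set_option maxRecDepth 100000
set_option linter.unusedVariables false
set_option Elab.async false

namespace Cfsg.Agent.Lib.Helper19.ONMM3

open Cfsg.Agent.Helper4.TC Cfsg.Agent.Lib.Helper19.CentModel

theorem zc43 : rangeS (zPt mdata z3 rhoW) 2580 110940 = true := by decide +kernel
theorem zc44 : rangeS (zPt mdata z3 rhoW) 2580 113520 = true := by decide +kernel
theorem zc45 : rangeS (zPt mdata z3 rhoW) 2580 116100 = true := by decide +kernel
theorem zc46 : rangeS (zPt mdata z3 rhoW) 2580 118680 = true := by decide +kernel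
theorem zc47 : rangeS (zPt mdata z3 rhoW) 2580 121260 = true := by decide +kernel
theorem zc48 : rangeS (zPt mdata z3 rhoW) 2580 123840 = true := by decide +kernel
theorem zc49 : rangeS (zPt mdata z3 rhoW) 2580 126420 = true := by decide +kernel
theorem zc50 : rangeS (zPt mdata z3 rhoW) 2580 129000 = true := by decide +kernel

end Cfsg.Agent.Lib.Helper19.ONMM3
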