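import Cfsg.Agent.Lib.Helper19.ONMM3Words

set_option autoImplicit false
set_option maxRecDepth 100000
set_option linter.unusedVariables false
set_option Elab.async false

namespace Cfsg.Agent.Lib.Helper19.ONMM3

open Cfsg.Agent.Helper4.TC Cfsg.Agent.Lib.Helper19.CentModel

theorem zc51 : rangeS (zPt mdata z3 rhoW) 2580 131580 = true := by decide +kernel
theorem zc52 : rangeS (zPt mdata z3 rhoW) 2580 134160 = true := by decide +kernel
theorem zc53 : rangeS (zPt mdata z3 rhoW) 2580 136740 = true := by decide +kernel
theorem zc54 : rangeS (zPt mdata z3 rhoW) 2580 139320 = true := by decide +kernel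
theorem zc55 : rangeS (zPt mdata z3 rhoW) 2580 141900 = true := by decide +kernel
theorem zc56 : rangeS (zPt mdata z3 rhoW) 2580 144480 = true := by decide +kernel
theorem zc57 : rangeS (zPt mdata z3 rhoW) 2580 147060 = true := by decide +kernel
theorem zc58 : rangeS (zPt mdata z3 rhoW) 2580 149640 = true := by decide +kernel

end Cfsg.Agent.Lib.Helper19.ONMM3
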