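import Cfsg.Agent.Lib.Helper19.ONMM3Words

set_option autoImplicit false
set_option maxRecDepth 100000
set_option linter.unusedVariables false
set_option Elab.async false

namespace Cfsg.Agent.Lib.Helper19.ONMM3

open Cfsg.Agent.Helper4.TC Cfsg.Agent.Lib.Helper19.CentModel

theorem zc59 : rangeS (zPt mdata z3 rhoW) 2580 152220 = true := by decide +kernel
theorem zc60 : rangeS (zPt mdata z3 rhoW) 2580 154800 = true := by decide +kernel
theorem zc61 : rangeS (zPt mdata z3 rhoW) 2580 157380 = true := by decide +kernel
theorem zc62 : rangeS (zPt mdata z3 rhoW) 2580 159960 = true := by decide +kernel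
theorem zc63 : rangeS (zPt mdata z3 rhoW) 2580 162540 = true := by decide +kernel
theorem zc64 : rangeS (zPt mdata z3 rhoW) 2580 165120 = true := by decide +kernel
theorem zc65 : rangeS (zPt mdata z3 rhoW) 2580 167700 = true := by decide +kernel
theorem zc66 : rangeS (zPt mdata z3 rhoW) 2580 170280 = true := by decide +kernel

end Cfsg.Agent.Lib.Helper19.ONMM3
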