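import Cfsg.Agent.Lib.Helper19.ONMM3Words

set_option autoImplicit false
set_option maxRecDepth 100000
set_option linter.unusedVariables false
set_option Elab.async false

namespace Cfsg.Agent.Lib.Helper19.ONMM3

open Cfsg.Agent.Helper4.TC Cfsg.Agent.Lib.Helper19.CentModel

theorem rel24 : rangeS (relsRep mdata basesM) 711 17064 = true := by decide +kernel
theorem rel25 : rangeS (relsRep mdata basesM) 711 17775 = true := by decide +kernel
theorem rel26 : rangeS (relsRep mdata basesM) 711 18486 = true := by decide +kernel
theorem rel27 : rangeS (relsRep mdata basesM) 711 19197 = true := by decide +kernel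
theorem rel28 : rangeS (relsRep mdata basesM) 711 19908 = true := by decide +kernel
theorem rel29 : rangeS (relsRep mdata basesM) 711 20619 = true := by decide +kernel
theorem rel30 : rangeS (relsRep mdata basesM) 711 21330 = true := by decide +kernel
theorem rel31 : rangeS (relsRep mdata basesM) 711 22041 = true := by decide +kernel

end Cfsg.Agent.Lib.Helper19.ONMM3
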