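import Cfsg.Agent.Lib.Helper19.ONMM3Words

set_option autoImplicit false
set_option maxRecDepth 100000
set_option linter.unusedVariables false
set_option Elab.async false

namespace Cfsg.Agent.Lib.Helper19.ONMM3

open Cfsg.Agent.Helper4.TC Cfsg.Agent.Lib.Helper19.CentModel

theorem zc67 : rangeS (zPt mdata z3 rhoW) 2580 172860 = true := by decide +kernel
theorem zc68 : rangeS (zPt mdata z3 rhoW) 2580 175440 = true := by decide +kernel
theorem zc69 : rangeS (zPt mdata z3 rhoW) 2580 178020 = true := by decide +kernel
theorem zc70 : rangeS (zPt mdata z3 rhoW) 2580 180600 = true := by decide +kernel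
theorem zc71 : rangeS (zPt mdata z3 rhoW) 2580 183180 = true := by decide +kernel
theorem zc72 : rangeS (zPt mdata z3 rhoW) 2580 185760 = true := by decide +kernel
theorem zc73 : rangeS (zPt mdata z3 rhoW) 2580 188340 = true := by decide +kernel
theorem zc74 : rangeS (zPt mdata z3 rhoW) 2580 190920 = true := by decide +kernel

end Cfsg.Agent.Lib.Helper19.ONMM3
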