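import Cfsg.Agent.Lib.Helper19.ONMM3Words

set_option autoImplicit false
set_option maxRecDepth 100000
set_option linter.unusedVariables false
set_option Elab.async false

namespace Cfsg.Agent.Lib.Helper19.ONMM3

open Cfsg.Agent.Helper4.TC Cfsg.Agent.Lib.Helper19.CentModel

theorem zc75 : rangeS (zPt mdata z3 rhoW) 2580 193500 = true := by decide +kernel
theorem zc76 : rangeS (zPt mdata z3 rhoW) 2580 196080 = true := by decide +kernel
theorem zc77 : rangeS (zPt mdata z3 rhoW) 2580 198660 = true := by decide +kernel
theorem zc78 : rangeS (zPt mdata z3 rhoW) 2580 201240 = true := by decide +kernel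
theorem zc79 : rangeS (zPt mdata z3 rhoW) 2580 203820 = true := by decide +kernel
theorem zc80 : rangeS (zPt mdata z3 rhoW) 2580 206400 = true := by decide +kernel
theorem zc81 : rangeS (zPt mdata z3 rhoW) 2580 208980 = true := by decide +kernel
theorem zc82 : rangeS (zPt mdata z3 rhoW) 2580 211560 = true := by decide +kernel

end Cfsg.Agent.Lib.Helper19.ONMM3
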