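import Cfsg.Agent.Lib.Helper19.ONMM3Words

set_option autoImplicit false
set_option maxRecDepth 100000
set_option linter.unusedVariables false
set_option Elab.async false

namespace Cfsg.Agent.Lib.Helper19.ONMM3

open Cfsg.Agent.Helper4.TC Cfsg.Agent.Lib.Helper19.CentModel

theorem zc83 : rangeS (zPt mdata z3 rhoW) 2580 214140 = true := by decide +kernel
theorem zc84 : rangeS (zPt mdata z3 rhoW) 2580 216720 = true := by decide +kernel
theorem zc85 : rangeS (zPt mdata z3 rhoW) 2580 219300 = true := by decide +kernel
theorem zc86 : rangeS (zPt mdata z3 rhoW) 2580 221880 = true := by decide +kernel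
theorem zc87 : rangeS (zPt mdata z3 rhoW) 2580 224460 = true := by decide +kernel
theorem zc88 : rangeS (zPt mdata z3 rhoW) 2580 227040 = true := by decide +kernel
theorem zc89 : rangeS (zPt mdata z3 rhoW) 2580 229620 = true := by decide +kernel
theorem zc90 : rangeS (zPt mdata z3 rhoW) 2580 232200 = true := by decide +kernel

end Cfsg.Agent.Lib.Helper19.ONMM3
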