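import Cfsg.Agent.Lib.Helper19.ONMM3Words

set_option autoImplicit false
set_option maxRecDepth 100000
set_option linter.unusedVariables false
set_option Elab.async false

namespace Cfsg.Agent.Lib.Helper19.ONMM3

open Cfsg.Agent.Helper4.TC Cfsg.Agent.Lib.Helper19.CentModel

theorem zc91 : rangeS (zPt mdata z3 rhoW) 2580 234780 = true := by decide +kernel
theorem zc92 : rangeS (zPt mdata z3 rhoW) 2580 237360 = true := by decide +kernel
theorem zc93 : rangeS (zPt mdata z3 rhoW) 2580 239940 = true := by decide +kernel
theorem zc94 : rangeS (zPt mdata z3 rhoW) 2580 242520 = true := by decide +kernel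
theorem zc95 : rangeS (zPt mdata z3 rhoW) 2580 245100 = true := by decide +kernel
theorem zc96 : rangeS (zPt mdata z3 rhoW) 2580 247680 = true := by decide +kernel
theorem zc97 : rangeS (zPt mdata z3 rhoW) 2580 250260 = true := by decide +kernel
theorem zc98 : rangeS (zPt mdata z3 rhoW) 2580 252840 = true := by decide +kernel

end Cfsg.Agent.Lib.Helper19.ONMM3
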