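import Cfsg.Agent.Lib.Helper19.ONMM3Words

set_option autoImplicit false
set_option maxRecDepth 100000
set_option linter.unusedVariables false
set_option Elab.async false

namespace Cfsg.Agent.Lib.Helper19.ONMM3

open Cfsg.Agent.Helper4.TC Cfsg.Agent.Lib.Helper19.CentModel

theorem zc99 : rangeS (zPt mdata z3 rhoW) 2580 255420 = true := by decide +kernel
theorem zc100 : rangeS (zPt mdata z3 rhoW) 2580 258000 = true := by decide +kernel
theorem zc101 : rangeS (zPt mdata z3 rhoW) 2580 260580 = true := by decide +kernel
theorem zc102 : rangeS (zPt mdata z3 rhoW) 2580 263160 = true := by decide +kernel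
theorem zc103 : rangeS (zPt mdata z3 rhoW) 2580 265740 = true := by decide +kernel
theorem zc104 : rangeS (zPt mdata z3 rhoW) 2580 268320 = true := by decide +kernel
theorem zc105 : rangeS (zPt mdata z3 rhoW) 2580 270900 = true := by decide +kernel
theorem zc106 : rangeS (zPt mdata z3 rhoW) 2580 273480 = true := by decide +kernel

end Cfsg.Agent.Lib.Helper19.ONMM3
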