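import Cfsg.Agent.Lib.Helper19.ONMM3Words

set_option autoImplicit false
set_option maxRecDepth 100000
set_option linter.unusedVariables false
set_option Elab.async false

namespace Cfsg.Agent.Lib.Helper19.ONMM3

open Cfsg.Agent.Helper4.TC Cfsg.Agent.Lib.Helper19.CentModel

theorem zc107 : rangeS (zPt mdata z3 rhoW) 2580 276060 = true := by decide +kernel
theorem zc108 : rangeS (zPt mdata z3 rhoW) 2580 278640 = true := by decide +kernel
theorem zc109 : rangeS (zPt mdata z3 rhoW) 2580 281220 = true := by decide +kernel
theorem zc110 : rangeS (zPt mdata z3 rhoW) 2580 283800 = true := by decide +kernel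
theorem zc111 : rangeS (zPt mdata z3 rhoW) 2580 286380 = true := by decide +kernel
theorem zc112 : rangeS (zPt mdata z3 rhoW) 2580 288960 = true := by decide +kernel
theorem zc113 : rangeS (zPt mdata z3 rhoW) 2580 291540 = true := by decide +kernel
theorem zc114 : rangeS (zPt mdata z3 rhoW) 2580 294120 = true := by decide +kernel

end Cfsg.Agent.Lib.Helper19.ONMM3
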