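import Cfsg.Agent.Lib.Helper19.ONMM3Words

set_option autoImplicit false
set_option maxRecDepth 100000
set_option linter.unusedVariables false
set_option Elab.async false

namespace Cfsg.Agent.Lib.Helper19.ONMM3

open Cfsg.Agent.Helper4.TC Cfsg.Agent.Lib.Helper19.CentModel

theorem zc115 : rangeS (zPt mdata z3 rhoW) 2580 296700 = true := by decide +kernel
theorem zc116 : rangeS (zPt mdata z3 rhoW) 2580 299280 = true := by decide +kernel
theorem zc117 : rangeS (zPt mdata z3 rhoW) 2580 301860 = true := by decide +kernel
theorem zc118 : rangeS (zPt mdata z3 rhoW) 2580 304440 = true := by decide +kernel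
theorem zc119 : rangeS (zPt mdata z3 rhoW) 2580 307020 = true := by decide +kernel
theorem zc120 : rangeS (zPt mdata z3 rhoW) 2580 309600 = true := by decide +kernel
theorem zc121 : rangeS (zPt mdata z3 rhoW) 2580 312180 = true := by decide +kernel
theorem zc122 : rangeS (zPt mdata z3 rhoW) 2580 314760 = true := by decide +kernel

end Cfsg.Agent.Lib.Helper19.ONMM3
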