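import Cfsg.Agent.Lib.Helper19.ONMM3Words

set_option autoImplicit false
set_option maxRecDepth 100000
set_option linter.unusedVariables false
set_option Elab.async false

namespace Cfsg.Agent.Lib.Helper19.ONMM3

open Cfsg.Agent.Helper4.TC Cfsg.Agent.Lib.Helper19.CentModel

theorem zc123 : rangeS (zPt mdata z3 rhoW) 2580 317340 = true := by decide +kernel
theorem zc124 : rangeS (zPt mdata z3 rhoW) 2580 319920 = true := by decide +kernel
theorem zc125 : rangeS (zPt mdata z3 rhoW) 2580 322500 = true := by decide +kernel
theorem zc126 : rangeS (zPt mdata z3 rhoW) 2580 325080 = true := by decide +kernel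
theorem zc127 : rangeS (zPt mdata z3 rhoW) 2580 327660 = true := by decide +kernel
theorem zc128 : rangeS (zPt mdata z3 rhoW) 2580 330240 = true := by decide +kernel
theorem zc129 : rangeS (zPt mdata z3 rhoW) 2580 332820 = true := by decide +kernel
theorem zc130 : rangeS (zPt mdata z3 rhoW) 2580 335400 = true := by decide +kernel

end Cfsg.Agent.Lib.Helper19.ONMM3
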