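import Cfsg.Agent.Lib.Helper19.ONMM3Words

set_option autoImplicit false
set_option maxRecDepth 100000
set_option linter.unusedVariables false
set_option Elab.async false

namespace Cfsg.Agent.Lib.Helper19.ONMM3

open Cfsg.Agent.Helper4.TC Cfsg.Agent.Lib.Helper19.CentModel

theorem zc131 : rangeS (zPt mdata z3 rhoW) 2580 337980 = true := by decide +kernel
theorem zc132 : rangeS (zPt mdata z3 rhoW) 2580 340560 = true := by decide +kernel
theorem zc133 : rangeS (zPt mdata z3 rhoW) 2580 343140 = true := by decide +kernel
theorem zc134 : rangeS (zPt mdata z3 rhoW) 2580 345720 = true := by decide +kernel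
theorem zc135 : rangeS (zPt mdata z3 rhoW) 2580 348300 = true := by decide +kernel
theorem zc136 : rangeS (zPt mdata z3 rhoW) 2580 350880 = true := by decide +kernel
theorem zc137 : rangeS (zPt mdata z3 rhoW) 2580 353460 = true := by decide +kernel
theorem zc138 : rangeS (zPt mdata z3 rhoW) 2580 356040 = true := by decide +kernel

end Cfsg.Agent.Lib.Helper19.ONMM3
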