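import Cfsg.Agent.Lib.Helper19.ONMM3Words

set_option autoImplicit false
set_option maxRecDepth 100000
set_option linter.unusedVariables false
set_option Elab.async false

namespace Cfsg.Agent.Lib.Helper19.ONMM3

open Cfsg.Agent.Helper4.TC Cfsg.Agent.Lib.Helper19.CentModel

theorem zc139 : rangeS (zPt mdata z3 rhoW) 2580 358620 = true := by decide +kernel
theorem zc140 : rangeS (zPt mdata z3 rhoW) 2580 361200 = true := by decide +kernel
theorem zc141 : rangeS (zPt mdata z3 rhoW) 2580 363780 = true := by decide +kernel
theorem zc142 : rangeS (zPt mdata z3 rhoW) 1920 366360 = true := by decide +kernel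
theorem inv0 : invRange mdata 3809 0 = true := invRange_strict mdata 3809 0 (by decide +kernel)
theorem inv1 : invRange mdata 3809 3809 = true := invRange_strict mdata 3809 3809 (by decide +kernel)
theorem inv2 : invRange mdata 3809 7618 = true := invRange_strict mdata 3809 7618 (by decide +kernel)
theorem inv3 : invRange mdata 3809 11427 = true := invRange_strict mdata 3809 11427 (by decide +kernel)

end Cfsg.Agent.Lib.Helper19.ONMM3
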