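import Cfsg.Agent.Lib.Helper19.ONMM3Words

set_option autoImplicit false
set_option maxRecDepth 100000
set_option linter.unusedVariables false
set_option Elab.async false

namespace Cfsg.Agent.Lib.Helper19.ONMM3

open Cfsg.Agent.Helper4.TC Cfsg.Agent.Lib.Helper19.CentModel

theorem rel32 : rangeS (relsRep mdata basesM) 711 22752 = true := by decide +kernel
theorem rel33 : rangeS (relsRep mdata basesM) 711 23463 = true := by decide +kernel
theorem rel34 : rangeS (relsRep mdata basesM) 711 24174 = true := by decide +kernel
theorem rel35 : rangeS (relsRep mdata basesM) 711 24885 = true := by decide +kernel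
theorem rel36 : rangeS (relsRep mdata basesM) 711 25596 = true := by decide +kernel
theorem rel37 : rangeS (relsRep mdata basesM) 711 26307 = true := by decide +kernel
theorem rel38 : rangeS (relsRep mdata basesM) 711 27018 = true := by decide +kernel
theorem rel39 : rangeS (relsRep mdata basesM) 711 27729 = true := by decide +kernel

end Cfsg.Agent.Lib.Helper19.ONMM3
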