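import Cfsg.Agent.Lib.Helper19.ONMM3Words

set_option autoImplicit false
set_option maxRecDepth 100000
set_option linter.unusedVariables false
set_option Elab.async false

namespace Cfsg.Agent.Lib.Helper19.ONMM3

open Cfsg.Agent.Helper4.TC Cfsg.Agent.Lib.Helper19.CentModel

theorem inv4 : invRange mdata 3809 15236 = true := invRange_strict mdata 3809 15236 (by decide +kernel)
theorem inv5 : invRange mdata 3809 19045 = true := invRange_strict mdata 3809 19045 (by decide +kernel)
theorem inv6 : invRange mdata 3809 22854 = true := invRange_strict mdata 3809 22854 (by decide +kernel)
theorem inv7 : invRange mdata 3809 26663 = true := invRange_strict mdata 3809 26663 (by decide +kernel)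
theorem inv8 : invRange mdata 3809 30472 = true := invRange_strict mdata 3809 30472 (by decide +kernel)
theorem inv9 : invRange mdata 3809 34281 = true := invRange_strict mdata 3809 34281 (by decide +kernel)
theorem inv10 : invRange mdata 3809 38090 = true := invRange_strict mdata 3809 38090 (by decide +kernel)
theorem inv11 : invRange mdata 3809 41899 = true := invRange_strict mdata 3809 41899 (by decide +kernel)

end Cfsg.Agent.Lib.Helper19.ONMM3
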