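import Cfsg.Agent.Lib.Helper19.ONMM3Words

set_option autoImplicit false
set_option maxRecDepth 100000
set_option linter.unusedVariables false
set_option Elab.async false

namespace Cfsg.Agent.Lib.Helper19.ONMM3

open Cfsg.Agent.Helper4.TC Cfsg.Agent.Lib.Helper19.CentModel

theorem inv12 : invRange mdata 3809 45708 = true := invRange_strict mdata 3809 45708 (by decide +kernel)
theorem inv13 : invRange mdata 3809 49517 = true := invRange_strict mdata 3809 49517 (by decide +kernel)
theorem inv14 : invRange mdata 3809 53326 = true := invRange_strict mdata 3809 53326 (by decide +kernel)
theorem inv15 : invRange mdata 3809 57135 = true := invRange_strict mdata 3809 57135 (by decide +kernel)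
theorem inv16 : invRange mdata 3809 60944 = true := invRange_strict mdata 3809 60944 (by decide +kernel)
theorem inv17 : invRange mdata 3809 64753 = true := invRange_strict mdata 3809 64753 (by decide +kernel)
theorem inv18 : invRange mdata 3809 68562 = true := invRange_strict mdata 3809 68562 (by decide +kernel)
theorem inv19 : invRange mdata 3809 72371 = true := invRange_strict mdata 3809 72371 (by decide +kernel)

end Cfsg.Agent.Lib.Helper19.ONMM3
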