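import Cfsg.Agent.Lib.Helper19.ONMM3Words

set_option autoImplicit false
set_option maxRecDepth 100000
set_option linter.unusedVariables false
set_option Elab.async false

namespace Cfsg.Agent.Lib.Helper19.ONMM3

open Cfsg.Agent.Helper4.TC Cfsg.Agent.Lib.Helper19.CentModel

theorem inv20 : invRange mdata 3809 76180 = true := invRange_strict mdata 3809 76180 (by decide +kernel)
theorem inv21 : invRange mdata 3809 79989 = true := invRange_strict mdata 3809 79989 (by decide +kernel)
theorem inv22 : invRange mdata 3809 83798 = true := invRange_strict mdata 3809 83798 (by decide +kernel)
theorem inv23 : invRange mdata 3809 87607 = true := invRange_strict mdata 3809 87607 (by decide +kernel)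
theorem inv24 : invRange mdata 3809 91416 = true := invRange_strict mdata 3809 91416 (by decide +kernel)
theorem inv25 : invRange mdata 3809 95225 = true := invRange_strict mdata 3809 95225 (by decide +kernel)
theorem inv26 : invRange mdata 3809 99034 = true := invRange_strict mdata 3809 99034 (by decide +kernel)
theorem inv27 : invRange mdata 3809 102843 = true := invRange_strict mdata 3809 102843 (by decide +kernel)

end Cfsg.Agent.Lib.Helper19.ONMM3
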