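import Cfsg.Agent.Lib.Helper19.ONMM3Words

set_option autoImplicit false
set_option maxRecDepth 100000
set_option linter.unusedVariables false
set_option Elab.async false

namespace Cfsg.Agent.Lib.Helper19.ONMM3

open Cfsg.Agent.Helper4.TC Cfsg.Agent.Lib.Helper19.CentModel

theorem inv28 : invRange mdata 3809 106652 = true := invRange_strict mdata 3809 106652 (by decide +kernel)
theorem inv29 : invRange mdata 3809 110461 = true := invRange_strict mdata 3809 110461 (by decide +kernel)
theorem inv30 : invRange mdata 3809 114270 = true := invRange_strict mdata 3809 114270 (by decide +kernel)
theorem inv31 : invRange mdata 3809 118079 = true := invRange_strict mdata 3809 118079 (by decide +kernel)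
theorem inv32 : invRange mdata 3809 121888 = true := invRange_strict mdata 3809 121888 (by decide +kernel)
theorem inv33 : invRange mdata 3809 125697 = true := invRange_strict mdata 3809 125697 (by decide +kernel)
theorem inv34 : invRange mdata 3809 129506 = true := invRange_strict mdata 3809 129506 (by decide +kernel)
theorem inv35 : invRange mdata 3809 133315 = true := invRange_strict mdata 3809 133315 (by decide +kernel)

end Cfsg.Agent.Lib.Helper19.ONMM3
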