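import Cfsg.Agent.Lib.Helper19.ONMM3Words

set_option autoImplicit false
set_option maxRecDepth 100000
set_option linter.unusedVariables false
set_option Elab.async false

namespace Cfsg.Agent.Lib.Helper19.ONMM3

open Cfsg.Agent.Helper4.TC Cfsg.Agent.Lib.Helper19.CentModel

theorem inv36 : invRange mdata 3809 137124 = true := invRange_strict mdata 3809 137124 (by decide +kernel)
theorem inv37 : invRange mdata 3809 140933 = true := invRange_strict mdata 3809 140933 (by decide +kernel)
theorem inv38 : invRange mdata 3809 144742 = true := invRange_strict mdata 3809 144742 (by decide +kernel)
theorem inv39 : invRange mdata 3809 148551 = true := invRange_strict mdata 3809 148551 (by decide +kernel)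
theorem inv40 : invRange mdata 3809 152360 = true := invRange_strict mdata 3809 152360 (by decide +kernel)
theorem inv41 : invRange mdata 3809 156169 = true := invRange_strict mdata 3809 156169 (by decide +kernel)
theorem inv42 : invRange mdata 3809 159978 = true := invRange_strict mdata 3809 159978 (by decide +kernel)
theorem inv43 : invRange mdata 3809 163787 = true := invRange_strict mdata 3809 163787 (by decide +kernel)

end Cfsg.Agent.Lib.Helper19.ONMM3
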