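import Cfsg.Agent.Lib.Helper19.ONMM3Words

set_option autoImplicit false
set_option maxRecDepth 100000
set_option linter.unusedVariables false
set_option Elab.async false

namespace Cfsg.Agent.Lib.Helper19.ONMM3

open Cfsg.Agent.Helper4.TC Cfsg.Agent.Lib.Helper19.CentModel

theorem inv44 : invRange mdata 3809 167596 = true := invRange_strict mdata 3809 167596 (by decide +kernel)
theorem inv45 : invRange mdata 3809 171405 = true := invRange_strict mdata 3809 171405 (by decide +kernel)
theorem inv46 : invRange mdata 3809 175214 = true := invRange_strict mdata 3809 175214 (by decide +kernel)
theorem inv47 : invRange mdata 3809 179023 = true := invRange_strict mdata 3809 179023 (by decide +kernel)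
theorem inv48 : invRange mdata 3809 182832 = true := invRange_strict mdata 3809 182832 (by decide +kernel)
theorem inv49 : invRange mdata 3809 186641 = true := invRange_strict mdata 3809 186641 (by decide +kernel)
theorem inv50 : invRange mdata 3809 190450 = true := invRange_strict mdata 3809 190450 (by decide +kernel)
theorem inv51 : invRange mdata 3809 194259 = true := invRange_strict mdata 3809 194259 (by decide +kernel)

end Cfsg.Agent.Lib.Helper19.ONMM3
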