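import Cfsg.Agent.Lib.Helper19.ONMM3Words

set_option autoImplicit false
set_option maxRecDepth 100000
set_option linter.unusedVariables false
set_option Elab.async false

namespace Cfsg.Agent.Lib.Helper19.ONMM3

open Cfsg.Agent.Helper4.TC Cfsg.Agent.Lib.Helper19.CentModel

theorem inv52 : invRange mdata 3809 198068 = true := invRange_strict mdata 3809 198068 (by decide +kernel)
theorem inv53 : invRange mdata 3809 201877 = true := invRange_strict mdata 3809 201877 (by decide +kernel)
theorem inv54 : invRange mdata 3809 205686 = true := invRange_strict mdata 3809 205686 (by decide +kernel)
theorem inv55 : invRange mdata 3809 209495 = true := invRange_strict mdata 3809 209495 (by decide +kernel)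
theorem inv56 : invRange mdata 3809 213304 = true := invRange_strict mdata 3809 213304 (by decide +kernel)
theorem inv57 : invRange mdata 3809 217113 = true := invRange_strict mdata 3809 217113 (by decide +kernel)
theorem inv58 : invRange mdata 3809 220922 = true := invRange_strict mdata 3809 220922 (by decide +kernel)
theorem inv59 : invRange mdata 3809 224731 = true := invRange_strict mdata 3809 224731 (by decide +kernel)

end Cfsg.Agent.Lib.Helper19.ONMM3
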