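import Cfsg.Agent.Lib.Helper19.ONMM3Words

set_option autoImplicit false
set_option maxRecDepth 100000
set_option linter.unusedVariables false
set_option Elab.async false

namespace Cfsg.Agent.Lib.Helper19.ONMM3

open Cfsg.Agent.Helper4.TC Cfsg.Agent.Lib.Helper19.CentModel

theorem inv60 : invRange mdata 3809 228540 = true := invRange_strict mdata 3809 228540 (by decide +kernel)
theorem inv61 : invRange mdata 3809 232349 = true := invRange_strict mdata 3809 232349 (by decide +kernel)
theorem inv62 : invRange mdata 3809 236158 = true := invRange_strict mdata 3809 236158 (by decide +kernel)
theorem inv63 : invRange mdata 3809 239967 = true := invRange_strict mdata 3809 239967 (by decide +kernel)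
theorem inv64 : invRange mdata 3809 243776 = true := invRange_strict mdata 3809 243776 (by decide +kernel)
theorem inv65 : invRange mdata 3809 247585 = true := invRange_strict mdata 3809 247585 (by decide +kernel)
theorem inv66 : invRange mdata 3809 251394 = true := invRange_strict mdata 3809 251394 (by decide +kernel)
theorem inv67 : invRange mdata 3809 255203 = true := invRange_strict mdata 3809 255203 (by decide +kernel)

end Cfsg.Agent.Lib.Helper19.ONMM3
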