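import Cfsg.Agent.Lib.Helper19.ONMM3Words

set_option autoImplicit false
set_option maxRecDepth 100000
set_option linter.unusedVariables false
set_option Elab.async false

namespace Cfsg.Agent.Lib.Helper19.ONMM3

open Cfsg.Agent.Helper4.TC Cfsg.Agent.Lib.Helper19.CentModel

theorem inv68 : invRange mdata 3809 259012 = true := invRange_strict mdata 3809 259012 (by decide +kernel)
theorem inv69 : invRange mdata 3809 262821 = true := invRange_strict mdata 3809 262821 (by decide +kernel)
theorem inv70 : invRange mdata 3809 266630 = true := invRange_strict mdata 3809 266630 (by decide +kernel)
theorem inv71 : invRange mdata 3809 270439 = true := invRange_strict mdata 3809 270439 (by decide +kernel)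
theorem inv72 : invRange mdata 3809 274248 = true := invRange_strict mdata 3809 274248 (by decide +kernel)
theorem inv73 : invRange mdata 3809 278057 = true := invRange_strict mdata 3809 278057 (by decide +kernel)
theorem inv74 : invRange mdata 3809 281866 = true := invRange_strict mdata 3809 281866 (by decide +kernel)
theorem inv75 : invRange mdata 3809 285675 = true := invRange_strict mdata 3809 285675 (by decide +kernel)

end Cfsg.Agent.Lib.Helper19.ONMM3
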