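import Cfsg.Agent.Lib.Helper19.ONMM3Words

set_option autoImplicit false
set_option maxRecDepth 100000
set_option linter.unusedVariables false
set_option Elab.async false

namespace Cfsg.Agent.Lib.Helper19.ONMM3

open Cfsg.Agent.Helper4.TC Cfsg.Agent.Lib.Helper19.CentModel

theorem inv76 : invRange mdata 3809 289484 = true := invRange_strict mdata 3809 289484 (by decide +kernel)
theorem inv77 : invRange mdata 3809 293293 = true := invRange_strict mdata 3809 293293 (by decide +kernel)
theorem inv78 : invRange mdata 3809 297102 = true := invRange_strict mdata 3809 297102 (by decide +kernel)
theorem inv79 : invRange mdata 3809 300911 = true := invRange_strict mdata 3809 300911 (by decide +kernel)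
theorem inv80 : invRange mdata 3809 304720 = true := invRange_strict mdata 3809 304720 (by decide +kernel)
theorem inv81 : invRange mdata 3809 308529 = true := invRange_strict mdata 3809 308529 (by decide +kernel)
theorem inv82 : invRange mdata 3809 312338 = true := invRange_strict mdata 3809 312338 (by decide +kernel)
theorem inv83 : invRange mdata 3809 316147 = true := invRange_strict mdata 3809 316147 (by decide +kernel)

end Cfsg.Agent.Lib.Helper19.ONMM3
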