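import Cfsg.Agent.Lib.Helper19.ONMM3Words

set_option autoImplicit false
set_option maxRecDepth 100000
set_option linter.unusedVariables false
set_option Elab.async false

namespace Cfsg.Agent.Lib.Helper19.ONMM3

open Cfsg.Agent.Helper4.TC Cfsg.Agent.Lib.Helper19.CentModel

theorem rel40 : rangeS (relsRep mdata basesM) 711 28440 = true := by decide +kernel
theorem rel41 : rangeS (relsRep mdata basesM) 711 29151 = true := by decide +kernel
theorem rel42 : rangeS (relsRep mdata basesM) 711 29862 = true := by decide +kernel
theorem rel43 : rangeS (relsRep mdata basesM) 711 30573 = true := by decide +kernel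
theorem rel44 : rangeS (relsRep mdata basesM) 711 31284 = true := by decide +kernel
theorem rel45 : rangeS (relsRep mdata basesM) 711 31995 = true := by decide +kernel
theorem rel46 : rangeS (relsRep mdata basesM) 711 32706 = true := by decide +kernel
theorem rel47 : rangeS (relsRep mdata basesM) 711 33417 = true := by decide +kernel

end Cfsg.Agent.Lib.Helper19.ONMM3
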