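import Cfsg.Agent.Lib.Helper19.ONMM3Words

set_option autoImplicit false
set_option maxRecDepth 100000
set_option linter.unusedVariables false
set_option Elab.async false

namespace Cfsg.Agent.Lib.Helper19.ONMM3

open Cfsg.Agent.Helper4.TC Cfsg.Agent.Lib.Helper19.CentModel

theorem inv84 : invRange mdata 3809 319956 = true := invRange_strict mdata 3809 319956 (by decide +kernel)
theorem inv85 : invRange mdata 3809 323765 = true := invRange_strict mdata 3809 323765 (by decide +kernel)
theorem inv86 : invRange mdata 3809 327574 = true := invRange_strict mdata 3809 327574 (by decide +kernel)
theorem inv87 : invRange mdata 3809 331383 = true := invRange_strict mdata 3809 331383 (by decide +kernel)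
theorem inv88 : invRange mdata 3809 335192 = true := invRange_strict mdata 3809 335192 (by decide +kernel)
theorem inv89 : invRange mdata 3809 339001 = true := invRange_strict mdata 3809 339001 (by decide +kernel)
theorem inv90 : invRange mdata 3809 342810 = true := invRange_strict mdata 3809 342810 (by decide +kernel)
theorem inv91 : invRange mdata 3809 346619 = true := invRange_strict mdata 3809 346619 (by decide +kernel)

end Cfsg.Agent.Lib.Helper19.ONMM3
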