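import Cfsg.Agent.Lib.Helper19.ONMM3Words

set_option autoImplicit false
set_option maxRecDepth 100000
set_option linter.unusedVariables false
set_option Elab.async false

namespace Cfsg.Agent.Lib.Helper19.ONMM3

open Cfsg.Agent.Helper4.TC Cfsg.Agent.Lib.Helper19.CentModel

theorem inv92 : invRange mdata 3809 350428 = true := invRange_strict mdata 3809 350428 (by decide +kernel)
theorem inv93 : invRange mdata 3809 354237 = true := invRange_strict mdata 3809 354237 (by decide +kernel)
theorem inv94 : invRange mdata 3809 358046 = true := invRange_strict mdata 3809 358046 (by decide +kernel)
theorem inv95 : invRange mdata 3809 361855 = true := invRange_strict mdata 3809 361855 (by decide +kernel)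
theorem inv96 : invRange mdata 2616 365664 = true := invRange_strict mdata 2616 365664 (by decide +kernel)
theorem tree0 : treeRange mdata 26666 1 = true := treeRange_strict mdata 26666 1 (by decide +kernel)
theorem tree1 : treeRange mdata 26666 26667 = true := treeRange_strict mdata 26666 26667 (by decide +kernel)
theorem tree2 : treeRange mdata 26666 53333 = true := treeRange_strict mdata 26666 53333 (by decide +kernel)

end Cfsg.Agent.Lib.Helper19.ONMM3
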