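import Cfsg.Agent.Lib.Helper19.ONMM3Words

set_option autoImplicit false
set_option maxRecDepth 100000
set_option linter.unusedVariables false
set_option Elab.async false

namespace Cfsg.Agent.Lib.Helper19.ONMM3

open Cfsg.Agent.Helper4.TC Cfsg.Agent.Lib.Helper19.CentModel

theorem tree11 : treeRange mdata 26666 293327 = true := treeRange_strict mdata 26666 293327 (by decide +kernel)
theorem tree12 : treeRange mdata 26666 319993 = true := treeRange_strict mdata 26666 319993 (by decide +kernel)
theorem tree13 : treeRange mdata 21621 346659 = true := treeRange_strict mdata 21621 346659 (by decide +kernel)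
theorem relc_ok : wordsLettersOK 14 basesM = true := by decide +kernel
theorem rhoc_ok : lettersOK 14 rhoW = true := by decide +kernel

end Cfsg.Agent.Lib.Helper19.ONMM3
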