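import Cfsg.Agent.Lib.Helper19.ONMM3Words

set_option autoImplicit false
set_option maxRecDepth 100000
set_option linter.unusedVariables false
set_option Elab.async false

namespace Cfsg.Agent.Lib.Helper19.ONMM3

open Cfsg.Agent.Helper4.TC Cfsg.Agent.Lib.Helper19.CentModel

theorem rel48 : rangeS (relsRep mdata basesM) 711 34128 = true := by decide +kernel
theorem rel49 : rangeS (relsRep mdata basesM) 711 34839 = true := by decide +kernel
theorem rel50 : rangeS (relsRep mdata basesM) 711 35550 = true := by decide +kernel
theorem rel51 : rangeS (relsRep mdata basesM) 711 36261 = true := by decide +kernel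
theorem rel52 : rangeS (relsRep mdata basesM) 711 36972 = true := by decide +kernel
theorem rel53 : rangeS (relsRep mdata basesM) 711 37683 = true := by decide +kernel
theorem rel54 : rangeS (relsRep mdata basesM) 711 38394 = true := by decide +kernel
theorem rel55 : rangeS (relsRep mdata basesM) 711 39105 = true := by decide +kernel

end Cfsg.Agent.Lib.Helper19.ONMM3
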