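import Cfsg.Agent.Lib.Helper19.ONMM3Words

set_option autoImplicit false
set_option maxRecDepth 100000
set_option linter.unusedVariables false
set_option Elab.async false

namespace Cfsg.Agent.Lib.Helper19.ONMM3

open Cfsg.Agent.Helper4.TC Cfsg.Agent.Lib.Helper19.CentModel

theorem rel56 : rangeS (relsRep mdata basesM) 711 39816 = true := by decide +kernel
theorem rel57 : rangeS (relsRep mdata basesM) 711 40527 = true := by decide +kernel
theorem rel58 : rangeS (relsRep mdata basesM) 711 41238 = true := by decide +kernel
theorem rel59 : rangeS (relsRep mdata basesM) 711 41949 = true := by decide +kernel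
theorem rel60 : rangeS (relsRep mdata basesM) 711 42660 = true := by decide +kernel
theorem rel61 : rangeS (relsRep mdata basesM) 711 43371 = true := by decide +kernel
theorem rel62 : rangeS (relsRep mdata basesM) 711 44082 = true := by decide +kernel
theorem rel63 : rangeS (relsRep mdata basesM) 711 44793 = true := by decide +kernel

end Cfsg.Agent.Lib.Helper19.ONMM3
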