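import Cfsg.Agent.Lib.Helper19.ONMM3Words

set_option autoImplicit false
set_option maxRecDepth 100000
set_option linter.unusedVariables false
set_option Elab.async false

namespace Cfsg.Agent.Lib.Helper19.ONMM3

open Cfsg.Agent.Helper4.TC Cfsg.Agent.Lib.Helper19.CentModel

theorem rel64 : rangeS (relsRep mdata basesM) 711 45504 = true := by decide +kernel
theorem rel65 : rangeS (relsRep mdata basesM) 711 46215 = true := by decide +kernel
theorem rel66 : rangeS (relsRep mdata basesM) 711 46926 = true := by decide +kernel
theorem rel67 : rangeS (relsRep mdata basesM) 711 47637 = true := by decide +kernel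
theorem rel68 : rangeS (relsRep mdata basesM) 711 48348 = true := by decide +kernel
theorem rel69 : rangeS (relsRep mdata basesM) 711 49059 = true := by decide +kernel
theorem rel70 : rangeS (relsRep mdata basesM) 711 49770 = true := by decide +kernel
theorem rel71 : rangeS (relsRep mdata basesM) 711 50481 = true := by decide +kernel

end Cfsg.Agent.Lib.Helper19.ONMM3
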