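import Cfsg.Agent.Lib.Helper19.ONMM3Words

set_option autoImplicit false
set_option maxRecDepth 100000
set_option linter.unusedVariables false
set_option Elab.async false

namespace Cfsg.Agent.Lib.Helper19.ONMM3

open Cfsg.Agent.Helper4.TC Cfsg.Agent.Lib.Helper19.CentModel

theorem rel72 : rangeS (relsRep mdata basesM) 711 51192 = true := by decide +kernel
theorem rel73 : rangeS (relsRep mdata basesM) 711 51903 = true := by decide +kernel
theorem rel74 : rangeS (relsRep mdata basesM) 711 52614 = true := by decide +kernel
theorem rel75 : rangeS (relsRep mdata basesM) 711 53325 = true := by decide +kernel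
theorem rel76 : rangeS (relsRep mdata basesM) 711 54036 = true := by decide +kernel
theorem rel77 : rangeS (relsRep mdata basesM) 711 54747 = true := by decide +kernel
theorem rel78 : rangeS (relsRep mdata basesM) 711 55458 = true := by decide +kernel
theorem rel79 : rangeS (relsRep mdata basesM) 711 56169 = true := by decide +kernel

end Cfsg.Agent.Lib.Helper19.ONMM3
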