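import Cfsg.Agent.Lib.Helper19.ONMM3C0
import Cfsg.Agent.Lib.Helper19.ONMM3C1
import Cfsg.Agent.Lib.Helper19.ONMM3C2
import Cfsg.Agent.Lib.Helper19.ONMM3C3
import Cfsg.Agent.Lib.Helper19.ONMM3C4
import Cfsg.Agent.Lib.Helper19.ONMM3C5
import Cfsg.Agent.Lib.Helper19.ONMM3C6
import Cfsg.Agent.Lib.Helper19.ONMM3C7
import Cfsg.Agent.Lib.Helper19.ONMM3C8
import Cfsg.Agent.Lib.Helper19.ONMM3C9
import Cfsg.Agent.Lib.Helper19.ONMM3C10
import Cfsg.Agent.Lib.Helper19.ONMM3C11
import Cfsg.Agent.Lib.Helper19.ONMM3C12
import Cfsg.Agent.Lib.Helper19.ONMM3C13
import Cfsg.Agent.Lib.Helper19.ONMM3C14
import Cfsg.Agent.Lib.Helper19.ONMM3C15
import Cfsg.Agent.Lib.Helper19.ONMM3C16
import Cfsg.Agent.Lib.Helper19.ONMM3C17
import Cfsg.Agent.Lib.Helper19.ONMM3C18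
import Cfsg.Agent.Lib.Helper19.ONMM3C19
import Cfsg.Agent.Lib.Helper19.ONMM3C20
import Cfsg.Agent.Lib.Helper19.ONMM3C21
import Cfsg.Agent.Lib.Helper19.ONMM3C22
import Cfsg.Agent.Lib.Helper19.ONMM3C23
import Cfsg.Agent.Lib.Helper19.ONMM3C24
import Cfsg.Agent.Lib.Helper19.ONMM3C25
import Cfsg.Agent.Lib.Helper19.ONMM3C26
import Cfsg.Agent.Lib.Helper19.ONMM3C27
import Cfsg.Agent.Lib.Helper19.ONMM3C28
import Cfsg.Agent.Lib.Helper19.ONMM3C29
import Cfsg.Agent.Lib.Helper19.ONMM3C30
import Cfsg.Agent.Lib.Helper19.ONMM3C31
import Cfsg.Agent.Lib.Helper19.ONMM3C32
import Cfsg.Agent.Lib.Helper19.ONMM3C33
import Cfsg.Agent.Lib.Helper19.ONMM3C34
import Cfsg.Agent.Lib.Helper19.ONMM3C35
import Cfsg.Agent.Lib.Helper19.ONMM3C36
import Cfsg.Agent.Lib.Helper19.ONMM3C37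
import Cfsg.Agent.Lib.Helper19.ONMM3C38
import Cfsg.Agent.Lib.Helper19.ONMM3C39
import Cfsg.Agent.Lib.Helper19.ONMM3C40
import Cfsg.Agent.Lib.Helper19.ONMM3C41
import Cfsg.Agent.Lib.Helper19.ONMM3C42
import Cfsg.Agent.Lib.Helper19.ONMM3C43
import Cfsg.Agent.Lib.Helper19.ONMM3C44
import Cfsg.Agent.Lib.Helper19.ONMM3C45
import Cfsg.Agent.Lib.Helper19.ONMM3C46
import Cfsg.Agent.Lib.Helper19.ONMM3C47
import Cfsg.Agent.Lib.Helper19.ONMM3C48
import Cfsg.Agent.Lib.Helper19.ONMM3C49
import Cfsg.Agent.Lib.Helper19.ONMM3C50
import Cfsg.Agent.Lib.Helper19.ONMM3C51
import Cfsg.Agent.Lib.Helper19.ONMM3C52
import Cfsg.Agent.Lib.Helper19.ONMM3C53

set_option autoImplicit false
set_option maxRecDepth 100000
set_option linter.unusedVariables false

namespace Cfsg.Agent.Lib.Helper19.ONMM3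

open Cfsg.Agent.Helper4.TC Cfsg.Agent.Lib.Helper19.CentModel

theorem zpt_all : ∀ k, k < 368280 → mtrace mdata rhoW k = z3 k ∧ ∀ c, c < mdata.nc → mdata.at c (z3 k) = z3 (mdata.at c k) := by
  intro k hk'
  by_cases hh1 : k < 183180
  · skip
    by_cases hh2 : k < 90300
    · skip
      by_cases hh3 : k < 43860
      · skip
        by_cases hh4 : k < 20640
        · skip
          by_cases hh5 : k < 10320
          · skip
            by_cases hh6 : k < 5160
            · skip
              by_cases hh7 : k < 2580
              · skip
                exact zRange_sound mdata z3 rhoW 2580 0 zc0 k (by omega) (by omega)
              · skip
                exact zRange_sound mdata z3 rhoW 2580 2580 zc1 k (by omega) (by omega)
            · skip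
              by_cases hh8 : k < 7740
              · skip
                exact zRange_sound mdata z3 rhoW 2580 5160 zc2 k (by omega) (by omega)
              · skip
                exact zRange_sound mdata z3 rhoW 2580 7740 zc3 k (by omega) (by omega)
          · skip
            by_cases hh9 : k < 15480
            · skip
              by_cases hh10 : k < 12900
              · skip
                exact zRange_sound mdata z3 rhoW 2580 10320 zc4 k (by omega) (by omega)
              · skip
                exact zRange_sound mdata z3 rhoW 2580 12900 zc5 k (by omega) (by omega)
            · skip
              by_cases hh11 : k < 18060
              · skip
                exact zRange_sound mdata z3 rhoW 2580 15480 zc6 k (by omega) (by omega)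
              · skip
                exact zRange_sound mdata z3 rhoW 2580 18060 zc7 k (by omega) (by omega)
        · skip
          by_cases hh12 : k < 30960
          · skip
            by_cases hh13 : k < 25800
            · skip
              by_cases hh14 : k < 23220
              · skip
                exact zRange_sound mdata z3 rhoW 2580 20640 zc8 k (by omega) (by omega)
              · skip
                exact zRange_sound mdata z3 rhoW 2580 23220 zc9 k (by omega) (by omega)
            · skip
              by_cases hh15 : k < 28380
              · skip
                exact zRange_sound mdata z3 rhoW 2580 25800 zc10 k (by omega) (by omega)
              · skip
                exact zRange_sound mdata z3 rhoW 2580 28380 zc11 k (by omega) (by omega)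
          · skip
            by_cases hh16 : k < 36120
            · skip
              by_cases hh17 : k < 33540
              · skip
                exact zRange_sound mdata z3 rhoW 2580 30960 zc12 k (by omega) (by omega)
              · skip
                exact zRange_sound mdata z3 rhoW 2580 33540 zc13 k (by omega) (by omega)
            · skip
              by_cases hh18 : k < 38700
              · skip
                exact zRange_sound mdata z3 rhoW 2580 36120 zc14 k (by omega) (by omega)
              · skip
                by_cases hh19 : k < 41280
                · skip
                  exact zRange_sound mdata z3 rhoW 2580 38700 zc15 k (by omega) (by omega)
                · skip
                  exact zRange_sound mdata z3 rhoW 2580 41280 zc16 k (by omega) (by omega)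
      · skip
        by_cases hh20 : k < 67080
        · skip
          by_cases hh21 : k < 54180
          · skip
            by_cases hh22 : k < 49020
            · skip
              by_cases hh23 : k < 46440
              · skip
                exact zRange_sound mdata z3 rhoW 2580 43860 zc17 k (by omega) (by omega)
              · skip
                exact zRange_sound mdata z3 rhoW 2580 46440 zc18 k (by omega) (by omega)
            · skip
              by_cases hh24 : k < 51600
              · skip
                exact zRange_sound mdata z3 rhoW 2580 49020 zc19 k (by omega) (by omega)
              · skip
                exact zRange_sound mdata z3 rhoW 2580 51600 zc20 k (by omega) (by omega)
          · skip
            by_cases hh25 : k < 59340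
            · skip
              by_cases hh26 : k < 56760
              · skip
                exact zRange_sound mdata z3 rhoW 2580 54180 zc21 k (by omega) (by omega)
              · skip
                exact zRange_sound mdata z3 rhoW 2580 56760 zc22 k (by omega) (by omega)
            · skip
              by_cases hh27 : k < 61920
              · skip
                exact zRange_sound mdata z3 rhoW 2580 59340 zc23 k (by omega) (by omega)
              · skip
                by_cases hh28 : k < 64500
                · skip
                  exact zRange_sound mdata z3 rhoW 2580 61920 zc24 k (by omega) (by omega)
                · skip
                  exact zRange_sound mdata z3 rhoW 2580 64500 zc25 k (by omega) (by omega)
        · skip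
          by_cases hh29 : k < 77400
          · skip
            by_cases hh30 : k < 72240
            · skip
              by_cases hh31 : k < 69660
              · skip
                exact zRange_sound mdata z3 rhoW 2580 67080 zc26 k (by omega) (by omega)
              · skip
                exact zRange_sound mdata z3 rhoW 2580 69660 zc27 k (by omega) (by omega)
            · skip
              by_cases hh32 : k < 74820
              · skip
                exact zRange_sound mdata z3 rhoW 2580 72240 zc28 k (by omega) (by omega)
              · skip
                exact zRange_sound mdata z3 rhoW 2580 74820 zc29 k (by omega) (by omega)
          · skip
            by_cases hh33 : k < 82560
            · skip
              by_cases hh34 : k < 79980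
              · skip
                exact zRange_sound mdata z3 rhoW 2580 77400 zc30 k (by omega) (by omega)
              · skip
                exact zRange_sound mdata z3 rhoW 2580 79980 zc31 k (by omega) (by omega)
            · skip
              by_cases hh35 : k < 85140
              · skip
                exact zRange_sound mdata z3 rhoW 2580 82560 zc32 k (by omega) (by omega)
              · skip
                by_cases hh36 : k < 87720
                · skip
                  exact zRange_sound mdata z3 rhoW 2580 85140 zc33 k (by omega) (by omega)
                · skip
                  exact zRange_sound mdata z3 rhoW 2580 87720 zc34 k (by omega) (by omega)
    · skip
      by_cases hh37 : k < 136740
      · skip
        by_cases hh38 : k < 113520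
        · skip
          by_cases hh39 : k < 100620
          · skip
            by_cases hh40 : k < 95460
            · skip
              by_cases hh41 : k < 92880
              · skip
                exact zRange_sound mdata z3 rhoW 2580 90300 zc35 k (by omega) (by omega)
              · skip
                exact zRange_sound mdata z3 rhoW 2580 92880 zc36 k (by omega) (by omega)
            · skip
              by_cases hh42 : k < 98040
              · skip
                exact zRange_sound mdata z3 rhoW 2580 95460 zc37 k (by omega) (by omega)
              · skip
                exact zRange_sound mdata z3 rhoW 2580 98040 zc38 k (by omega) (by omega)
          · skip
            by_cases hh43 : k < 105780
            · skip
              by_cases hh44 : k < 103200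
              · skip
                exact zRange_sound mdata z3 rhoW 2580 100620 zc39 k (by omega) (by omega)
              · skip
                exact zRange_sound mdata z3 rhoW 2580 103200 zc40 k (by omega) (by omega)
            · skip
              by_cases hh45 : k < 108360
              · skip
                exact zRange_sound mdata z3 rhoW 2580 105780 zc41 k (by omega) (by omega)
              · skip
                by_cases hh46 : k < 110940
                · skip
                  exact zRange_sound mdata z3 rhoW 2580 108360 zc42 k (by omega) (by omega)
                · skip
                  exact zRange_sound mdata z3 rhoW 2580 110940 zc43 k (by omega) (by omega)
        · skip
          by_cases hh47 : k < 123840
          · skip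
            by_cases hh48 : k < 118680
            · skip
              by_cases hh49 : k < 116100
              · skip
                exact zRange_sound mdata z3 rhoW 2580 113520 zc44 k (by omega) (by omega)
              · skip
                exact zRange_sound mdata z3 rhoW 2580 116100 zc45 k (by omega) (by omega)
            · skip
              by_cases hh50 : k < 121260
              · skip
                exact zRange_sound mdata z3 rhoW 2580 118680 zc46 k (by omega) (by omega)
              · skip
                exact zRange_sound mdata z3 rhoW 2580 121260 zc47 k (by omega) (by omega)
          · skip
            by_cases hh51 : k < 129000
            · skip
              by_cases hh52 : k < 126420
              · skip
                exact zRange_sound mdata z3 rhoW 2580 123840 zc48 k (by omega) (by omega)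
              · skip
                exact zRange_sound mdata z3 rhoW 2580 126420 zc49 k (by omega) (by omega)
            · skip
              by_cases hh53 : k < 131580
              · skip
                exact zRange_sound mdata z3 rhoW 2580 129000 zc50 k (by omega) (by omega)
              · skip
                by_cases hh54 : k < 134160
                · skip
                  exact zRange_sound mdata z3 rhoW 2580 131580 zc51 k (by omega) (by omega)
                · skip
                  exact zRange_sound mdata z3 rhoW 2580 134160 zc52 k (by omega) (by omega)
      · skip
        by_cases hh55 : k < 159960
        · skip
          by_cases hh56 : k < 147060
          · skip
            by_cases hh57 : k < 141900
            · skip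
              by_cases hh58 : k < 139320
              · skip
                exact zRange_sound mdata z3 rhoW 2580 136740 zc53 k (by omega) (by omega)
              · skip
                exact zRange_sound mdata z3 rhoW 2580 139320 zc54 k (by omega) (by omega)
            · skip
              by_cases hh59 : k < 144480
              · skip
                exact zRange_sound mdata z3 rhoW 2580 141900 zc55 k (by omega) (by omega)
              · skip
                exact zRange_sound mdata z3 rhoW 2580 144480 zc56 k (by omega) (by omega)
          · skip
            by_cases hh60 : k < 152220
            · skip
              by_cases hh61 : k < 149640
              · skip
                exact zRange_sound mdata z3 rhoW 2580 147060 zc57 k (by omega) (by omega)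
              · skip
                exact zRange_sound mdata z3 rhoW 2580 149640 zc58 k (by omega) (by omega)
            · skip
              by_cases hh62 : k < 154800
              · skip
                exact zRange_sound mdata z3 rhoW 2580 152220 zc59 k (by omega) (by omega)
              · skip
                by_cases hh63 : k < 157380
                · skip
                  exact zRange_sound mdata z3 rhoW 2580 154800 zc60 k (by omega) (by omega)
                · skip
                  exact zRange_sound mdata z3 rhoW 2580 157380 zc61 k (by omega) (by omega)
        · skip
          by_cases hh64 : k < 170280
          · skip
            by_cases hh65 : k < 165120
            · skip
              by_cases hh66 : k < 162540
              · skip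
                exact zRange_sound mdata z3 rhoW 2580 159960 zc62 k (by omega) (by omega)
              · skip
                exact zRange_sound mdata z3 rhoW 2580 162540 zc63 k (by omega) (by omega)
            · skip
              by_cases hh67 : k < 167700
              · skip
                exact zRange_sound mdata z3 rhoW 2580 165120 zc64 k (by omega) (by omega)
              · skip
                exact zRange_sound mdata z3 rhoW 2580 167700 zc65 k (by omega) (by omega)
          · skip
            by_cases hh68 : k < 175440
            · skip
              by_cases hh69 : k < 172860
              · skip
                exact zRange_sound mdata z3 rhoW 2580 170280 zc66 k (by omega) (by omega)
              · skip
                exact zRange_sound mdata z3 rhoW 2580 172860 zc67 k (by omega) (by omega)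
            · skip
              by_cases hh70 : k < 178020
              · skip
                exact zRange_sound mdata z3 rhoW 2580 175440 zc68 k (by omega) (by omega)
              · skip
                by_cases hh71 : k < 180600
                · skip
                  exact zRange_sound mdata z3 rhoW 2580 178020 zc69 k (by omega) (by omega)
                · skip
                  exact zRange_sound mdata z3 rhoW 2580 180600 zc70 k (by omega) (by omega)
  · skip
    by_cases hh72 : k < 276060
    · skip
      by_cases hh73 : k < 229620
      · skip
        by_cases hh74 : k < 206400
        · skip
          by_cases hh75 : k < 193500
          · skip
            by_cases hh76 : k < 188340
            · skip
              by_cases hh77 : k < 185760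
              · skip
                exact zRange_sound mdata z3 rhoW 2580 183180 zc71 k (by omega) (by omega)
              · skip
                exact zRange_sound mdata z3 rhoW 2580 185760 zc72 k (by omega) (by omega)
            · skip
              by_cases hh78 : k < 190920
              · skip
                exact zRange_sound mdata z3 rhoW 2580 188340 zc73 k (by omega) (by omega)
              · skip
                exact zRange_sound mdata z3 rhoW 2580 190920 zc74 k (by omega) (by omega)
          · skip
            by_cases hh79 : k < 198660
            · skip
              by_cases hh80 : k < 196080
              · skip
                exact zRange_sound mdata z3 rhoW 2580 193500 zc75 k (by omega) (by omega)
              · skip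
                exact zRange_sound mdata z3 rhoW 2580 196080 zc76 k (by omega) (by omega)
            · skip
              by_cases hh81 : k < 201240
              · skip
                exact zRange_sound mdata z3 rhoW 2580 198660 zc77 k (by omega) (by omega)
              · skip
                by_cases hh82 : k < 203820
                · skip
                  exact zRange_sound mdata z3 rhoW 2580 201240 zc78 k (by omega) (by omega)
                · skip
                  exact zRange_sound mdata z3 rhoW 2580 203820 zc79 k (by omega) (by omega)
        · skip
          by_cases hh83 : k < 216720
          · skip
            by_cases hh84 : k < 211560
            · skip
              by_cases hh85 : k < 208980
              · skip
                exact zRange_sound mdata z3 rhoW 2580 206400 zc80 k (by omega) (by omega)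
              · skip
                exact zRange_sound mdata z3 rhoW 2580 208980 zc81 k (by omega) (by omega)
            · skip
              by_cases hh86 : k < 214140
              · skip
                exact zRange_sound mdata z3 rhoW 2580 211560 zc82 k (by omega) (by omega)
              · skip
                exact zRange_sound mdata z3 rhoW 2580 214140 zc83 k (by omega) (by omega)
          · skip
            by_cases hh87 : k < 221880
            · skip
              by_cases hh88 : k < 219300
              · skip
                exact zRange_sound mdata z3 rhoW 2580 216720 zc84 k (by omega) (by omega)
              · skip
                exact zRange_sound mdata z3 rhoW 2580 219300 zc85 k (by omega) (by omega)
            · skip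
              by_cases hh89 : k < 224460
              · skip
                exact zRange_sound mdata z3 rhoW 2580 221880 zc86 k (by omega) (by omega)
              · skip
                by_cases hh90 : k < 227040
                · skip
                  exact zRange_sound mdata z3 rhoW 2580 224460 zc87 k (by omega) (by omega)
                · skip
                  exact zRange_sound mdata z3 rhoW 2580 227040 zc88 k (by omega) (by omega)
      · skip
        by_cases hh91 : k < 252840
        · skip
          by_cases hh92 : k < 239940
          · skip
            by_cases hh93 : k < 234780
            · skip
              by_cases hh94 : k < 232200
              · skip
                exact zRange_sound mdata z3 rhoW 2580 229620 zc89 k (by omega) (by omega)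
              · skip
                exact zRange_sound mdata z3 rhoW 2580 232200 zc90 k (by omega) (by omega)
            · skip
              by_cases hh95 : k < 237360
              · skip
                exact zRange_sound mdata z3 rhoW 2580 234780 zc91 k (by omega) (by omega)
              · skip
                exact zRange_sound mdata z3 rhoW 2580 237360 zc92 k (by omega) (by omega)
          · skip
            by_cases hh96 : k < 245100
            · skip
              by_cases hh97 : k < 242520
              · skip
                exact zRange_sound mdata z3 rhoW 2580 239940 zc93 k (by omega) (by omega)
              · skip
                exact zRange_sound mdata z3 rhoW 2580 242520 zc94 k (by omega) (by omega)
            · skip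
              by_cases hh98 : k < 247680
              · skip
                exact zRange_sound mdata z3 rhoW 2580 245100 zc95 k (by omega) (by omega)
              · skip
                by_cases hh99 : k < 250260
                · skip
                  exact zRange_sound mdata z3 rhoW 2580 247680 zc96 k (by omega) (by omega)
                · skip
                  exact zRange_sound mdata z3 rhoW 2580 250260 zc97 k (by omega) (by omega)
        · skip
          by_cases hh100 : k < 263160
          · skip
            by_cases hh101 : k < 258000
            · skip
              by_cases hh102 : k < 255420
              · skip
                exact zRange_sound mdata z3 rhoW 2580 252840 zc98 k (by omega) (by omega)
              · skip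
                exact zRange_sound mdata z3 rhoW 2580 255420 zc99 k (by omega) (by omega)
            · skip
              by_cases hh103 : k < 260580
              · skip
                exact zRange_sound mdata z3 rhoW 2580 258000 zc100 k (by omega) (by omega)
              · skip
                exact zRange_sound mdata z3 rhoW 2580 260580 zc101 k (by omega) (by omega)
          · skip
            by_cases hh104 : k < 268320
            · skip
              by_cases hh105 : k < 265740
              · skip
                exact zRange_sound mdata z3 rhoW 2580 263160 zc102 k (by omega) (by omega)
              · skip
                exact zRange_sound mdata z3 rhoW 2580 265740 zc103 k (by omega) (by omega)
            · skip
              by_cases hh106 : k < 270900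
              · skip
                exact zRange_sound mdata z3 rhoW 2580 268320 zc104 k (by omega) (by omega)
              · skip
                by_cases hh107 : k < 273480
                · skip
                  exact zRange_sound mdata z3 rhoW 2580 270900 zc105 k (by omega) (by omega)
                · skip
                  exact zRange_sound mdata z3 rhoW 2580 273480 zc106 k (by omega) (by omega)
    · skip
      by_cases hh108 : k < 322500
      · skip
        by_cases hh109 : k < 299280
        · skip
          by_cases hh110 : k < 286380
          · skip
            by_cases hh111 : k < 281220
            · skip
              by_cases hh112 : k < 278640
              · skip
                exact zRange_sound mdata z3 rhoW 2580 276060 zc107 k (by omega) (by omega)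
              · skip
                exact zRange_sound mdata z3 rhoW 2580 278640 zc108 k (by omega) (by omega)
            · skip
              by_cases hh113 : k < 283800
              · skip
                exact zRange_sound mdata z3 rhoW 2580 281220 zc109 k (by omega) (by omega)
              · skip
                exact zRange_sound mdata z3 rhoW 2580 283800 zc110 k (by omega) (by omega)
          · skip
            by_cases hh114 : k < 291540
            · skip
              by_cases hh115 : k < 288960
              · skip
                exact zRange_sound mdata z3 rhoW 2580 286380 zc111 k (by omega) (by omega)
              · skip
                exact zRange_sound mdata z3 rhoW 2580 288960 zc112 k (by omega) (by omega)
            · skip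
              by_cases hh116 : k < 294120
              · skip
                exact zRange_sound mdata z3 rhoW 2580 291540 zc113 k (by omega) (by omega)
              · skip
                by_cases hh117 : k < 296700
                · skip
                  exact zRange_sound mdata z3 rhoW 2580 294120 zc114 k (by omega) (by omega)
                · skip
                  exact zRange_sound mdata z3 rhoW 2580 296700 zc115 k (by omega) (by omega)
        · skip
          by_cases hh118 : k < 309600
          · skip
            by_cases hh119 : k < 304440
            · skip
              by_cases hh120 : k < 301860
              · skip
                exact zRange_sound mdata z3 rhoW 2580 299280 zc116 k (by omega) (by omega)
              · skip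
                exact zRange_sound mdata z3 rhoW 2580 301860 zc117 k (by omega) (by omega)
            · skip
              by_cases hh121 : k < 307020
              · skip
                exact zRange_sound mdata z3 rhoW 2580 304440 zc118 k (by omega) (by omega)
              · skip
                exact zRange_sound mdata z3 rhoW 2580 307020 zc119 k (by omega) (by omega)
          · skip
            by_cases hh122 : k < 314760
            · skip
              by_cases hh123 : k < 312180
              · skip
                exact zRange_sound mdata z3 rhoW 2580 309600 zc120 k (by omega) (by omega)
              · skip
                exact zRange_sound mdata z3 rhoW 2580 312180 zc121 k (by omega) (by omega)
            · skip
              by_cases hh124 : k < 317340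
              · skip
                exact zRange_sound mdata z3 rhoW 2580 314760 zc122 k (by omega) (by omega)
              · skip
                by_cases hh125 : k < 319920
                · skip
                  exact zRange_sound mdata z3 rhoW 2580 317340 zc123 k (by omega) (by omega)
                · skip
                  exact zRange_sound mdata z3 rhoW 2580 319920 zc124 k (by omega) (by omega)
      · skip
        by_cases hh126 : k < 345720
        · skip
          by_cases hh127 : k < 332820
          · skip
            by_cases hh128 : k < 327660
            · skip
              by_cases hh129 : k < 325080
              · skip
                exact zRange_sound mdata z3 rhoW 2580 322500 zc125 k (by omega) (by omega)
              · skip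
                exact zRange_sound mdata z3 rhoW 2580 325080 zc126 k (by omega) (by omega)
            · skip
              by_cases hh130 : k < 330240
              · skip
                exact zRange_sound mdata z3 rhoW 2580 327660 zc127 k (by omega) (by omega)
              · skip
                exact zRange_sound mdata z3 rhoW 2580 330240 zc128 k (by omega) (by omega)
          · skip
            by_cases hh131 : k < 337980
            · skip
              by_cases hh132 : k < 335400
              · skip
                exact zRange_sound mdata z3 rhoW 2580 332820 zc129 k (by omega) (by omega)
              · skip
                exact zRange_sound mdata z3 rhoW 2580 335400 zc130 k (by omega) (by omega)
            · skip
              by_cases hh133 : k < 340560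
              · skip
                exact zRange_sound mdata z3 rhoW 2580 337980 zc131 k (by omega) (by omega)
              · skip
                by_cases hh134 : k < 343140
                · skip
                  exact zRange_sound mdata z3 rhoW 2580 340560 zc132 k (by omega) (by omega)
                · skip
                  exact zRange_sound mdata z3 rhoW 2580 343140 zc133 k (by omega) (by omega)
        · skip
          by_cases hh135 : k < 356040
          · skip
            by_cases hh136 : k < 350880
            · skip
              by_cases hh137 : k < 348300
              · skip
                exact zRange_sound mdata z3 rhoW 2580 345720 zc134 k (by omega) (by omega)
              · skip
                exact zRange_sound mdata z3 rhoW 2580 348300 zc135 k (by omega) (by omega)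
            · skip
              by_cases hh138 : k < 353460
              · skip
                exact zRange_sound mdata z3 rhoW 2580 350880 zc136 k (by omega) (by omega)
              · skip
                exact zRange_sound mdata z3 rhoW 2580 353460 zc137 k (by omega) (by omega)
          · skip
            by_cases hh139 : k < 361200
            · skip
              by_cases hh140 : k < 358620
              · skip
                exact zRange_sound mdata z3 rhoW 2580 356040 zc138 k (by omega) (by omega)
              · skip
                exact zRange_sound mdata z3 rhoW 2580 358620 zc139 k (by omega) (by omega)
            · skip
              by_cases hh141 : k < 363780
              · skip
                exact zRange_sound mdata z3 rhoW 2580 361200 zc140 k (by omega) (by omega)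
              · skip
                by_cases hh142 : k < 366360
                · skip
                  exact zRange_sound mdata z3 rhoW 2580 363780 zc141 k (by omega) (by omega)
                · skip
                  exact zRange_sound mdata z3 rhoW 1920 366360 zc142 k (by omega) (by omega)

theorem inv_all : ∀ k, k < 368280 → ∀ c, c < mdata.nc → mdata.at c k < mdata.n ∧ mdata.at (Nat.xor c 1) (mdata.at c k) = k := by
  intro k hk'
  by_cases hh1 : k < 182832
  · skip
    by_cases hh2 : k < 91416
    · skip
      by_cases hh3 : k < 45708
      · skip
        by_cases hh4 : k < 22854
        · skip
          by_cases hh5 : k < 11427
          · skip
            by_cases hh6 : k < 3809
            · skip
              exact invRange_sound mdata 3809 0 inv0 k (by omega) (by omega)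
            · skip
              by_cases hh7 : k < 7618
              · skip
                exact invRange_sound mdata 3809 3809 inv1 k (by omega) (by omega)
              · skip
                exact invRange_sound mdata 3809 7618 inv2 k (by omega) (by omega)
          · skip
            by_cases hh8 : k < 15236
            · skip
              exact invRange_sound mdata 3809 11427 inv3 k (by omega) (by omega)
            · skip
              by_cases hh9 : k < 19045
              · skip
                exact invRange_sound mdata 3809 15236 inv4 k (by omega) (by omega)
              · skip
                exact invRange_sound mdata 3809 19045 inv5 k (by omega) (by omega)
        · skip
          by_cases hh10 : k < 34281
          · skip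
            by_cases hh11 : k < 26663
            · skip
              exact invRange_sound mdata 3809 22854 inv6 k (by omega) (by omega)
            · skip
              by_cases hh12 : k < 30472
              · skip
                exact invRange_sound mdata 3809 26663 inv7 k (by omega) (by omega)
              · skip
                exact invRange_sound mdata 3809 30472 inv8 k (by omega) (by omega)
          · skip
            by_cases hh13 : k < 38090
            · skip
              exact invRange_sound mdata 3809 34281 inv9 k (by omega) (by omega)
            · skip
              by_cases hh14 : k < 41899
              · skip
                exact invRange_sound mdata 3809 38090 inv10 k (by omega) (by omega)
              · skip
                exact invRange_sound mdata 3809 41899 inv11 k (by omega) (by omega)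
      · skip
        by_cases hh15 : k < 68562
        · skip
          by_cases hh16 : k < 57135
          · skip
            by_cases hh17 : k < 49517
            · skip
              exact invRange_sound mdata 3809 45708 inv12 k (by omega) (by omega)
            · skip
              by_cases hh18 : k < 53326
              · skip
                exact invRange_sound mdata 3809 49517 inv13 k (by omega) (by omega)
              · skip
                exact invRange_sound mdata 3809 53326 inv14 k (by omega) (by omega)
          · skip
            by_cases hh19 : k < 60944
            · skip
              exact invRange_sound mdata 3809 57135 inv15 k (by omega) (by omega)
            · skip
              by_cases hh20 : k < 64753
              · skip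
                exact invRange_sound mdata 3809 60944 inv16 k (by omega) (by omega)
              · skip
                exact invRange_sound mdata 3809 64753 inv17 k (by omega) (by omega)
        · skip
          by_cases hh21 : k < 79989
          · skip
            by_cases hh22 : k < 72371
            · skip
              exact invRange_sound mdata 3809 68562 inv18 k (by omega) (by omega)
            · skip
              by_cases hh23 : k < 76180
              · skip
                exact invRange_sound mdata 3809 72371 inv19 k (by omega) (by omega)
              · skip
                exact invRange_sound mdata 3809 76180 inv20 k (by omega) (by omega)
          · skip
            by_cases hh24 : k < 83798
            · skip
              exact invRange_sound mdata 3809 79989 inv21 k (by omega) (by omega)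
            · skip
              by_cases hh25 : k < 87607
              · skip
                exact invRange_sound mdata 3809 83798 inv22 k (by omega) (by omega)
              · skip
                exact invRange_sound mdata 3809 87607 inv23 k (by omega) (by omega)
    · skip
      by_cases hh26 : k < 137124
      · skip
        by_cases hh27 : k < 114270
        · skip
          by_cases hh28 : k < 102843
          · skip
            by_cases hh29 : k < 95225
            · skip
              exact invRange_sound mdata 3809 91416 inv24 k (by omega) (by omega)
            · skip
              by_cases hh30 : k < 99034
              · skip
                exact invRange_sound mdata 3809 95225 inv25 k (by omega) (by omega)
              · skip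
                exact invRange_sound mdata 3809 99034 inv26 k (by omega) (by omega)
          · skip
            by_cases hh31 : k < 106652
            · skip
              exact invRange_sound mdata 3809 102843 inv27 k (by omega) (by omega)
            · skip
              by_cases hh32 : k < 110461
              · skip
                exact invRange_sound mdata 3809 106652 inv28 k (by omega) (by omega)
              · skip
                exact invRange_sound mdata 3809 110461 inv29 k (by omega) (by omega)
        · skip
          by_cases hh33 : k < 125697
          · skip
            by_cases hh34 : k < 118079
            · skip
              exact invRange_sound mdata 3809 114270 inv30 k (by omega) (by omega)
            · skip
              by_cases hh35 : k < 121888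
              · skip
                exact invRange_sound mdata 3809 118079 inv31 k (by omega) (by omega)
              · skip
                exact invRange_sound mdata 3809 121888 inv32 k (by omega) (by omega)
          · skip
            by_cases hh36 : k < 129506
            · skip
              exact invRange_sound mdata 3809 125697 inv33 k (by omega) (by omega)
            · skip
              by_cases hh37 : k < 133315
              · skip
                exact invRange_sound mdata 3809 129506 inv34 k (by omega) (by omega)
              · skip
                exact invRange_sound mdata 3809 133315 inv35 k (by omega) (by omega)
      · skip
        by_cases hh38 : k < 159978
        · skip
          by_cases hh39 : k < 148551
          · skip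
            by_cases hh40 : k < 140933
            · skip
              exact invRange_sound mdata 3809 137124 inv36 k (by omega) (by omega)
            · skip
              by_cases hh41 : k < 144742
              · skip
                exact invRange_sound mdata 3809 140933 inv37 k (by omega) (by omega)
              · skip
                exact invRange_sound mdata 3809 144742 inv38 k (by omega) (by omega)
          · skip
            by_cases hh42 : k < 152360
            · skip
              exact invRange_sound mdata 3809 148551 inv39 k (by omega) (by omega)
            · skip
              by_cases hh43 : k < 156169
              · skip
                exact invRange_sound mdata 3809 152360 inv40 k (by omega) (by omega)
              · skip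
                exact invRange_sound mdata 3809 156169 inv41 k (by omega) (by omega)
        · skip
          by_cases hh44 : k < 171405
          · skip
            by_cases hh45 : k < 163787
            · skip
              exact invRange_sound mdata 3809 159978 inv42 k (by omega) (by omega)
            · skip
              by_cases hh46 : k < 167596
              · skip
                exact invRange_sound mdata 3809 163787 inv43 k (by omega) (by omega)
              · skip
                exact invRange_sound mdata 3809 167596 inv44 k (by omega) (by omega)
          · skip
            by_cases hh47 : k < 175214
            · skip
              exact invRange_sound mdata 3809 171405 inv45 k (by omega) (by omega)
            · skip
              by_cases hh48 : k < 179023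
              · skip
                exact invRange_sound mdata 3809 175214 inv46 k (by omega) (by omega)
              · skip
                exact invRange_sound mdata 3809 179023 inv47 k (by omega) (by omega)
  · skip
    by_cases hh49 : k < 274248
    · skip
      by_cases hh50 : k < 228540
      · skip
        by_cases hh51 : k < 205686
        · skip
          by_cases hh52 : k < 194259
          · skip
            by_cases hh53 : k < 186641
            · skip
              exact invRange_sound mdata 3809 182832 inv48 k (by omega) (by omega)
            · skip
              by_cases hh54 : k < 190450
              · skip
                exact invRange_sound mdata 3809 186641 inv49 k (by omega) (by omega)
              · skip
                exact invRange_sound mdata 3809 190450 inv50 k (by omega) (by omega)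
          · skip
            by_cases hh55 : k < 198068
            · skip
              exact invRange_sound mdata 3809 194259 inv51 k (by omega) (by omega)
            · skip
              by_cases hh56 : k < 201877
              · skip
                exact invRange_sound mdata 3809 198068 inv52 k (by omega) (by omega)
              · skip
                exact invRange_sound mdata 3809 201877 inv53 k (by omega) (by omega)
        · skip
          by_cases hh57 : k < 217113
          · skip
            by_cases hh58 : k < 209495
            · skip
              exact invRange_sound mdata 3809 205686 inv54 k (by omega) (by omega)
            · skip
              by_cases hh59 : k < 213304
              · skip
                exact invRange_sound mdata 3809 209495 inv55 k (by omega) (by omega)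
              · skip
                exact invRange_sound mdata 3809 213304 inv56 k (by omega) (by omega)
          · skip
            by_cases hh60 : k < 220922
            · skip
              exact invRange_sound mdata 3809 217113 inv57 k (by omega) (by omega)
            · skip
              by_cases hh61 : k < 224731
              · skip
                exact invRange_sound mdata 3809 220922 inv58 k (by omega) (by omega)
              · skip
                exact invRange_sound mdata 3809 224731 inv59 k (by omega) (by omega)
      · skip
        by_cases hh62 : k < 251394
        · skip
          by_cases hh63 : k < 239967
          · skip
            by_cases hh64 : k < 232349
            · skip
              exact invRange_sound mdata 3809 228540 inv60 k (by omega) (by omega)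
            · skip
              by_cases hh65 : k < 236158
              · skip
                exact invRange_sound mdata 3809 232349 inv61 k (by omega) (by omega)
              · skip
                exact invRange_sound mdata 3809 236158 inv62 k (by omega) (by omega)
          · skip
            by_cases hh66 : k < 243776
            · skip
              exact invRange_sound mdata 3809 239967 inv63 k (by omega) (by omega)
            · skip
              by_cases hh67 : k < 247585
              · skip
                exact invRange_sound mdata 3809 243776 inv64 k (by omega) (by omega)
              · skip
                exact invRange_sound mdata 3809 247585 inv65 k (by omega) (by omega)
        · skip
          by_cases hh68 : k < 262821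
          · skip
            by_cases hh69 : k < 255203
            · skip
              exact invRange_sound mdata 3809 251394 inv66 k (by omega) (by omega)
            · skip
              by_cases hh70 : k < 259012
              · skip
                exact invRange_sound mdata 3809 255203 inv67 k (by omega) (by omega)
              · skip
                exact invRange_sound mdata 3809 259012 inv68 k (by omega) (by omega)
          · skip
            by_cases hh71 : k < 266630
            · skip
              exact invRange_sound mdata 3809 262821 inv69 k (by omega) (by omega)
            · skip
              by_cases hh72 : k < 270439
              · skip
                exact invRange_sound mdata 3809 266630 inv70 k (by omega) (by omega)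
              · skip
                exact invRange_sound mdata 3809 270439 inv71 k (by omega) (by omega)
    · skip
      by_cases hh73 : k < 319956
      · skip
        by_cases hh74 : k < 297102
        · skip
          by_cases hh75 : k < 285675
          · skip
            by_cases hh76 : k < 278057
            · skip
              exact invRange_sound mdata 3809 274248 inv72 k (by omega) (by omega)
            · skip
              by_cases hh77 : k < 281866
              · skip
                exact invRange_sound mdata 3809 278057 inv73 k (by omega) (by omega)
              · skip
                exact invRange_sound mdata 3809 281866 inv74 k (by omega) (by omega)
          · skip
            by_cases hh78 : k < 289484
            · skip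
              exact invRange_sound mdata 3809 285675 inv75 k (by omega) (by omega)
            · skip
              by_cases hh79 : k < 293293
              · skip
                exact invRange_sound mdata 3809 289484 inv76 k (by omega) (by omega)
              · skip
                exact invRange_sound mdata 3809 293293 inv77 k (by omega) (by omega)
        · skip
          by_cases hh80 : k < 308529
          · skip
            by_cases hh81 : k < 300911
            · skip
              exact invRange_sound mdata 3809 297102 inv78 k (by omega) (by omega)
            · skip
              by_cases hh82 : k < 304720
              · skip
                exact invRange_sound mdata 3809 300911 inv79 k (by omega) (by omega)
              · skip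
                exact invRange_sound mdata 3809 304720 inv80 k (by omega) (by omega)
          · skip
            by_cases hh83 : k < 312338
            · skip
              exact invRange_sound mdata 3809 308529 inv81 k (by omega) (by omega)
            · skip
              by_cases hh84 : k < 316147
              · skip
                exact invRange_sound mdata 3809 312338 inv82 k (by omega) (by omega)
              · skip
                exact invRange_sound mdata 3809 316147 inv83 k (by omega) (by omega)
      · skip
        by_cases hh85 : k < 342810
        · skip
          by_cases hh86 : k < 331383
          · skip
            by_cases hh87 : k < 323765
            · skip
              exact invRange_sound mdata 3809 319956 inv84 k (by omega) (by omega)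
            · skip
              by_cases hh88 : k < 327574
              · skip
                exact invRange_sound mdata 3809 323765 inv85 k (by omega) (by omega)
              · skip
                exact invRange_sound mdata 3809 327574 inv86 k (by omega) (by omega)
          · skip
            by_cases hh89 : k < 335192
            · skip
              exact invRange_sound mdata 3809 331383 inv87 k (by omega) (by omega)
            · skip
              by_cases hh90 : k < 339001
              · skip
                exact invRange_sound mdata 3809 335192 inv88 k (by omega) (by omega)
              · skip
                exact invRange_sound mdata 3809 339001 inv89 k (by omega) (by omega)
        · skip
          by_cases hh91 : k < 354237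
          · skip
            by_cases hh92 : k < 346619
            · skip
              exact invRange_sound mdata 3809 342810 inv90 k (by omega) (by omega)
            · skip
              by_cases hh93 : k < 350428
              · skip
                exact invRange_sound mdata 3809 346619 inv91 k (by omega) (by omega)
              · skip
                exact invRange_sound mdata 3809 350428 inv92 k (by omega) (by omega)
          · skip
            by_cases hh94 : k < 361855
            · skip
              by_cases hh95 : k < 358046
              · skip
                exact invRange_sound mdata 3809 354237 inv93 k (by omega) (by omega)
              · skip
                exact invRange_sound mdata 3809 358046 inv94 k (by omega) (by omega)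
            · skip
              by_cases hh96 : k < 365664
              · skip
                exact invRange_sound mdata 3809 361855 inv95 k (by omega) (by omega)
              · skip
                exact invRange_sound mdata 2616 365664 inv96 k (by omega) (by omega)

theorem rep_all : ∀ j, j < 122760 → ∀ b ∈ basesM, mtrace mdata b (3 * j) = 3 * j := by
  intro j hj'
  by_cases hh1 : j < 61146
  · skip
    by_cases hh2 : j < 30573
    · skip
      by_cases hh3 : j < 14931
      · skip
        by_cases hh4 : j < 7110
        · skip
          by_cases hh5 : j < 3555
          · skip
            by_cases hh6 : j < 1422
            · skip
              by_cases hh7 : j < 711
              · skip
                exact relsRepRange_sound mdata basesM 711 0 rel0 j (by omega) (by omega)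
              · skip
                exact relsRepRange_sound mdata basesM 711 711 rel1 j (by omega) (by omega)
            · skip
              by_cases hh8 : j < 2133
              · skip
                exact relsRepRange_sound mdata basesM 711 1422 rel2 j (by omega) (by omega)
              · skip
                by_cases hh9 : j < 2844
                · skip
                  exact relsRepRange_sound mdata basesM 711 2133 rel3 j (by omega) (by omega)
                · skip
                  exact relsRepRange_sound mdata basesM 711 2844 rel4 j (by omega) (by omega)
          · skip
            by_cases hh10 : j < 4977
            · skip
              by_cases hh11 : j < 4266
              · skip
                exact relsRepRange_sound mdata basesM 711 3555 rel5 j (by omega) (by omega)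
              · skip
                exact relsRepRange_sound mdata basesM 711 4266 rel6 j (by omega) (by omega)
            · skip
              by_cases hh12 : j < 5688
              · skip
                exact relsRepRange_sound mdata basesM 711 4977 rel7 j (by omega) (by omega)
              · skip
                by_cases hh13 : j < 6399
                · skip
                  exact relsRepRange_sound mdata basesM 711 5688 rel8 j (by omega) (by omega)
                · skip
                  exact relsRepRange_sound mdata basesM 711 6399 rel9 j (by omega) (by omega)
        · skip
          by_cases hh14 : j < 10665
          · skip
            by_cases hh15 : j < 8532
            · skip
              by_cases hh16 : j < 7821
              · skip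
                exact relsRepRange_sound mdata basesM 711 7110 rel10 j (by omega) (by omega)
              · skip
                exact relsRepRange_sound mdata basesM 711 7821 rel11 j (by omega) (by omega)
            · skip
              by_cases hh17 : j < 9243
              · skip
                exact relsRepRange_sound mdata basesM 711 8532 rel12 j (by omega) (by omega)
              · skip
                by_cases hh18 : j < 9954
                · skip
                  exact relsRepRange_sound mdata basesM 711 9243 rel13 j (by omega) (by omega)
                · skip
                  exact relsRepRange_sound mdata basesM 711 9954 rel14 j (by omega) (by omega)
          · skip
            by_cases hh19 : j < 12798
            · skip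
              by_cases hh20 : j < 11376
              · skip
                exact relsRepRange_sound mdata basesM 711 10665 rel15 j (by omega) (by omega)
              · skip
                by_cases hh21 : j < 12087
                · skip
                  exact relsRepRange_sound mdata basesM 711 11376 rel16 j (by omega) (by omega)
                · skip
                  exact relsRepRange_sound mdata basesM 711 12087 rel17 j (by omega) (by omega)
            · skip
              by_cases hh22 : j < 13509
              · skip
                exact relsRepRange_sound mdata basesM 711 12798 rel18 j (by omega) (by omega)
              · skip
                by_cases hh23 : j < 14220
                · skip
                  exact relsRepRange_sound mdata basesM 711 13509 rel19 j (by omega) (by omega)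
                · skip
                  exact relsRepRange_sound mdata basesM 711 14220 rel20 j (by omega) (by omega)
      · skip
        by_cases hh24 : j < 22752
        · skip
          by_cases hh25 : j < 18486
          · skip
            by_cases hh26 : j < 16353
            · skip
              by_cases hh27 : j < 15642
              · skip
                exact relsRepRange_sound mdata basesM 711 14931 rel21 j (by omega) (by omega)
              · skip
                exact relsRepRange_sound mdata basesM 711 15642 rel22 j (by omega) (by omega)
            · skip
              by_cases hh28 : j < 17064
              · skip
                exact relsRepRange_sound mdata basesM 711 16353 rel23 j (by omega) (by omega)
              · skip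
                by_cases hh29 : j < 17775
                · skip
                  exact relsRepRange_sound mdata basesM 711 17064 rel24 j (by omega) (by omega)
                · skip
                  exact relsRepRange_sound mdata basesM 711 17775 rel25 j (by omega) (by omega)
          · skip
            by_cases hh30 : j < 20619
            · skip
              by_cases hh31 : j < 19197
              · skip
                exact relsRepRange_sound mdata basesM 711 18486 rel26 j (by omega) (by omega)
              · skip
                by_cases hh32 : j < 19908
                · skip
                  exact relsRepRange_sound mdata basesM 711 19197 rel27 j (by omega) (by omega)
                · skip
                  exact relsRepRange_sound mdata basesM 711 19908 rel28 j (by omega) (by omega)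
            · skip
              by_cases hh33 : j < 21330
              · skip
                exact relsRepRange_sound mdata basesM 711 20619 rel29 j (by omega) (by omega)
              · skip
                by_cases hh34 : j < 22041
                · skip
                  exact relsRepRange_sound mdata basesM 711 21330 rel30 j (by omega) (by omega)
                · skip
                  exact relsRepRange_sound mdata basesM 711 22041 rel31 j (by omega) (by omega)
        · skip
          by_cases hh35 : j < 26307
          · skip
            by_cases hh36 : j < 24174
            · skip
              by_cases hh37 : j < 23463
              · skip
                exact relsRepRange_sound mdata basesM 711 22752 rel32 j (by omega) (by omega)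
              · skip
                exact relsRepRange_sound mdata basesM 711 23463 rel33 j (by omega) (by omega)
            · skip
              by_cases hh38 : j < 24885
              · skip
                exact relsRepRange_sound mdata basesM 711 24174 rel34 j (by omega) (by omega)
              · skip
                by_cases hh39 : j < 25596
                · skip
                  exact relsRepRange_sound mdata basesM 711 24885 rel35 j (by omega) (by omega)
                · skip
                  exact relsRepRange_sound mdata basesM 711 25596 rel36 j (by omega) (by omega)
          · skip
            by_cases hh40 : j < 28440
            · skip
              by_cases hh41 : j < 27018
              · skip
                exact relsRepRange_sound mdata basesM 711 26307 rel37 j (by omega) (by omega)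
              · skip
                by_cases hh42 : j < 27729
                · skip
                  exact relsRepRange_sound mdata basesM 711 27018 rel38 j (by omega) (by omega)
                · skip
                  exact relsRepRange_sound mdata basesM 711 27729 rel39 j (by omega) (by omega)
            · skip
              by_cases hh43 : j < 29151
              · skip
                exact relsRepRange_sound mdata basesM 711 28440 rel40 j (by omega) (by omega)
              · skip
                by_cases hh44 : j < 29862
                · skip
                  exact relsRepRange_sound mdata basesM 711 29151 rel41 j (by omega) (by omega)
                · skip
                  exact relsRepRange_sound mdata basesM 711 29862 rel42 j (by omega) (by omega)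
    · skip
      by_cases hh45 : j < 45504
      · skip
        by_cases hh46 : j < 37683
        · skip
          by_cases hh47 : j < 34128
          · skip
            by_cases hh48 : j < 31995
            · skip
              by_cases hh49 : j < 31284
              · skip
                exact relsRepRange_sound mdata basesM 711 30573 rel43 j (by omega) (by omega)
              · skip
                exact relsRepRange_sound mdata basesM 711 31284 rel44 j (by omega) (by omega)
            · skip
              by_cases hh50 : j < 32706
              · skip
                exact relsRepRange_sound mdata basesM 711 31995 rel45 j (by omega) (by omega)
              · skip
                by_cases hh51 : j < 33417
                · skip
                  exact relsRepRange_sound mdata basesM 711 32706 rel46 j (by omega) (by omega)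
                · skip
                  exact relsRepRange_sound mdata basesM 711 33417 rel47 j (by omega) (by omega)
          · skip
            by_cases hh52 : j < 35550
            · skip
              by_cases hh53 : j < 34839
              · skip
                exact relsRepRange_sound mdata basesM 711 34128 rel48 j (by omega) (by omega)
              · skip
                exact relsRepRange_sound mdata basesM 711 34839 rel49 j (by omega) (by omega)
            · skip
              by_cases hh54 : j < 36261
              · skip
                exact relsRepRange_sound mdata basesM 711 35550 rel50 j (by omega) (by omega)
              · skip
                by_cases hh55 : j < 36972
                · skip
                  exact relsRepRange_sound mdata basesM 711 36261 rel51 j (by omega) (by omega)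
                · skip
                  exact relsRepRange_sound mdata basesM 711 36972 rel52 j (by omega) (by omega)
        · skip
          by_cases hh56 : j < 41238
          · skip
            by_cases hh57 : j < 39105
            · skip
              by_cases hh58 : j < 38394
              · skip
                exact relsRepRange_sound mdata basesM 711 37683 rel53 j (by omega) (by omega)
              · skip
                exact relsRepRange_sound mdata basesM 711 38394 rel54 j (by omega) (by omega)
            · skip
              by_cases hh59 : j < 39816
              · skip
                exact relsRepRange_sound mdata basesM 711 39105 rel55 j (by omega) (by omega)
              · skip
                by_cases hh60 : j < 40527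
                · skip
                  exact relsRepRange_sound mdata basesM 711 39816 rel56 j (by omega) (by omega)
                · skip
                  exact relsRepRange_sound mdata basesM 711 40527 rel57 j (by omega) (by omega)
          · skip
            by_cases hh61 : j < 43371
            · skip
              by_cases hh62 : j < 41949
              · skip
                exact relsRepRange_sound mdata basesM 711 41238 rel58 j (by omega) (by omega)
              · skip
                by_cases hh63 : j < 42660
                · skip
                  exact relsRepRange_sound mdata basesM 711 41949 rel59 j (by omega) (by omega)
                · skip
                  exact relsRepRange_sound mdata basesM 711 42660 rel60 j (by omega) (by omega)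
            · skip
              by_cases hh64 : j < 44082
              · skip
                exact relsRepRange_sound mdata basesM 711 43371 rel61 j (by omega) (by omega)
              · skip
                by_cases hh65 : j < 44793
                · skip
                  exact relsRepRange_sound mdata basesM 711 44082 rel62 j (by omega) (by omega)
                · skip
                  exact relsRepRange_sound mdata basesM 711 44793 rel63 j (by omega) (by omega)
      · skip
        by_cases hh66 : j < 53325
        · skip
          by_cases hh67 : j < 49059
          · skip
            by_cases hh68 : j < 46926
            · skip
              by_cases hh69 : j < 46215
              · skip
                exact relsRepRange_sound mdata basesM 711 45504 rel64 j (by omega) (by omega)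
              · skip
                exact relsRepRange_sound mdata basesM 711 46215 rel65 j (by omega) (by omega)
            · skip
              by_cases hh70 : j < 47637
              · skip
                exact relsRepRange_sound mdata basesM 711 46926 rel66 j (by omega) (by omega)
              · skip
                by_cases hh71 : j < 48348
                · skip
                  exact relsRepRange_sound mdata basesM 711 47637 rel67 j (by omega) (by omega)
                · skip
                  exact relsRepRange_sound mdata basesM 711 48348 rel68 j (by omega) (by omega)
          · skip
            by_cases hh72 : j < 51192
            · skip
              by_cases hh73 : j < 49770
              · skip
                exact relsRepRange_sound mdata basesM 711 49059 rel69 j (by omega) (by omega)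
              · skip
                by_cases hh74 : j < 50481
                · skip
                  exact relsRepRange_sound mdata basesM 711 49770 rel70 j (by omega) (by omega)
                · skip
                  exact relsRepRange_sound mdata basesM 711 50481 rel71 j (by omega) (by omega)
            · skip
              by_cases hh75 : j < 51903
              · skip
                exact relsRepRange_sound mdata basesM 711 51192 rel72 j (by omega) (by omega)
              · skip
                by_cases hh76 : j < 52614
                · skip
                  exact relsRepRange_sound mdata basesM 711 51903 rel73 j (by omega) (by omega)
                · skip
                  exact relsRepRange_sound mdata basesM 711 52614 rel74 j (by omega) (by omega)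
        · skip
          by_cases hh77 : j < 56880
          · skip
            by_cases hh78 : j < 54747
            · skip
              by_cases hh79 : j < 54036
              · skip
                exact relsRepRange_sound mdata basesM 711 53325 rel75 j (by omega) (by omega)
              · skip
                exact relsRepRange_sound mdata basesM 711 54036 rel76 j (by omega) (by omega)
            · skip
              by_cases hh80 : j < 55458
              · skip
                exact relsRepRange_sound mdata basesM 711 54747 rel77 j (by omega) (by omega)
              · skip
                by_cases hh81 : j < 56169
                · skip
                  exact relsRepRange_sound mdata basesM 711 55458 rel78 j (by omega) (by omega)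
                · skip
                  exact relsRepRange_sound mdata basesM 711 56169 rel79 j (by omega) (by omega)
          · skip
            by_cases hh82 : j < 59013
            · skip
              by_cases hh83 : j < 57591
              · skip
                exact relsRepRange_sound mdata basesM 711 56880 rel80 j (by omega) (by omega)
              · skip
                by_cases hh84 : j < 58302
                · skip
                  exact relsRepRange_sound mdata basesM 711 57591 rel81 j (by omega) (by omega)
                · skip
                  exact relsRepRange_sound mdata basesM 711 58302 rel82 j (by omega) (by omega)
            · skip
              by_cases hh85 : j < 59724
              · skip
                exact relsRepRange_sound mdata basesM 711 59013 rel83 j (by omega) (by omega)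
              · skip
                by_cases hh86 : j < 60435
                · skip
                  exact relsRepRange_sound mdata basesM 711 59724 rel84 j (by omega) (by omega)
                · skip
                  exact relsRepRange_sound mdata basesM 711 60435 rel85 j (by omega) (by omega)
  · skip
    by_cases hh87 : j < 91719
    · skip
      by_cases hh88 : j < 76077
      · skip
        by_cases hh89 : j < 68256
        · skip
          by_cases hh90 : j < 64701
          · skip
            by_cases hh91 : j < 62568
            · skip
              by_cases hh92 : j < 61857
              · skip
                exact relsRepRange_sound mdata basesM 711 61146 rel86 j (by omega) (by omega)
              · skip
                exact relsRepRange_sound mdata basesM 711 61857 rel87 j (by omega) (by omega)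
            · skip
              by_cases hh93 : j < 63279
              · skip
                exact relsRepRange_sound mdata basesM 711 62568 rel88 j (by omega) (by omega)
              · skip
                by_cases hh94 : j < 63990
                · skip
                  exact relsRepRange_sound mdata basesM 711 63279 rel89 j (by omega) (by omega)
                · skip
                  exact relsRepRange_sound mdata basesM 711 63990 rel90 j (by omega) (by omega)
          · skip
            by_cases hh95 : j < 66123
            · skip
              by_cases hh96 : j < 65412
              · skip
                exact relsRepRange_sound mdata basesM 711 64701 rel91 j (by omega) (by omega)
              · skip
                exact relsRepRange_sound mdata basesM 711 65412 rel92 j (by omega) (by omega)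
            · skip
              by_cases hh97 : j < 66834
              · skip
                exact relsRepRange_sound mdata basesM 711 66123 rel93 j (by omega) (by omega)
              · skip
                by_cases hh98 : j < 67545
                · skip
                  exact relsRepRange_sound mdata basesM 711 66834 rel94 j (by omega) (by omega)
                · skip
                  exact relsRepRange_sound mdata basesM 711 67545 rel95 j (by omega) (by omega)
        · skip
          by_cases hh99 : j < 71811
          · skip
            by_cases hh100 : j < 69678
            · skip
              by_cases hh101 : j < 68967
              · skip
                exact relsRepRange_sound mdata basesM 711 68256 rel96 j (by omega) (by omega)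
              · skip
                exact relsRepRange_sound mdata basesM 711 68967 rel97 j (by omega) (by omega)
            · skip
              by_cases hh102 : j < 70389
              · skip
                exact relsRepRange_sound mdata basesM 711 69678 rel98 j (by omega) (by omega)
              · skip
                by_cases hh103 : j < 71100
                · skip
                  exact relsRepRange_sound mdata basesM 711 70389 rel99 j (by omega) (by omega)
                · skip
                  exact relsRepRange_sound mdata basesM 711 71100 rel100 j (by omega) (by omega)
          · skip
            by_cases hh104 : j < 73944
            · skip
              by_cases hh105 : j < 72522
              · skip
                exact relsRepRange_sound mdata basesM 711 71811 rel101 j (by omega) (by omega)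
              · skip
                by_cases hh106 : j < 73233
                · skip
                  exact relsRepRange_sound mdata basesM 711 72522 rel102 j (by omega) (by omega)
                · skip
                  exact relsRepRange_sound mdata basesM 711 73233 rel103 j (by omega) (by omega)
            · skip
              by_cases hh107 : j < 74655
              · skip
                exact relsRepRange_sound mdata basesM 711 73944 rel104 j (by omega) (by omega)
              · skip
                by_cases hh108 : j < 75366
                · skip
                  exact relsRepRange_sound mdata basesM 711 74655 rel105 j (by omega) (by omega)
                · skip
                  exact relsRepRange_sound mdata basesM 711 75366 rel106 j (by omega) (by omega)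
      · skip
        by_cases hh109 : j < 83898
        · skip
          by_cases hh110 : j < 79632
          · skip
            by_cases hh111 : j < 77499
            · skip
              by_cases hh112 : j < 76788
              · skip
                exact relsRepRange_sound mdata basesM 711 76077 rel107 j (by omega) (by omega)
              · skip
                exact relsRepRange_sound mdata basesM 711 76788 rel108 j (by omega) (by omega)
            · skip
              by_cases hh113 : j < 78210
              · skip
                exact relsRepRange_sound mdata basesM 711 77499 rel109 j (by omega) (by omega)
              · skip
                by_cases hh114 : j < 78921
                · skip
                  exact relsRepRange_sound mdata basesM 711 78210 rel110 j (by omega) (by omega)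
                · skip
                  exact relsRepRange_sound mdata basesM 711 78921 rel111 j (by omega) (by omega)
          · skip
            by_cases hh115 : j < 81765
            · skip
              by_cases hh116 : j < 80343
              · skip
                exact relsRepRange_sound mdata basesM 711 79632 rel112 j (by omega) (by omega)
              · skip
                by_cases hh117 : j < 81054
                · skip
                  exact relsRepRange_sound mdata basesM 711 80343 rel113 j (by omega) (by omega)
                · skip
                  exact relsRepRange_sound mdata basesM 711 81054 rel114 j (by omega) (by omega)
            · skip
              by_cases hh118 : j < 82476
              · skip
                exact relsRepRange_sound mdata basesM 711 81765 rel115 j (by omega) (by omega)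
              · skip
                by_cases hh119 : j < 83187
                · skip
                  exact relsRepRange_sound mdata basesM 711 82476 rel116 j (by omega) (by omega)
                · skip
                  exact relsRepRange_sound mdata basesM 711 83187 rel117 j (by omega) (by omega)
        · skip
          by_cases hh120 : j < 87453
          · skip
            by_cases hh121 : j < 85320
            · skip
              by_cases hh122 : j < 84609
              · skip
                exact relsRepRange_sound mdata basesM 711 83898 rel118 j (by omega) (by omega)
              · skip
                exact relsRepRange_sound mdata basesM 711 84609 rel119 j (by omega) (by omega)
            · skip
              by_cases hh123 : j < 86031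
              · skip
                exact relsRepRange_sound mdata basesM 711 85320 rel120 j (by omega) (by omega)
              · skip
                by_cases hh124 : j < 86742
                · skip
                  exact relsRepRange_sound mdata basesM 711 86031 rel121 j (by omega) (by omega)
                · skip
                  exact relsRepRange_sound mdata basesM 711 86742 rel122 j (by omega) (by omega)
          · skip
            by_cases hh125 : j < 89586
            · skip
              by_cases hh126 : j < 88164
              · skip
                exact relsRepRange_sound mdata basesM 711 87453 rel123 j (by omega) (by omega)
              · skip
                by_cases hh127 : j < 88875
                · skip
                  exact relsRepRange_sound mdata basesM 711 88164 rel124 j (by omega) (by omega)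
                · skip
                  exact relsRepRange_sound mdata basesM 711 88875 rel125 j (by omega) (by omega)
            · skip
              by_cases hh128 : j < 90297
              · skip
                exact relsRepRange_sound mdata basesM 711 89586 rel126 j (by omega) (by omega)
              · skip
                by_cases hh129 : j < 91008
                · skip
                  exact relsRepRange_sound mdata basesM 711 90297 rel127 j (by omega) (by omega)
                · skip
                  exact relsRepRange_sound mdata basesM 711 91008 rel128 j (by omega) (by omega)
    · skip
      by_cases hh130 : j < 107361
      · skip
        by_cases hh131 : j < 99540
        · skip
          by_cases hh132 : j < 95274
          · skip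
            by_cases hh133 : j < 93141
            · skip
              by_cases hh134 : j < 92430
              · skip
                exact relsRepRange_sound mdata basesM 711 91719 rel129 j (by omega) (by omega)
              · skip
                exact relsRepRange_sound mdata basesM 711 92430 rel130 j (by omega) (by omega)
            · skip
              by_cases hh135 : j < 93852
              · skip
                exact relsRepRange_sound mdata basesM 711 93141 rel131 j (by omega) (by omega)
              · skip
                by_cases hh136 : j < 94563
                · skip
                  exact relsRepRange_sound mdata basesM 711 93852 rel132 j (by omega) (by omega)
                · skip
                  exact relsRepRange_sound mdata basesM 711 94563 rel133 j (by omega) (by omega)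
          · skip
            by_cases hh137 : j < 97407
            · skip
              by_cases hh138 : j < 95985
              · skip
                exact relsRepRange_sound mdata basesM 711 95274 rel134 j (by omega) (by omega)
              · skip
                by_cases hh139 : j < 96696
                · skip
                  exact relsRepRange_sound mdata basesM 711 95985 rel135 j (by omega) (by omega)
                · skip
                  exact relsRepRange_sound mdata basesM 711 96696 rel136 j (by omega) (by omega)
            · skip
              by_cases hh140 : j < 98118
              · skip
                exact relsRepRange_sound mdata basesM 711 97407 rel137 j (by omega) (by omega)
              · skip
                by_cases hh141 : j < 98829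
                · skip
                  exact relsRepRange_sound mdata basesM 711 98118 rel138 j (by omega) (by omega)
                · skip
                  exact relsRepRange_sound mdata basesM 711 98829 rel139 j (by omega) (by omega)
        · skip
          by_cases hh142 : j < 103095
          · skip
            by_cases hh143 : j < 100962
            · skip
              by_cases hh144 : j < 100251
              · skip
                exact relsRepRange_sound mdata basesM 711 99540 rel140 j (by omega) (by omega)
              · skip
                exact relsRepRange_sound mdata basesM 711 100251 rel141 j (by omega) (by omega)
            · skip
              by_cases hh145 : j < 101673
              · skip
                exact relsRepRange_sound mdata basesM 711 100962 rel142 j (by omega) (by omega)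
              · skip
                by_cases hh146 : j < 102384
                · skip
                  exact relsRepRange_sound mdata basesM 711 101673 rel143 j (by omega) (by omega)
                · skip
                  exact relsRepRange_sound mdata basesM 711 102384 rel144 j (by omega) (by omega)
          · skip
            by_cases hh147 : j < 105228
            · skip
              by_cases hh148 : j < 103806
              · skip
                exact relsRepRange_sound mdata basesM 711 103095 rel145 j (by omega) (by omega)
              · skip
                by_cases hh149 : j < 104517
                · skip
                  exact relsRepRange_sound mdata basesM 711 103806 rel146 j (by omega) (by omega)
                · skip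
                  exact relsRepRange_sound mdata basesM 711 104517 rel147 j (by omega) (by omega)
            · skip
              by_cases hh150 : j < 105939
              · skip
                exact relsRepRange_sound mdata basesM 711 105228 rel148 j (by omega) (by omega)
              · skip
                by_cases hh151 : j < 106650
                · skip
                  exact relsRepRange_sound mdata basesM 711 105939 rel149 j (by omega) (by omega)
                · skip
                  exact relsRepRange_sound mdata basesM 711 106650 rel150 j (by omega) (by omega)
      · skip
        by_cases hh152 : j < 115182
        · skip
          by_cases hh153 : j < 110916
          · skip
            by_cases hh154 : j < 108783
            · skip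
              by_cases hh155 : j < 108072
              · skip
                exact relsRepRange_sound mdata basesM 711 107361 rel151 j (by omega) (by omega)
              · skip
                exact relsRepRange_sound mdata basesM 711 108072 rel152 j (by omega) (by omega)
            · skip
              by_cases hh156 : j < 109494
              · skip
                exact relsRepRange_sound mdata basesM 711 108783 rel153 j (by omega) (by omega)
              · skip
                by_cases hh157 : j < 110205
                · skip
                  exact relsRepRange_sound mdata basesM 711 109494 rel154 j (by omega) (by omega)
                · skip
                  exact relsRepRange_sound mdata basesM 711 110205 rel155 j (by omega) (by omega)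
          · skip
            by_cases hh158 : j < 113049
            · skip
              by_cases hh159 : j < 111627
              · skip
                exact relsRepRange_sound mdata basesM 711 110916 rel156 j (by omega) (by omega)
              · skip
                by_cases hh160 : j < 112338
                · skip
                  exact relsRepRange_sound mdata basesM 711 111627 rel157 j (by omega) (by omega)
                · skip
                  exact relsRepRange_sound mdata basesM 711 112338 rel158 j (by omega) (by omega)
            · skip
              by_cases hh161 : j < 113760
              · skip
                exact relsRepRange_sound mdata basesM 711 113049 rel159 j (by omega) (by omega)
              · skip
                by_cases hh162 : j < 114471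
                · skip
                  exact relsRepRange_sound mdata basesM 711 113760 rel160 j (by omega) (by omega)
                · skip
                  exact relsRepRange_sound mdata basesM 711 114471 rel161 j (by omega) (by omega)
        · skip
          by_cases hh163 : j < 118737
          · skip
            by_cases hh164 : j < 116604
            · skip
              by_cases hh165 : j < 115893
              · skip
                exact relsRepRange_sound mdata basesM 711 115182 rel162 j (by omega) (by omega)
              · skip
                exact relsRepRange_sound mdata basesM 711 115893 rel163 j (by omega) (by omega)
            · skip
              by_cases hh166 : j < 117315
              · skip
                exact relsRepRange_sound mdata basesM 711 116604 rel164 j (by omega) (by omega)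
              · skip
                by_cases hh167 : j < 118026
                · skip
                  exact relsRepRange_sound mdata basesM 711 117315 rel165 j (by omega) (by omega)
                · skip
                  exact relsRepRange_sound mdata basesM 711 118026 rel166 j (by omega) (by omega)
          · skip
            by_cases hh168 : j < 120870
            · skip
              by_cases hh169 : j < 119448
              · skip
                exact relsRepRange_sound mdata basesM 711 118737 rel167 j (by omega) (by omega)
              · skip
                by_cases hh170 : j < 120159
                · skip
                  exact relsRepRange_sound mdata basesM 711 119448 rel168 j (by omega) (by omega)
                · skip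
                  exact relsRepRange_sound mdata basesM 711 120159 rel169 j (by omega) (by omega)
            · skip
              by_cases hh171 : j < 121581
              · skip
                exact relsRepRange_sound mdata basesM 711 120870 rel170 j (by omega) (by omega)
              · skip
                by_cases hh172 : j < 122292
                · skip
                  exact relsRepRange_sound mdata basesM 711 121581 rel171 j (by omega) (by omega)
                · skip
                  exact relsRepRange_sound mdata basesM 468 122292 rel172 j (by omega) (by omega)

theorem model_ok : ModelOK mdata basesM [] := by
  refine ⟨by decide, inv_all, ?_, wordsLettersOK_sound _ _ relc_ok, ?_, ?_, ?_⟩
  · exact rel_of_reps mdata basesM (by decide) (fun k hk c hc => (inv_all k hk c hc).1)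
      (fun k hk c hc => (zpt_all k hk).2 c hc) (wordsLettersOK_sound _ _ relc_ok)
      (fun j hj => rep_all j (by have : mdata.n = 368280 := rfl; omega))
  · intro s hs
    cases hs
  · intro s hs
    cases hs
  · intro k h1 h2
    have h2' : k < 1 + (368280 - 1) := h2
    by_cases hh1 : k < 186663
    · skip
      by_cases hh2 : k < 79999
      · skip
        by_cases hh3 : k < 26667
        · skip
          exact treeRange_sound mdata 26666 1 tree0 k (by omega) (by omega)
        · skip
          by_cases hh4 : k < 53333
          · skip
            exact treeRange_sound mdata 26666 26667 tree1 k (by omega) (by omega)
          · skip
            exact treeRange_sound mdata 26666 53333 tree2 k (by omega) (by omega)
      · skip
        by_cases hh5 : k < 133331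
        · skip
          by_cases hh6 : k < 106665
          · skip
            exact treeRange_sound mdata 26666 79999 tree3 k (by omega) (by omega)
          · skip
            exact treeRange_sound mdata 26666 106665 tree4 k (by omega) (by omega)
        · skip
          by_cases hh7 : k < 159997
          · skip
            exact treeRange_sound mdata 26666 133331 tree5 k (by omega) (by omega)
          · skip
            exact treeRange_sound mdata 26666 159997 tree6 k (by omega) (by omega)
    · skip
      by_cases hh8 : k < 266661
      · skip
        by_cases hh9 : k < 213329
        · skip
          exact treeRange_sound mdata 26666 186663 tree7 k (by omega) (by omega)
        · skip
          by_cases hh10 : k < 239995
          · skip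
            exact treeRange_sound mdata 26666 213329 tree8 k (by omega) (by omega)
          · skip
            exact treeRange_sound mdata 26666 239995 tree9 k (by omega) (by omega)
      · skip
        by_cases hh11 : k < 319993
        · skip
          by_cases hh12 : k < 293327
          · skip
            exact treeRange_sound mdata 26666 266661 tree10 k (by omega) (by omega)
          · skip
            exact treeRange_sound mdata 26666 293327 tree11 k (by omega) (by omega)
        · skip
          by_cases hh13 : k < 346659
          · skip
            exact treeRange_sound mdata 26666 319993 tree12 k (by omega) (by omega)
          · skip
            exact treeRange_sound mdata 21621 346659 tree13 k (by omega) (by omega)

theorem z_ok : ZOK mdata z3 rhoW := ⟨zpt_all⟩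

end Cfsg.Agent.Lib.Helper19.ONMM3
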