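import Cfsg.Agent.Lib.Helper19.ONMM3Model

set_option autoImplicit false
set_option maxRecDepth 100000
set_option linter.unusedVariables false

namespace Cfsg.Agent.Lib.Helper19.ONMM3

open Cfsg.Agent.Helper4.TC Cfsg.Agent.Lib.Helper19.CentModel

/-- the word which acts as the central shift of the fibres -/
def rhoW : List ℕ := [0, 8, 6, 4, 0, 8, 6, 4, 0, 8, 6, 4, 0, 8, 6, 4, 0, 8, 6, 4]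
/-- the words which act trivially -/
def basesM : List (List ℕ) := [[2, 2],
  [4, 2, 4, 2, 4, 2],
  [6, 2, 6, 2],
  [8, 2, 8, 2],
  [10, 2, 10, 2],
  [12, 2, 12, 2],
  [4, 4],
  [6, 4, 6, 4, 6, 4],
  [8, 4, 8, 4],
  [10, 4, 10, 4],
  [12, 4, 12, 4],
  [6, 6],
  [8, 6, 8, 6, 8, 6, 8, 6, 8, 6, 8, 6, 8, 6, 8, 6],
  [10, 6, 10, 6],
  [12, 6, 12, 6],
  [8, 8],
  [10, 8, 10, 8, 10, 8],
  [12, 8, 12, 8],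
  [10, 10],
  [12, 10, 12, 10, 12, 10],
  [12, 12],
  [1, 1, 12, 2],
  [7, 9, 7, 9, 7, 9, 7, 9, 12, 2],
  [0, 8, 0, 8, 6, 9, 1, 9, 1, 6],
  [0, 6, 0, 6, 8, 7, 1, 7, 1, 8],
  [3, 0, 6, 0, 6, 0, 6, 0, 6],
  [9, 7, 9, 7, 1, 10, 8, 7, 1, 11, 9, 0, 11, 9, 7, 9, 6, 8, 6, 8, 10, 1, 8, 10, 0, 6, 9, 11],
  [6, 0, 7, 4, 0, 5, 6, 0, 7, 4, 0, 5, 7, 9, 1, 5, 7, 9, 1, 5, 7, 9, 1, 5, 7, 9, 1, 5, 7, 9, 1],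
  [8, 0, 9, 10, 0, 11, 8, 0, 9, 10, 0, 5, 7, 9, 1, 5, 7, 9, 1, 5, 7, 9, 1, 5, 7, 9, 1, 5, 7, 9, 1]]

end Cfsg.Agent.Lib.Helper19.ONMM3
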