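import Mathlib
import Cfsg.Agent.Lib.Helper7.SylowBasic

set_option autoImplicit false

namespace Cfsg.Agent.Lib.Helper19.Ord612

open Subgroup MulAction

variable {G : Type*} [Group G] [Finite G]

/-- counting the nonidentity elements of a family of subgroups of the same order with
pairwise trivial intersections -/
theorem card_ti_le {ι : Type*} [Finite ι] (H : ι → Subgroup G) (m : ℕ)
    (hm : ∀ i, Nat.card (H i) = m) (hTI : ∀ i j, i ≠ j → H i ⊓ H j = ⊥) :
    Nat.card ι * (m - 1) ≤ Set.ncard {g : G | g ≠ 1 ∧ ∃ i, g ∈ H i} := by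
  classical
  have := Fintype.ofFinite ι
  have := Fintype.ofFinite G
  have h1 : {g : G | g ≠ 1 ∧ ∃ i, g ∈ H i} =
      ↑(Finset.univ.biUnion (fun i => (Finset.univ.filter (fun g => g ∈ H i ∧ g ≠ 1)))) := by
    ext g
    simp only [ne_eq, Set.mem_setOf_eq, Finset.coe_biUnion, Finset.coe_univ, Set.mem_univ,
      Finset.coe_filter, Finset.mem_univ, true_and, Set.iUnion_true, Set.mem_iUnion]
    tauto
  rw [h1, Set.ncard_coe_finset, Finset.card_biUnion]
  · rw [Finset.sum_const_nat (m := m - 1)]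
    · simp [Nat.card_eq_fintype_card]
    · intro i _
      have h2 : (Finset.univ.filter (fun g => g ∈ H i ∧ g ≠ 1)) =
          (Finset.univ.filter (fun g => g ∈ H i)).erase 1 := by
        ext g
        simp only [ne_eq, Finset.mem_filter, Finset.mem_univ, true_and, Finset.mem_erase]
        tauto
      rw [h2, Finset.card_erase_of_mem (by simp [one_mem])]
      congr 1
      rw [← hm i, Nat.card_eq_fintype_card, Fintype.card_subtype]
  · intro i _ j _ hij
    change Disjoint (Finset.univ.filter (fun g => g ∈ H i ∧ g ≠ 1))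
      (Finset.univ.filter (fun g => g ∈ H j ∧ g ≠ 1))
    rw [Finset.disjoint_left]
    intro g hg hg'
    simp only [ne_eq, Finset.mem_filter, Finset.mem_univ, true_and] at hg hg'
    have h3 : g ∈ H i ⊓ H j := ⟨hg.1, hg'.1⟩
    rw [hTI i j hij] at h3
    exact hg.2 (Subgroup.mem_bot.mp h3)

variable {p : ℕ} [Fact p.Prime]

/-- Sylow subgroups of prime order intersect trivially -/
theorem sylow_inf_eq_bot (hp : ∀ P : Sylow p G, Nat.card P = p) (P Q : Sylow p G)
    (h : P ≠ Q) : (P : Subgroup G) ⊓ Q = ⊥ := by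
  have hdvd : Nat.card ((P : Subgroup G) ⊓ Q : Subgroup G) ∣ p := by
    have h0 := Subgroup.card_dvd_of_le (inf_le_left : (P : Subgroup G) ⊓ Q ≤ P)
    rwa [hp P] at h0
  rcases (Nat.dvd_prime Fact.out).mp hdvd with h1 | h1
  · exact Subgroup.card_eq_one.mp h1
  · exfalso; apply h
    have e1 : (P : Subgroup G) ⊓ Q = P :=
      Subgroup.eq_of_le_of_card_ge inf_le_left (by rw [h1]; exact (hp P).le)
    have e2 : (P : Subgroup G) ⊓ Q = Q :=
      Subgroup.eq_of_le_of_card_ge inf_le_right (by rw [h1]; exact (hp Q).le)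
    exact Sylow.ext (e1.symm.trans e2)

/-- an element of `P` normalizing another Sylow subgroup is trivial -/
theorem eq_one_of_smul_eq (hp : ∀ P : Sylow p G, Nat.card P = p) (P Q : Sylow p G)
    (h : P ≠ Q) (y : G) (hy : y ∈ (P : Subgroup G)) (hQ : y • Q = Q) : y = 1 := by
  have hz : IsPGroup p (zpowers y) := P.2.to_le (zpowers_le.mpr hy)
  have h1 := hz.inf_normalizer_sylow Q
  have hmem : y ∈ zpowers y ⊓ (Q : Subgroup G) := by
    rw [← h1]
    exact ⟨mem_zpowers y, Sylow.smul_eq_iff_mem_normalizer.mp hQ⟩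
  have h2 : y ∈ (P : Subgroup G) ⊓ Q := ⟨hy, hmem.2⟩
  rw [sylow_inf_eq_bot hp P Q h] at h2
  exact Subgroup.mem_bot.mp h2

omit [Finite G] [Fact p.Prime] in
theorem smul_self_of_mem (P : Sylow p G) (y : G) (hy : y ∈ (P : Subgroup G)) : y • P = P :=
  Sylow.smul_eq_iff_mem_normalizer.mpr (Subgroup.le_normalizer hy)

/-- `P` is transitive on the other Sylow subgroups -/
theorem exists_smul_eq (hp : ∀ P : Sylow p G, Nat.card P = p)
    (hn : Nat.card (Sylow p G) = p + 1) (P Q R : Sylow p G) (hQ : Q ≠ P) (hR : R ≠ P) :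
    ∃ y ∈ (P : Subgroup G), y • Q = R := by
  have hf : ∀ y : ↥(P : Subgroup G), (y : G) • Q ≠ P := by
    intro y h
    apply hQ
    have h1 : Q = (y : G)⁻¹ • P := by rw [eq_inv_smul_iff]; exact h
    rw [h1]
    exact smul_self_of_mem P _ (inv_mem y.2)
  let f : ↥(P : Subgroup G) → {R : Sylow p G // R ≠ P} := fun y => ⟨(y : G) • Q, hf y⟩
  have hinj : Function.Injective f := by
    intro y y' h
    have h' : (y : G) • Q = (y' : G) • Q := congrArg Subtype.val h
    have h2 : ((y' : G)⁻¹ * (y : G)) • Q = Q := by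
      rw [mul_smul, h', inv_smul_smul]
    have h3 := eq_one_of_smul_eq hp P Q hQ.symm _ (mul_mem (inv_mem y'.2) y.2) h2
    apply Subtype.ext
    rw [inv_mul_eq_one] at h3
    exact h3.symm
  have hcard : Nat.card {R : Sylow p G // R ≠ P} ≤ Nat.card (P : Subgroup G) := by
    have h1 : Nat.card {R : Sylow p G // R ≠ P} = Set.ncard ({P}ᶜ : Set (Sylow p G)) := by
      rw [← Nat.card_coe_set_eq]
      rfl
    rw [h1, Set.ncard_compl, Set.ncard_singleton, hn, hp P]
    simp
  obtain ⟨y, hy⟩ := (hinj.bijective_of_nat_card_le hcard).2 ⟨R, hR⟩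
  exact ⟨y, y.2, congrArg Subtype.val hy⟩

end Cfsg.Agent.Lib.Helper19.Ord612
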