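import Mathlib
import Cfsg.Agent.Lib.Helper19.Ord612A

set_option autoImplicit false

namespace Cfsg.Agent.Lib.Helper19.Ord612

open Subgroup MulAction

variable {G : Type*} [Group G] [Finite G] {p : ℕ} [Fact p.Prime]

omit [Finite G] in
theorem isPGroup_two_zpowers (t : G) (ht : t ^ 2 = 1) : IsPGroup 2 (zpowers t) := by
  rintro ⟨g, hg⟩
  obtain ⟨k, rfl⟩ := hg
  refine ⟨1, ?_⟩
  apply Subtype.ext
  simp only [pow_one, Subgroup.coe_pow, Subgroup.coe_one]
  rw [← zpow_natCast, ← zpow_mul, mul_comm, zpow_mul, zpow_natCast, ht, one_zpow]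

/-- an involution fixing one of an even number of Sylow subgroups fixes another one -/
theorem exists_fixed_ne [Finite (Sylow p G)] (hn : Even (Nat.card (Sylow p G))) (t : G)
    (ht : t ^ 2 = 1) (P : Sylow p G) (hP : t • P = P) :
    ∃ Q : Sylow p G, Q ≠ P ∧ t • Q = Q := by
  have hz := isPGroup_two_zpowers t ht
  have h1 := hz.card_modEq_card_fixedPoints (Sylow p G)
  have hPf : P ∈ fixedPoints (zpowers t) (Sylow p G) := by
    rintro ⟨g, hg⟩
    have h2 : zpowers t ≤ stabilizer G P := zpowers_le.mpr (mem_stabilizer_iff.mpr hP)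
    exact mem_stabilizer_iff.mp (h2 hg)
  have h3 : Even (Nat.card (fixedPoints (zpowers t) (Sylow p G))) := by
    rw [Nat.even_iff] at hn ⊢
    rw [← hn]
    exact h1.symm
  have h4 : 1 < Nat.card (fixedPoints (zpowers t) (Sylow p G)) := by
    have h5 : 0 < Nat.card (fixedPoints (zpowers t) (Sylow p G)) := by
      haveI : Nonempty (fixedPoints (zpowers t) (Sylow p G)) := ⟨⟨P, hPf⟩⟩
      exact Nat.card_pos
    rcases h3 with ⟨r, hr⟩
    omega
  rw [Finite.one_lt_card_iff_nontrivial] at h4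
  obtain ⟨Q, hQ⟩ := exists_ne (⟨P, hPf⟩ : fixedPoints (zpowers t) (Sylow p G))
  refine ⟨Q.1, fun h => hQ (Subtype.ext h), ?_⟩
  exact Q.2 ⟨t, mem_zpowers t⟩

/-- the standing hypotheses -/
structure Cfg (G : Type*) [Group G] (p : ℕ) : Prop where
  card_sylow : ∀ P : Sylow p G, Nat.card P = p
  num : Nat.card (Sylow p G) = p + 1
  faithful : ∀ g : G, (∀ Q : Sylow p G, g • Q = Q) → g = 1
  odd : Odd p

/-- an involution normalizing `P` does not centralize it -/
theorem exists_not_commute (c : Cfg G p) (t : G) (ht : t ^ 2 = 1) (ht1 : t ≠ 1)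
    (P : Sylow p G) (hP : t • P = P) : ∃ y ∈ (P : Subgroup G), t * y ≠ y * t := by
  by_contra hcon
  push Not at hcon
  have hev : Even (Nat.card (Sylow p G)) := by
    rw [c.num]; exact c.odd.add_one
  obtain ⟨Q0, hQ0, htQ0⟩ := exists_fixed_ne hev t ht P hP
  apply ht1
  apply c.faithful
  intro Q
  by_cases hQ : Q = P
  · rw [hQ]; exact hP
  · obtain ⟨y, hy, hyQ⟩ := exists_smul_eq c.card_sylow c.num P Q0 Q hQ0 hQ
    rw [← hyQ, ← mul_smul, hcon y hy, mul_smul, htQ0]

omit [Finite G] in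
theorem zpowers_eq_of_ne_one (hp : ∀ P : Sylow p G, Nat.card P = p) (P : Sylow p G) (y : G)
    (hy : y ∈ (P : Subgroup G)) (hy1 : y ≠ 1) : zpowers y = (P : Subgroup G) := by
  haveI : Finite (P : Subgroup G) := Nat.finite_of_card_ne_zero (by
    rw [hp P]; exact (Fact.out : p.Prime).ne_zero)
  apply Subgroup.eq_of_le_of_card_ge (zpowers_le.mpr hy)
  rw [Nat.card_zpowers, hp P]
  have h1 : orderOf (⟨y, hy⟩ : (P : Subgroup G)) ∣ p := by
    have h0 := orderOf_dvd_natCard (⟨y, hy⟩ : (P : Subgroup G))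
    rwa [hp P] at h0
  rw [← Subgroup.orderOf_coe] at h1
  rcases (Nat.dvd_prime Fact.out).mp h1 with h2 | h2
  · exact absurd (orderOf_eq_one_iff.mp h2) hy1
  · exact h2.ge

/-- an involution normalizes at most two Sylow subgroups -/
theorem not_three_fixed (c : Cfg G p) (t : G) (ht : t ^ 2 = 1) (ht1 : t ≠ 1)
    (P Q R : Sylow p G) (hPQ : P ≠ Q) (hPR : P ≠ R) (hQR : Q ≠ R)
    (hP : t • P = P) (hQ : t • Q = Q) (hR : t • R = R) : False := by
  obtain ⟨y, hy, hyQ⟩ := exists_smul_eq c.card_sylow c.num P Q R hPQ.symm hPR.symm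
  have hy1 : y ≠ 1 := by
    rintro rfl
    rw [one_smul] at hyQ
    exact hQR hyQ
  have htN : t ∈ normalizer ((P : Subgroup G) : Set G) := Sylow.smul_eq_iff_mem_normalizer.mp hP
  have hconj : t * y * t⁻¹ ∈ (P : Subgroup G) := (mem_normalizer_iff.mp htN y).mp hy
  have htinv : t⁻¹ • Q = Q := by rw [inv_smul_eq_iff, hQ]
  have h1 : (y⁻¹ * (t * y * t⁻¹)) • Q = Q := by
    rw [mul_smul, mul_smul, mul_smul, htinv, hyQ, hR, ← hyQ, inv_smul_smul]
  have h2 := eq_one_of_smul_eq c.card_sylow P Q hPQ _ (mul_mem (inv_mem hy) hconj) h1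
  have h3 : t * y = y * t := by
    rw [inv_mul_eq_one] at h2
    calc t * y = (t * y * t⁻¹) * t := by group
      _ = y * t := by rw [← h2]
  obtain ⟨z, hz, hne⟩ := exists_not_commute c t ht ht1 P hP
  apply hne
  rw [← zpowers_eq_of_ne_one c.card_sylow P y hy hy1] at hz
  obtain ⟨k, rfl⟩ := hz
  exact (Commute.zpow_right (show Commute t y from h3) k).eq

end Cfsg.Agent.Lib.Helper19.Ord612
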