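import Mathlib
import Cfsg.Agent.Lib.Helper19.Ord612B

set_option autoImplicit false

namespace Cfsg.Agent.Lib.Helper19.Ord612

open Subgroup MulAction

variable {G : Type*} [Group G] [Finite G] {p : ℕ} [Fact p.Prime]

/-- the centralizer of an involution in `N(P)` has order at most 4 -/
theorem card_centralizer_le (c : Cfg G p) (t : G) (ht : t ^ 2 = 1) (ht1 : t ≠ 1)
    (P : Sylow p G) (hP : t • P = P)
    (hN : Nat.card (normalizer ((P : Subgroup G) : Set G)) = 2 * p) :
    Nat.card (centralizer ({t} : Set G)) ≤ 4 := by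
  have hp : p.Prime := Fact.out
  set K := centralizer ({t} : Set G) with hK
  set N := normalizer ((P : Subgroup G) : Set G) with hN'
  have horb : (orbit K P).ncard ≤ 2 := by
    by_contra hlt
    push Not at hlt
    rw [Set.two_lt_ncard_iff] at hlt
    obtain ⟨a, b, c', ha, hb, hc, hab, hac, hbc⟩ := hlt
    have hfix : ∀ Q ∈ orbit K P, t • Q = Q := by
      rintro Q ⟨k, rfl⟩
      have hk : t * (k : G) = (k : G) * t := mem_centralizer_iff.mp k.2 t rfl
      change t • ((k : G) • P) = (k : G) • P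
      rw [← mul_smul, hk, mul_smul, hP]
    exact not_three_fixed c t ht ht1 a b c' hab hac hbc (hfix a ha) (hfix b hb) (hfix c' hc)
  have hstab : stabilizer K P = N.subgroupOf K := by
    ext k
    rw [mem_stabilizer_iff, mem_subgroupOf, Subgroup.smul_def, Sylow.smul_eq_iff_mem_normalizer]
    rfl
  have hidx : N.relIndex K ≤ 2 := by
    rw [Subgroup.relIndex, ← hstab, index_stabilizer]; exact horb
  have htN : t ∈ N := Sylow.smul_eq_iff_mem_normalizer.mp hP
  have htK : t ∈ K := by
    rw [hK, mem_centralizer_iff]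
    intro h hh
    rw [Set.mem_singleton_iff.mp hh]
  have h2dvd : 2 ∣ Nat.card (N ⊓ K : Subgroup G) := by
    have h1 : orderOf t = 2 := orderOf_eq_prime ht ht1
    have h2 := orderOf_dvd_natCard (⟨t, htN, htK⟩ : (N ⊓ K : Subgroup G))
    rwa [← Subgroup.orderOf_coe, h1] at h2
  have hdvd : Nat.card (N ⊓ K : Subgroup G) ∣ 2 * p := by
    rw [← hN]; exact Subgroup.card_dvd_of_le inf_le_left
  have hne : Nat.card (N ⊓ K : Subgroup G) ≠ 2 * p := by
    intro h
    have h1 : N ⊓ K = N := Subgroup.eq_of_le_of_card_ge inf_le_left (by rw [h, hN])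
    obtain ⟨y, hy, hne⟩ := exists_not_commute c t ht ht1 P hP
    apply hne
    have hyK : y ∈ K := by
      have : y ∈ N ⊓ K := by rw [h1]; exact Subgroup.le_normalizer hy
      exact this.2
    exact mem_centralizer_iff.mp hyK t rfl
  have hNK : Nat.card (N ⊓ K : Subgroup G) = 2 := by
    obtain ⟨k, hk⟩ := h2dvd
    rw [hk] at hdvd hne ⊢
    have h1 : k ∣ p := Nat.dvd_of_mul_dvd_mul_left (by norm_num) hdvd
    rcases (Nat.dvd_prime hp).mp h1 with h2 | h2
    · rw [h2]
    · exact absurd (by rw [h2]) hne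
  have h3 := Helper7.card_mul_relIndex (inf_le_right : N ⊓ K ≤ K)
  rw [inf_relIndex_right, hNK] at h3
  rw [← h3]
  omega

end Cfsg.Agent.Lib.Helper19.Ord612
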