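import Mathlib
import Cfsg.Agent.Lib.Helper19.Ord612C

set_option autoImplicit false

namespace Cfsg.Agent.Lib.Helper19.Ord612

open Subgroup MulAction

variable {G : Type*} [Group G] [Finite G]

omit [Finite G] in
theorem eq_one_of_pow_coprime {g : G} {a b : ℕ} (ha : g ^ a = 1) (hb : g ^ b = 1)
    (hab : Nat.Coprime a b) : g = 1 := by
  have h1 := orderOf_dvd_of_pow_eq_one ha
  have h2 := orderOf_dvd_of_pow_eq_one hb
  have h3 := Nat.dvd_gcd h1 h2
  rw [hab] at h3
  exact orderOf_eq_one_iff.mp (Nat.dvd_one.mp h3)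

/-- the class equation for one class -/
theorem card_conj_mul (t : G) :
    (orbit (ConjAct G) t).ncard * Nat.card (centralizer ({t} : Set G)) = Nat.card G := by
  rw [← index_stabilizer, Subgroup.nat_card_centralizer_nat_card_stabilizer,
    Subgroup.index_mul_card]
  rfl

omit [Finite G] in
theorem pow_eq_one_of_mem {H : Subgroup G} {n : ℕ} (hH : Nat.card H = n) {x : G} (hx : x ∈ H) :
    x ^ n = 1 := by
  have h1 : (⟨x, hx⟩ : H) ^ n = 1 := by rw [← hH]; exact pow_card_eq_one'
  exact congrArg Subtype.val h1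

/-- if `17` divides the order of the centralizer of `x`, then `x` normalizes a Sylow
`17`-subgroup -/
theorem exists_sylow_smul_eq [Fact (Nat.Prime 17)] (h17 : ∀ P : Sylow 17 G, Nat.card P = 17)
    (x : G) (hx : 17 ∣ Nat.card (centralizer ({x} : Set G))) :
    ∃ P : Sylow 17 G, x • P = P := by
  obtain ⟨y, hy⟩ := exists_prime_orderOf_dvd_card' 17 hx
  have hy' : orderOf (y : G) = 17 := by rw [Subgroup.orderOf_coe]; exact hy
  have hpg : IsPGroup 17 (zpowers (y : G)) := by
    apply IsPGroup.of_card (n := 1)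
    rw [Nat.card_zpowers, hy', pow_one]
  obtain ⟨P, hP⟩ := hpg.exists_le_sylow
  have heq : zpowers (y : G) = (P : Subgroup G) := by
    apply Subgroup.eq_of_le_of_card_ge hP
    rw [Nat.card_zpowers, hy', h17 P]
  refine ⟨P, ?_⟩
  rw [Sylow.smul_eq_iff_mem_normalizer]
  apply Subgroup.centralizer_le_normalizer
  rw [mem_centralizer_iff]
  intro h hh
  have hh' : h ∈ zpowers (y : G) := by rw [heq]; exact hh
  obtain ⟨k, rfl⟩ := hh'
  have hc : x * (y : G) = (y : G) * x := mem_centralizer_iff.mp y.2 x rfl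
  exact ((Commute.zpow_right (show Commute x (y : G) from hc) k).eq).symm

end Cfsg.Agent.Lib.Helper19.Ord612
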