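import Mathlib
import Cfsg.Agent.Lib.Helper19.Ord612D

set_option autoImplicit false

namespace Cfsg.Agent.Lib.Helper19.Ord612

open Subgroup MulAction

variable {G : Type*} [Group G] [Finite G]

/-- if `4` divides the order of a subgroup `H` of a group with Sylow `2`-subgroups of order `4`,
then `H` contains a conjugate of every involution -/
theorem exists_conj_mem [Fact (Nat.Prime 2)] (h2 : ∀ P : Sylow 2 G, Nat.card P = 4)
    (H : Subgroup G) (hH : 4 ∣ Nat.card H) (t : G) (ht : t ^ 2 = 1) :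
    ∃ g : G, g * t * g⁻¹ ∈ H := by
  obtain ⟨S, hS⟩ := Sylow.exists_subgroup_card_pow_prime 2 (n := 2) (G := H) (by simpa using hH)
  set S' := S.map H.subtype with hS'def
  have hS' : Nat.card S' = 4 := by
    rw [hS'def, Subgroup.card_map_of_injective (subtype_injective H), hS]
    norm_num
  have hS'H : S' ≤ H := map_subtype_le S
  have hpS : IsPGroup 2 S' := IsPGroup.of_card (n := 2) (by rw [hS']; norm_num)
  obtain ⟨T', hT'⟩ := hpS.exists_le_sylow
  have heq : S' = T' := Subgroup.eq_of_le_of_card_ge hT' (by rw [hS', h2 T'])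
  obtain ⟨T, hT⟩ := (isPGroup_two_zpowers t ht).exists_le_sylow
  obtain ⟨g, hg⟩ := MulAction.exists_smul_eq G T T'
  refine ⟨g, hS'H ?_⟩
  rw [heq, ← hg, Sylow.coe_subgroup_smul]
  have h1 : t ∈ (T : Subgroup G) := hT (mem_zpowers t)
  have h3 := Subgroup.smul_mem_pointwise_smul t (MulAut.conj g) (T : Subgroup G) h1
  rwa [MulAut.smul_def, MulAut.conj_apply] at h3

theorem sylow3_ti [Fact (Nat.Prime 2)] [Fact (Nat.Prime 3)] [Fact (Nat.Prime 17)]
    (hG : Nat.card G = 612)
    (h17 : ∀ P : Sylow 17 G, Nat.card P = 17)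
    (hN17 : ∀ P : Sylow 17 G, Nat.card (normalizer ((P : Subgroup G) : Set G)) = 34)
    (h2 : ∀ P : Sylow 2 G, Nat.card P = 4) (h3 : ∀ P : Sylow 3 G, Nat.card P = 9)
    (t : G) (ht : t ^ 2 = 1) (ht1 : t ≠ 1) (hK : Nat.card (centralizer ({t} : Set G)) ≤ 4)
    (P Q : Sylow 3 G) (hPQ : P ≠ Q) : (P : Subgroup G) ⊓ Q = ⊥ := by
  by_contra hne
  rcases Subgroup.bot_or_exists_ne_one ((P : Subgroup G) ⊓ Q) with hb | ⟨x, hx, hx1⟩
  · exact hne hb
  set C := centralizer ({x} : Set G) with hC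
  have hx9 : x ^ 9 = 1 := pow_eq_one_of_mem (h3 P) hx.1
  have hle : ∀ R : Sylow 3 G, x ∈ (R : Subgroup G) → (R : Subgroup G) ≤ C := by
    intro R hxR y hy
    rw [mem_centralizer_iff]
    intro h hh
    rw [Set.mem_singleton_iff] at hh
    subst hh
    have h1 := IsPGroup.commutative_of_card_eq_prime_sq (p := 3) (G := (R : Subgroup G))
      (by rw [h3 R]; norm_num) ⟨h, hxR⟩ ⟨y, hy⟩
    exact congrArg Subtype.val h1
  have hPC := hle P hx.1
  have hQC := hle Q hx.2
  have h9 : 9 ∣ Nat.card C := by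
    have := Subgroup.card_dvd_of_le hPC
    rwa [h3 P] at this
  have hC612 : Nat.card C ∣ 612 := by
    rw [← hG]; exact Subgroup.card_subgroup_dvd_card C
  have hn17 : ¬ 17 ∣ Nat.card C := by
    intro h
    obtain ⟨P', hP'⟩ := exists_sylow_smul_eq h17 x h
    have hxN : x ∈ normalizer ((P' : Subgroup G) : Set G) :=
      Sylow.smul_eq_iff_mem_normalizer.mp hP'
    have h34 := pow_eq_one_of_mem (hN17 P') hxN
    exact hx1 (eq_one_of_pow_coprime hx9 h34 (by norm_num))
  have hn4 : ¬ 4 ∣ Nat.card C := by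
    intro h
    obtain ⟨g, hg⟩ := exists_conj_mem h2 C h t ht
    have hcomm : x * (g * t * g⁻¹) = (g * t * g⁻¹) * x := mem_centralizer_iff.mp hg x rfl
    have hx'K : g⁻¹ * x * g ∈ centralizer ({t} : Set G) := by
      rw [mem_centralizer_iff]
      intro h hh
      rw [Set.mem_singleton_iff] at hh
      subst hh
      calc h * (g⁻¹ * x * g) = g⁻¹ * ((g * h * g⁻¹) * x) * g := by group
        _ = g⁻¹ * (x * (g * h * g⁻¹)) * g := by rw [hcomm]
        _ = g⁻¹ * x * g * h := by group
    have hx'9 : (g⁻¹ * x * g) ^ 9 = 1 := by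
      have : g⁻¹ * x * g = g⁻¹ * x * g⁻¹⁻¹ := by rw [inv_inv]
      rw [this, conj_pow, hx9]; group
    have hx'1 : g⁻¹ * x * g ≠ 1 := by
      intro h
      apply hx1
      have : x = g * (g⁻¹ * x * g) * g⁻¹ := by group
      rw [this, h]; group
    have htK : t ∈ centralizer ({t} : Set G) := by
      rw [mem_centralizer_iff]
      intro h hh
      rw [Set.mem_singleton_iff.mp hh]
    have h2K : 2 ∣ Nat.card (centralizer ({t} : Set G)) := by
      have h1 : orderOf t = 2 := orderOf_eq_prime ht ht1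
      have h2 := orderOf_dvd_natCard (⟨t, htK⟩ : centralizer ({t} : Set G))
      rwa [← Subgroup.orderOf_coe, h1] at h2
    have hK4 : (g⁻¹ * x * g) ^ 4 = 1 := by
      have hpos : 0 < Nat.card (centralizer ({t} : Set G)) := Nat.card_pos
      have h24 : Nat.card (centralizer ({t} : Set G)) = 2 ∨
          Nat.card (centralizer ({t} : Set G)) = 4 := by
        obtain ⟨k, hk⟩ := h2K
        omega
      rcases h24 with h | h
      · have := pow_eq_one_of_mem h hx'K
        rw [show 4 = 2 * 2 by norm_num, pow_mul, this, one_pow]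
      · exact pow_eq_one_of_mem h hx'K
    exact hx'1 (eq_one_of_pow_coprime hx'9 hK4 (by norm_num))
  obtain ⟨k, hk⟩ := h9
  have hk68 : k ∣ 68 := by
    apply Nat.dvd_of_mul_dvd_mul_left (by norm_num : 0 < 9)
    rw [← hk]; exact hC612
  have hk12 : k = 1 ∨ k = 2 := by
    have hle68 : k ≤ 68 := Nat.le_of_dvd (by norm_num) hk68
    have h17' : ¬ 17 ∣ k := fun h => hn17 (hk ▸ Dvd.dvd.mul_left h 9)
    have h4' : ¬ 4 ∣ k := fun h => hn4 (hk ▸ Dvd.dvd.mul_left h 9)
    have hk0 : k ≠ 0 := by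
      rintro rfl
      simp at hk68
    clear hk
    interval_cases k <;> first | omega | (exfalso; revert hk68; decide)
  have e1 := Helper7.card_mul_relIndex hPC
  have e2 := Helper7.card_mul_relIndex hQC
  have e3 := Helper7.card_mul_relIndex (le_trans inf_le_left hPC : (P : Subgroup G) ⊓ Q ≤ C)
  have e4 := relIndex_inf_le (H := (P : Subgroup G)) (K := (Q : Subgroup G)) (L := C)
  have hd : Nat.card ((P : Subgroup G) ⊓ Q : Subgroup G) ∣ 9 := by
    have := Subgroup.card_dvd_of_le (inf_le_left : (P : Subgroup G) ⊓ Q ≤ P)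
    rwa [h3 P] at this
  have hd1 : Nat.card ((P : Subgroup G) ⊓ Q : Subgroup G) ≠ 1 :=
    fun h => hne (Subgroup.card_eq_one.mp h)
  have hd9 : Nat.card ((P : Subgroup G) ⊓ Q : Subgroup G) ≠ 9 := by
    intro h
    apply hPQ
    have e1 : (P : Subgroup G) ⊓ Q = P :=
      Subgroup.eq_of_le_of_card_ge inf_le_left (by rw [h, h3 P])
    have e2 : (P : Subgroup G) ⊓ Q = Q :=
      Subgroup.eq_of_le_of_card_ge inf_le_right (by rw [h, h3 Q])
    exact Sylow.ext (e1.symm.trans e2)
  rw [h3 P, hk] at e1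
  rw [h3 Q, hk] at e2
  rw [hk] at e3
  generalize Nat.card ((P : Subgroup G) ⊓ Q : Subgroup G) = d at *
  have hd3 : d = 3 := by
    have hle9 : d ≤ 9 := Nat.le_of_dvd (by norm_num) hd
    interval_cases d <;> first | omega | (exfalso; revert hd; decide)
  subst hd3
  have r1 : (P : Subgroup G).relIndex C = k := by omega
  have r2 : (Q : Subgroup G).relIndex C = k := by omega
  rw [r1, r2] at e4
  rcases hk12 with rfl | rfl <;> omega

end Cfsg.Agent.Lib.Helper19.Ord612
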