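import Mathlib
import Cfsg.Agent.Lib.Helper19.Ord612E

set_option autoImplicit false

namespace Cfsg.Agent.Lib.Helper19.Ord612

open Subgroup MulAction

/-- There is no simple group of order `612 = 2^2 * 3^2 * 17`. -/
theorem no_simple_612 {G : Type*} [Group G] [Finite G] [IsSimpleGroup G] :
    Nat.card G ≠ 612 := by
  intro hG
  haveI : Fact (Nat.Prime 17) := ⟨by norm_num⟩
  haveI : Fact (Nat.Prime 3) := ⟨by norm_num⟩
  haveI : Fact (Nat.Prime 2) := ⟨by norm_num⟩
  have h17 : ∀ P : Sylow 17 G, Nat.card P = 17 := fun P => by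
    have := Helper7.card_sylow_subgroup_eq P 1 36 (by rw [hG]; norm_num) (by norm_num)
    simpa using this
  have h3 : ∀ P : Sylow 3 G, Nat.card P = 9 := fun P => by
    have := Helper7.card_sylow_subgroup_eq P 2 68 (by rw [hG]; norm_num) (by norm_num)
    simpa using this
  have h2 : ∀ P : Sylow 2 G, Nat.card P = 4 := fun P => by
    have := Helper7.card_sylow_subgroup_eq P 2 153 (by rw [hG]; norm_num) (by norm_num)
    simpa using this
  -- the number of Sylow 17-subgroups
  have hn17 : Nat.card (Sylow 17 G) = 18 := by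
    obtain ⟨P⟩ : Nonempty (Sylow 17 G) := inferInstance
    have e1 := card_sylow_modEq_one 17 G
    have e2 : Nat.card (Sylow 17 G) ∣ 36 := by
      have e3 := Sylow.card_dvd_index P
      have e4 : (P : Subgroup G).index = 36 := by
        have := Subgroup.card_mul_index (P : Subgroup G)
        rw [h17 P, hG] at this
        omega
      rwa [e4] at e3
    have e5 := Helper7.card_sylow_ne_one_of_simple P (by rw [h17 P]; norm_num)
      (by rw [h17 P, hG]; norm_num)
    generalize Nat.card (Sylow 17 G) = n at *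
    have hle : n ≤ 36 := Nat.le_of_dvd (by norm_num) e2
    unfold Nat.ModEq at e1
    interval_cases n <;> first | rfl | omega | (exfalso; revert e2; decide)
  have hN17 : ∀ P : Sylow 17 G, Nat.card (normalizer ((P : Subgroup G) : Set G)) = 34 := by
    intro P
    have e1 : Nat.card (Sylow 17 G) = (normalizer ((P : Subgroup G) : Set G)).index :=
      Sylow.card_eq_index_normalizer P
    have e2 := Subgroup.index_mul_card (normalizer ((P : Subgroup G) : Set G))
    rw [← e1, hn17, hG] at e2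
    omega
  have hfaith : ∀ g : G, (∀ Q : Sylow 17 G, g • Q = Q) → g = 1 := by
    intro g hg
    have hker : g ∈ (MulAction.toPermHom G (Sylow 17 G)).ker := by
      rw [MonoidHom.mem_ker]
      ext Q
      simp [hg Q]
    rcases (MonoidHom.normal_ker (MulAction.toPermHom G (Sylow 17 G))).eq_bot_or_eq_top
      with h | h
    · rw [h] at hker; exact Subgroup.mem_bot.mp hker
    · exfalso
      have hsub : Subsingleton (Sylow 17 G) := ⟨fun P Q => by
        obtain ⟨g, rfl⟩ := MulAction.exists_smul_eq G P Q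
        have h1 : g ∈ (MulAction.toPermHom G (Sylow 17 G)).ker := by rw [h]; trivial
        rw [MonoidHom.mem_ker] at h1
        have h2 := congrArg (fun σ => σ P) h1
        simpa using h2.symm⟩
      have := Finite.card_le_one_iff_subsingleton.mpr hsub
      omega
  have cfg : Cfg G 17 := ⟨h17, hn17, hfaith, by decide⟩
  -- an involution in the normalizer of a Sylow 17-subgroup
  obtain ⟨P⟩ : Nonempty (Sylow 17 G) := inferInstance
  obtain ⟨t0, ht0⟩ := exists_prime_orderOf_dvd_card' (G := normalizer ((P : Subgroup G) : Set G))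
    2 (by rw [hN17 P]; norm_num)
  set t : G := (t0 : G) with ht
  have hto : orderOf t = 2 := by rw [ht, Subgroup.orderOf_coe]; exact ht0
  have ht2 : t ^ 2 = 1 := by rw [← hto]; exact pow_orderOf_eq_one t
  have ht1 : t ≠ 1 := by
    intro h
    rw [h, orderOf_one] at hto
    omega
  have htP : t • P = P := Sylow.smul_eq_iff_mem_normalizer.mpr t0.2
  have hK := card_centralizer_le cfg t ht2 ht1 P htP (by rw [hN17 P])
  -- the number of Sylow 3-subgroups
  have hn3 : Nat.card (Sylow 3 G) = 34 := by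
    obtain ⟨P3⟩ : Nonempty (Sylow 3 G) := inferInstance
    have e1 := card_sylow_modEq_one 3 G
    have e2 : Nat.card (Sylow 3 G) ∣ 68 := by
      have e3 := Sylow.card_dvd_index P3
      have e4 : (P3 : Subgroup G).index = 68 := by
        have := Subgroup.card_mul_index (P3 : Subgroup G)
        rw [h3 P3, hG] at this
        omega
      rwa [e4] at e3
    have e5 := Helper7.card_sylow_ne_one_of_simple P3 (by rw [h3 P3]; norm_num)
      (by rw [h3 P3, hG]; norm_num)
    have e6 := Helper7.card_dvd_factorial_card_sylow_of_simple P3 (by rw [h3 P3]; norm_num)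
      (by rw [h3 P3, hG]; norm_num)
    rw [hG] at e6
    generalize Nat.card (Sylow 3 G) = n at *
    have hle : n ≤ 68 := Nat.le_of_dvd (by norm_num) e2
    unfold Nat.ModEq at e1
    interval_cases n <;> first | rfl | omega | (exfalso; revert e2; decide) |
      (exfalso; revert e6; decide)
  have hTI3 : ∀ P3 Q3 : Sylow 3 G, P3 ≠ Q3 → (P3 : Subgroup G) ⊓ Q3 = ⊥ :=
    fun P3 Q3 h => sylow3_ti hG h17 hN17 h2 h3 t ht2 ht1 hK P3 Q3 h
  have hTI17 : ∀ P Q : Sylow 17 G, P ≠ Q → (P : Subgroup G) ⊓ Q = ⊥ :=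
    fun P Q h => sylow_inf_eq_bot h17 P Q h
  -- counting
  have c17 := card_ti_le (fun P : Sylow 17 G => (P : Subgroup G)) 17 h17 hTI17
  have c3 := card_ti_le (fun P : Sylow 3 G => (P : Subgroup G)) 9 h3 hTI3
  rw [hn17] at c17
  rw [hn3] at c3
  have c2 := card_conj_mul t
  rw [hG] at c2
  set A := {g : G | g ≠ 1 ∧ ∃ P : Sylow 17 G, g ∈ (P : Subgroup G)} with hA
  set B := {g : G | g ≠ 1 ∧ ∃ P : Sylow 3 G, g ∈ (P : Subgroup G)} with hB
  set D := orbit (ConjAct G) t with hD
  have hA17 : ∀ g ∈ A, g ≠ 1 ∧ g ^ 17 = 1 := by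
    rintro g ⟨hg1, Q, hgQ⟩
    exact ⟨hg1, pow_eq_one_of_mem (h17 Q) hgQ⟩
  have hB9 : ∀ g ∈ B, g ≠ 1 ∧ g ^ 9 = 1 := by
    rintro g ⟨hg1, Q, hgQ⟩
    exact ⟨hg1, pow_eq_one_of_mem (h3 Q) hgQ⟩
  have hD2 : ∀ g ∈ D, g ≠ 1 ∧ g ^ 2 = 1 := by
    intro g hg
    rw [hD, ConjAct.mem_orbit_conjAct, isConj_comm, isConj_iff] at hg
    obtain ⟨c, rfl⟩ := hg
    refine ⟨fun h => ht1 ?_, ?_⟩
    · have : t = c⁻¹ * (c * t * c⁻¹) * c := by group
      rw [this, h]; group
    · rw [conj_pow, ht2]; group
  have dAB : Disjoint A B := by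
    rw [Set.disjoint_left]
    intro g hgA hgB
    exact (hA17 g hgA).1 (eq_one_of_pow_coprime (hA17 g hgA).2 (hB9 g hgB).2 (by norm_num))
  have dABD : Disjoint (A ∪ B) D := by
    rw [Set.disjoint_left]
    intro g hgAB hgD
    rcases hgAB with hgA | hgB
    · exact (hA17 g hgA).1 (eq_one_of_pow_coprime (hA17 g hgA).2 (hD2 g hgD).2 (by norm_num))
    · exact (hB9 g hgB).1 (eq_one_of_pow_coprime (hB9 g hgB).2 (hD2 g hgD).2 (by norm_num))
  have d1 : Disjoint (A ∪ B ∪ D) {(1 : G)} := by
    rw [Set.disjoint_singleton_right]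
    rintro ((hA' | hB') | hD')
    · exact (hA17 1 hA').1 rfl
    · exact (hB9 1 hB').1 rfl
    · exact (hD2 1 hD').1 rfl
  have htot := Set.ncard_le_card (A ∪ B ∪ D ∪ {(1 : G)})
  rw [Set.ncard_union_eq d1, Set.ncard_union_eq dABD, Set.ncard_union_eq dAB,
    Set.ncard_singleton, hG] at htot
  have hpos : 0 < Nat.card (centralizer ({t} : Set G)) := Nat.card_pos
  have hD153 : 153 ≤ D.ncard := by
    by_contra hlt
    push Not at hlt
    have : D.ncard * Nat.card (centralizer ({t} : Set G)) ≤ 152 * 4 :=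
      Nat.mul_le_mul (by omega) hK
    omega
  omega

end Cfsg.Agent.Lib.Helper19.Ord612
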