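import Mathlib
import Cfsg.Agent.Lib.Helper7.SylowBasic

set_option autoImplicit false

namespace Cfsg.Agent.Lib.Helper19.Ord720

open Subgroup MulAction

variable {G : Type*} [Group G] [Finite G] {p : ℕ} [Fact p.Prime]

/-- the number of Sylow subgroups of a subgroup `K` containing the Sylow subgroup `P` of `G` -/
theorem card_sylow_sub_mul (K : Subgroup G) (P : Sylow p G) (hP : (P : Subgroup G) ≤ K) :
    Nat.card (Sylow p K) * Nat.card (normalizer ((P : Subgroup G) : Set G) ⊓ K : Subgroup G) =
      Nat.card K := by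
  have h1 : Nat.card (Sylow p K) =
      (normalizer (((P.subtype hP : Sylow p K) : Subgroup K) : Set K)).index :=
    Sylow.card_eq_index_normalizer (P.subtype hP)
  rw [h1, Sylow.coe_subtype, ← subgroupOf_normalizer_eq hP]
  change (normalizer ((P : Subgroup G) : Set G)).relIndex K * _ = _
  rw [← inf_relIndex_right, mul_comm]
  exact Helper7.card_mul_relIndex inf_le_right

theorem card_sylow_sub_modEq (K : Subgroup G) : Nat.card (Sylow p K) ≡ 1 [MOD p] :=
  card_sylow_modEq_one p K

omit [Finite G] [Fact p.Prime] in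
theorem card_sylow_sub_ne_one (K : Subgroup G) (P Q : Sylow p G) (hP : (P : Subgroup G) ≤ K)
    (hQ : (Q : Subgroup G) ≤ K) (hPQ : P ≠ Q) : Nat.card (Sylow p K) ≠ 1 := by
  intro h
  have hsub : Subsingleton (Sylow p K) := (Nat.card_eq_one_iff_unique.mp h).1
  exact hPQ (Sylow.subtype_injective (Subsingleton.elim (P.subtype hP) (Q.subtype hQ)))

/-- Sylow's conjugacy theorem inside a subgroup -/
theorem exists_smul_eq_of_le (K : Subgroup G) (P Q : Sylow p G) (hP : (P : Subgroup G) ≤ K)
    (hQ : (Q : Subgroup G) ≤ K) : ∃ k ∈ K, k • P = Q := by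
  obtain ⟨k, hk⟩ := MulAction.exists_smul_eq K (P.subtype hP) (Q.subtype hQ)
  rw [Sylow.smul_subtype] at hk
  exact ⟨k, k.2, Sylow.subtype_injective hk⟩

/-- a normal `p`-subgroup of `K` lies in every Sylow subgroup contained in `K` -/
theorem le_sylow_of_normal_in (K : Subgroup G) (P : Sylow p G) (hP : (P : Subgroup G) ≤ K)
    (T : Subgroup G) (hT : IsPGroup p T) (hTn : K ≤ normalizer (T : Set G)) :
    T ≤ (P : Subgroup G) := by
  have h1 : IsPGroup p (T ⊔ (P : Subgroup G) : Subgroup G) :=
    IsPGroup.to_sup_of_normal_left' hT P.2 (hP.trans hTn)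
  have h2 := P.is_maximal' h1 le_sup_right
  rw [← h2]
  exact le_sup_left

end Cfsg.Agent.Lib.Helper19.Ord720
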