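import Mathlib
import Cfsg.Agent.S0985
import Cfsg.Agent.S0904
import Cfsg.Agent.Lib.Helper19.Ord720A

set_option autoImplicit false

namespace Cfsg.Agent.Lib.Helper19.Ord720

open Subgroup MulAction

variable {G : Type*} [Group G] [Finite G] [IsSimpleGroup G]

/-- proper subgroups of a simple group of order `720` have order at most `120` -/
theorem card_le_of_ne_top (hG : Nat.card G = 720) (L : Subgroup G) (hL : L ≠ ⊤) :
    Nat.card L ≤ 120 := by
  have h1 := Helper7.card_dvd_factorial_index_of_simple L hL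
  have h2 := L.card_mul_index
  rw [hG] at h1 h2
  by_contra hlt
  push Not at hlt
  have h3 : L.index ≤ 5 := by nlinarith
  have h4 := h1.trans (Nat.factorial_dvd_factorial h3)
  norm_num [Nat.factorial] at h4

omit [Finite G] in
theorem normalizer_ne_top (T : Subgroup G) (h1 : T ≠ ⊥) (h2 : T ≠ ⊤) :
    normalizer (T : Set G) ≠ ⊤ := by
  intro h
  have hn : T.Normal := normalizer_eq_top_iff.mp h
  rcases hn.eq_bot_or_eq_top with h | h
  · exact h1 h
  · exact h2 h

omit [IsSimpleGroup G] in
theorem card_sylow3 [Fact (Nat.Prime 3)] (hG : Nat.card G = 720) (P : Sylow 3 G) :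
    Nat.card P = 9 := by
  have := Helper7.card_sylow_subgroup_eq P 2 80 (by rw [hG]; norm_num) (by norm_num)
  simpa using this

omit [IsSimpleGroup G] in
/-- two Sylow `3`-subgroups meeting in a subgroup of order `3` -/
theorem exists_inter [Fact (Nat.Prime 3)] (hG : Nat.card G = 720)
    (h40 : Nat.card (Sylow 3 G) = 40) :
    ∃ P Q : Sylow 3 G, P ≠ Q ∧ Nat.card ((P : Subgroup G) ⊓ Q : Subgroup G) = 3 := by
  obtain ⟨P, R, hne, hidx⟩ := Cfsg.Agent.S0985.result (G := G) 3 2 (by rw [h40]; decide)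
  refine ⟨P, R, hne, ?_⟩
  have e1 := Helper7.card_mul_relIndex (inf_le_left : (P : Subgroup G) ⊓ R ≤ P)
  rw [inf_relIndex_left, card_sylow3 hG P] at e1
  change (R : Subgroup G).relIndex P ≤ 3 ^ (2 - 1) at hidx
  have hd : Nat.card ((P : Subgroup G) ⊓ R : Subgroup G) ∣ 9 := Dvd.intro _ e1
  have hne9 : Nat.card ((P : Subgroup G) ⊓ R : Subgroup G) ≠ 9 := by
    intro h
    apply hne
    have e1 : (P : Subgroup G) ⊓ R = P :=
      Subgroup.eq_of_le_of_card_ge inf_le_left (by rw [h, card_sylow3 hG P])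
    have e2 : (P : Subgroup G) ⊓ R = R :=
      Subgroup.eq_of_le_of_card_ge inf_le_right (by rw [h, card_sylow3 hG R])
    exact Sylow.ext (e1.symm.trans e2)
  generalize Nat.card ((P : Subgroup G) ⊓ R : Subgroup G) = d at *
  generalize (R : Subgroup G).relIndex P = j at *
  have hd9 : d ≤ 9 := Nat.le_of_dvd (by norm_num) hd
  interval_cases d <;> omega

end Cfsg.Agent.Lib.Helper19.Ord720
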