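import Mathlib
import Cfsg.Agent.Lib.Helper19.Ord720B

set_option autoImplicit false

namespace Cfsg.Agent.Lib.Helper19.Ord720

open Subgroup MulAction

variable {G : Type*} [Group G] [Finite G] [IsSimpleGroup G]

omit [Finite G] [IsSimpleGroup G] in
theorem sylow3_le_centralizer [Fact (Nat.Prime 3)] (R : Sylow 3 G) (h9 : Nat.card R = 9)
    (T : Subgroup G) (hT : T ≤ (R : Subgroup G)) : (R : Subgroup G) ≤ centralizer (T : Set G) := by
  intro y hy
  rw [mem_centralizer_iff]
  intro h hh
  have h1 := IsPGroup.commutative_of_card_eq_prime_sq (p := 3) (G := (R : Subgroup G))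
    (by rw [h9]; norm_num) ⟨h, hT hh⟩ ⟨y, hy⟩
  exact congrArg Subtype.val h1

/-- no element of order `5` centralizes an element of order `3` -/
theorem not_five_dvd_centralizer [Fact (Nat.Prime 5)] (hG : Nat.card G = 720) (T : Subgroup G)
    (hT : Nat.card T = 3) : ¬ 5 ∣ Nat.card (centralizer (T : Set G)) := by
  intro h5
  obtain ⟨f, hf⟩ := exists_prime_orderOf_dvd_card' 5 h5
  have hf' : orderOf (f : G) = 5 := by rw [Subgroup.orderOf_coe]; exact hf
  have hpg : IsPGroup 5 (zpowers (f : G)) := by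
    apply IsPGroup.of_card (n := 1)
    rw [Nat.card_zpowers, hf', pow_one]
  obtain ⟨S, hS⟩ := hpg.exists_le_sylow
  have hS5 : Nat.card S = 5 := by
    have := Helper7.card_sylow_subgroup_eq S 1 144 (by rw [hG]; norm_num) (by norm_num)
    simpa using this
  have heq : zpowers (f : G) = (S : Subgroup G) := by
    apply Subgroup.eq_of_le_of_card_ge hS
    rw [Nat.card_zpowers, hf', hS5]
  have hcent := Cfsg.Agent.S0904.result (G := G) 2 3 5 4 2 Nat.prime_two Nat.prime_three
    (by decide) (by decide) (by decide) (by rw [hG]; norm_num) S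
  -- a nontrivial element of `T`
  have hTne : T ≠ ⊥ := by
    intro h
    rw [h, Subgroup.card_bot] at hT
    omega
  rcases Subgroup.bot_or_exists_ne_one T with hb | ⟨τ, hτ, hτ1⟩
  · exact hTne hb
  have hτS : τ ∈ (S : Subgroup G) := by
    rw [← hcent, mem_centralizer_iff]
    intro h hh
    have hh' : h ∈ zpowers (f : G) := by rw [heq]; exact hh
    obtain ⟨k, rfl⟩ := hh'
    have hc : τ * (f : G) = (f : G) * τ := mem_centralizer_iff.mp f.2 τ hτ
    exact ((Commute.zpow_right (show Commute τ (f : G) from hc) k).eq).symm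
  have h1 : orderOf τ ∣ 5 := by
    have := orderOf_dvd_natCard (⟨τ, hτS⟩ : (S : Subgroup G))
    rwa [← Subgroup.orderOf_coe, hS5] at this
  have h2 : orderOf τ ∣ 3 := by
    have := orderOf_dvd_natCard (⟨τ, hτ⟩ : T)
    rwa [← Subgroup.orderOf_coe, hT] at this
  have h3 : orderOf τ ∣ Nat.gcd 5 3 := Nat.dvd_gcd h1 h2
  norm_num at h3
  exact hτ1 h3

/-- the structure of the normalizer of the intersection of two Sylow `3`-subgroups -/
theorem card_normalizer_inter [Fact (Nat.Prime 3)] [Fact (Nat.Prime 5)] (hG : Nat.card G = 720)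
    (P Q : Sylow 3 G) (hPQ : P ≠ Q)
    (hT : Nat.card ((P : Subgroup G) ⊓ Q : Subgroup G) = 3) :
    (P : Subgroup G) ≤ normalizer (((P : Subgroup G) ⊓ Q : Subgroup G) : Set G) ∧
    (Q : Subgroup G) ≤ normalizer (((P : Subgroup G) ⊓ Q : Subgroup G) : Set G) ∧
    Nat.card (Sylow 3 (normalizer (((P : Subgroup G) ⊓ Q : Subgroup G) : Set G))) = 4 ∧
    (Nat.card (normalizer (((P : Subgroup G) ⊓ Q : Subgroup G) : Set G)) = 36 ∨
      Nat.card (normalizer (((P : Subgroup G) ⊓ Q : Subgroup G) : Set G)) = 72) := by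
  set T := (P : Subgroup G) ⊓ Q with hTdef
  set H := normalizer (T : Set G) with hH
  set C := centralizer (T : Set G) with hC
  have hCH : C ≤ H := centralizer_le_normalizer _
  have hPC : (P : Subgroup G) ≤ C := sylow3_le_centralizer P (card_sylow3 hG P) T inf_le_left
  have hQC : (Q : Subgroup G) ≤ C := sylow3_le_centralizer Q (card_sylow3 hG Q) T inf_le_right
  have hPH := hPC.trans hCH
  have hQH := hQC.trans hCH
  refine ⟨hPH, hQH, ?_⟩
  -- the index of `C` in `H`
  have hidx : C.relIndex H ∣ 2 := by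
    have h1 := Helper7.relIndex_centralizer_normalizer_dvd T
    have hcyc : IsCyclic T := isCyclic_of_prime_card hT
    rw [hcyc.card_mulAut, hT] at h1
    have : Nat.totient 3 = 2 := by decide
    rwa [this] at h1
  have h5C := not_five_dvd_centralizer hG T hT
  have hcard := Helper7.card_mul_relIndex hCH
  have h5H : ¬ 5 ∣ Nat.card H := by
    rw [← hcard]
    intro h
    rcases (Nat.Prime.dvd_mul (by norm_num)).mp h with h | h
    · exact h5C h
    · have := Nat.dvd_trans h hidx
      omega
  have hTne_bot : T ≠ ⊥ := by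
    intro h
    rw [h, Subgroup.card_bot] at hT
    omega
  have hTne_top : T ≠ ⊤ := by
    intro h
    rw [h, Subgroup.card_top, hG] at hT
    omega
  have hHtop := normalizer_ne_top T hTne_bot hTne_top
  have hle := card_le_of_ne_top hG H hHtop
  have hdvd : Nat.card H ∣ 720 := by rw [← hG]; exact Subgroup.card_subgroup_dvd_card H
  have h9 : 9 ∣ Nat.card H := by
    have := Subgroup.card_dvd_of_le hPH
    rwa [card_sylow3 hG P] at this
  -- the Sylow count in `H`
  have hm1 := card_sylow_sub_mul H P hPH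
  have hm2 : Nat.card (Sylow 3 H) ≡ 1 [MOD 3] := card_sylow_sub_modEq H
  have hm3 := card_sylow_sub_ne_one H P Q hPH hQH hPQ
  have h9N : 9 ∣ Nat.card (normalizer ((P : Subgroup G) : Set G) ⊓ H : Subgroup G) := by
    have := Subgroup.card_dvd_of_le (le_inf le_normalizer hPH :
      (P : Subgroup G) ≤ normalizer ((P : Subgroup G) : Set G) ⊓ H)
    rwa [card_sylow3 hG P] at this
  obtain ⟨k, hk⟩ := h9
  obtain ⟨j, hj⟩ := h9N
  rw [hj, hk] at hm1
  rw [hk] at hle hdvd h5H ⊢
  generalize Nat.card (Sylow 3 H) = m at *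
  have hk13 : k ≤ 13 := by omega
  have hk80 : k ∣ 80 := Nat.dvd_of_mul_dvd_mul_left (by norm_num : 0 < 9) (by simpa using hdvd)
  have h5k : ¬ 5 ∣ k := fun h => h5H (Dvd.dvd.mul_left h 9)
  have hmk : m * j = k := by nlinarith
  have hmdvd : m ∣ k := Dvd.intro _ hmk
  unfold Nat.ModEq at hm2
  have hk0 : k ≠ 0 := by
    rintro rfl
    simp at hk80
  have hmle : m ≤ k := Nat.le_of_dvd (Nat.pos_of_ne_zero hk0) hmdvd
  clear hk hj hm1 hmk
  interval_cases k <;> first | omega | (exfalso; revert hk80; decide) |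
    (interval_cases m <;> first | omega | (exfalso; revert hmdvd; decide))

end Cfsg.Agent.Lib.Helper19.Ord720
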