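import Mathlib
import Cfsg.Agent.Lib.Helper19.Ord720C

set_option autoImplicit false

namespace Cfsg.Agent.Lib.Helper19.Ord720

open Subgroup MulAction

variable {G : Type*} [Group G]

theorem le_normalizer_of_forall (K T : Subgroup G)
    (h : ∀ k ∈ K, ∀ t ∈ T, k * t * k⁻¹ ∈ T) : K ≤ normalizer (T : Set G) := by
  intro k hk
  rw [mem_normalizer_iff]
  intro x
  constructor
  · exact h k hk x
  · intro hx
    have h1 := h k⁻¹ (inv_mem hk) _ hx
    have h2 : k⁻¹ * (k * x * k⁻¹) * k⁻¹⁻¹ = x := by group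
    rwa [h2] at h1

/-- the conjugate subgroup -/
def conjSub (l : G) (T : Subgroup G) : Subgroup G := T.map (MulAut.conj l).toMonoidHom

theorem mem_conjSub {l : G} {T : Subgroup G} {x : G} :
    x ∈ conjSub l T ↔ ∃ t ∈ T, l * t * l⁻¹ = x := by
  unfold conjSub
  rw [Subgroup.mem_map]
  rfl

theorem card_conjSub (l : G) (T : Subgroup G) : Nat.card (conjSub l T) = Nat.card T := by
  unfold conjSub
  exact Subgroup.card_map_of_injective (MulAut.conj l).injective

theorem mem_normalizer_of_conjSub_eq {l : G} {T : Subgroup G} (h : conjSub l T = T) :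
    l ∈ normalizer (T : Set G) := by
  rw [mem_normalizer_iff]
  intro x
  constructor
  · intro hx
    rw [← h]
    exact mem_conjSub.mpr ⟨x, hx, rfl⟩
  · intro hx
    rw [← h] at hx
    obtain ⟨t, ht, hteq⟩ := mem_conjSub.mp hx
    have : t = x := by
      have h1 : l⁻¹ * (l * t * l⁻¹) * l = l⁻¹ * (l * x * l⁻¹) * l := by rw [hteq]
      have e1 : l⁻¹ * (l * t * l⁻¹) * l = t := by group
      have e2 : l⁻¹ * (l * x * l⁻¹) * l = x := by group
      rw [e1, e2] at h1
      exact h1
    rwa [← this]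

end Cfsg.Agent.Lib.Helper19.Ord720
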