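import Mathlib
import Cfsg.Agent.Lib.Helper19.Ord720D

set_option autoImplicit false

namespace Cfsg.Agent.Lib.Helper19.Ord720

open Subgroup MulAction

variable {G : Type*} [Group G] [Finite G]

/-- Burnside: a Sylow subgroup of order `9` of a group `K` of order `36` with four Sylow
`3`-subgroups has a normal complement of order `4` -/
theorem exists_normal_four [Fact (Nat.Prime 3)] (K : Subgroup G) (h36 : Nat.card K = 36)
    (hm : Nat.card (Sylow 3 K) = 4) :
    ∃ V : Subgroup G, V ≤ K ∧ Nat.card V = 4 ∧ K ≤ normalizer (V : Set G) := by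
  obtain ⟨P'⟩ : Nonempty (Sylow 3 K) := inferInstance
  have hP'card : Nat.card (P' : Subgroup K) = 9 := by
    have := Helper7.card_sylow_subgroup_eq P' 2 4 (by rw [h36]; norm_num) (by norm_num)
    simpa using this
  have hidx : (normalizer ((P' : Subgroup K) : Set K)).index = 4 := by
    rw [← hm]
    exact (Sylow.card_eq_index_normalizer P').symm
  have hNcard : Nat.card (normalizer ((P' : Subgroup K) : Set K)) = 9 := by
    have := Subgroup.card_mul_index (normalizer ((P' : Subgroup K) : Set K))
    rw [hidx, h36] at this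
    omega
  have hNeq : normalizer ((P' : Subgroup K) : Set K) = P' :=
    (Subgroup.eq_of_le_of_card_ge le_normalizer (by rw [hNcard, hP'card])).symm
  have hcomm : IsMulCommutative (P' : Subgroup K) :=
    IsPGroup.isMulCommutative_of_card_eq_prime_sq (p := 3) (by rw [hP'card]; norm_num)
  have hNC : normalizer ((P' : Subgroup K) : Set K) ≤ centralizer ((P' : Subgroup K) : Set K) := by
    rw [hNeq]
    exact Subgroup.le_centralizer_iff_isMulCommutative.mpr hcomm
  have hcompl := MonoidHom.ker_transferSylow_isComplement' P' hNC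
  have hV'card : Nat.card (MonoidHom.transferSylow P' hNC).ker = 4 := by
    have := hcompl.card_mul_card
    rw [hP'card, h36] at this
    omega
  have hV'n : (MonoidHom.transferSylow P' hNC).ker.Normal := MonoidHom.normal_ker _
  obtain ⟨V', hV'n, hV'c⟩ : ∃ V' : Subgroup K, V'.Normal ∧ Nat.card V' = 4 :=
    ⟨_, hV'n, hV'card⟩
  refine ⟨V'.map K.subtype, map_subtype_le V', ?_, ?_⟩
  · rw [Subgroup.card_map_of_injective (subtype_injective K), hV'c]
  · apply le_normalizer_of_forall
    intro k hk t ht
    obtain ⟨v, hv, rfl⟩ := Subgroup.mem_map.mp ht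
    refine Subgroup.mem_map.mpr ⟨⟨k, hk⟩ * v * ⟨k, hk⟩⁻¹, hV'n.conj_mem v hv ⟨k, hk⟩, ?_⟩
    simp

/-- a `2`-subgroup of order `4` of a group of order `720` is properly contained in a `2`-subgroup
of its normalizer: `8` divides the order of the normalizer -/
theorem eight_dvd_normalizer [Fact (Nat.Prime 2)] (hG : Nat.card G = 720) (V : Subgroup G)
    (hV : Nat.card V = 4) : 8 ∣ Nat.card (normalizer (V : Set G)) := by
  have h1 := Sylow.prime_dvd_card_quotient_normalizer (p := 2) (n := 2) (G := G)
    (by rw [hG]; norm_num) (H := V) (by rw [hV]; norm_num)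
  have h2 := Subgroup.card_eq_card_quotient_mul_card_subgroup
    (V.comap (normalizer (V : Set G)).subtype)
  have h3 : Nat.card (V.comap (normalizer (V : Set G)).subtype) = 4 := by
    rw [← hV]
    exact Nat.card_congr (Subgroup.subgroupOfEquivOfLe le_normalizer).toEquiv
  rw [h2, h3]
  obtain ⟨c, hc⟩ := h1
  rw [hc]
  exact ⟨c, by ring⟩

end Cfsg.Agent.Lib.Helper19.Ord720
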