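import Mathlib
import Cfsg.Agent.Lib.Helper19.Ord720E

set_option autoImplicit false

namespace Cfsg.Agent.Lib.Helper19.Ord720

open Subgroup MulAction

variable {G : Type*} [Group G] [Finite G] [IsSimpleGroup G]

/-- the normalizer of `T = P ⊓ Q` does not have order `36` -/
theorem false_of_card_36 [Fact (Nat.Prime 2)] [Fact (Nat.Prime 3)] (hG : Nat.card G = 720)
    (P Q : Sylow 3 G) (hT : Nat.card ((P : Subgroup G) ⊓ Q : Subgroup G) = 3)
    (hPH : (P : Subgroup G) ≤ normalizer (((P : Subgroup G) ⊓ Q : Subgroup G) : Set G))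
    (hQH : (Q : Subgroup G) ≤ normalizer (((P : Subgroup G) ⊓ Q : Subgroup G) : Set G))
    (hm : Nat.card (Sylow 3 (normalizer (((P : Subgroup G) ⊓ Q : Subgroup G) : Set G))) = 4)
    (h36 : Nat.card (normalizer (((P : Subgroup G) ⊓ Q : Subgroup G) : Set G)) = 36) :
    False := by
  set T := (P : Subgroup G) ⊓ Q with hTdef
  set H := normalizer (T : Set G) with hH
  obtain ⟨V, hVH, hV4, hHV⟩ := exists_normal_four H h36 hm
  set L := normalizer (V : Set G) with hL
  have h8 := eight_dvd_normalizer hG V hV4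
  have h36L : 36 ∣ Nat.card L := by rw [← h36]; exact Subgroup.card_dvd_of_le hHV
  have h72 : 72 ∣ Nat.card L := by
    have h1 := Nat.lcm_dvd h8 h36L
    have h2 : Nat.lcm 8 36 = 72 := by decide
    rwa [h2] at h1
  have hVbot : V ≠ ⊥ := by
    intro h
    rw [h, Subgroup.card_bot] at hV4
    omega
  have hVtop : V ≠ ⊤ := by
    intro h
    rw [h, Subgroup.card_top, hG] at hV4
    omega
  have hLtop := normalizer_ne_top V hVbot hVtop
  have hLle := card_le_of_ne_top hG L hLtop
  have hL72 : Nat.card L = 72 := by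
    obtain ⟨c, hc⟩ := h72
    have hpos : 0 < Nat.card L := Nat.card_pos
    omega
  have hrel : H.relIndex L = 2 := by
    have h1 := Helper7.card_mul_relIndex hHV
    rw [h36, hL72] at h1
    omega
  have hHn : (H.subgroupOf L).Normal := Subgroup.normal_of_index_eq_two hrel
  have hconj : ∀ l ∈ L, ∀ h ∈ H, l * h * l⁻¹ ∈ H := by
    intro l hl h hh
    have h1 := hHn.conj_mem ⟨h, hHV hh⟩ (by rw [mem_subgroupOf]; exact hh) ⟨l, hl⟩
    rw [mem_subgroupOf] at h1
    simpa using h1
  have hLH : L ≤ H := by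
    intro l hl
    apply mem_normalizer_of_conjSub_eq
    have hT'n : H ≤ normalizer (conjSub l T : Set G) := by
      apply le_normalizer_of_forall
      intro h hh x hx
      obtain ⟨t, ht, rfl⟩ := mem_conjSub.mp hx
      have h1 : l⁻¹ * h * l⁻¹⁻¹ ∈ H := hconj l⁻¹ (inv_mem hl) h hh
      have h2 : (l⁻¹ * h * l⁻¹⁻¹) * t * (l⁻¹ * h * l⁻¹⁻¹)⁻¹ ∈ T :=
        (mem_normalizer_iff.mp h1 t).mp ht
      refine mem_conjSub.mpr ⟨_, h2, ?_⟩
      group
    have hT'p : IsPGroup 3 (conjSub l T) :=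
      IsPGroup.of_card (n := 1) (by rw [card_conjSub, hT]; norm_num)
    have h1 := le_sylow_of_normal_in H P hPH (conjSub l T) hT'p hT'n
    have h2 := le_sylow_of_normal_in H Q hQH (conjSub l T) hT'p hT'n
    exact Subgroup.eq_of_le_of_card_ge (le_inf h1 h2) (by rw [card_conjSub])
  have hfin := Subgroup.card_le_of_le hLH
  omega

end Cfsg.Agent.Lib.Helper19.Ord720
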