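import Mathlib
import Cfsg.Agent.Lib.Helper19.Ord720F

set_option autoImplicit false

namespace Cfsg.Agent.Lib.Helper19.Ord720

open Subgroup MulAction

variable {G : Type*} [Group G] [Finite G]

theorem conjSub_eq_smul {p : ℕ} (g : G) (R : Sylow p G) :
    conjSub g (R : Subgroup G) = ((g • R : Sylow p G) : Subgroup G) := by
  rw [Sylow.coe_subgroup_smul]
  rfl

/-- Step 1: normalizers of Sylow `3`-subgroups inside `H` lie in `H` -/
theorem normalizer_le_of_card_72 [Fact (Nat.Prime 3)] (hG : Nat.card G = 720)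
    (h40 : Nat.card (Sylow 3 G) = 40) (H : Subgroup G) (h72 : Nat.card H = 72)
    (hm : Nat.card (Sylow 3 H) = 4) (R : Sylow 3 G) (hR : (R : Subgroup G) ≤ H) :
    normalizer ((R : Subgroup G) : Set G) ≤ H := by
  have h1 := card_sylow_sub_mul H R hR
  rw [hm, h72] at h1
  have h2 : Nat.card (normalizer ((R : Subgroup G) : Set G)) = 18 := by
    have e1 : Nat.card (Sylow 3 G) = (normalizer ((R : Subgroup G) : Set G)).index :=
      Sylow.card_eq_index_normalizer R
    have e2 := Subgroup.index_mul_card (normalizer ((R : Subgroup G) : Set G))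
    rw [← e1, h40, hG] at e2
    omega
  have h3 : normalizer ((R : Subgroup G) : Set G) ⊓ H = normalizer ((R : Subgroup G) : Set G) :=
    Subgroup.eq_of_le_of_card_ge inf_le_left (by rw [h2]; omega)
  rw [← h3]
  exact inf_le_right

/-- Claim 1: `T` fixes only one coset of `H = N(T)` -/
theorem mem_of_conj_le [Fact (Nat.Prime 3)] (hG : Nat.card G = 720)
    (h40 : Nat.card (Sylow 3 G) = 40) (T : Subgroup G) (hT : Nat.card T = 3)
    (h72 : Nat.card (normalizer (T : Set G)) = 72)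
    (hm : Nat.card (Sylow 3 (normalizer (T : Set G))) = 4)
    (g : G) (hg : ∀ t ∈ T, g⁻¹ * t * g ∈ normalizer (T : Set G)) :
    g ∈ normalizer (T : Set G) := by
  set H := normalizer (T : Set G) with hH
  have hT''H : conjSub g⁻¹ T ≤ H := by
    intro x hx
    obtain ⟨t, ht, rfl⟩ := mem_conjSub.mp hx
    have := hg t ht
    rwa [inv_inv]
  have hTp : IsPGroup 3 T := IsPGroup.of_card (n := 1) (by rw [hT]; norm_num)
  have hT''p : IsPGroup 3 (conjSub g⁻¹ T) :=
    IsPGroup.of_card (n := 1) (by rw [card_conjSub, hT]; norm_num)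
  have hsup : IsPGroup 3 (T ⊔ conjSub g⁻¹ T : Subgroup G) :=
    IsPGroup.to_sup_of_normal_left' hTp hT''p hT''H
  obtain ⟨R, hR⟩ := hsup.exists_le_sylow
  have hR9 := card_sylow3 hG R
  have hRC : (R : Subgroup G) ≤ centralizer (T : Set G) :=
    sylow3_le_centralizer R hR9 T (le_sup_left.trans hR)
  have hRH : (R : Subgroup G) ≤ H := hRC.trans (centralizer_le_normalizer _)
  have hRC'' : (R : Subgroup G) ≤ centralizer ((conjSub g⁻¹ T : Subgroup G) : Set G) :=
    sylow3_le_centralizer R hR9 _ (le_sup_right.trans hR)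
  have hgR : ((g • R : Sylow 3 G) : Subgroup G) ≤ H := by
    rw [← conjSub_eq_smul]
    intro x hx
    obtain ⟨r, hr, rfl⟩ := mem_conjSub.mp hx
    apply centralizer_le_normalizer
    rw [mem_centralizer_iff]
    intro t ht
    have h1 : g⁻¹ * t * g⁻¹⁻¹ ∈ conjSub g⁻¹ T := mem_conjSub.mpr ⟨t, ht, rfl⟩
    have h2 : (g⁻¹ * t * g⁻¹⁻¹) * r = r * (g⁻¹ * t * g⁻¹⁻¹) :=
      mem_centralizer_iff.mp (hRC'' hr) _ h1
    calc t * (g * r * g⁻¹) = g * ((g⁻¹ * t * g⁻¹⁻¹) * r) * g⁻¹ := by group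
      _ = g * (r * (g⁻¹ * t * g⁻¹⁻¹)) * g⁻¹ := by rw [h2]
      _ = g * r * g⁻¹ * t := by group
  obtain ⟨h, hh, hconj⟩ := exists_smul_eq_of_le H (g • R) R hgR hRH
  rw [← mul_smul] at hconj
  have h1 : h * g ∈ normalizer ((R : Subgroup G) : Set G) :=
    Sylow.smul_eq_iff_mem_normalizer.mp hconj
  have h2 := normalizer_le_of_card_72 hG h40 H h72 hm R hRH h1
  have h3 : g = h⁻¹ * (h * g) := by group
  rw [h3]
  exact mul_mem (inv_mem hh) h2

omit [Finite G] in
theorem smul_coset_eq_iff (H : Subgroup G) (a x : G) :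
    a • (x : G ⧸ H) = (x : G ⧸ H) ↔ x⁻¹ * a * x ∈ H := by
  rw [MulAction.Quotient.smul_mk, QuotientGroup.eq, smul_eq_mul]
  constructor
  · intro h
    have h1 := inv_mem h
    have h2 : ((a * x)⁻¹ * x)⁻¹ = x⁻¹ * a * x := by group
    rwa [h2] at h1
  · intro h
    have h1 := inv_mem h
    have h2 : (x⁻¹ * a * x)⁻¹ = (a * x)⁻¹ * x := by group
    rwa [h2] at h1

/-- a nontrivial element of `T` fixes only the trivial coset -/
theorem eq_one_coset_of_smul_eq [Fact (Nat.Prime 3)] (hG : Nat.card G = 720)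
    (h40 : Nat.card (Sylow 3 G) = 40) (T : Subgroup G) (hT : Nat.card T = 3)
    (h72 : Nat.card (normalizer (T : Set G)) = 72)
    (hm : Nat.card (Sylow 3 (normalizer (T : Set G))) = 4)
    (τ : G) (hτ : τ ∈ T) (hτ1 : τ ≠ 1) (ω : G ⧸ normalizer (T : Set G)) (hω : τ • ω = ω) :
    ω = ((1 : G) : G ⧸ normalizer (T : Set G)) := by
  obtain ⟨x, rfl⟩ := QuotientGroup.mk_surjective ω
  rw [smul_coset_eq_iff] at hω
  have hz : zpowers τ = T := by
    apply Subgroup.eq_of_le_of_card_ge (zpowers_le.mpr hτ)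
    rw [Nat.card_zpowers, hT]
    have h1 : orderOf τ ∣ 3 := by
      have := orderOf_dvd_natCard (⟨τ, hτ⟩ : T)
      rwa [← Subgroup.orderOf_coe, hT] at this
    rcases (Nat.dvd_prime Nat.prime_three).mp h1 with h2 | h2
    · exact absurd (orderOf_eq_one_iff.mp h2) hτ1
    · exact h2.ge
  have hx : x ∈ normalizer (T : Set G) := by
    apply mem_of_conj_le hG h40 T hT h72 hm
    intro t ht
    rw [← hz] at ht
    obtain ⟨k, rfl⟩ := ht
    have h1 : x⁻¹ * τ ^ k * x = (x⁻¹ * τ * x) ^ k := by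
      have : x⁻¹ * τ * x = x⁻¹ * τ * x⁻¹⁻¹ := by rw [inv_inv]
      rw [this, conj_zpow, inv_inv]
    rw [h1]
    exact zpow_mem hω k
  rw [QuotientGroup.eq]
  simpa using hx

end Cfsg.Agent.Lib.Helper19.Ord720
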