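import Mathlib
import Cfsg.Agent.Lib.Helper19.Ord720G

set_option autoImplicit false

namespace Cfsg.Agent.Lib.Helper19.Ord720

open Subgroup MulAction

variable {G : Type*} [Group G] [Finite G] [IsSimpleGroup G]

omit [Finite G] in
/-- the action on the cosets of a proper subgroup is faithful -/
theorem eq_one_of_forall_smul_coset (H : Subgroup G) (hH : H ≠ ⊤) (e : G)
    (he : ∀ ω : G ⧸ H, e • ω = ω) : e = 1 := by
  have hcore : H.normalCore = ⊥ := by
    rcases (Subgroup.normalCore_normal H).eq_bot_or_eq_top with h | h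
    · exact h
    · exfalso
      apply hH
      rw [eq_top_iff, ← h]
      exact Subgroup.normalCore_le H
  have hmem : e ∈ H.normalCore := by
    intro b
    have h1 := he ((b⁻¹ : G) : G ⧸ H)
    rw [smul_coset_eq_iff] at h1
    rwa [inv_inv] at h1
  rw [hcore] at hmem
  exact Subgroup.mem_bot.mp hmem

/-- a nontrivial `2`-element of `H = N(T)` centralizing `T` fixes exactly four cosets of `H` -/
theorem card_fixedBy_eq_four [Fact (Nat.Prime 2)] [Fact (Nat.Prime 3)] (hG : Nat.card G = 720)
    (h40 : Nat.card (Sylow 3 G) = 40) (T : Subgroup G) (hT : Nat.card T = 3)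
    (h72 : Nat.card (normalizer (T : Set G)) = 72)
    (hm : Nat.card (Sylow 3 (normalizer (T : Set G))) = 4)
    (e : G) (heH : e ∈ normalizer (T : Set G)) (he1 : e ≠ 1)
    (hcomm : ∀ t ∈ T, t * e = e * t) (he2 : IsPGroup 2 (zpowers e)) :
    Nat.card (fixedBy (G ⧸ normalizer (T : Set G)) e) = 4 := by
  set H := normalizer (T : Set G) with hH
  have hHtop : H ≠ ⊤ := by
    intro h
    rw [h, Subgroup.card_top, hG] at h72
    omega
  have hΩ : Nat.card (G ⧸ H) = 10 := by
    have h1 := Subgroup.card_mul_index H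
    rw [h72, hG] at h1
    have h2 : H.index = 10 := by omega
    rw [← h2]
    rfl
  -- parity
  have hpar : Nat.card (fixedBy (G ⧸ H) e) % 2 = 0 := by
    have h1 := he2.card_modEq_card_fixedPoints (G ⧸ H)
    have h2 : (fixedPoints (zpowers e) (G ⧸ H) : Set (G ⧸ H)) = fixedBy (G ⧸ H) e := by
      ext ω
      constructor
      · intro h
        exact h ⟨e, mem_zpowers e⟩
      · intro h g
        have h3 : zpowers e ≤ stabilizer G ω := zpowers_le.mpr (mem_stabilizer_iff.mpr h)
        exact mem_stabilizer_iff.mp (h3 g.2)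
    rw [h2, hΩ] at h1
    unfold Nat.ModEq at h1
    omega
  -- modulo three
  have hTp : IsPGroup 3 T := IsPGroup.of_card (n := 1) (by rw [hT]; norm_num)
  have hTle : T ≤ H := le_normalizer
  have hmod : Nat.card (fixedBy (G ⧸ H) e) % 3 = 1 := by
    let S : SubMulAction T (G ⧸ H) :=
      { carrier := fixedBy (G ⧸ H) e
        smul_mem' := by
          intro t ω hω
          rw [mem_fixedBy] at hω ⊢
          change e • ((t : G) • ω) = (t : G) • ω
          rw [← mul_smul, ← hcomm t t.2, mul_smul, hω] }
    have h1 := hTp.card_modEq_card_fixedPoints S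
    have hS : Nat.card S = Nat.card (fixedBy (G ⧸ H) e) := rfl
    have hone : ((1 : G) : G ⧸ H) ∈ fixedBy (G ⧸ H) e := by
      rw [mem_fixedBy, smul_coset_eq_iff]
      simpa using heH
    have hfix : Nat.card (fixedPoints T S) = 1 := by
      rw [Nat.card_eq_one_iff_unique]
      constructor
      · constructor
        rintro ⟨a, ha⟩ ⟨b, hb⟩
        have hTne : T ≠ ⊥ := by
          intro h
          rw [h, Subgroup.card_bot] at hT
          omega
        rcases Subgroup.bot_or_exists_ne_one T with hb' | ⟨τ, hτ, hτ1⟩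
        · exact absurd hb' hTne
        have ha' : τ • (a : G ⧸ H) = a := congrArg Subtype.val (ha ⟨τ, hτ⟩)
        have hb'' : τ • (b : G ⧸ H) = b := congrArg Subtype.val (hb ⟨τ, hτ⟩)
        have e1 := eq_one_coset_of_smul_eq hG h40 T hT h72 hm τ hτ hτ1 _ ha'
        have e2 := eq_one_coset_of_smul_eq hG h40 T hT h72 hm τ hτ hτ1 _ hb''
        apply Subtype.ext
        apply Subtype.ext
        rw [e1, e2]
      · refine ⟨⟨⟨((1 : G) : G ⧸ H), hone⟩, ?_⟩⟩
        intro t
        apply Subtype.ext
        change (t : G) • ((1 : G) : G ⧸ H) = ((1 : G) : G ⧸ H)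
        rw [smul_coset_eq_iff]
        simpa using hTle t.2
    rw [hS, hfix] at h1
    unfold Nat.ModEq at h1
    omega
  -- not everything
  have hle : Nat.card (fixedBy (G ⧸ H) e) ≤ 10 := by
    rw [← hΩ]
    exact Nat.card_le_card_of_injective _ Subtype.val_injective
  have hne : Nat.card (fixedBy (G ⧸ H) e) ≠ 10 := by
    intro h
    apply he1
    apply eq_one_of_forall_smul_coset H hHtop
    have hbij := (Subtype.val_injective (p := fun ω => ω ∈ fixedBy (G ⧸ H) e)).bijective_of_nat_card_le
      (by rw [hΩ, h])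
    intro ω
    obtain ⟨⟨ω', hω'⟩, rfl⟩ := hbij.2 ω
    exact hω'
  omega

end Cfsg.Agent.Lib.Helper19.Ord720
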