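import Mathlib
import Cfsg.Agent.Lib.Helper19.Ord720H

set_option autoImplicit false

namespace Cfsg.Agent.Lib.Helper19.Ord720

open Subgroup MulAction

variable {G : Type*} [Group G] [Finite G] [IsSimpleGroup G]

/-- the normalizer of `T` (of order `3`) does not have order `72` with four Sylow
`3`-subgroups -/
theorem false_of_card_72 [Fact (Nat.Prime 2)] [Fact (Nat.Prime 3)] (hG : Nat.card G = 720)
    (h40 : Nat.card (Sylow 3 G) = 40) (T : Subgroup G) (hT : Nat.card T = 3)
    (h72 : Nat.card (normalizer (T : Set G)) = 72)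
    (hm : Nat.card (Sylow 3 (normalizer (T : Set G))) = 4) : False := by
  set H := normalizer (T : Set G) with hH
  set C := centralizer (T : Set G) with hC
  have hCH : C ≤ H := centralizer_le_normalizer _
  have hidx : C.relIndex H ∣ 2 := by
    have h1 := Helper7.relIndex_centralizer_normalizer_dvd T
    have hcyc : IsCyclic T := isCyclic_of_prime_card hT
    rw [hcyc.card_mulAut, hT] at h1
    have : Nat.totient 3 = 2 := by decide
    rwa [this] at h1
  have hcard := Helper7.card_mul_relIndex hCH
  rw [h72] at hcard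
  have h4 : 2 ^ 2 ∣ Nat.card C := by
    have hle : C.relIndex H ≤ 2 := Nat.le_of_dvd (by norm_num) hidx
    have hpos : 0 < C.relIndex H := Nat.pos_of_dvd_of_pos hidx (by norm_num)
    generalize C.relIndex H = j at *
    interval_cases j
    · exact ⟨18, by omega⟩
    · exact ⟨9, by omega⟩
  obtain ⟨E', hE'⟩ := Sylow.exists_subgroup_card_pow_prime 2 h4
  set E := E'.map C.subtype with hE
  have hE4 : Nat.card E = 4 := by
    rw [hE, Subgroup.card_map_of_injective (subtype_injective C), hE']
    norm_num
  have hEC : E ≤ C := map_subtype_le E'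
  have hEp : IsPGroup 2 E := IsPGroup.of_card (n := 2) (by rw [hE4]; norm_num)
  have hHtop : H ≠ ⊤ := by
    intro h
    rw [h, Subgroup.card_top, hG] at h72
    omega
  have hΩ : Nat.card (G ⧸ H) = 10 := by
    have h1 := Subgroup.card_mul_index H
    rw [h72, hG] at h1
    have h2 : H.index = 10 := by omega
    rw [← h2]
    rfl
  classical
  haveI : Fintype E := Fintype.ofFinite _
  haveI : ∀ a : E, Fintype (fixedBy (G ⧸ H) a) := fun a => Fintype.ofFinite _
  haveI : Fintype (orbitRel.Quotient E (G ⧸ H)) := Fintype.ofFinite _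
  have hB := sum_card_fixedBy_eq_card_orbits_mul_card_group E (G ⧸ H)
  have hf : ∀ a : E, Fintype.card (fixedBy (G ⧸ H) a) = 4 + if a = 1 then 6 else 0 := by
    intro a
    rw [← Nat.card_eq_fintype_card]
    by_cases ha : a = 1
    · rw [if_pos ha, ha]
      have : (fixedBy (G ⧸ H) (1 : E) : Set (G ⧸ H)) = Set.univ := by
        ext ω
        simp
      rw [this, Nat.card_coe_set_eq, Set.ncard_univ, hΩ]
    · rw [if_neg ha]
      have h1 : (a : G) ≠ 1 := fun h => ha (Subtype.ext h)
      have h2 : (a : G) ∈ C := hEC a.2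
      have h3 := card_fixedBy_eq_four hG h40 T hT h72 hm (a : G) (hCH h2) h1
        (fun t ht => mem_centralizer_iff.mp h2 t ht) (hEp.to_le (zpowers_le.mpr a.2))
      exact h3
  rw [Finset.sum_congr rfl (fun a _ => hf a), Finset.sum_add_distrib, Finset.sum_const,
    Finset.sum_ite_eq' Finset.univ (1 : E)] at hB
  simp only [Finset.mem_univ, if_true, Finset.card_univ, smul_eq_mul] at hB
  rw [← Nat.card_eq_fintype_card (α := E), hE4] at hB
  omega

/-- **Part A**: a simple group of order `720` does not have `40` Sylow `3`-subgroups. -/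
theorem false_of_sylow3_forty {G : Type*} [Group G] [Finite G] [IsSimpleGroup G]
    (h : Nat.card G = 720) (h40 : Nat.card (Sylow 3 G) = 40) : False := by
  haveI : Fact (Nat.Prime 2) := ⟨by norm_num⟩
  haveI : Fact (Nat.Prime 3) := ⟨by norm_num⟩
  haveI : Fact (Nat.Prime 5) := ⟨by norm_num⟩
  obtain ⟨P, Q, hPQ, hT⟩ := exists_inter h h40
  obtain ⟨hPH, hQH, hm, h36 | h72⟩ := card_normalizer_inter h P Q hPQ hT
  · exact false_of_card_36 h P Q hT hPH hQH hm h36
  · exact false_of_card_72 h h40 _ hT h72 hm

end Cfsg.Agent.Lib.Helper19.Ord720
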