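import Mathlib
import Cfsg.Agent.Lib.Helper8.RankOne8
import Cfsg.Agent.Lib.Helper12.Generation
import Cfsg.Agent.S1122

/-!
# Auxiliary lemmas for the rank-one set-up (2-rank at least two)

* `two_invol_stab`: two distinct commuting involutions may be taken in `G_a`.
* `exists_K_prime`: an element of prime order in `K = invertedBy D t`.
* `conjQ`: conjugation as an automorphism of a subgroup.
* `exists_mem_center_of_normal`: a nontrivial normal subgroup of a nilpotent group meets the centre.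
* `exists_central_invol`: a finite nilpotent group of even order has a central involution.
* `invol_central`: when `Q` is nilpotent, all involutions of `G_a` are central in `Q`.
* `four_group`, `odd_normal_le_stab`: a normal subgroup of odd order lies in `G_a`.
-/

set_option autoImplicit false

namespace Cfsg.Agent.Lib.Helper19.RankOneAux

open Subgroup MulAction Cfsg.Agent.Lib.Helper8

section Setup

variable {G Ω : Type*} [Group G] [Finite G] [MulAction G Ω] {a : Ω} {t : G} {Q : Subgroup G}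

/-- two distinct commuting involutions give two distinct commuting involutions in `G_a` -/
lemma two_invol_stab (hS : Cfsg.IsRankOneSetup G Ω a t Q)
    (h2 : ∃ x y : G, x ≠ 1 ∧ y ≠ 1 ∧ x ≠ y ∧ x * x = 1 ∧ y * y = 1 ∧ x * y = y * x) :
    ∃ x y : G, x ∈ stabilizer G a ∧ y ∈ stabilizer G a ∧ x ≠ 1 ∧ y ≠ 1 ∧ x ≠ y ∧
      x * x = 1 ∧ y * y = 1 ∧ x * y = y * x := by
  obtain ⟨x, y, hx1, hy1, hxy, hxx, hyy, hc⟩ := h2
  obtain ⟨c, hc1⟩ := RankOne.invol_exists_fix hS hxx
  have hyc : y • c = c := by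
    have h : x • (y • c) = y • c := by rw [← mul_smul, hc, mul_smul, hc1]
    exact RankOne.invol_fix_unique hS hx1 hxx h hc1
  haveI := RankOne.isPretransitive hS
  obtain ⟨g, hg⟩ := MulAction.exists_smul_eq G a c
  have ex : x = g * (g⁻¹ * x * g) * g⁻¹ := by group
  have ey : y = g * (g⁻¹ * y * g) * g⁻¹ := by group
  refine ⟨g⁻¹ * x * g, g⁻¹ * y * g, ?_, ?_, ?_, ?_, ?_, ?_, ?_, ?_⟩
  · show (g⁻¹ * x * g) • a = a
    rw [mul_smul, mul_smul, hg, hc1, ← hg, inv_smul_smul]
  · show (g⁻¹ * y * g) • a = a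
    rw [mul_smul, mul_smul, hg, hyc, ← hg, inv_smul_smul]
  · intro h; apply hx1
    rw [ex, h]; group
  · intro h; apply hy1
    rw [ey, h]; group
  · intro h; apply hxy
    rw [ex, ey, h]
  · calc g⁻¹ * x * g * (g⁻¹ * x * g) = g⁻¹ * (x * x) * g := by group
      _ = 1 := by rw [hxx]; group
  · calc g⁻¹ * y * g * (g⁻¹ * y * g) = g⁻¹ * (y * y) * g := by group
      _ = 1 := by rw [hyy]; group
  · calc g⁻¹ * x * g * (g⁻¹ * y * g) = g⁻¹ * (x * y) * g := by group
      _ = g⁻¹ * (y * x) * g := by rw [hc]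
      _ = g⁻¹ * y * g * (g⁻¹ * x * g) := by group

/-- a nontrivial element of `K` -/
lemma exists_K_ne_one (hS : Cfsg.IsRankOneSetup G Ω a t Q)
    (h2 : ∃ x y : G, x ≠ 1 ∧ y ≠ 1 ∧ x ≠ y ∧ x * x = 1 ∧ y * y = 1 ∧ x * y = y * x) :
    ∃ k ∈ Cfsg.invertedBy (stabilizer G a ⊓ stabilizer G (t • a)) t, k ≠ 1 := by
  obtain ⟨x, y, hxa, hya, hx1, hy1, hxy, hxx, hyy, -⟩ := two_invol_stab hS h2
  obtain ⟨-, hconj⟩ := Cfsg.Agent.S1122.result hS
  obtain ⟨k, hk, hkxy⟩ := hconj x ⟨hxa, hx1, hxx⟩ y ⟨hya, hy1, hyy⟩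
  refine ⟨k, hk, ?_⟩
  intro h
  apply hxy
  rw [h] at hkxy
  simpa using hkxy

/-- an element of prime order in `K` -/
lemma exists_K_prime (hS : Cfsg.IsRankOneSetup G Ω a t Q)
    (h2 : ∃ x y : G, x ≠ 1 ∧ y ≠ 1 ∧ x ≠ y ∧ x * x = 1 ∧ y * y = 1 ∧ x * y = y * x) :
    ∃ k ∈ Cfsg.invertedBy (stabilizer G a ⊓ stabilizer G (t • a)) t, ∃ p : ℕ,
      p.Prime ∧ orderOf k = p := by
  obtain ⟨k, hk, hk1⟩ := exists_K_ne_one hS h2
  have hn : orderOf k ≠ 1 := by
    intro h; exact hk1 (orderOf_eq_one_iff.mp h)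
  have hn0 : 0 < orderOf k := orderOf_pos k
  obtain ⟨p, hp, hpd⟩ := Nat.exists_prime_and_dvd hn
  obtain ⟨m, hm⟩ := hpd
  have hm0 : m ≠ 0 := by
    rintro rfl
    rw [mul_zero] at hm
    omega
  refine ⟨k ^ m, ?_, p, hp, ?_⟩
  · obtain ⟨hkD, hkt⟩ := hk
    refine ⟨(stabilizer G a ⊓ stabilizer G (t • a)).pow_mem hkD m, ?_⟩
    rw [← conj_pow, hkt, inv_pow]
  · rw [orderOf_pow_of_dvd hm0 ⟨p, by rw [hm, mul_comm]⟩, hm]
    exact Nat.mul_div_cancel p (Nat.pos_of_ne_zero hm0)

end Setup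

section Conj

variable {G : Type*} [Group G]

/-- conjugation by an element normalising `Q`, as an automorphism of `Q` -/
def conjQ (Q : Subgroup G) (y : G) (hy : ∀ x ∈ Q, y * x * y⁻¹ ∈ Q)
    (hy' : ∀ x ∈ Q, y⁻¹ * x * y ∈ Q) : ↥Q ≃* ↥Q where
  toFun x := ⟨y * x * y⁻¹, hy x x.2⟩
  invFun x := ⟨y⁻¹ * x * y, hy' x x.2⟩
  left_inv x := Subtype.ext (by simp [mul_assoc])
  right_inv x := Subtype.ext (by simp [mul_assoc])
  map_mul' x z := Subtype.ext (by simp [mul_assoc])

lemma conjQ_apply (Q : Subgroup G) (y : G) (hy : ∀ x ∈ Q, y * x * y⁻¹ ∈ Q)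
    (hy' : ∀ x ∈ Q, y⁻¹ * x * y ∈ Q) (x : Q) :
    ((conjQ Q y hy hy' x : Q) : G) = y * x * y⁻¹ := rfl

lemma conjQ_pow_apply (Q : Subgroup G) (y : G) (hy : ∀ x ∈ Q, y * x * y⁻¹ ∈ Q)
    (hy' : ∀ x ∈ Q, y⁻¹ * x * y ∈ Q) (n : ℕ) (x : Q) :
    ((((conjQ Q y hy hy') ^ n) x : Q) : G) = y ^ n * x * (y ^ n)⁻¹ := by
  induction n generalizing x with
  | zero => simp
  | succ n ih =>
    rw [pow_succ, MulAut.mul_apply, ih, conjQ_apply, pow_succ]
    group

end Conj

section Nilpotent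

variable {H : Type*} [Group H]

/-- a nontrivial normal subgroup of a nilpotent group meets the centre nontrivially -/
lemma exists_mem_center_of_normal [hH : Group.IsNilpotent H] (N : Subgroup H) [hN : N.Normal]
    (hne : ∃ x ∈ N, x ≠ 1) : ∃ x ∈ N, x ∈ Subgroup.center H ∧ x ≠ 1 := by
  classical
  obtain ⟨n0, hn0⟩ := Group.IsNilpotent.nilpotent H
  have hex : ∃ n, ∃ x ∈ N, x ∈ Subgroup.upperCentralSeries H n ∧ x ≠ 1 := by
    obtain ⟨x, hx, hx1⟩ := hne
    exact ⟨n0, x, hx, by rw [hn0]; exact Subgroup.mem_top x, hx1⟩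
  have hmin := fun m (hm : m < Nat.find hex) => Nat.find_min hex hm
  obtain ⟨x, hxN, hxZ, hx1⟩ := Nat.find_spec hex
  rcases hn : Nat.find hex with _ | m
  · rw [hn, Subgroup.upperCentralSeries_zero, Subgroup.mem_bot] at hxZ
    exact absurd hxZ hx1
  · rw [hn] at hxZ
    refine ⟨x, hxN, ?_, hx1⟩
    rw [Subgroup.mem_center_iff]
    intro g
    have hc : x * g * x⁻¹ * g⁻¹ ∈ Subgroup.upperCentralSeries H m :=
      (Subgroup.mem_upperCentralSeries_succ_iff).mp hxZ g
    have hcN : x * g * x⁻¹ * g⁻¹ ∈ N := by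
      have h1 : g * x⁻¹ * g⁻¹ ∈ N := hN.conj_mem _ (N.inv_mem hxN) g
      have h2 := N.mul_mem hxN h1
      have e : x * (g * x⁻¹ * g⁻¹) = x * g * x⁻¹ * g⁻¹ := by group
      rwa [e] at h2
    by_contra hne'
    have hlt : m < Nat.find hex := by rw [hn]; exact Nat.lt_succ_self m
    apply hmin m hlt
    refine ⟨_, hcN, hc, ?_⟩
    intro h1
    apply hne'
    calc g * x = (x * g * x⁻¹ * g⁻¹)⁻¹ * (x * g) := by group
      _ = x * g := by rw [h1, inv_one, one_mul]

/-- a finite nilpotent group of even order has a central involution -/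
lemma exists_central_invol [Finite H] [Group.IsNilpotent H] (heven : Even (Nat.card H)) :
    ∃ z : H, z ∈ Subgroup.center H ∧ z ≠ 1 ∧ z * z = 1 := by
  haveI : Fact (Nat.Prime 2) := ⟨Nat.prime_two⟩
  obtain ⟨P⟩ : Nonempty (Sylow 2 H) := inferInstance
  haveI hPn : (P : Subgroup H).Normal := inferInstance
  have hPne : (P : Subgroup H) ≠ ⊥ := P.ne_bot_of_dvd_card heven.two_dvd
  obtain ⟨x0, hx0⟩ := Subgroup.ne_bot_iff_exists_ne_one.mp hPne
  obtain ⟨x, hxP, hxZ, hx1⟩ := exists_mem_center_of_normal (P : Subgroup H)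
    ⟨x0, x0.2, fun h => hx0 (Subtype.ext h)⟩
  obtain ⟨k, hk⟩ := (IsPGroup.iff_orderOf.mp P.isPGroup') ⟨x, hxP⟩
  rw [Subgroup.orderOf_mk] at hk
  have hk0 : k ≠ 0 := by
    rintro rfl
    rw [pow_zero, orderOf_eq_one_iff] at hk
    exact hx1 hk
  obtain ⟨m, rfl⟩ : ∃ m, k = m + 1 := Nat.exists_eq_succ_of_ne_zero hk0
  refine ⟨x ^ 2 ^ m, Subgroup.pow_mem _ hxZ _, ?_, ?_⟩
  · intro h
    have hd : orderOf x ∣ 2 ^ m := orderOf_dvd_of_pow_eq_one h
    rw [hk] at hd
    have := (Nat.pow_dvd_pow_iff_le_right (by norm_num : 1 < 2)).mp hd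
    omega
  · rw [← pow_add, ← two_mul, ← pow_succ', ← hk, pow_orderOf_eq_one]

end Nilpotent

section Setup2

variable {G Ω : Type*} [Group G] [Finite G] [MulAction G Ω] {a : Ω} {t : G} {Q : Subgroup G}

/-- when `Q` is nilpotent, every involution of `G_a` lies in `Z(Q)` -/
lemma invol_central (hS : Cfsg.IsRankOneSetup G Ω a t Q) (hnil : Group.IsNilpotent Q) {s : G}
    (hs : s ∈ Cfsg.involutionsIn (stabilizer G a : Set G)) :
    s ∈ Q ∧ ∀ x ∈ Q, s * x = x * s := by
  obtain ⟨hsa, hs1, hss⟩ := hs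
  refine ⟨RankOne.invol_mem_Q hS hsa hss, ?_⟩
  haveI := hnil
  obtain ⟨z, hzZ, hz1, hzz⟩ := exists_central_invol (H := ↥Q) hS.even_card
  have hzI : (z : G) ∈ Cfsg.involutionsIn (stabilizer G a : Set G) :=
    ⟨hS.le z.2, fun h => hz1 (Subtype.ext h), congrArg Subtype.val hzz⟩
  obtain ⟨k, hk, hks⟩ := (Cfsg.Agent.S1122.result hS).2 (z : G) hzI s ⟨hsa, hs1, hss⟩
  have hkD : k ∈ RankOne.D G a t := hk.1
  intro x hx
  have hkx : k * x * k⁻¹ ∈ Q := RankOne.conj_D_mem hS hkD hx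
  have hcomm : (z : G) * (k * x * k⁻¹) = (k * x * k⁻¹) * z := by
    have h := Subgroup.mem_center_iff.mp hzZ ⟨k * x * k⁻¹, hkx⟩
    exact (congrArg Subtype.val h).symm
  rw [← hks]
  calc k⁻¹ * z * k * x = k⁻¹ * (z * (k * x * k⁻¹)) * k := by group
    _ = k⁻¹ * ((k * x * k⁻¹) * z) * k := by rw [hcomm]
    _ = x * (k⁻¹ * z * k) := by group

omit [Finite G] in
/-- the subgroup generated by two commuting involutions is commutative of exponent two -/
lemma four_group {x y : G} (hxx : x * x = 1) (hyy : y * y = 1)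
    (hc : x * y = y * x) :
    (∀ u ∈ closure ({x, y} : Set G), ∀ v ∈ closure ({x, y} : Set G), u * v = v * u) ∧
    (∀ u ∈ closure ({x, y} : Set G), u ^ 2 = 1) := by
  have hS1 : ∀ s ∈ ({x, y} : Set G), ∀ s' ∈ ({x, y} : Set G), s * s' = s' * s := by
    intro s hs s' hs'
    simp only [Set.mem_insert_iff, Set.mem_singleton_iff] at hs hs'
    rcases hs with h | h
    · rcases hs' with h' | h'
      · rw [h, h']
      · rw [h, h']; exact hc
    · rcases hs' with h' | h'
      · rw [h, h']; exact hc.symm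
      · rw [h, h']
  have h1 : closure ({x, y} : Set G) ≤ centralizer ({x, y} : Set G) := by
    rw [closure_le]
    intro s hs
    rw [SetLike.mem_coe, mem_centralizer_iff]
    intro s' hs'
    exact hS1 s' hs' s hs
  have hcomm : ∀ u ∈ closure ({x, y} : Set G), ∀ v ∈ closure ({x, y} : Set G),
      u * v = v * u := by
    intro u hu v hv
    have hv' := mem_centralizer_iff.mp (h1 hv)
    have h2 : closure ({x, y} : Set G) ≤ centralizer ({v} : Set G) := by
      rw [closure_le]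
      intro s hs
      rw [SetLike.mem_coe, mem_centralizer_iff]
      intro w hw
      rw [Set.mem_singleton_iff] at hw
      rw [hw]
      exact (hv' s hs).symm
    have h3 := mem_centralizer_iff.mp (h2 hu) v (Set.mem_singleton v)
    exact h3.symm
  refine ⟨hcomm, ?_⟩
  intro u hu
  refine closure_induction (p := fun u _ => u ^ 2 = 1) ?_ ?_ ?_ ?_ hu
  · intro s hs
    simp only [Set.mem_insert_iff, Set.mem_singleton_iff] at hs
    rcases hs with h | h
    · rw [h, pow_two, hxx]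
    · rw [h, pow_two, hyy]
  · exact one_pow 2
  · intro a b ha hb iha ihb
    have iha' : a ^ 2 = 1 := iha
    have ihb' : b ^ 2 = 1 := ihb
    show (a * b) ^ 2 = 1
    rw [(show Commute a b from hcomm a ha b hb).mul_pow, iha', ihb', one_mul]
  · intro a ha iha
    have iha' : a ^ 2 = 1 := iha
    show a⁻¹ ^ 2 = 1
    rw [inv_pow, iha', inv_one]

/-- a normal subgroup of odd order lies in `G_a` when `G` has two commuting involutions -/
lemma odd_normal_le_stab (hS : Cfsg.IsRankOneSetup G Ω a t Q)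
    (h2 : ∃ x y : G, x ≠ 1 ∧ y ≠ 1 ∧ x ≠ y ∧ x * x = 1 ∧ y * y = 1 ∧ x * y = y * x)
    (N : Subgroup G) (hNn : N.Normal) (hNc : (Nat.card N).Coprime 2) :
    N ≤ stabilizer G a := by
  classical
  obtain ⟨x, y, hxa, hya, hx1, hy1, hxy, hxx, hyy, hc⟩ := two_invol_stab hS h2
  haveI : Fact (Nat.Prime 2) := ⟨Nat.prime_two⟩
  obtain ⟨hcomm, hexp⟩ := four_group hxx hyy hc
  have hAN : closure ({x, y} : Set G) ≤ normalizer (N : Set G) := by
    intro g _
    rw [mem_normalizer_iff]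
    intro n
    constructor
    · intro h; exact hNn.conj_mem n h g
    · intro h
      have h' := hNn.conj_mem _ h g⁻¹
      have e : g⁻¹ * (g * n * g⁻¹) * g⁻¹⁻¹ = n := by group
      rwa [e] at h'
  have hpN : ¬ 2 ∣ Nat.card N := (Nat.Prime.coprime_iff_not_dvd Nat.prime_two).mp hNc.symm
  have hcard : 2 < Nat.card (closure ({x, y} : Set G)) := by
    have h3 : ({1, x, y} : Set G).ncard = 3 :=
      Set.ncard_eq_three.mpr ⟨1, x, y, hx1.symm, hy1.symm, hxy, rfl⟩
    have hsub : ({1, x, y} : Set G) ⊆ (closure ({x, y} : Set G) : Set G) := by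
      intro g hg
      simp only [Set.mem_insert_iff, Set.mem_singleton_iff] at hg
      rcases hg with h | h | h
      · rw [h]; exact (closure ({x, y} : Set G)).one_mem
      · rw [h]; exact subset_closure (Set.mem_insert _ _)
      · rw [h]; exact subset_closure (Set.mem_insert_of_mem _ rfl)
    have hle := Set.ncard_le_ncard hsub (Set.toFinite _)
    have hcard_eq : Nat.card (closure ({x, y} : Set G)) =
        ((closure ({x, y} : Set G) : Subgroup G) : Set G).ncard :=
      Nat.card_coe_set_eq _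
    omega
  have hgen := Cfsg.Agent.Lib.Helper12.le_genC_of_card hcomm hexp hAN hpN hcard
  refine hgen.trans ?_
  unfold Cfsg.Agent.Lib.Helper12.genC
  refine iSup_le fun v => ?_
  obtain ⟨v, hvA, hv1⟩ := v
  rintro g ⟨hgN, hgC⟩
  have hva : v ∈ stabilizer G a := by
    have hle : closure ({x, y} : Set G) ≤ stabilizer G a := by
      rw [closure_le]
      intro s hs
      simp only [Set.mem_insert_iff, Set.mem_singleton_iff] at hs
      rcases hs with h | h
      · rw [h]; exact hxa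
      · rw [h]; exact hya
    exact hle hvA
  have hvv : v * v = 1 := by rw [← pow_two]; exact hexp v hvA
  have hgv : v * g = g * v := mem_centralizer_iff.mp hgC v (Set.mem_singleton v)
  show g • a = a
  have hfix : v • (g • a) = g • a := by
    rw [← mul_smul, hgv, mul_smul, show v • a = a from hva]
  exact RankOne.invol_fix_only hS hva hv1 hvv hfix

end Setup2

end Cfsg.Agent.Lib.Helper19.RankOneAux
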