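import Mathlib
import Cfsg.Agent.Lib.Helper29.S2222Defs

/-!
# S2222 FO-2 (helper19, for helper29): `covered_of_sylow`

A Sylow 2-subgroup of `Perm α` leaves at most one point uncovered by its transpositions.
-/

set_option autoImplicit false

namespace Cfsg.Agent.Lib.Helper19.S2222

open Equiv

universe u

/-- the pairing `2k ↔ 2k+1` on `{0, …, n-1}` (the last point is fixed when `n` is odd). -/
def pairNat (n k : ℕ) : ℕ :=
  if k % 2 = 0 then (if k + 1 < n then k + 1 else k) else k - 1

theorem pairNat_lt {n k : ℕ} (h : k < n) : pairNat n k < n := by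
  unfold pairNat; split_ifs <;> omega

theorem pairNat_pairNat {n k : ℕ} (h : k < n) : pairNat n (pairNat n k) = k := by
  unfold pairNat; split_ifs <;> omega

theorem pairNat_fixed {n k : ℕ} (h : k < n) (hf : pairNat n k = k) : k + 1 = n := by
  unfold pairNat at hf; split_ifs at hf <;> omega

section

variable {α : Type u} [DecidableEq α] [Finite α]

/-- an involution of `α` with at most one fixed point -/
theorem exists_pairing (α : Type u) [Finite α] :
    ∃ p : α → α, (∀ x, p (p x) = x) ∧ (∀ x y, p x = x → p y = y → x = y) := by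
  obtain ⟨n, ⟨e⟩⟩ := Finite.exists_equiv_fin α
  refine ⟨fun x => e.symm ⟨pairNat n (e x), pairNat_lt (e x).2⟩, ?_, ?_⟩
  · intro x
    apply e.injective
    simp only [Equiv.apply_symm_apply]
    apply Fin.ext
    simp only
    exact pairNat_pairNat (e x).2
  · intro x y hx hy
    apply e.injective
    apply Fin.ext
    have hx' : pairNat n (e x) = e x := by
      have := congrArg (fun z => ((e z : Fin n) : ℕ)) hx
      simpa using this
    have hy' : pairNat n (e y) = e y := by
      have := congrArg (fun z => ((e z : Fin n) : ℕ)) hy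
      simpa using this
    have h1 := pairNat_fixed (e x).2 hx'
    have h2 := pairNat_fixed (e y).2 hy'
    omega

/-- two transpositions coming from an involution `p` commute -/
theorem swap_pair_comm {p : α → α} (hp : ∀ x, p (p x) = x) (x y : α) :
    swap x (p x) * swap y (p y) = swap y (p y) * swap x (p x) := by
  by_cases h1 : y = x
  · rw [h1]
  by_cases h2 : y = p x
  · rw [h2, hp x, swap_comm]
  have h3 : p y ≠ x := by
    intro h; apply h2; rw [← h, hp]
  have h4 : p y ≠ p x := by
    intro h; apply h1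
    have := congrArg p h
    rwa [hp, hp] at this
  have hd : Perm.Disjoint (swap x (p x)) (swap y (p y)) := by
    intro z
    by_cases hz1 : z = x
    · right; rw [hz1]; exact swap_apply_of_ne_of_ne (Ne.symm h1) (Ne.symm h3)
    by_cases hz2 : z = p x
    · right; rw [hz2]; exact swap_apply_of_ne_of_ne (Ne.symm h2) (Ne.symm h4)
    · left; exact swap_apply_of_ne_of_ne hz1 hz2
  exact hd.commute.eq

theorem covered_of_sylow (S : Sylow 2 (Perm α)) {a b : α}
    (ha : ∀ c, c ≠ a → swap a c ∉ (S : Subgroup (Perm α)))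
    (hb : ∀ c, c ≠ b → swap b c ∉ (S : Subgroup (Perm α))) : a = b := by
  have := Fintype.ofFinite α
  obtain ⟨p, hp, hfix⟩ := exists_pairing α
  set M : Set (Perm α) := {τ | ∃ x, τ = swap x (p x)} with hM
  have hcomm : ∀ τ ∈ M, ∀ τ' ∈ M, τ * τ' = τ' * τ := by
    rintro τ ⟨x, rfl⟩ τ' ⟨y, rfl⟩
    exact swap_pair_comm hp x y
  set E : Subgroup (Perm α) := Subgroup.closure M with hE
  -- E is commutative
  have hEcomm : ∀ g ∈ E, ∀ h ∈ E, g * h = h * g := by
    intro g hg h hh
    have hc : IsMulCommutative E := Subgroup.isMulCommutative_closure hcomm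
    have := hc.is_comm.comm (⟨g, hg⟩ : E) ⟨h, hh⟩
    exact congrArg Subtype.val this
  have hsq : ∀ g ∈ E, g ^ 2 = 1 := by
    intro g hg
    induction hg using Subgroup.closure_induction with
    | mem τ hτ =>
      obtain ⟨x, rfl⟩ := hτ
      rw [pow_two, swap_mul_self]
    | one => simp
    | mul x y hx hy ihx ihy =>
      have hc : Commute x y := hEcomm x hx y hy
      rw [hc.mul_pow, ihx, ihy, one_mul]
    | inv x hx ihx =>
      rw [inv_pow, ihx, inv_one]
  have hEp : IsPGroup 2 E := by
    intro g
    refine ⟨1, ?_⟩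
    apply Subtype.ext
    have := hsq g.1 g.2
    simpa using this
  obtain ⟨S₀, hES₀⟩ := hEp.exists_le_sylow
  obtain ⟨g, hg⟩ := MulAction.exists_smul_eq (Perm α) S₀ S
  -- transport
  have hmemS : ∀ τ ∈ (S₀ : Subgroup (Perm α)), g * τ * g⁻¹ ∈ (S : Subgroup (Perm α)) := by
    intro τ hτ
    rw [← hg, Sylow.coe_subgroup_smul]
    have := Subgroup.smul_mem_pointwise_smul τ (MulAut.conj g) (S₀ : Subgroup (Perm α)) hτ
    simpa [MulAut.smul_def, MulAut.conj_apply] using this
  have key : ∀ a : α, (∀ c, c ≠ a → swap a c ∉ (S : Subgroup (Perm α))) → p (g⁻¹ a) = g⁻¹ a := by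
    intro a ha
    by_contra hne
    have h1 : swap (g⁻¹ a) (p (g⁻¹ a)) ∈ (S₀ : Subgroup (Perm α)) :=
      hES₀ (Subgroup.subset_closure ⟨g⁻¹ a, rfl⟩)
    have h2 := hmemS _ h1
    rw [← swap_apply_apply] at h2
    have h3 : g (g⁻¹ a) = a := by simp
    rw [h3] at h2
    refine ha _ ?_ h2
    intro h4
    apply hne
    apply g.injective
    rw [h4, h3]
  have h1 := key a ha
  have h2 := key b hb
  have h3 := hfix _ _ h1 h2
  have := congrArg g h3
  simpa using this

end

end Cfsg.Agent.Lib.Helper19.S2222
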