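import Mathlib
import Cfsg.Agent.Lib.Helper29.S2222Defs

/-!
# S2222 FO-6 (helper19, for helper29): `edge_mem_of_even_le`

If a subgroup `S'` of `Perm α` whose transpositions form a matching covering all but at most one
point contains `(a b)(c d)` and `(a b)(e f)` (six distinct points), then it contains `(a b)`.
-/

set_option autoImplicit false

namespace Cfsg.Agent.Lib.Helper19.S2222

open Equiv

universe u

variable {α : Type u} [DecidableEq α] [Finite α]

/-- conjugating a transposition of `S'` by an element of `S'`. -/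
theorem swap_conj_mem (S' : Subgroup (Perm α)) {σ : Perm α} (hσ : σ ∈ S') {x y : α}
    (h : swap x y ∈ S') : swap (σ x) (σ y) ∈ S' := by
  rw [swap_apply_apply]
  exact S'.mul_mem (S'.mul_mem hσ h) (S'.inv_mem hσ)

theorem edge_mem_of_even_le (S' : Subgroup (Perm α))
    (huniq : ∀ x y z : α, y ≠ x → z ≠ x → swap x y ∈ S' → swap x z ∈ S' → y = z)
    (hcov : ∀ x y : α, (∀ z, z ≠ x → swap x z ∉ S') → (∀ z, z ≠ y → swap y z ∉ S') → x = y)
    {a b c d e f : α} (hab : a ≠ b) (hac : a ≠ c) (had : a ≠ d) (hae : a ≠ e) (haf : a ≠ f)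
    (hbc : b ≠ c) (hbd : b ≠ d) (hbe : b ≠ e) (hbf : b ≠ f) (hcd : c ≠ d) (hce : c ≠ e)
    (hcf : c ≠ f) (hde : d ≠ e) (hdf : d ≠ f) (hef : e ≠ f)
    (h1 : swap a b * swap c d ∈ S') (h2 : swap a b * swap e f ∈ S') : swap a b ∈ S' := by
  set σ : Perm α := swap a b * swap c d with hσ
  set σ' : Perm α := swap a b * swap e f with hσ'
  have hσa : σ a = b := by
    simp [hσ, Perm.mul_apply, swap_apply_of_ne_of_ne hac had]
  have hσ'a : σ' a = b := by
    simp [hσ', Perm.mul_apply, swap_apply_of_ne_of_ne hae haf]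
  have hσb : σ b = a := by
    simp [hσ, Perm.mul_apply, swap_apply_of_ne_of_ne hbc hbd]
  -- (1) `a` is covered
  have hcova : ∃ x, x ≠ a ∧ swap a x ∈ S' := by
    by_contra hno
    push_neg at hno
    have hbun : ∀ z, z ≠ b → swap b z ∉ S' := by
      intro z hz hmem
      have h3 := swap_conj_mem S' h1 hmem
      rw [hσb] at h3
      have hne : σ z ≠ a := by
        intro h4
        apply hz
        apply σ.injective
        rw [h4, hσb]
      exact hno _ hne h3
    exact hab (hcov a b hno hbun)
  obtain ⟨x, hxa, hx⟩ := hcova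
  by_cases hxb : x = b
  · rw [hxb] at hx; exact hx
  exfalso
  have h3 : swap b (σ x) ∈ S' := by
    have := swap_conj_mem S' h1 hx
    rwa [hσa] at this
  have h4 : swap b (σ' x) ∈ S' := by
    have := swap_conj_mem S' h2 hx
    rwa [hσ'a] at this
  have hne3 : σ x ≠ b := by
    intro h5
    apply hxa
    apply σ.injective
    rw [h5, hσa]
  have hne4 : σ' x ≠ b := by
    intro h5
    apply hxa
    apply σ'.injective
    rw [h5, hσ'a]
  have heq : σ x = σ' x := huniq b _ _ hne3 hne4 h3 h4
  -- compute both sides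
  have hσx : σ x = swap c d x := by
    simp only [hσ, Perm.mul_apply]
    apply swap_apply_of_ne_of_ne
    · intro h5
      rcases swap_apply_eq_iff.mp h5 with h6
      -- swap c d x = a  ↔ x = swap c d a = a
      rw [swap_apply_of_ne_of_ne hac had] at h6
      exact hxa h6
    · intro h5
      rcases swap_apply_eq_iff.mp h5 with h6
      rw [swap_apply_of_ne_of_ne hbc hbd] at h6
      exact hxb h6
  have hσ'x : σ' x = swap e f x := by
    simp only [hσ', Perm.mul_apply]
    apply swap_apply_of_ne_of_ne
    · intro h5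
      rcases swap_apply_eq_iff.mp h5 with h6
      rw [swap_apply_of_ne_of_ne hae haf] at h6
      exact hxa h6
    · intro h5
      rcases swap_apply_eq_iff.mp h5 with h6
      rw [swap_apply_of_ne_of_ne hbe hbf] at h6
      exact hxb h6
  rw [hσx, hσ'x] at heq
  by_cases hxc : x = c
  · rw [hxc, swap_apply_left, swap_apply_of_ne_of_ne hce hcf] at heq
    exact hcd heq.symm
  by_cases hxd : x = d
  · rw [hxd, swap_apply_right, swap_apply_of_ne_of_ne hde hdf] at heq
    exact hcd heq
  have hcdx : swap c d x = x := swap_apply_of_ne_of_ne hxc hxd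
  by_cases hxe : x = e
  · rw [hcdx, hxe, swap_apply_left] at heq
    exact hef heq
  by_cases hxf : x = f
  · rw [hcdx, hxf, swap_apply_right] at heq
    exact hef heq.symm
  -- x is outside all six points: σ x = x
  rw [hσx, hcdx] at h3
  have h5 : swap x a ∈ S' := by rw [swap_comm]; exact hx
  have h6 : swap x b ∈ S' := by rw [swap_comm]; exact h3
  exact hab (huniq x a b (Ne.symm hxa) (Ne.symm hxb) h5 h6)

end Cfsg.Agent.Lib.Helper19.S2222
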