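import Mathlib
import Cfsg.Prelude.Def_TwoFusion

/-!
# S3313 (order of a simple group with the Hall–Janko involution pattern): the setting

`HJ z t Q K V B` packages the local data used in the two Thompson counts:
`C(z) = K Q` with `Q` normal of order 32 (squares and commutators in `{1, z}`), `K ≅ A₅`,
`C(t) = V × B` with `V` a four-group containing `t`, `B ≅ A₅`, and the fusion pattern.
-/

set_option autoImplicit false

namespace Cfsg.Agent.Lib.Helper19.S3313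

/-- The Hall–Janko involution pattern, in ambient-subgroup form. -/
structure HJ {G : Type*} [Group G] (z t : G) (Q K V B : Subgroup G) : Prop where
  hz : orderOf z = 2
  ht : orderOf t = 2
  hzt : ¬ IsConj z t
  zQ : z ∈ Q
  QC : Q ≤ Subgroup.centralizer ({z} : Set G)
  Qnorm : ∀ c ∈ Subgroup.centralizer ({z} : Set G), ∀ x ∈ Q, c * x * c⁻¹ ∈ Q
  Qcard : Nat.card Q = 32
  Qsq : ∀ x ∈ Q, x ^ 2 = 1 ∨ x ^ 2 = z
  Qcomm : ∀ x ∈ Q, ∀ y ∈ Q, x * y * x⁻¹ * y⁻¹ = 1 ∨ x * y * x⁻¹ * y⁻¹ = z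
  Qinv : Nat.card {x : G // x ∈ Q ∧ x ^ 2 = 1} = 12 ∨ Nat.card {x : G // x ∈ Q ∧ x ^ 2 = 1} = 20
  KA5 : Nonempty (K ≃* alternatingGroup (Fin 5))
  KQ : K ⊔ Q = Subgroup.centralizer ({z} : Set G)
  KQbot : K ⊓ Q = ⊥
  hQz : ∀ x ∈ Q, orderOf x = 2 → IsConj x z
  hCz : ∀ x ∈ Subgroup.centralizer ({z} : Set G), orderOf x = 2 → x ∉ Q → IsConj x t
  hVB : Cfsg.IsInternalDirectProduct V B (Subgroup.centralizer ({t} : Set G))
  hV : Nat.card V = 4
  hV2 : ∀ v ∈ V, v ^ 2 = 1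
  htV : t ∈ V
  BA5 : Nonempty (B ≃* alternatingGroup (Fin 5))
  hBz : ∀ x ∈ B, orderOf x = 2 → IsConj x z
  hCt : ∀ x ∈ Subgroup.centralizer ({t} : Set G), orderOf x = 2 → x ∉ B → IsConj x t

end Cfsg.Agent.Lib.Helper19.S3313
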