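import Cfsg.Prelude.Def_Local
import Cfsg.Agent.Lib.Helper19.S3313Defs
import Cfsg.Agent.Lib.Helper1.ExtraspecialTwo
import Cfsg.Agent.Lib.Helper9.BenderMax2
import Cfsg.Agent.Lib.Helper16.PCore

/-!
# S3313, piece FO-BR: the bridge from the hypotheses of the statement to `HJ`
-/

set_option autoImplicit false
open Cfsg
open scoped commutatorElement

namespace Cfsg.Agent.Lib.Helper19.S3313

variable {G : Type*} [Group G] [Finite G]

/-- `F*(X) = O₂(X)` when `F*(X)` is a 2-group. -/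
theorem gfs_eq_pCore_of_isPGroup {X : Type*} [Group X] [Finite X]
    (hp : IsPGroup 2 ↥(Cfsg.generalizedFittingSubgroup X)) :
    Cfsg.generalizedFittingSubgroup X = Cfsg.pCore 2 X := by
  have : Fact (Nat.Prime 2) := ⟨Nat.prime_two⟩
  apply le_antisymm
  · exact Cfsg.Agent.Lib.Helper16.le_pCore _ Cfsg.Agent.Lib.Helper9.BenderMax.gfs_normal' hp
  · exact Cfsg.Agent.Lib.Helper9.BenderMax.pCore_map_le_gfs_map 2

/-- facts about `O₂(X)` when `F*(X)` is extraspecial of order 32 and `z₁ ≠ 1` is central in `X`. -/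
theorem core_facts {X : Type*} [Group X] [Finite X]
    (hex : Cfsg.IsExtraspecial 2 ↥(Cfsg.generalizedFittingSubgroup X))
    (hQ : Nat.card ↥(Cfsg.pCore 2 X) = 32)
    (z₁ : X) (hz1 : z₁ ≠ 1) (hz2 : z₁ ^ 2 = 1) (hzc : ∀ x : X, x * z₁ = z₁ * x) :
    z₁ ∈ Cfsg.pCore 2 X ∧
    (∀ x ∈ Cfsg.pCore 2 X, x ^ 2 = 1 ∨ x ^ 2 = z₁) ∧
    (∀ x ∈ Cfsg.pCore 2 X, ∀ y ∈ Cfsg.pCore 2 X,
      x * y * x⁻¹ * y⁻¹ = 1 ∨ x * y * x⁻¹ * y⁻¹ = z₁) ∧
    (Nat.card {x : X // x ∈ Cfsg.pCore 2 X ∧ x ^ 2 = 1} = 12 ∨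
      Nat.card {x : X // x ∈ Cfsg.pCore 2 X ∧ x ^ 2 = 1} = 20) := by
  have : Fact (Nat.Prime 2) := ⟨Nat.prime_two⟩
  have hFQ : Cfsg.generalizedFittingSubgroup X = Cfsg.pCore 2 X :=
    gfs_eq_pCore_of_isPGroup hex.1.1
  rw [hFQ] at hex
  -- z₁ ∈ O₂(X)
  have hzmem : z₁ ∈ Cfsg.pCore 2 X := by
    have hn : (Subgroup.zpowers z₁).Normal := by
      refine ⟨fun n hn g => ?_⟩
      obtain ⟨k, rfl⟩ := Subgroup.mem_zpowers_iff.mp hn
      have hc : g * z₁ ^ k * g⁻¹ = z₁ ^ k := by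
        have : Commute g z₁ := hzc g
        have h2 : Commute g (z₁ ^ k) := this.zpow_right k
        rw [h2.eq]; group
      rw [hc]; exact Subgroup.zpow_mem_zpowers z₁ k
    have hpg : IsPGroup 2 ↥(Subgroup.zpowers z₁) := by
      apply IsPGroup.of_card (n := 1)
      rw [Nat.card_zpowers]
      have : orderOf z₁ = 2 := orderOf_eq_prime hz2 hz1
      rw [this]; rfl
    exact Cfsg.Agent.Lib.Helper16.le_pCore _ hn hpg (Subgroup.mem_zpowers z₁)
  obtain ⟨z₀, S⟩ := Cfsg.Agent.Lib.Helper1.ExtraspecialTwo.exists_setting hex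
  -- identify z₀
  have hz0 : z₀ = ⟨z₁, hzmem⟩ := by
    have hc : (⟨z₁, hzmem⟩ : ↥(Cfsg.pCore 2 X)) ∈ Subgroup.center ↥(Cfsg.pCore 2 X) := by
      rw [Subgroup.mem_center_iff]
      intro g
      apply Subtype.ext
      exact hzc g
    rcases S.center_cases hc with h | h
    · exact absurd (congrArg Subtype.val h) hz1
    · exact h.symm
  subst hz0
  refine ⟨hzmem, ?_, ?_, ?_⟩
  · intro x hx
    rcases S.sq_cases ⟨x, hx⟩ with h | h
    · left; exact congrArg Subtype.val h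
    · right; exact congrArg Subtype.val h
  · intro x hx y hy
    rcases S.comm_cases ⟨x, hx⟩ ⟨y, hy⟩ with h | h
    · left
      have := congrArg Subtype.val h
      simpa [commutatorElement_def] using this
    · right
      have := congrArg Subtype.val h
      simpa [commutatorElement_def] using this
  · obtain ⟨m, hm1, hm, hform⟩ :=
      Cfsg.Agent.Lib.Helper1.ExtraspecialTwo.card_sq_eq_one_formula hex
    have hm2 : m = 2 := by
      rw [hQ] at hm
      have h32 : (32 : ℕ) = 2 ^ 5 := by norm_num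
      rw [h32] at hm
      have := Nat.pow_right_injective (le_refl 2) hm
      omega
    subst hm2
    have e : {x : X // x ∈ Cfsg.pCore 2 X ∧ x ^ 2 = 1} ≃
        {x : ↥(Cfsg.pCore 2 X) // x ^ 2 = 1} :=
      { toFun := fun x => ⟨⟨x.1, x.2.1⟩, Subtype.ext x.2.2⟩
        invFun := fun x => ⟨x.1.1, x.1.2, congrArg Subtype.val x.2⟩
        left_inv := fun x => rfl
        right_inv := fun x => rfl }
    rw [Nat.card_congr e]
    rcases hform with h | h
    · right; rw [h]; norm_num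
    · left; rw [h]; norm_num

/-- FO-BR -/
theorem hj_of_hyps (z t : G) (hz : orderOf z = 2) (ht : orderOf t = 2)
    (hzt : ¬ IsConj z t)
    (hex : Cfsg.IsExtraspecial 2 ↥(Cfsg.generalizedFittingSubgroup ↥(Subgroup.centralizer ({z} : Set G))))
    (hQ : Nat.card ↥(Cfsg.pCore 2 ↥(Subgroup.centralizer ({z} : Set G))) = 32)
    (K : Subgroup G) (hK : Nonempty (↥K ≃* alternatingGroup (Fin 5)))
    (hKC : K ⊔ (Cfsg.pCore 2 ↥(Subgroup.centralizer ({z} : Set G))).map (Subgroup.centralizer ({z} : Set G)).subtype = Subgroup.centralizer ({z} : Set G))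
    (hKQ : K ⊓ (Cfsg.pCore 2 ↥(Subgroup.centralizer ({z} : Set G))).map (Subgroup.centralizer ({z} : Set G)).subtype = ⊥)
    (hQz : ∀ x ∈ (Cfsg.pCore 2 ↥(Subgroup.centralizer ({z} : Set G))).map (Subgroup.centralizer ({z} : Set G)).subtype, orderOf x = 2 → IsConj x z)
    (hCz : ∀ x ∈ Subgroup.centralizer ({z} : Set G), orderOf x = 2 →
      x ∉ (Cfsg.pCore 2 ↥(Subgroup.centralizer ({z} : Set G))).map (Subgroup.centralizer ({z} : Set G)).subtype → IsConj x t)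
    (V B : Subgroup G) (hVB : Cfsg.IsInternalDirectProduct V B (Subgroup.centralizer ({t} : Set G)))
    (hV : Nat.card ↥V = 4) (hV2 : ∀ v ∈ V, v ^ 2 = 1) (htV : t ∈ V) (hB : Nonempty (↥B ≃* alternatingGroup (Fin 5)))
    (hBz : ∀ x ∈ B, orderOf x = 2 → IsConj x z)
    (hCt : ∀ x ∈ Subgroup.centralizer ({t} : Set G), orderOf x = 2 → x ∉ B → IsConj x t) :
    HJ z t ((Cfsg.pCore 2 ↥(Subgroup.centralizer ({z} : Set G))).map (Subgroup.centralizer ({z} : Set G)).subtype) K V B := by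
  set C : Subgroup G := Subgroup.centralizer ({z} : Set G) with hC
  have hzC : z ∈ C := by
    rw [hC, Subgroup.mem_centralizer_iff]
    intro y hy
    rw [Set.mem_singleton_iff] at hy
    rw [hy]
  have hz1 : z ≠ 1 := by
    intro h
    rw [h, orderOf_one] at hz
    omega
  have hz2 : z ^ 2 = 1 := by rw [← hz]; exact pow_orderOf_eq_one z
  obtain ⟨f1, f2, f3, f4⟩ := core_facts (X := ↥C) hex hQ ⟨z, hzC⟩
    (fun h => hz1 (congrArg Subtype.val h)) (Subtype.ext hz2)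
    (fun x => by
      apply Subtype.ext
      have hx : (x : G) ∈ Subgroup.centralizer ({z} : Set G) := x.2
      exact ((Subgroup.mem_centralizer_iff.mp hx) z (Set.mem_singleton z)).symm)
  have hmemQ : ∀ x : G, x ∈ (Cfsg.pCore 2 ↥C).map C.subtype ↔
      ∃ hx : x ∈ C, (⟨x, hx⟩ : ↥C) ∈ Cfsg.pCore 2 ↥C := by
    intro x
    constructor
    · rintro ⟨y, hy, rfl⟩
      exact ⟨y.2, hy⟩
    · rintro ⟨hx, hy⟩
      exact ⟨⟨x, hx⟩, hy, rfl⟩
  refine
    { hz := hz, ht := ht, hzt := hzt, zQ := ?_, QC := ?_, Qnorm := ?_, Qcard := ?_, Qsq := ?_,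
      Qcomm := ?_, Qinv := ?_, KA5 := hK, KQ := hKC, KQbot := hKQ, hQz := hQz, hCz := hCz,
      hVB := hVB, hV := hV, hV2 := hV2, htV := htV, BA5 := hB, hBz := hBz, hCt := hCt }
  · exact (hmemQ z).mpr ⟨hzC, f1⟩
  · exact Subgroup.map_subtype_le _
  · intro c hc x hx
    obtain ⟨hxC, hxQ⟩ := (hmemQ x).mp hx
    have hn : (Cfsg.pCore 2 ↥C).Normal := Cfsg.Agent.Lib.Helper1.pCore_normal 2
    have := hn.conj_mem ⟨x, hxC⟩ hxQ ⟨c, hc⟩
    exact (hmemQ _).mpr ⟨C.mul_mem (C.mul_mem hc hxC) (C.inv_mem hc), this⟩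
  · rw [Subgroup.card_map_of_injective C.subtype_injective]
    exact hQ
  · intro x hx
    obtain ⟨hxC, hxQ⟩ := (hmemQ x).mp hx
    rcases f2 ⟨x, hxC⟩ hxQ with h | h
    · left; exact congrArg Subtype.val h
    · right; exact congrArg Subtype.val h
  · intro x hx y hy
    obtain ⟨hxC, hxQ⟩ := (hmemQ x).mp hx
    obtain ⟨hyC, hyQ⟩ := (hmemQ y).mp hy
    rcases f3 ⟨x, hxC⟩ hxQ ⟨y, hyC⟩ hyQ with h | h
    · left; exact congrArg Subtype.val h
    · right; exact congrArg Subtype.val h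
  · have e : {x : G // x ∈ (Cfsg.pCore 2 ↥C).map C.subtype ∧ x ^ 2 = 1} ≃
        {x : ↥C // x ∈ Cfsg.pCore 2 ↥C ∧ x ^ 2 = 1} :=
      { toFun := fun x => ⟨⟨x.1, ((hmemQ x.1).mp x.2.1).1⟩, ((hmemQ x.1).mp x.2.1).2,
          Subtype.ext x.2.2⟩
        invFun := fun x => ⟨x.1.1, (hmemQ x.1.1).mpr ⟨x.1.2, x.2.1⟩, congrArg Subtype.val x.2.2⟩
        left_inv := fun x => rfl
        right_inv := fun x => rfl }
    rw [Nat.card_congr e]
    exact f4

end Cfsg.Agent.Lib.Helper19.S3313
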