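import Cfsg.Agent.Lib.Helper19.S3313Defs
import Cfsg.Agent.H5.Card

/-!
# S3313, pieces FO-F (fusion bookkeeping) and FO-O (centralizer orders)
-/

set_option autoImplicit false
open Cfsg

namespace Cfsg.Agent.Lib.Helper19.S3313

variable {G : Type*} [Group G] {z t : G} {Q K V B : Subgroup G}

theorem mem_centralizer_singleton_iff' (a x : G) :
    x ∈ Subgroup.centralizer ({a} : Set G) ↔ x * a = a * x := by
  rw [Subgroup.mem_centralizer_iff]
  constructor
  · intro h; exact (h a (Set.mem_singleton a)).symm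
  · intro h y hy
    rw [Set.mem_singleton_iff] at hy
    rw [hy]; exact h.symm

/-- FO-F1: an involution of `C(z)` is conjugate to `z` iff it lies in `Q`. -/
theorem mem_Q_iff (h : HJ z t Q K V B) (x : G) (hx : orderOf x = 2) (hxz : x * z = z * x) :
    x ∈ Q ↔ IsConj x z := by
  constructor
  · intro hxQ; exact h.hQz x hxQ hx
  · intro hc
    by_contra hxQ
    have := h.hCz x ((mem_centralizer_singleton_iff' z x).mpr hxz) hx hxQ
    exact h.hzt (hc.symm.trans this)

/-- FO-F2: an involution of `C(z)` is conjugate to `t` iff it does not lie in `Q`. -/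
theorem not_mem_Q_iff (h : HJ z t Q K V B) (x : G) (hx : orderOf x = 2) (hxz : x * z = z * x) :
    x ∉ Q ↔ IsConj x t := by
  constructor
  · intro hxQ
    exact h.hCz x ((mem_centralizer_singleton_iff' z x).mpr hxz) hx hxQ
  · intro hc hxQ
    exact h.hzt ((h.hQz x hxQ hx).symm.trans hc)

/-- FO-F3: an involution of `C(t)` is conjugate to `z` iff it lies in `B`. -/
theorem mem_B_iff (h : HJ z t Q K V B) (x : G) (hx : orderOf x = 2) (hxt : x * t = t * x) :
    x ∈ B ↔ IsConj x z := by
  constructor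
  · intro hxB; exact h.hBz x hxB hx
  · intro hc
    by_contra hxB
    have := h.hCt x ((mem_centralizer_singleton_iff' t x).mpr hxt) hx hxB
    exact h.hzt (hc.symm.trans this)

/-- an involution of `C(t)` is conjugate to `t` iff it does not lie in `B`. -/
theorem not_mem_B_iff (h : HJ z t Q K V B) (x : G) (hx : orderOf x = 2) (hxt : x * t = t * x) :
    x ∉ B ↔ IsConj x t := by
  constructor
  · intro hxB
    exact h.hCt x ((mem_centralizer_singleton_iff' t x).mpr hxt) hx hxB
  · intro hc hxB
    exact h.hzt ((h.hBz x hxB hx).symm.trans hc)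

variable [Finite G]

/-- the order of a product `H ⊔ N = S` with `H ⊓ N = ⊥` and `N` normalized by `H`. -/
theorem card_of_sup_inf (H N S : Subgroup G) (hs : H ⊔ N = S) (hi : H ⊓ N = ⊥)
    (hn : ∀ c ∈ H, ∀ x ∈ N, c * x * c⁻¹ ∈ N) :
    Nat.card S = Nat.card H * Nat.card N := by
  have hle : H ≤ Subgroup.normalizer (N : Set G) := by
    intro c hc
    rw [Subgroup.mem_normalizer_iff]
    intro x
    constructor
    · intro hx; exact hn c hc x hx
    · intro hx
      have := hn c⁻¹ (H.inv_mem hc) _ hx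
      simpa [mul_assoc] using this
  have h1 := Cfsg.H5.card_sup_mul_card_inf hle
  rw [hi, Subgroup.card_bot, mul_one] at h1
  rw [← hs, h1]

end Cfsg.Agent.Lib.Helper19.S3313

namespace Cfsg.Agent.Lib.Helper19.S3313

variable {G : Type*} [Group G] [Finite G] {z t : G} {Q K V B : Subgroup G}

/-- FO-O1 -/
theorem card_Cz (h : HJ z t Q K V B) : Nat.card (Subgroup.centralizer ({z} : Set G)) = 1920 := by
  obtain ⟨e⟩ := h.KA5
  have hK : Nat.card K = 60 := by
    rw [Nat.card_congr e.toEquiv, Nat.card_eq_fintype_card]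
    decide
  rw [card_of_sup_inf K Q _ h.KQ h.KQbot
    (fun c hc x hx => h.Qnorm c (h.KQ ▸ (Subgroup.mem_sup_left hc)) x hx), hK, h.Qcard]

/-- FO-O2 -/
theorem card_Ct (h : HJ z t Q K V B) : Nat.card (Subgroup.centralizer ({t} : Set G)) = 240 := by
  obtain ⟨e⟩ := h.BA5
  have hB : Nat.card B = 60 := by
    rw [Nat.card_congr e.toEquiv, Nat.card_eq_fintype_card]
    decide
  obtain ⟨hV, hBle, hcomm, hinf, hsup⟩ := h.hVB
  rw [card_of_sup_inf V B _ hsup hinf
    (fun c hc x hx => by rw [hcomm c hc x hx, mul_inv_cancel_right]; exact hx), h.hV, hB]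

end Cfsg.Agent.Lib.Helper19.S3313
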