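import Cfsg.Agent.Lib.Helper19.S3313F
import Cfsg.Agent.Lib.Helper11.Semidirect

/-!
# S3313, piece FO-Zg: `|I| = 120` (modulo the 8-per-coset count and the 15 involutions of `A₅`)
-/

set_option autoImplicit false
open Cfsg

namespace Cfsg.Agent.Lib.Helper19.S3313

variable {G : Type*} [Group G] [Finite G] {z t : G} {Q K V B : Subgroup G}

theorem K_le_C (h : HJ z t Q K V B) : K ≤ Subgroup.centralizer ({z} : Set G) := by
  rw [← h.KQ]; exact le_sup_left

theorem K_le_normalizer (h : HJ z t Q K V B) : K ≤ Subgroup.normalizer (Q : Set G) := by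
  intro c hc
  rw [Subgroup.mem_normalizer_iff]
  intro x
  constructor
  · intro hx; exact h.Qnorm c (K_le_C h hc) x hx
  · intro hx
    have := h.Qnorm c⁻¹ (K_le_C h (K.inv_mem hc)) _ hx
    simpa [mul_assoc] using this

/-- elements of `C(z)` are `x * k` with `x ∈ Q`, `k ∈ K`. -/
theorem exists_decomp (h : HJ z t Q K V B) (v : G) (hv : v * z = z * v) :
    ∃ x ∈ Q, ∃ k ∈ K, v = x * k := by
  have hvC : v ∈ Q ⊔ K := by
    rw [sup_comm, h.KQ]
    exact (mem_centralizer_singleton_iff' z v).mpr hv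
  exact (Cfsg.Agent.Lib.Helper11.mem_sup_iff_exists_mul Q K (K_le_normalizer h) v).mp hvC

theorem QK_bot (h : HJ z t Q K V B) : Q ⊓ K = ⊥ := by rw [inf_comm]; exact h.KQbot

/-- an involution `k ∈ K` lies in `I`. -/
theorem K_invol (h : HJ z t Q K V B) (k : G) (hk : k ∈ K) (hk2 : orderOf k = 2) :
    IsConj k t ∧ k * z = z * k := by
  have hkz : k * z = z * k := (mem_centralizer_singleton_iff' z k).mp (K_le_C h hk)
  refine ⟨(not_mem_Q_iff h k hk2 hkz).mp ?_, hkz⟩
  intro hkQ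
  have : k ∈ K ⊓ Q := ⟨hk, hkQ⟩
  rw [h.KQbot, Subgroup.mem_bot] at this
  rw [this, orderOf_one] at hk2
  omega

theorem orderOf_of_isConj_t (h : HJ z t Q K V B) (v : G) (hv : IsConj v t) : orderOf v = 2 := by
  obtain ⟨c, hc⟩ := isConj_iff.mp hv
  rw [← h.ht, ← hc]
  exact ((MulAut.conj c).orderOf_eq v).symm

/-- FO-Zg, modulo FO-Zf1 and FO-A5c. -/
theorem card_I_of (h : HJ z t Q K V B)
    (h8 : ∀ v : G, IsConj v t → v * z = z * v →
      Nat.card {x : G // x ∈ Q ∧ (v * x) ^ 2 = 1} = 8)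
    (h15 : Nat.card {k : K // orderOf k = 2} = 15) :
    Nat.card {v : G // IsConj v t ∧ v * z = z * v} = 120 := by
  classical
  haveI : Fintype {k : K // orderOf k = 2} := Fintype.ofFinite _
  -- the parametrisation
  let S : {k : K // orderOf k = 2} → Type _ := fun k => {x : G // x ∈ Q ∧ ((k.1 : G) * x) ^ 2 = 1}
  have hkord : ∀ k : {k : K // orderOf k = 2}, orderOf (k.1 : G) = 2 := by
    intro k
    rw [Subgroup.orderOf_coe]; exact k.2
  have hmem : ∀ (k : {k : K // orderOf k = 2}) (x : S k),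
      IsConj ((k.1 : G) * x.1) t ∧ ((k.1 : G) * x.1) * z = z * ((k.1 : G) * x.1) := by
    intro k x
    have hkz := (K_invol h (k.1 : G) k.1.2 (hkord k)).2
    have hxz : x.1 * z = z * x.1 :=
      (mem_centralizer_singleton_iff' z x.1).mp (h.QC x.2.1)
    have hcz : ((k.1 : G) * x.1) * z = z * ((k.1 : G) * x.1) := by
      rw [mul_assoc, hxz, ← mul_assoc, hkz, mul_assoc]
    have hnQ : (k.1 : G) * x.1 ∉ Q := by
      intro hQ
      have : (k.1 : G) ∈ Q := by
        have := Q.mul_mem hQ (Q.inv_mem x.2.1)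
        simpa using this
      have h2 : (k.1 : G) ∈ K ⊓ Q := ⟨k.1.2, this⟩
      rw [h.KQbot, Subgroup.mem_bot] at h2
      have := hkord k
      rw [h2, orderOf_one] at this
      omega
    have hne : (k.1 : G) * x.1 ≠ 1 := by
      intro h1
      apply hnQ
      rw [h1]; exact Q.one_mem
    have hord : orderOf ((k.1 : G) * x.1) = 2 := orderOf_eq_prime x.2.2 hne
    exact ⟨(not_mem_Q_iff h _ hord hcz).mp hnQ, hcz⟩
  let φ : (Σ k : {k : K // orderOf k = 2}, S k) → {v : G // IsConj v t ∧ v * z = z * v} :=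
    fun p => ⟨(p.1.1 : G) * p.2.1, hmem p.1 p.2⟩
  have hinj : Function.Injective φ := by
    rintro ⟨k, x⟩ ⟨k', x'⟩ hp
    have hp' : (k.1 : G) * x.1 = (k'.1 : G) * x'.1 := congrArg Subtype.val hp
    obtain ⟨e1, e2⟩ := Cfsg.Agent.Lib.Helper11.semidirect_unique K Q h.KQbot k.1.2 k'.1.2
      x.2.1 x'.2.1 hp'
    have hk : k = k' := Subtype.ext (Subtype.ext e1)
    subst hk
    have hx : x = x' := Subtype.ext e2
    subst hx
    rfl
  have hsurj : Function.Surjective φ := by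
    rintro ⟨v, hvt, hvz⟩
    have hv2 : orderOf v = 2 := orderOf_of_isConj_t h v hvt
    have hvQ : v ∉ Q := (not_mem_Q_iff h v hv2 hvz).mpr hvt
    obtain ⟨x, hx, k, hk, hvxk⟩ := exists_decomp h v hvz
    -- rewrite as k * x'
    set x' : G := k⁻¹ * x * k with hx'
    have hx'Q : x' ∈ Q := by
      have := h.Qnorm k⁻¹ (K_le_C h (K.inv_mem hk)) x hx
      simpa [hx', mul_assoc] using this
    have hvkx : v = k * x' := by rw [hvxk, hx']; group
    have hvsq : v ^ 2 = 1 := by rw [← hv2]; exact pow_orderOf_eq_one v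
    -- k^2 = 1
    have hk2 : k ^ 2 = 1 := by
      have e : k ^ 2 = v ^ 2 * (x'⁻¹ * (k⁻¹ * x'⁻¹ * k)) := by
        rw [hvkx]; simp only [pow_two]; group
      have hmemQ : x'⁻¹ * (k⁻¹ * x'⁻¹ * k) ∈ Q := by
        apply Q.mul_mem (Q.inv_mem hx'Q)
        have := h.Qnorm k⁻¹ (K_le_C h (K.inv_mem hk)) x'⁻¹ (Q.inv_mem hx'Q)
        simpa [mul_assoc] using this
      have hkK : k ^ 2 ∈ K := K.pow_mem hk 2
      have : k ^ 2 ∈ K ⊓ Q := ⟨hkK, by rw [e, hvsq, one_mul]; exact hmemQ⟩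
      rw [h.KQbot, Subgroup.mem_bot] at this
      exact this
    have hk1 : k ≠ 1 := by
      intro h1
      apply hvQ
      rw [hvkx, h1, one_mul]; exact hx'Q
    have hkord : orderOf (⟨k, hk⟩ : K) = 2 := by
      rw [← Subgroup.orderOf_coe]
      exact orderOf_eq_prime hk2 hk1
    refine ⟨⟨⟨⟨k, hk⟩, hkord⟩, ⟨x', hx'Q, ?_⟩⟩, ?_⟩
    · show (k * x') ^ 2 = 1
      rw [← hvkx]; exact hvsq
    · apply Subtype.ext
      show k * x' = v
      exact hvkx.symm
  rw [← Nat.card_eq_of_bijective φ ⟨hinj, hsurj⟩, Nat.card_sigma]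
  have hS : ∀ k : {k : K // orderOf k = 2}, Nat.card (S k) = 8 := by
    intro k
    have := K_invol h (k.1 : G) k.1.2 (hkord k)
    exact h8 (k.1 : G) this.1 this.2
  simp only [hS]
  rw [Finset.sum_const, Finset.card_univ, smul_eq_mul, ← Nat.card_eq_fintype_card, h15]

end Cfsg.Agent.Lib.Helper19.S3313
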