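import Cfsg.Agent.S0213
import Cfsg.Agent.Lib.Helper19.S3313Defs
import Cfsg.Agent.Lib.Helper19.S3313F
import Cfsg.Agent.Lib.Helper19.S3313Zg
import Cfsg.Agent.Lib.Helper20.S3313Zi
import Cfsg.Agent.Lib.Helper20.S3313Zh
import Cfsg.Agent.Lib.Helper20.S3313Zj
import Cfsg.Agent.Lib.Helper3.S3313Zf
import Cfsg.Agent.Lib.Helper6.S3313A5

/-!
# S3313: assembly.  `|G| = 604800` from the Hall–Janko involution pattern `HJ`

Thompson order formula (`Cfsg.Agent.S0213.result`) with `|C(z)| = 1920`, `|C(t)| = 240`,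
`n₁ = 960` (count in `C(z)`), `n₂ = 195` (count in `C(t)`; taken as a hypothesis here and
supplied in `Cfsg/Agent/S3313.lean`).
-/

set_option autoImplicit false
open Cfsg

namespace Cfsg.Agent.Lib.Helper19.S3313

variable {G : Type*} [Group G] [Finite G] {z t : G} {Q K V B : Subgroup G}

open Cfsg.Agent.Lib.Helper6.S3313A5

theorem a5bHyp (h : HJ z t Q K V B) : Cfsg.Agent.Lib.Helper3.S3313Zd.A5bHyp B :=
  Cfsg.Agent.Lib.Helper3.S3313Zd.a5bHyp_of h (fun e x hx => a5_centralizer e x hx)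

/-- FO-Ze -/
theorem card_CQ (h : HJ z t Q K V B) (v : G) (hv : IsConj v t) (hvz : v * z = z * v) :
    Nat.card (Q ⊓ Subgroup.centralizer ({v} : Set G) : Subgroup G) = 4 ∧
      ∀ a ∈ Q ⊓ Subgroup.centralizer ({v} : Set G), a ^ 2 = 1 :=
  Cfsg.Agent.Lib.Helper3.S3313Ze.card_CQ_aux h (a5bHyp h) v hv hvz

/-- FO-Zf1 -/
theorem card_inv_coset (h : HJ z t Q K V B) (v : G) (hv : IsConj v t) (hvz : v * z = z * v) :
    Nat.card {x : G // x ∈ Q ∧ (v * x) ^ 2 = 1} = 8 :=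
  Cfsg.Agent.Lib.Helper3.S3313Zf.card_inv_coset_aux h (a5bHyp h) v hv hvz

/-- FO-Zf2 (NO FLIP) -/
theorem no_flip (h : HJ z t Q K V B) (v : G) (hv : IsConj v t) (hvz : v * z = z * v)
    (u : G) (huQ : u ∈ Q) (hu2 : u ^ 2 = 1) : v * u * v⁻¹ ≠ u * z :=
  Cfsg.Agent.Lib.Helper3.S3313Zf.no_flip_aux h (a5bHyp h) v hv hvz u huQ hu2

/-- FO-Zg -/
theorem card_I (h : HJ z t Q K V B) :
    Nat.card {v : G // IsConj v t ∧ v * z = z * v} = 120 := by
  obtain ⟨e⟩ := h.KA5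
  exact card_I_of h (card_inv_coset h) (a5_involutions e).1

/-- FO-Zh -/
theorem card_invQ (h : HJ z t Q K V B) : Nat.card {u : G // u ∈ Q ∧ u ^ 2 = 1} = 12 := by
  obtain ⟨e⟩ := h.KA5
  obtain ⟨h15, ⟨x, hx⟩, -, -, -⟩ := a5_involutions e
  have h2 : ∃ k ∈ K, orderOf k = 2 := by
    have hpos : 0 < Nat.card {x : K // orderOf x = 2} := by rw [h15]; norm_num
    obtain ⟨⟨k, hk⟩⟩ := (Nat.card_pos_iff.mp hpos).1
    exact ⟨k.1, k.2, by rw [Subgroup.orderOf_coe]; exact hk⟩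
  refine Cfsg.Agent.Lib.Helper20.S3313Zh.card_invQ_aux h
    ⟨x.1, x.2, by rw [Subgroup.orderOf_coe]; exact hx⟩ h2
    (fun N hN x hx hx1 => a5_simple e N hN x hx hx1)
    (fun v hv hvz => (card_CQ h v hv hvz).1)

/-- FO-Zj -/
theorem count_z (h : HJ z t Q K V B) :
    Nat.card {p : G × G // IsConj z p.1 ∧ IsConj t p.2 ∧ z ∈ Subgroup.zpowers (p.1 * p.2)} = 960 :=
  Cfsg.Agent.Lib.Helper20.S3313Zj.count_z_aux h
    (fun v hv hvz u huQ hu =>
      Cfsg.Agent.Lib.Helper20.S3313Zi.mem_zpowers_iff_aux h (no_flip h) v hv hvz u huQ hu)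
    (card_invQ h) (card_CQ h) (card_I h)

/-- The order, given the count in `C(t)`. -/
theorem main_of (h : HJ z t Q K V B)
    (hcl : ∀ x : G, orderOf x = 2 → IsConj x z ∨ IsConj x t)
    (hT : Nat.card {p : G × G // IsConj z p.1 ∧ IsConj t p.2 ∧
      t ∈ Subgroup.zpowers (p.1 * p.2)} = 195) : Nat.card G = 604800 := by
  have key := Cfsg.Agent.S0213.result z t h.hz h.ht h.hzt
    (fun x hx => (hcl x hx).imp IsConj.symm IsConj.symm)
  rw [card_Cz h, card_Ct h, count_z h, hT] at key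
  rw [key]

end Cfsg.Agent.Lib.Helper19.S3313
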