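import Mathlib

/-!
# S3701: definitions

`T = 3^3`, `H = N_G(T) = 3^3 : 2^2` (the four-group acting by even sign changes on a basis
`t₁, t₂, t₃` of `T`), `C_G(t) ≤ H` for `t ∈ T#`; claim `G = H`.

* `V3 = ZMod 3 × ZMod 3 × ZMod 3` indexes both `T` (via `mono3`) and its dual (via `ev`);
* `E4 ⊆ V3` is the set of the four even sign patterns, acting on `V3` by the componentwise
  product of the ring `V3`;
* `Cfg3` is the abstract configuration extracted from the isomorphism of `H` with the explicit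
  subgroup of `Sym(9)`.
-/

set_option autoImplicit false

namespace Cfsg.Agent.Lib.Helper19.S3701

open scoped ComplexConjugate

/-- The index set `𝔽₃³`. -/
abbrev V3 : Type := ZMod 3 × ZMod 3 × ZMod 3

/-- The element `t₁ ^ x₁ * t₂ ^ x₂ * t₃ ^ x₃`. -/
def mono3 {G : Type*} [Group G] (t₁ t₂ t₃ : G) (x : V3) : G :=
  t₁ ^ x.1.val * t₂ ^ x.2.1.val * t₃ ^ x.2.2.val

/-- The four even sign patterns; `ε ∈ E4` acts on `V3` by `x ↦ ε * x` (componentwise). -/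
def E4 : Finset V3 := {(1, 1, 1), (2, 2, 1), (2, 1, 2), (1, 2, 2)}

/-- The standard bilinear form on `𝔽₃³`. -/
def dot3 (x y : V3) : ZMod 3 := x.1 * y.1 + x.2.1 * y.2.1 + x.2.2 * y.2.2

/-- A primitive cube root of unity. -/
noncomputable def zeta3 : ℂ := Complex.exp (2 * Real.pi * Complex.I / 3)

/-- The value at `y` of the linear character of `𝔽₃³` with index `x`. -/
noncomputable def ev (x y : V3) : ℂ := zeta3 ^ (dot3 x y).val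

/-- The abstract configuration. -/
structure Cfg3 {G : Type*} [Group G] (H T : Subgroup G) (t₁ t₂ t₃ u₁ u₂ : G) : Prop where
  t₁3 : t₁ ^ 3 = 1
  t₂3 : t₂ ^ 3 = 1
  t₃3 : t₃ ^ 3 = 1
  c₁₂ : t₁ * t₂ = t₂ * t₁
  c₁₃ : t₁ * t₃ = t₃ * t₁
  c₂₃ : t₂ * t₃ = t₃ * t₂
  inj : Function.Injective (mono3 t₁ t₂ t₃)
  memT : ∀ g : G, g ∈ T ↔ ∃ x : V3, g = mono3 t₁ t₂ t₃ x
  hu₁ : u₁ ∈ H
  hu₂ : u₂ ∈ H
  u₁t₁ : u₁ * t₁ * u₁⁻¹ = t₁⁻¹
  u₁t₂ : u₁ * t₂ * u₁⁻¹ = t₂⁻¹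
  u₁t₃ : u₁ * t₃ * u₁⁻¹ = t₃
  u₂t₁ : u₂ * t₁ * u₂⁻¹ = t₁⁻¹
  u₂t₂ : u₂ * t₂ * u₂⁻¹ = t₂
  u₂t₃ : u₂ * t₃ * u₂⁻¹ = t₃⁻¹
  cover : ∀ g ∈ H, ∃ x : V3, g = mono3 t₁ t₂ t₃ x ∨ g = mono3 t₁ t₂ t₃ x * u₁ ∨
    g = mono3 t₁ t₂ t₃ x * u₂ ∨ g = mono3 t₁ t₂ t₃ x * (u₁ * u₂)
  cardH : Nat.card H = 108

/-! ### `zeta3` and `ev` -/

theorem zeta3_pow_three : zeta3 ^ 3 = 1 := by
  unfold zeta3
  rw [← Complex.exp_nat_mul]
  have : ((3 : ℕ) : ℂ) * (2 * Real.pi * Complex.I / 3) = 2 * Real.pi * Complex.I := by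
    push_cast; ring
  rw [this, Complex.exp_two_pi_mul_I]

theorem zeta3_isPrimitiveRoot : IsPrimitiveRoot zeta3 3 := by
  have := Complex.isPrimitiveRoot_exp 3 (by norm_num)
  unfold zeta3
  exact_mod_cast this

theorem zeta3_ne_one : zeta3 ≠ 1 := zeta3_isPrimitiveRoot.ne_one (by norm_num)

theorem zeta3_sq_add : zeta3 ^ 2 + zeta3 + 1 = 0 := by
  have h : (zeta3 - 1) * (zeta3 ^ 2 + zeta3 + 1) = 0 := by
    have := zeta3_pow_three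
    linear_combination this
  rcases mul_eq_zero.mp h with h1 | h1
  · exact absurd (sub_eq_zero.mp h1) zeta3_ne_one
  · exact h1

theorem conj_zeta3 : conj zeta3 = zeta3 ^ 2 := by
  have h1 : conj zeta3 = zeta3⁻¹ := by
    unfold zeta3
    rw [← Complex.exp_conj, ← Complex.exp_neg]
    congr 1
    have h2 : (starRingEnd ℂ) (2 : ℂ) = 2 := Complex.conj_ofNat 2
    have h3 : (starRingEnd ℂ) (3 : ℂ) = 3 := Complex.conj_ofNat 3
    rw [map_div₀, map_mul, map_mul, Complex.conj_I, Complex.conj_ofReal, h2, h3]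
    ring
  rw [h1]
  have h0 : zeta3 ≠ 0 := fun h => by
    have := zeta3_pow_three
    rw [h] at this
    norm_num at this
  field_simp
  have := zeta3_pow_three
  linear_combination -this

theorem zeta3_pow_val_add (a b : ZMod 3) :
    zeta3 ^ (a + b).val = zeta3 ^ a.val * zeta3 ^ b.val := by
  rw [ZMod.val_add, ← pow_add, ← pow_eq_pow_mod _ zeta3_pow_three]

theorem dot3_add_right (x y z : V3) : dot3 x (y + z) = dot3 x y + dot3 x z := by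
  simp only [dot3, Prod.fst_add, Prod.snd_add]; ring

theorem dot3_add_left (x y z : V3) : dot3 (x + y) z = dot3 x z + dot3 y z := by
  simp only [dot3, Prod.fst_add, Prod.snd_add]; ring

theorem dot3_comm (x y : V3) : dot3 x y = dot3 y x := by
  simp only [dot3]; ring

theorem dot3_mul_left (ε x y : V3) : dot3 (ε * x) y = dot3 x (ε * y) := by
  simp only [dot3, Prod.fst_mul, Prod.snd_mul]; ring

theorem dot3_zero_right (x : V3) : dot3 x 0 = 0 := by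
  simp [dot3]

theorem dot3_zero_left (x : V3) : dot3 0 x = 0 := by
  simp [dot3]

theorem ev_add_right (x y z : V3) : ev x (y + z) = ev x y * ev x z := by
  unfold ev
  rw [dot3_add_right, zeta3_pow_val_add]

theorem ev_add_left (x y z : V3) : ev (x + y) z = ev x z * ev y z := by
  unfold ev
  rw [dot3_add_left, zeta3_pow_val_add]

theorem ev_zero_right (x : V3) : ev x 0 = 1 := by
  simp [ev, dot3_zero_right]

theorem ev_zero_left (x : V3) : ev 0 x = 1 := by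
  simp [ev, dot3_zero_left]

theorem ev_comm (x y : V3) : ev x y = ev y x := by
  unfold ev; rw [dot3_comm]

theorem ev_mul_left (ε x y : V3) : ev (ε * x) y = ev x (ε * y) := by
  unfold ev; rw [dot3_mul_left]

theorem ev_ne_zero (x y : V3) : ev x y ≠ 0 := by
  unfold ev
  apply pow_ne_zero
  intro h
  have := zeta3_pow_three
  rw [h] at this
  norm_num at this

/-- `ε * ε = 1` for the sign patterns. -/
theorem E4_mul_self : ∀ ε ∈ E4, ε * ε = 1 := by decide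

theorem E4_mul_mem : ∀ ε ∈ E4, ∀ ε' ∈ E4, ε * ε' ∈ E4 := by decide

theorem one_mem_E4 : (1 : V3) ∈ E4 := by decide

/-! ### `mono3` -/

section Mono

variable {G : Type*} [Group G] {t₁ t₂ t₃ : G}

theorem mono3_zero (t₁ t₂ t₃ : G) : mono3 t₁ t₂ t₃ 0 = 1 := by
  simp [mono3]

theorem mono3_mul (h₁ : t₁ ^ 3 = 1) (h₂ : t₂ ^ 3 = 1) (h₃ : t₃ ^ 3 = 1)
    (c₁₂ : t₁ * t₂ = t₂ * t₁) (c₁₃ : t₁ * t₃ = t₃ * t₁) (c₂₃ : t₂ * t₃ = t₃ * t₂) (x y : V3) :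
    mono3 t₁ t₂ t₃ (x + y) = mono3 t₁ t₂ t₃ x * mono3 t₁ t₂ t₃ y := by
  have k₁₂ : Commute t₁ t₂ := c₁₂
  have k₁₃ : Commute t₁ t₃ := c₁₃
  have k₂₃ : Commute t₂ t₃ := c₂₃
  unfold mono3
  rw [Prod.fst_add, Prod.snd_add, Prod.fst_add, Prod.snd_add, ZMod.val_add, ZMod.val_add,
    ZMod.val_add, ← pow_eq_pow_mod _ h₁, ← pow_eq_pow_mod _ h₂, ← pow_eq_pow_mod _ h₃,
    pow_add, pow_add, pow_add]
  have e1 : Commute (t₂ ^ x.2.1.val) (t₁ ^ y.1.val) := (k₁₂.pow_pow _ _).symm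
  have e2 : Commute (t₃ ^ x.2.2.val) (t₁ ^ y.1.val) := (k₁₃.pow_pow _ _).symm
  have e3 : Commute (t₃ ^ x.2.2.val) (t₂ ^ y.2.1.val) := (k₂₃.pow_pow _ _).symm
  calc t₁ ^ x.1.val * t₁ ^ y.1.val * (t₂ ^ x.2.1.val * t₂ ^ y.2.1.val)
        * (t₃ ^ x.2.2.val * t₃ ^ y.2.2.val)
      = t₁ ^ x.1.val * (t₁ ^ y.1.val * t₂ ^ x.2.1.val) * t₂ ^ y.2.1.val
        * (t₃ ^ x.2.2.val * t₃ ^ y.2.2.val) := by group
    _ = t₁ ^ x.1.val * (t₂ ^ x.2.1.val * t₁ ^ y.1.val) * t₂ ^ y.2.1.val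
        * (t₃ ^ x.2.2.val * t₃ ^ y.2.2.val) := by rw [e1.eq]
    _ = t₁ ^ x.1.val * t₂ ^ x.2.1.val * t₁ ^ y.1.val * (t₂ ^ y.2.1.val * t₃ ^ x.2.2.val)
        * t₃ ^ y.2.2.val := by group
    _ = t₁ ^ x.1.val * t₂ ^ x.2.1.val * t₁ ^ y.1.val * (t₃ ^ x.2.2.val * t₂ ^ y.2.1.val)
        * t₃ ^ y.2.2.val := by rw [e3.eq]
    _ = t₁ ^ x.1.val * t₂ ^ x.2.1.val * (t₁ ^ y.1.val * t₃ ^ x.2.2.val) * t₂ ^ y.2.1.val
        * t₃ ^ y.2.2.val := by group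
    _ = t₁ ^ x.1.val * t₂ ^ x.2.1.val * (t₃ ^ x.2.2.val * t₁ ^ y.1.val) * t₂ ^ y.2.1.val
        * t₃ ^ y.2.2.val := by rw [e2.eq]
    _ = t₁ ^ x.1.val * t₂ ^ x.2.1.val * t₃ ^ x.2.2.val
        * (t₁ ^ y.1.val * t₂ ^ y.2.1.val * t₃ ^ y.2.2.val) := by group

theorem mono3_e1 (t₁ t₂ t₃ : G) : mono3 t₁ t₂ t₃ (1, 0, 0) = t₁ := by
  simp [mono3, ZMod.val_one]

theorem mono3_e2 (t₁ t₂ t₃ : G) : mono3 t₁ t₂ t₃ (0, 1, 0) = t₂ := by
  simp [mono3, ZMod.val_one]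

theorem mono3_e3 (t₁ t₂ t₃ : G) : mono3 t₁ t₂ t₃ (0, 0, 1) = t₃ := by
  simp [mono3, ZMod.val_one]

theorem mono3_b1 (t₁ t₂ t₃ : G) : mono3 t₁ t₂ t₃ (0, 1, 1) = t₂ * t₃ := by
  simp [mono3, ZMod.val_one]

theorem mono3_b2 (t₁ t₂ t₃ : G) : mono3 t₁ t₂ t₃ (1, 0, 1) = t₁ * t₃ := by
  simp [mono3, ZMod.val_one]

end Mono

end Cfsg.Agent.Lib.Helper19.S3701
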