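import Mathlib
import Cfsg.Agent.Lib.Helper19.S3701Defs

/-!
# S3701, piece A, part 1: the subgroup `3^3 : 2^2` of `Sym(9)` (all by `decide`)
-/

set_option autoImplicit false

namespace Cfsg.Agent.Lib.Helper19.S3701

namespace P9

abbrev c₁ : Equiv.Perm (Fin 9) := Equiv.swap (0 : Fin 9) 1 * Equiv.swap 1 2
abbrev c₂ : Equiv.Perm (Fin 9) := Equiv.swap (3 : Fin 9) 4 * Equiv.swap 4 5
abbrev c₃ : Equiv.Perm (Fin 9) := Equiv.swap (6 : Fin 9) 7 * Equiv.swap 7 8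
abbrev s₁ : Equiv.Perm (Fin 9) := Equiv.swap (0 : Fin 9) 1 * Equiv.swap 3 4
abbrev s₂ : Equiv.Perm (Fin 9) := Equiv.swap (0 : Fin 9) 1 * Equiv.swap 6 7

/-- The generating set. -/
abbrev S : Set (Equiv.Perm (Fin 9)) := {c₁, c₂, c₃, s₁, s₂}

/-- The four-group. -/
def vv : Fin 4 → Equiv.Perm (Fin 9) := ![1, s₁, s₂, s₁ * s₂]

/-- The `108` elements. -/
def elt (x : V3) (v : Fin 4) : Equiv.Perm (Fin 9) := mono3 c₁ c₂ c₃ x * vv v

theorem c₁3 : c₁ ^ 3 = 1 := by decide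
theorem c₂3 : c₂ ^ 3 = 1 := by decide
theorem c₃3 : c₃ ^ 3 = 1 := by decide
theorem c₁₂ : c₁ * c₂ = c₂ * c₁ := by decide
theorem c₁₃ : c₁ * c₃ = c₃ * c₁ := by decide
theorem c₂₃ : c₂ * c₃ = c₃ * c₂ := by decide
theorem s₁c₁ : s₁ * c₁ * s₁⁻¹ = c₁⁻¹ := by decide
theorem s₁c₂ : s₁ * c₂ * s₁⁻¹ = c₂⁻¹ := by decide
theorem s₁c₃ : s₁ * c₃ * s₁⁻¹ = c₃ := by decide
theorem s₂c₁ : s₂ * c₁ * s₂⁻¹ = c₁⁻¹ := by decide
theorem s₂c₂ : s₂ * c₂ * s₂⁻¹ = c₂ := by decide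
theorem s₂c₃ : s₂ * c₃ * s₂⁻¹ = c₃⁻¹ := by decide
theorem c₁inv : c₁⁻¹ = c₁ * c₁ := by decide
theorem c₂inv : c₂⁻¹ = c₂ * c₂ := by decide
theorem c₃inv : c₃⁻¹ = c₃ * c₃ := by decide
theorem s₁inv : s₁⁻¹ = s₁ := by decide
theorem s₂inv : s₂⁻¹ = s₂ := by decide

set_option maxRecDepth 1000000 in
theorem inj_elt : ∀ x x' : V3, ∀ v v' : Fin 4, elt x v = elt x' v' → x = x' ∧ v = v' := by
  decide

set_option maxRecDepth 100000 in
theorem c₁_mul_elt : ∀ x : V3, ∀ v : Fin 4, c₁ * elt x v = elt (x + (1, 0, 0)) v := by decide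

set_option maxRecDepth 100000 in
theorem c₂_mul_elt : ∀ x : V3, ∀ v : Fin 4, c₂ * elt x v = elt (x + (0, 1, 0)) v := by decide

set_option maxRecDepth 100000 in
theorem c₃_mul_elt : ∀ x : V3, ∀ v : Fin 4, c₃ * elt x v = elt (x + (0, 0, 1)) v := by decide

set_option maxRecDepth 100000 in
theorem s₁_mul_elt : ∀ x : V3, ∀ v : Fin 4,
    s₁ * elt x v = elt ((2, 2, 1) * x) ((![1, 0, 3, 2] : Fin 4 → Fin 4) v) := by decide

set_option maxRecDepth 100000 in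
theorem s₂_mul_elt : ∀ x : V3, ∀ v : Fin 4,
    s₂ * elt x v = elt ((2, 1, 2) * x) ((![2, 3, 0, 1] : Fin 4 → Fin 4) v) := by decide

set_option maxRecDepth 100000 in
theorem elt_pow : ∀ x : V3, ∀ v : Fin 4, elt x v ^ 27 = 1 → v = 0 := by decide

theorem elt_zero : elt 0 0 = 1 := by decide

/-- Every element of the closure is one of the `108` elements. -/
theorem cover {g : Equiv.Perm (Fin 9)} (hg : g ∈ Subgroup.closure S) :
    ∃ x : V3, ∃ v : Fin 4, g = elt x v := by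
  induction hg using Subgroup.closure_induction_left with
  | one => exact ⟨0, 0, elt_zero.symm⟩
  | mul_left a ha y _ ih =>
    obtain ⟨x, v, rfl⟩ := ih
    simp only [S, Set.mem_insert_iff, Set.mem_singleton_iff] at ha
    rcases ha with rfl | rfl | rfl | rfl | rfl
    · exact ⟨_, _, c₁_mul_elt x v⟩
    · exact ⟨_, _, c₂_mul_elt x v⟩
    · exact ⟨_, _, c₃_mul_elt x v⟩
    · exact ⟨_, _, s₁_mul_elt x v⟩
    · exact ⟨_, _, s₂_mul_elt x v⟩
  | inv_mul_cancel a ha y _ ih =>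
    obtain ⟨x, v, rfl⟩ := ih
    simp only [S, Set.mem_insert_iff, Set.mem_singleton_iff] at ha
    rcases ha with rfl | rfl | rfl | rfl | rfl
    · rw [c₁inv, mul_assoc, c₁_mul_elt, c₁_mul_elt]
      exact ⟨_, _, rfl⟩
    · rw [c₂inv, mul_assoc, c₂_mul_elt, c₂_mul_elt]
      exact ⟨_, _, rfl⟩
    · rw [c₃inv, mul_assoc, c₃_mul_elt, c₃_mul_elt]
      exact ⟨_, _, rfl⟩
    · rw [s₁inv]
      exact ⟨_, _, s₁_mul_elt x v⟩
    · rw [s₂inv]
      exact ⟨_, _, s₂_mul_elt x v⟩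

theorem elt_mem (x : V3) (v : Fin 4) : elt x v ∈ Subgroup.closure S := by
  have h1 : c₁ ∈ Subgroup.closure S := Subgroup.subset_closure (by simp [S])
  have h2 : c₂ ∈ Subgroup.closure S := Subgroup.subset_closure (by simp [S])
  have h3 : c₃ ∈ Subgroup.closure S := Subgroup.subset_closure (by simp [S])
  have h4 : s₁ ∈ Subgroup.closure S := Subgroup.subset_closure (by simp [S])
  have h5 : s₂ ∈ Subgroup.closure S := Subgroup.subset_closure (by simp [S])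
  unfold elt mono3
  apply Subgroup.mul_mem
  · exact Subgroup.mul_mem _ (Subgroup.mul_mem _ (Subgroup.pow_mem _ h1 _)
      (Subgroup.pow_mem _ h2 _)) (Subgroup.pow_mem _ h3 _)
  · fin_cases v
    · exact Subgroup.one_mem _
    · exact h4
    · exact h5
    · exact Subgroup.mul_mem _ h4 h5

/-- The closure has `108` elements. -/
theorem card_closure : Nat.card (Subgroup.closure S) = 108 := by
  have e : (V3 × Fin 4) ≃ Subgroup.closure S := by
    apply Equiv.ofBijective (fun p => (⟨elt p.1 p.2, elt_mem p.1 p.2⟩ : Subgroup.closure S))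
    constructor
    · intro p q hpq
      have h1 : elt p.1 p.2 = elt q.1 q.2 := congrArg Subtype.val hpq
      obtain ⟨h2, h3⟩ := inj_elt _ _ _ _ h1
      exact Prod.ext h2 h3
    · rintro ⟨g, hg⟩
      obtain ⟨x, v, rfl⟩ := cover hg
      exact ⟨(x, v), rfl⟩
  rw [← Nat.card_congr e, Nat.card_eq_fintype_card]
  rfl

end P9

end Cfsg.Agent.Lib.Helper19.S3701
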