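import Mathlib
import Cfsg.Agent.Lib.Helper19.S3701Defs
import Cfsg.Agent.Lib.Helper19.S3701A1

/-!
# S3701, piece A, part 2: the configuration `Cfg3` from the isomorphism with the subgroup of
`Sym(9)`
-/

set_option autoImplicit false

namespace Cfsg.Agent.Lib.Helper19.S3701

theorem map_mono3 {A B : Type*} [Group A] [Group B] (φ : A →* B) (a b c : A) (x : V3) :
    φ (mono3 a b c x) = mono3 (φ a) (φ b) (φ c) x := by
  simp only [mono3, map_mul, map_pow]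

theorem exists_cfg3 {G : Type*} [Group G] [Finite G] (H : Subgroup G)
    (hH : Nonempty (↥H ≃* ↥(Subgroup.closure ({Equiv.swap (0 : Fin 9) 1 * Equiv.swap 1 2,
        Equiv.swap (3 : Fin 9) 4 * Equiv.swap 4 5, Equiv.swap (6 : Fin 9) 7 * Equiv.swap 7 8,
        Equiv.swap (0 : Fin 9) 1 * Equiv.swap 3 4, Equiv.swap (0 : Fin 9) 1 * Equiv.swap 6 7} :
        Set (Equiv.Perm (Fin 9))))))
    (T : Subgroup G) (hTH : T ≤ H) (hT : Nat.card T = 27) :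
    ∃ t₁ t₂ t₃ u₁ u₂ : G, Cfg3 H T t₁ t₂ t₃ u₁ u₂ := by
  classical
  obtain ⟨e⟩ := hH
  set K : Subgroup (Equiv.Perm (Fin 9)) := Subgroup.closure P9.S with hK
  have e' : ↥H ≃* ↥K := e
  let ψ : ↥K →* G := H.subtype.comp e'.symm.toMonoidHom
  have hψinj : Function.Injective ψ := H.subtype_injective.comp e'.symm.injective
  have hψH : ∀ k : K, ψ k ∈ H := fun k => (e'.symm k).2
  have hψsurj : ∀ g ∈ H, ∃ k : K, ψ k = g := by
    intro g hg
    refine ⟨e' ⟨g, hg⟩, ?_⟩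
    change ((e'.symm (e' ⟨g, hg⟩) : H) : G) = g
    rw [e'.symm_apply_apply]
  have hk1 : P9.c₁ ∈ K := Subgroup.subset_closure (by simp [P9.S])
  have hk2 : P9.c₂ ∈ K := Subgroup.subset_closure (by simp [P9.S])
  have hk3 : P9.c₃ ∈ K := Subgroup.subset_closure (by simp [P9.S])
  have hl1 : P9.s₁ ∈ K := Subgroup.subset_closure (by simp [P9.S])
  have hl2 : P9.s₂ ∈ K := Subgroup.subset_closure (by simp [P9.S])
  set k₁ : K := ⟨P9.c₁, hk1⟩ with hk₁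
  set k₂ : K := ⟨P9.c₂, hk2⟩ with hk₂
  set k₃ : K := ⟨P9.c₃, hk3⟩ with hk₃
  set l₁ : K := ⟨P9.s₁, hl1⟩ with hl₁
  set l₂ : K := ⟨P9.s₂, hl2⟩ with hl₂
  let vvK : Fin 4 → K := ![1, l₁, l₂, l₁ * l₂]
  have hcoe : ∀ x : V3, ∀ v : Fin 4,
      ((mono3 k₁ k₂ k₃ x * vvK v : K) : Equiv.Perm (Fin 9)) = P9.elt x v := by
    intro x v
    rw [Subgroup.coe_mul]
    have h1 : ((mono3 k₁ k₂ k₃ x : K) : Equiv.Perm (Fin 9)) = mono3 P9.c₁ P9.c₂ P9.c₃ x :=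
      map_mono3 K.subtype k₁ k₂ k₃ x
    rw [h1]
    unfold P9.elt
    congr 1
    fin_cases v <;> rfl
  -- relations in `K`
  have r₁3 : k₁ ^ 3 = 1 := Subtype.ext P9.c₁3
  have r₂3 : k₂ ^ 3 = 1 := Subtype.ext P9.c₂3
  have r₃3 : k₃ ^ 3 = 1 := Subtype.ext P9.c₃3
  have r₁₂ : k₁ * k₂ = k₂ * k₁ := Subtype.ext P9.c₁₂
  have r₁₃ : k₁ * k₃ = k₃ * k₁ := Subtype.ext P9.c₁₃
  have r₂₃ : k₂ * k₃ = k₃ * k₂ := Subtype.ext P9.c₂₃
  have q₁₁ : l₁ * k₁ * l₁⁻¹ = k₁⁻¹ := Subtype.ext P9.s₁c₁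
  have q₁₂ : l₁ * k₂ * l₁⁻¹ = k₂⁻¹ := Subtype.ext P9.s₁c₂
  have q₁₃ : l₁ * k₃ * l₁⁻¹ = k₃ := Subtype.ext P9.s₁c₃
  have q₂₁ : l₂ * k₁ * l₂⁻¹ = k₁⁻¹ := Subtype.ext P9.s₂c₁
  have q₂₂ : l₂ * k₂ * l₂⁻¹ = k₂ := Subtype.ext P9.s₂c₂
  have q₂₃ : l₂ * k₃ * l₂⁻¹ = k₃⁻¹ := Subtype.ext P9.s₂c₃
  -- injectivity
  have hinj : Function.Injective (mono3 (ψ k₁) (ψ k₂) (ψ k₃)) := by
    intro x y hxy
    rw [← map_mono3, ← map_mono3] at hxy
    have h1 := hψinj hxy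
    have h2 : ((mono3 k₁ k₂ k₃ x * vvK 0 : K) : Equiv.Perm (Fin 9))
        = ((mono3 k₁ k₂ k₃ y * vvK 0 : K) : Equiv.Perm (Fin 9)) := by rw [h1]
    rw [hcoe, hcoe] at h2
    exact (P9.inj_elt x y 0 0 h2).1
  -- every element of `H`
  have hcov : ∀ g ∈ H, ∃ x : V3, ∃ v : Fin 4, g = ψ (mono3 k₁ k₂ k₃ x * vvK v) := by
    intro g hg
    obtain ⟨k, rfl⟩ := hψsurj g hg
    obtain ⟨x, v, hxv⟩ := P9.cover k.2
    refine ⟨x, v, ?_⟩
    congr 1
    apply Subtype.ext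
    rw [hcoe]
    exact hxv
  -- elements of `T`
  have hTsub : ∀ g ∈ T, ∃ x : V3, g = mono3 (ψ k₁) (ψ k₂) (ψ k₃) x := by
    intro g hg
    obtain ⟨x, v, rfl⟩ := hcov g (hTH hg)
    have h27 : (ψ (mono3 k₁ k₂ k₃ x * vvK v)) ^ 27 = 1 := by
      have h1 : (⟨_, hg⟩ : T) ^ Nat.card T = 1 := pow_card_eq_one'
      rw [hT] at h1
      exact congrArg Subtype.val h1
    rw [← map_pow] at h27
    have h2 : (mono3 k₁ k₂ k₃ x * vvK v) ^ 27 = 1 := by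
      apply hψinj
      rw [h27, map_one]
    have h3 : P9.elt x v ^ 27 = 1 := by
      rw [← hcoe, ← Subgroup.coe_pow, h2]
      rfl
    have hv : v = 0 := P9.elt_pow x v h3
    refine ⟨x, ?_⟩
    rw [hv, ← map_mono3]
    congr 1
  have hTeq : (T : Set G) = Set.range (mono3 (ψ k₁) (ψ k₂) (ψ k₃)) := by
    apply Set.eq_of_subset_of_ncard_le
    · intro g hg
      obtain ⟨x, rfl⟩ := hTsub g hg
      exact ⟨x, rfl⟩
    · rw [← Nat.card_coe_set_eq, ← Nat.card_coe_set_eq,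
        Nat.card_range_of_injective hinj]
      have : Nat.card V3 = 27 := by
        rw [Nat.card_eq_fintype_card]
        rfl
      rw [this]
      exact hT.ge
    · exact Set.toFinite _
  refine ⟨ψ k₁, ψ k₂, ψ k₃, ψ l₁, ψ l₂, ?_⟩
  refine
    { t₁3 := by rw [← map_pow, r₁3, map_one]
      t₂3 := by rw [← map_pow, r₂3, map_one]
      t₃3 := by rw [← map_pow, r₃3, map_one]
      c₁₂ := by rw [← map_mul, ← map_mul, r₁₂]
      c₁₃ := by rw [← map_mul, ← map_mul, r₁₃]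
      c₂₃ := by rw [← map_mul, ← map_mul, r₂₃]
      inj := hinj
      memT := ?_
      hu₁ := hψH l₁
      hu₂ := hψH l₂
      u₁t₁ := by rw [← map_inv, ← map_mul, ← map_mul, q₁₁, map_inv]
      u₁t₂ := by rw [← map_inv, ← map_mul, ← map_mul, q₁₂, map_inv]
      u₁t₃ := by rw [← map_inv, ← map_mul, ← map_mul, q₁₃]
      u₂t₁ := by rw [← map_inv, ← map_mul, ← map_mul, q₂₁, map_inv]
      u₂t₂ := by rw [← map_inv, ← map_mul, ← map_mul, q₂₂]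
      u₂t₃ := by rw [← map_inv, ← map_mul, ← map_mul, q₂₃, map_inv]
      cover := ?_
      cardH := ?_ }
  · intro g
    constructor
    · intro hg
      exact hTsub g hg
    · rintro ⟨x, rfl⟩
      have : mono3 (ψ k₁) (ψ k₂) (ψ k₃) x ∈ (T : Set G) := by
        rw [hTeq]
        exact ⟨x, rfl⟩
      exact this
  · intro g hg
    obtain ⟨x, v, rfl⟩ := hcov g hg
    refine ⟨x, ?_⟩
    rw [map_mul, map_mono3]
    fin_cases v
    · left
      change _ * ψ 1 = _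
      rw [map_one, mul_one]
    · right; left
      rfl
    · right; right; left
      rfl
    · right; right; right
      change _ * ψ (l₁ * l₂) = _
      rw [map_mul]
  · rw [Nat.card_congr e'.toEquiv]
    exact P9.card_closure

end Cfsg.Agent.Lib.Helper19.S3701
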