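import Mathlib
import Cfsg.Agent.Lib.Helper12.S3341FO3

/-!
# S3805, piece B: the `(3,3,3)` lemma in general form

If `p`, `q`, `p * q` have order dividing `3`, `p * q ∈ T ∖ 1` and `p` is not conjugate to `q`, then
`p, q ∈ T` (for a Sylow `3`-subgroup `T` which is abelian, contains every `3`-element of its
normaliser `N`, and with `C_G(t) ≤ N` for `t ∈ T ∖ 1`).
-/

set_option autoImplicit false

namespace Cfsg.Agent.Lib.Helper19.S3805

variable {G : Type*} [Group G] [Finite G]

/-- An element of order `3` centralising `p` and `q` forces `p, q ∈ T`. -/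
theorem tri_of_central (T : Sylow 3 G)
    (hcomm : ∀ x ∈ (T : Subgroup G), ∀ y ∈ (T : Subgroup G), x * y = y * x)
    (hloc : ∀ t ∈ (T : Subgroup G), t ≠ 1 →
      Subgroup.centralizer ({t} : Set G) ≤ Subgroup.normalizer ((T : Subgroup G) : Set G))
    (h3N : ∀ n ∈ Subgroup.normalizer ((T : Subgroup G) : Set G), n ^ 3 = 1 → n ∈ (T : Subgroup G))
    (p q w : G) (hp : p ^ 3 = 1) (hq : q ^ 3 = 1)
    (hpq : p * q ∈ (T : Subgroup G)) (hpq1 : p * q ≠ 1)
    (hw1 : w ≠ 1) (hw3 : w ^ 3 = 1) (hwp : w * p = p * w) (hwq : w * q = q * w) :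
    p ∈ (T : Subgroup G) ∧ q ∈ (T : Subgroup G) := by
  have : Fact (Nat.Prime 3) := ⟨Nat.prime_three⟩
  have hwo : orderOf w = 3 := orderOf_eq_prime hw3 hw1
  obtain ⟨h, hh⟩ := Cfsg.Agent.Lib.Helper12.S3341FO3.exists_conj_mem T w hwo
  have ht1 : h * w * h⁻¹ ≠ 1 := by
    intro h1
    apply hw1
    have : w = h⁻¹ * (h * w * h⁻¹) * h := by group
    rw [this, h1]
    group
  -- elements of order dividing 3 commuting with `w` are conjugated into `T` by `h`
  have key : ∀ r : G, r ^ 3 = 1 → w * r = r * w → h * r * h⁻¹ ∈ (T : Subgroup G) := by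
    intro r hr hwr
    apply h3N
    · apply hloc _ hh ht1
      rw [Subgroup.mem_centralizer_singleton_iff]
      calc h * r * h⁻¹ * (h * w * h⁻¹) = h * (r * w) * h⁻¹ := by group
        _ = h * (w * r) * h⁻¹ := by rw [hwr]
        _ = h * w * h⁻¹ * (h * r * h⁻¹) := by group
    · rw [conj_pow, hr]
      group
  have hP := key p hp hwp
  have hQ := key q hq hwq
  have hS : h * (p * q) * h⁻¹ ∈ (T : Subgroup G) := by
    have : h * (p * q) * h⁻¹ = (h * p * h⁻¹) * (h * q * h⁻¹) := by group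
    rw [this]
    exact (T : Subgroup G).mul_mem hP hQ
  -- back: elements commuting with `p * q` after conjugation commute before
  have back : ∀ r : G, r ^ 3 = 1 → h * r * h⁻¹ ∈ (T : Subgroup G) → r ∈ (T : Subgroup G) := by
    intro r hr hR
    apply h3N _ _ hr
    apply hloc _ hpq hpq1
    rw [Subgroup.mem_centralizer_singleton_iff]
    have h1 := hcomm _ hR _ hS
    have h2 : h * (r * (p * q)) * h⁻¹ = h * ((p * q) * r) * h⁻¹ := by
      calc h * (r * (p * q)) * h⁻¹ = h * r * h⁻¹ * (h * (p * q) * h⁻¹) := by group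
        _ = h * (p * q) * h⁻¹ * (h * r * h⁻¹) := h1
        _ = h * ((p * q) * r) * h⁻¹ := by group
    exact mul_left_cancel (mul_right_cancel h2)
  exact ⟨back p hp hP, back q hq hQ⟩

/-- **The `(3,3,3)` lemma.** -/
theorem tri_local (T : Sylow 3 G)
    (hcomm : ∀ x ∈ (T : Subgroup G), ∀ y ∈ (T : Subgroup G), x * y = y * x)
    (hloc : ∀ t ∈ (T : Subgroup G), t ≠ 1 →
      Subgroup.centralizer ({t} : Set G) ≤ Subgroup.normalizer ((T : Subgroup G) : Set G))
    (h3N : ∀ n ∈ Subgroup.normalizer ((T : Subgroup G) : Set G), n ^ 3 = 1 → n ∈ (T : Subgroup G))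
    (p q : G) (hp : p ^ 3 = 1) (hq : q ^ 3 = 1) (hpq3 : (p * q) ^ 3 = 1)
    (hpq : p * q ∈ (T : Subgroup G)) (hpq1 : p * q ≠ 1) (hnc : ¬ IsConj p q) :
    p ∈ (T : Subgroup G) ∧ q ∈ (T : Subgroup G) := by
  -- basic identities
  have hpinv : p⁻¹ = p * p := by
    have : p * p * p = 1 := by rw [← hp, pow_succ, pow_two]
    exact inv_eq_of_mul_eq_one_right (by rw [← mul_assoc]; exact this)
  have hqinv : q⁻¹ = q * q := by
    have : q * q * q = 1 := by rw [← hq, pow_succ, pow_two]
    exact inv_eq_of_mul_eq_one_right (by rw [← mul_assoc]; exact this)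
  have hpqp : p * q * p = q⁻¹ * p⁻¹ * q⁻¹ := by
    have h : p * q * (p * q) * (p * q) = 1 := by rw [← hpq3, pow_succ, pow_two]
    have : p * q * p * (q * p * q) = 1 := by rw [← h]; group
    have h2 := eq_inv_of_mul_eq_one_left this
    rw [h2]; group
  set a : G := p * q⁻¹ with ha
  set b : G := q⁻¹ * p with hb
  have hab1 : a * b = p * q * p := by
    rw [ha, hb]
    calc p * q⁻¹ * (q⁻¹ * p) = p * (q⁻¹ * q⁻¹) * p := by group
      _ = p * q * p := by
        congr 2
        rw [hqinv]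
        have : q * q * q = 1 := by rw [← hq, pow_succ, pow_two]
        calc q * q * (q * q) = (q * q * q) * q := by group
          _ = q := by rw [this, one_mul]
  have hba1 : b * a = q⁻¹ * p⁻¹ * q⁻¹ := by
    rw [ha, hb]
    calc q⁻¹ * p * (p * q⁻¹) = q⁻¹ * (p * p) * q⁻¹ := by group
      _ = q⁻¹ * p⁻¹ * q⁻¹ := by rw [← hpinv]
  have hab : a * b = b * a := by rw [hab1, hba1, hpqp]
  have hpa : p * a * p⁻¹ = (a * b)⁻¹ := by
    rw [hab1, ha]
    calc p * (p * q⁻¹) * p⁻¹ = (p * p) * q⁻¹ * p⁻¹ := by group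
      _ = p⁻¹ * q⁻¹ * p⁻¹ := by rw [← hpinv]
      _ = (p * q * p)⁻¹ := by group
  have hpb : p * b * p⁻¹ = a := by
    rw [ha, hb]; group
  have hqa : q = a⁻¹ * p := by rw [ha]; group
  have cab : Commute a b := hab
  set c : G := a * b⁻¹ with hc
  have cac : Commute a c := (Commute.refl a).mul_right cab.inv_right
  have hbia : b⁻¹ * a = a * b⁻¹ := (cab.inv_right).eq.symm
  have hpc : p * c * p⁻¹ = c * (a ^ 3)⁻¹ := by
    have h1 : p * c * p⁻¹ = (p * a * p⁻¹) * (p * b * p⁻¹)⁻¹ := by rw [hc]; group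
    rw [h1, hpa, hpb, hc]
    calc (a * b)⁻¹ * a⁻¹ = (b⁻¹ * a) * (a ^ 3)⁻¹ := by group
      _ = a * b⁻¹ * (a ^ 3)⁻¹ := by rw [hbia]
  have cca : Commute c ((a ^ 3)⁻¹) := (cac.symm.pow_right 3).inv_right
  have hpck : ∀ k : ℕ, p * c ^ k * p⁻¹ = c ^ k * (a ^ (3 * k))⁻¹ := by
    intro k
    rw [← conj_pow, hpc, cca.mul_pow, inv_pow, ← pow_mul]
  have hbconj : b = p⁻¹ * a * p := by rw [← hpb]; group
  by_cases h3 : 3 ∣ orderOf a
  · -- an element of order 3 of `⟨a, b⟩` centralised by `p`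
    obtain ⟨k, hk⟩ := h3
    have hn0 : 0 < orderOf a := orderOf_pos a
    have hk0 : 0 < k := by
      rcases Nat.eq_zero_or_pos k with h | h
      · rw [h, mul_zero] at hk; omega
      · exact h
    have ha3k : a ^ (3 * k) = 1 := by rw [← hk]; exact pow_orderOf_eq_one a
    have hb3k : b ^ (3 * k) = 1 := by
      rw [hbconj]
      have : p⁻¹ * a * p = p⁻¹ * a * (p⁻¹)⁻¹ := by group
      rw [this, conj_pow, ha3k]
      group
    have hak1 : a ^ k ≠ 1 := by
      apply pow_ne_one_of_lt_orderOf hk0.ne'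
      rw [hk]; omega
    have hak3 : (a ^ k) ^ 3 = 1 := by rw [← pow_mul, mul_comm, ha3k]
    have hck : p * c ^ k * p⁻¹ = c ^ k := by
      rw [hpck k, ha3k, inv_one, mul_one]
    have hck3 : (c ^ k) ^ 3 = 1 := by
      rw [← pow_mul, mul_comm, hc, cab.inv_right.mul_pow, ha3k, inv_pow, hb3k]
      simp
    have hfin : ∀ w : G, w ≠ 1 → w ^ 3 = 1 → p * w * p⁻¹ = w → Commute a w →
        p ∈ (T : Subgroup G) ∧ q ∈ (T : Subgroup G) := by
      intro w hw1 hw3 hpw haw
      have hwp : w * p = p * w := by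
        have : p * w = w * p := by
          calc p * w = (p * w * p⁻¹) * p := by group
            _ = w * p := by rw [hpw]
        exact this.symm
      have hwq : w * q = q * w := by
        rw [hqa]
        have h1 : w * a⁻¹ = a⁻¹ * w := (haw.symm.inv_right).eq
        calc w * (a⁻¹ * p) = (w * a⁻¹) * p := by group
          _ = a⁻¹ * w * p := by rw [h1]
          _ = a⁻¹ * (w * p) := by group
          _ = a⁻¹ * (p * w) := by rw [hwp]
          _ = a⁻¹ * p * w := by group
      exact tri_of_central T hcomm hloc h3N p q w hp hq hpq hpq1 hw1 hw3 hwp hwq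
    by_cases hw : c ^ k = 1
    · -- then `a ^ k = b ^ k` and `a ^ k` is centralised by `p`
      have hakbk : a ^ k = b ^ k := by
        have h1 : c ^ k = a ^ k * (b ^ k)⁻¹ := by
          rw [hc, cab.inv_right.mul_pow, inv_pow]
        rw [h1] at hw
        exact mul_inv_eq_one.1 hw
      apply hfin (a ^ k) hak1 hak3 _ ((Commute.refl a).pow_right k)
      have h1 : p * a ^ k * p⁻¹ = ((a * b) ^ k)⁻¹ := by
        rw [← conj_pow, hpa, inv_pow]
      rw [h1, cab.mul_pow, ← hakbk]
      have h2 : a ^ k * a ^ k * a ^ k = 1 := by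
        rw [← pow_add, ← pow_add, ← ha3k]
        congr 1
        ring
      exact inv_eq_of_mul_eq_one_left (by rw [← mul_assoc]; exact h2)
    · exact hfin (c ^ k) hw hck3 hck (cac.pow_right k)
  · -- `q` is conjugate to `p`
    exfalso
    apply hnc
    by_cases hn1 : orderOf a = 1
    · have ha1 : a = 1 := orderOf_eq_one_iff.1 hn1
      have : p = q := by
        rw [ha] at ha1
        exact mul_inv_eq_one.1 ha1
      rw [this]
    · have hn0 : 0 < orderOf a := orderOf_pos a
      have hn2 : 1 < orderOf a := by omega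
      have hcop : Nat.Coprime 3 (orderOf a) :=
        (Nat.Prime.coprime_iff_not_dvd Nat.prime_three).2 h3
      obtain ⟨m, -, hm⟩ := Nat.exists_mul_mod_eq_one_of_coprime hcop hn2
      have ha3m : a ^ (3 * m) = a := by
        rw [← pow_mod_orderOf, hm, pow_one]
      have hα : p * c ^ m * p⁻¹ = c ^ m * a⁻¹ := by
        rw [hpck m, ha3m]
      rw [isConj_iff]
      refine ⟨(c ^ m)⁻¹, ?_⟩
      rw [inv_inv]
      calc (c ^ m)⁻¹ * p * c ^ m = (c ^ m)⁻¹ * (p * c ^ m * p⁻¹) * p := by group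
        _ = (c ^ m)⁻¹ * (c ^ m * a⁻¹) * p := by rw [hα]
        _ = a⁻¹ * p := by group
        _ = q := hqa.symm

end Cfsg.Agent.Lib.Helper19.S3805
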