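import Mathlib
import Cfsg.Agent.Lib.Helper19.S3805Defs
import Cfsg.Agent.Lib.Helper19.S3805B

/-!
# S3805, piece C: consequences of the configuration `N_G(T) = S₃ × S₃`

Fusion, the three classes `a`, `b`, `a * b` of `3`-elements, their centralisers, and the seven local
class-algebra constants.
-/

set_option autoImplicit false

namespace Cfsg.Agent.Lib.Helper19.S3805

variable {G : Type*} [Group G] [Finite G]

theorem inv_ne_self_of_cube {x : G} (h3 : x ^ 3 = 1) (h1 : x ≠ 1) : x⁻¹ ≠ x := by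
  intro h
  apply h1
  have h2 : x * x = 1 := by
    calc x * x = x⁻¹ * x := by rw [h]
      _ = 1 := inv_mul_cancel x
  calc x = x ^ 3 * (x * x)⁻¹ := by group
    _ = 1 := by rw [h3, h2]; simp

theorem mul_self_eq_inv_of_cube {x : G} (h3 : x ^ 3 = 1) : x * x = x⁻¹ := by
  apply eq_inv_of_mul_eq_one_left
  rw [← h3, pow_succ, pow_two]

theorem isConj_cube {x y : G} (h : IsConj x y) (hx : x ^ 3 = 1) : y ^ 3 = 1 := by
  obtain ⟨c, hc⟩ := isConj_iff.1 h
  rw [← hc, conj_pow, hx]
  group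

/-- Every `3`-element of `N_G(T)` lies in `T`. -/
theorem three_mem (T : Sylow 3 G)
    [hn : ((T : Subgroup G).subgroupOf (Subgroup.normalizer ((T : Subgroup G) : Set G))).Normal]
    (hK : IsKleinFour (↥(Subgroup.normalizer ((T : Subgroup G) : Set G)) ⧸
      (T : Subgroup G).subgroupOf (Subgroup.normalizer ((T : Subgroup G) : Set G)))) :
    ∀ n ∈ Subgroup.normalizer ((T : Subgroup G) : Set G), n ^ 3 = 1 → n ∈ (T : Subgroup G) := by
  intro n hnN hn3
  set x : ↥(Subgroup.normalizer ((T : Subgroup G) : Set G)) ⧸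
      (T : Subgroup G).subgroupOf (Subgroup.normalizer ((T : Subgroup G) : Set G)) :=
    QuotientGroup.mk ⟨n, hnN⟩ with hx
  have h2 : x ^ 2 = 1 := by
    have := Monoid.pow_exponent_eq_one x
    rwa [hK.exponent_two] at this
  have h3 : x ^ 3 = 1 := by
    have h0 : (⟨n, hnN⟩ : ↥(Subgroup.normalizer ((T : Subgroup G) : Set G))) ^ 3 = 1 :=
      Subtype.ext (by simpa using hn3)
    rw [hx, ← QuotientGroup.mk_pow, h0, QuotientGroup.mk_one]
  have h1 : x = 1 := by
    calc x = x ^ 3 * (x ^ 2)⁻¹ := by group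
      _ = 1 := by rw [h2, h3]; simp
  have h4 := (QuotientGroup.eq_one_iff _).1 h1
  exact Subgroup.mem_subgroupOf.1 h4

/-- `|N_G(T)| = 36`. -/
theorem card_normalizer (T : Sylow 3 G) (hcard : Nat.card (T : Subgroup G) = 9)
    [hn : ((T : Subgroup G).subgroupOf (Subgroup.normalizer ((T : Subgroup G) : Set G))).Normal]
    (hK : IsKleinFour (↥(Subgroup.normalizer ((T : Subgroup G) : Set G)) ⧸
      (T : Subgroup G).subgroupOf (Subgroup.normalizer ((T : Subgroup G) : Set G)))) :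
    Nat.card (Subgroup.normalizer ((T : Subgroup G) : Set G)) = 36 := by
  have h1 := Subgroup.card_eq_card_quotient_mul_card_subgroup
    ((T : Subgroup G).subgroupOf (Subgroup.normalizer ((T : Subgroup G) : Set G)))
  have h2 : Nat.card ((T : Subgroup G).subgroupOf (Subgroup.normalizer ((T : Subgroup G) : Set G)))
      = Nat.card (T : Subgroup G) :=
    Nat.card_congr (Subgroup.subgroupOfEquivOfLe Subgroup.le_normalizer).toEquiv
  rw [h1, hK.card_four, h2, hcard]

section Fusion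

variable (T : Sylow 3 G)
  (hcomm : ∀ x ∈ (T : Subgroup G), ∀ y ∈ (T : Subgroup G), x * y = y * x)
  (hexp : ∀ x ∈ (T : Subgroup G), x ^ 3 = 1)
  (hloc : ∀ t ∈ (T : Subgroup G), t ≠ 1 →
    Subgroup.centralizer ({t} : Set G) ≤ Subgroup.normalizer ((T : Subgroup G) : Set G))
  (h3N : ∀ n ∈ Subgroup.normalizer ((T : Subgroup G) : Set G), n ^ 3 = 1 → n ∈ (T : Subgroup G))

include hcomm hexp hloc h3N

theorem conj_mem_of_conj_mem (s g : G) (hs : s ∈ (T : Subgroup G)) (hs1 : s ≠ 1)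
    (hg : g * s * g⁻¹ ∈ (T : Subgroup G)) (t : G) (ht : t ∈ (T : Subgroup G)) :
    g * t * g⁻¹ ∈ (T : Subgroup G) := by
  have hs1' : g * s * g⁻¹ ≠ 1 := by
    intro h
    apply hs1
    have : s = g⁻¹ * (g * s * g⁻¹) * g := by group
    rw [this, h]
    group
  apply h3N
  · apply hloc _ hg hs1'
    rw [Subgroup.mem_centralizer_singleton_iff]
    have h1 := hcomm t ht s hs
    calc g * t * g⁻¹ * (g * s * g⁻¹) = g * (t * s) * g⁻¹ := by group
      _ = g * (s * t) * g⁻¹ := by rw [h1]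
      _ = g * s * g⁻¹ * (g * t * g⁻¹) := by group
  · rw [conj_pow, hexp t ht]
    group

/-- `N_G(T)` controls fusion in `T`. -/
theorem fusion (s g : G) (hs : s ∈ (T : Subgroup G)) (hs1 : s ≠ 1)
    (hg : g * s * g⁻¹ ∈ (T : Subgroup G)) :
    g ∈ Subgroup.normalizer ((T : Subgroup G) : Set G) := by
  have hs1' : g * s * g⁻¹ ≠ 1 := by
    intro h
    apply hs1
    have : s = g⁻¹ * (g * s * g⁻¹) * g := by group
    rw [this, h]
    group
  rw [Subgroup.mem_normalizer_iff]
  intro h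
  constructor
  · exact conj_mem_of_conj_mem T hcomm hexp hloc h3N s g hs hs1 hg h
  · intro hh
    have h1 : g⁻¹ * (g * s * g⁻¹) * (g⁻¹)⁻¹ ∈ (T : Subgroup G) := by
      have : g⁻¹ * (g * s * g⁻¹) * (g⁻¹)⁻¹ = s := by group
      rw [this]
      exact hs
    have h2 := conj_mem_of_conj_mem T hcomm hexp hloc h3N (g * s * g⁻¹) g⁻¹ hg hs1' h1
      (g * h * g⁻¹) hh
    have : g⁻¹ * (g * h * g⁻¹) * (g⁻¹)⁻¹ = h := by group
    rw [this] at h2
    exact h2

end Fusion

end Cfsg.Agent.Lib.Helper19.S3805
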