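import Mathlib
import Cfsg.Agent.Lib.Helper19.S3701Defs
import Cfsg.Agent.Lib.Helper19.S3805B
import Cfsg.Agent.Lib.Helper19.S3805C

/-!
# S3701, group-theoretic front: the sign action, fusion, classes, local pair counts
-/

set_option autoImplicit false

namespace Cfsg.Agent.Lib.Helper19.S3701

/-! ### The sign action of `H` on `T` -/

section Sign

variable {G : Type*} [Group G] {H T : Subgroup G} {t₁ t₂ t₃ u₁ u₂ : G}

theorem inv_pow_val {t : G} (ht : t ^ 3 = 1) (a : ZMod 3) : (t⁻¹) ^ a.val = t ^ (2 * a).val := by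
  have hinv : t⁻¹ = t ^ 2 := by
    apply inv_eq_of_mul_eq_one_right
    rw [← pow_succ']
    exact ht
  fin_cases a
  · change t⁻¹ ^ 0 = t ^ 0
    rw [pow_zero, pow_zero]
  · change t⁻¹ ^ 1 = t ^ 2
    rw [pow_one, hinv]
  · change t⁻¹ ^ 2 = t ^ 1
    rw [hinv, ← pow_mul, pow_one]
    have : t ^ (2 * 2) = t ^ 3 * t := by rw [← pow_succ]
    rw [this, ht, one_mul]

theorem pow_one_mul_val (t : G) (a : ZMod 3) : t ^ a.val = t ^ (1 * a).val := by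
  rw [one_mul]

/-- `g` acts on `T` as the sign pattern `ε`. -/
def Acts (t₁ t₂ t₃ g : G) (ε : V3) : Prop :=
  ∀ x : V3, g * mono3 t₁ t₂ t₃ x * g⁻¹ = mono3 t₁ t₂ t₃ (ε * x)

theorem Acts.mul {g g' : G} {ε ε' : V3} (h : Acts t₁ t₂ t₃ g ε) (h' : Acts t₁ t₂ t₃ g' ε') :
    Acts t₁ t₂ t₃ (g * g') (ε * ε') := by
  intro x
  have e : g * g' * mono3 t₁ t₂ t₃ x * (g * g')⁻¹
      = g * (g' * mono3 t₁ t₂ t₃ x * g'⁻¹) * g⁻¹ := by group
  rw [e, h' x, h (ε' * x), mul_assoc]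

variable (h : Cfg3 H T t₁ t₂ t₃ u₁ u₂)

include h

theorem Cfg3.mono3_mul (x y : V3) :
    mono3 t₁ t₂ t₃ (x + y) = mono3 t₁ t₂ t₃ x * mono3 t₁ t₂ t₃ y :=
  S3701.mono3_mul h.t₁3 h.t₂3 h.t₃3 h.c₁₂ h.c₁₃ h.c₂₃ x y

theorem Cfg3.mono3_mem (x : V3) : mono3 t₁ t₂ t₃ x ∈ T := (h.memT _).2 ⟨x, rfl⟩

theorem Cfg3.mono3_ne_one {x : V3} (hx : x ≠ 0) : mono3 t₁ t₂ t₃ x ≠ 1 := by
  intro e
  rw [← mono3_zero t₁ t₂ t₃] at e
  exact hx (h.inj e)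

theorem Cfg3.comm : ∀ x ∈ T, ∀ y ∈ T, x * y = y * x := by
  intro x hx y hy
  obtain ⟨a, rfl⟩ := (h.memT x).1 hx
  obtain ⟨b, rfl⟩ := (h.memT y).1 hy
  rw [← h.mono3_mul, ← h.mono3_mul, add_comm]

theorem Cfg3.exp : ∀ x ∈ T, x ^ 3 = 1 := by
  intro x hx
  obtain ⟨a, rfl⟩ := (h.memT x).1 hx
  have h3 : ∀ b : V3, b + b + b = 0 := by decide
  rw [pow_succ, pow_two, ← h.mono3_mul, ← h.mono3_mul, h3 a, mono3_zero]

theorem Cfg3.acts_mono3 (z : V3) : Acts t₁ t₂ t₃ (mono3 t₁ t₂ t₃ z) 1 := by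
  intro x
  rw [one_mul]
  have := h.comm _ (h.mono3_mem z) _ (h.mono3_mem x)
  rw [this]
  group

theorem Cfg3.acts_u₁ : Acts t₁ t₂ t₃ u₁ (2, 2, 1) := by
  intro x
  unfold mono3
  rw [← conj_mul, ← conj_mul, ← conj_pow, ← conj_pow, ← conj_pow, h.u₁t₁, h.u₁t₂, h.u₁t₃,
    inv_pow_val h.t₁3, inv_pow_val h.t₂3, pow_one_mul_val t₃]
  rfl

theorem Cfg3.acts_u₂ : Acts t₁ t₂ t₃ u₂ (2, 1, 2) := by
  intro x
  unfold mono3
  rw [← conj_mul, ← conj_mul, ← conj_pow, ← conj_pow, ← conj_pow, h.u₂t₁, h.u₂t₂, h.u₂t₃,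
    inv_pow_val h.t₁3, inv_pow_val h.t₃3, pow_one_mul_val t₂]
  rfl

/-- Every element of `H` acts on `T` as a sign pattern of `E4`. -/
theorem Cfg3.acts_of_mem {g : G} (hg : g ∈ H) : ∃ ε ∈ E4, Acts t₁ t₂ t₃ g ε := by
  obtain ⟨z, hz | hz | hz | hz⟩ := h.cover g hg
  · exact ⟨1, by decide, by rw [hz]; exact h.acts_mono3 z⟩
  · refine ⟨1 * (2, 2, 1), by decide, ?_⟩
    rw [hz]
    exact (h.acts_mono3 z).mul h.acts_u₁
  · refine ⟨1 * (2, 1, 2), by decide, ?_⟩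
    rw [hz]
    exact (h.acts_mono3 z).mul h.acts_u₂
  · refine ⟨1 * ((2, 2, 1) * (2, 1, 2)), by decide, ?_⟩
    rw [hz]
    exact (h.acts_mono3 z).mul (h.acts_u₁.mul h.acts_u₂)

/-- Every sign pattern of `E4` is induced by an element of `H`. -/
theorem Cfg3.exists_acts {ε : V3} (hε : ε ∈ E4) : ∃ g ∈ H, Acts t₁ t₂ t₃ g ε := by
  have h4 : ε = 1 ∨ ε = (2, 2, 1) ∨ ε = (2, 1, 2) ∨ ε = (2, 2, 1) * (2, 1, 2) := by
    revert ε
    decide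
  rcases h4 with rfl | rfl | rfl | rfl
  · refine ⟨1, H.one_mem, ?_⟩
    have := h.acts_mono3 0
    rwa [mono3_zero] at this
  · exact ⟨u₁, h.hu₁, h.acts_u₁⟩
  · exact ⟨u₂, h.hu₂, h.acts_u₂⟩
  · exact ⟨u₁ * u₂, H.mul_mem h.hu₁ h.hu₂, h.acts_u₁.mul h.acts_u₂⟩

end Sign

/-! ### Sylow facts -/

section Syl

variable {G : Type*} [Group G] [Finite G]

/-- A `3`-element of the normaliser of a Sylow `3`-subgroup lies in it. -/
theorem three_mem_sylow (P : Sylow 3 G) (n : G)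
    (hn : n ∈ Subgroup.normalizer ((P : Subgroup G) : Set G)) (h3 : n ^ 3 = 1) :
    n ∈ (P : Subgroup G) := by
  have : Fact (Nat.Prime 3) := ⟨Nat.prime_three⟩
  have hz : IsPGroup 3 (Subgroup.zpowers n) := by
    rw [IsPGroup.iff_card]
    rw [Nat.card_zpowers]
    have hd : orderOf n ∣ 3 := orderOf_dvd_of_pow_eq_one h3
    rcases (Nat.dvd_prime Nat.prime_three).1 hd with h1 | h1
    · exact ⟨0, by rw [h1, pow_zero]⟩
    · exact ⟨1, by rw [h1, pow_one]⟩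
  have hle : Subgroup.zpowers n ≤ Subgroup.normalizer ((P : Subgroup G) : Set G) := by
    rw [Subgroup.zpowers_le]
    exact hn
  have hsup := IsPGroup.to_sup_of_normal_right' hz P.isPGroup' hle
  have heq := P.is_maximal' hsup le_sup_right
  have : n ∈ Subgroup.zpowers n ⊔ (P : Subgroup G) :=
    (le_sup_left : Subgroup.zpowers n ≤ _) (Subgroup.mem_zpowers n)
  rwa [heq] at this

end Syl

/-! ### Fusion and classes -/

section Fus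

variable {G : Type*} [Group G] [Finite G] (P : Sylow 3 G) {H : Subgroup G}
  {t₁ t₂ t₃ u₁ u₂ : G} (h : Cfg3 H (P : Subgroup G) t₁ t₂ t₃ u₁ u₂)
  (hN : Subgroup.normalizer ((P : Subgroup G) : Set G) = H)
  (hC : ∀ t ∈ (P : Subgroup G), t ≠ 1 → Subgroup.centralizer ({t} : Set G) ≤ H)

include h hN hC

theorem hloc' : ∀ t ∈ (P : Subgroup G), t ≠ 1 →
    Subgroup.centralizer ({t} : Set G) ≤ Subgroup.normalizer ((P : Subgroup G) : Set G) := by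
  intro t ht ht1
  rw [hN]
  exact hC t ht ht1

/-- Conjugation between elements of `T#` happens in `H`. -/
theorem mem_of_conj {x x' : V3} (hx : x ≠ 0) {g : G}
    (hg : g * mono3 t₁ t₂ t₃ x * g⁻¹ = mono3 t₁ t₂ t₃ x') : g ∈ H := by
  rw [← hN]
  apply S3805.fusion P h.comm h.exp (hloc' P h hN hC) (three_mem_sylow P) _ g (h.mono3_mem x)
    (h.mono3_ne_one hx)
  rw [hg]
  exact h.mono3_mem x'

theorem isConj_mono3_iff {x : V3} (hx : x ≠ 0) (x' : V3) :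
    IsConj (mono3 t₁ t₂ t₃ x) (mono3 t₁ t₂ t₃ x') ↔ ∃ ε ∈ E4, x' = ε * x := by
  constructor
  · intro hc
    obtain ⟨g, hg⟩ := isConj_iff.1 hc
    have hgH := mem_of_conj P h hN hC hx hg
    obtain ⟨ε, hε, ha⟩ := h.acts_of_mem hgH
    refine ⟨ε, hε, ?_⟩
    apply h.inj
    rw [← hg, ha x]
  · rintro ⟨ε, hε, rfl⟩
    obtain ⟨g, -, ha⟩ := h.exists_acts hε
    exact isConj_iff.2 ⟨g, ha x⟩

/-- The exponent vectors of the class of `mono3 x`. -/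
theorem isConj_iff_image {x : V3} (hx : x ≠ 0) (p : G) (hp : p ∈ (P : Subgroup G)) :
    IsConj (mono3 t₁ t₂ t₃ x) p ↔ ∃ z ∈ E4.image (fun ε => ε * x), p = mono3 t₁ t₂ t₃ z := by
  obtain ⟨x', rfl⟩ := (h.memT p).1 hp
  rw [isConj_mono3_iff P h hN hC hx]
  constructor
  · rintro ⟨ε, hε, rfl⟩
    exact ⟨ε * x, Finset.mem_image.2 ⟨ε, hε, rfl⟩, rfl⟩
  · rintro ⟨z, hz, hpz⟩
    obtain ⟨ε, hε, rfl⟩ := Finset.mem_image.1 hz
    exact ⟨ε, hε, h.inj hpz⟩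

/-- The general local count. -/
theorem card_pairs3 (x₁ x₂ w : V3) (hx₁ : x₁ ≠ 0) (hx₂ : x₂ ≠ 0) (hw : w ≠ 0)
    (hnc : ∀ ε ∈ E4, x₂ ≠ ε * x₁) :
    Nat.card {p : G × G // IsConj (mono3 t₁ t₂ t₃ x₁) p.1 ∧ IsConj (mono3 t₁ t₂ t₃ x₂) p.2 ∧
        p.1 * p.2 = mono3 t₁ t₂ t₃ w}
      = (((E4.image (fun ε => ε * x₁)) ×ˢ (E4.image (fun ε => ε * x₂))).filter
          (fun xy => xy.1 + xy.2 = w)).card := by
  classical
  set c₁ := E4.image (fun ε => ε * x₁) with hc₁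
  set c₂ := E4.image (fun ε => ε * x₂) with hc₂
  have hwT : mono3 t₁ t₂ t₃ w ∈ (P : Subgroup G) := h.mono3_mem w
  have hw1 : mono3 t₁ t₂ t₃ w ≠ 1 := h.mono3_ne_one hw
  have hncJ : ¬ IsConj (mono3 t₁ t₂ t₃ x₁) (mono3 t₁ t₂ t₃ x₂) := by
    intro hc
    obtain ⟨ε, hε, he⟩ := (isConj_mono3_iff P h hN hC hx₁ x₂).1 hc
    exact hnc ε hε he
  rw [← Fintype.card_coe, ← Nat.card_eq_fintype_card]
  symm
  let back : {xy // xy ∈ (c₁ ×ˢ c₂).filter (fun xy => xy.1 + xy.2 = w)} →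
      {p : G × G // IsConj (mono3 t₁ t₂ t₃ x₁) p.1 ∧ IsConj (mono3 t₁ t₂ t₃ x₂) p.2 ∧
        p.1 * p.2 = mono3 t₁ t₂ t₃ w} := fun xy =>
    ⟨(mono3 t₁ t₂ t₃ xy.1.1, mono3 t₁ t₂ t₃ xy.1.2), by
      have hm := Finset.mem_filter.1 xy.2
      have hm1 := Finset.mem_product.1 hm.1
      refine ⟨(isConj_iff_image P h hN hC hx₁ _ (h.mono3_mem _)).2 ⟨_, hm1.1, rfl⟩,
        (isConj_iff_image P h hN hC hx₂ _ (h.mono3_mem _)).2 ⟨_, hm1.2, rfl⟩, ?_⟩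
      rw [← h.mono3_mul]
      exact congrArg (mono3 t₁ t₂ t₃) hm.2⟩
  apply Nat.card_congr
  apply Equiv.ofBijective back
  constructor
  · intro xy xy' hh
    have h1 : mono3 t₁ t₂ t₃ xy.1.1 = mono3 t₁ t₂ t₃ xy'.1.1 := congrArg (fun p => p.1.1) hh
    have h2 : mono3 t₁ t₂ t₃ xy.1.2 = mono3 t₁ t₂ t₃ xy'.1.2 := congrArg (fun p => p.1.2) hh
    apply Subtype.ext
    exact Prod.ext (h.inj h1) (h.inj h2)
  · rintro ⟨⟨p, q⟩, hp, hq, hpq⟩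
    simp only at hp hq hpq
    have hT := S3805.tri_local P h.comm (hloc' P h hN hC) (three_mem_sylow P) p q
      (S3805.isConj_cube hp (h.exp _ (h.mono3_mem x₁)))
      (S3805.isConj_cube hq (h.exp _ (h.mono3_mem x₂)))
      (by rw [hpq]; exact h.exp _ hwT) (by rw [hpq]; exact hwT) (by rw [hpq]; exact hw1)
      (fun hc => hncJ ((hp.trans hc).trans hq.symm))
    obtain ⟨x, hx, rfl⟩ := (isConj_iff_image P h hN hC hx₁ p hT.1).1 hp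
    obtain ⟨y, hy, rfl⟩ := (isConj_iff_image P h hN hC hx₂ q hT.2).1 hq
    have hxy : x + y = w := by
      apply h.inj
      rw [h.mono3_mul, hpq]
    exact ⟨⟨(x, y), Finset.mem_filter.2 ⟨Finset.mem_product.2 ⟨hx, hy⟩, hxy⟩⟩, rfl⟩

end Fus

end Cfsg.Agent.Lib.Helper19.S3701
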