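import Mathlib
import Cfsg.Agent.Lib.Helper19.S3701B

/-!
# S3701, piece B4: the centraliser orders (orbit-stabiliser in `H`)
-/

set_option autoImplicit false

namespace Cfsg.Agent.Lib.Helper19.S3701

theorem card_centralizer_mul {G : Type*} [Group G] [Finite G] {H T : Subgroup G}
    {t₁ t₂ t₃ u₁ u₂ : G} (h : Cfg3 H T t₁ t₂ t₃ u₁ u₂)
    (hC : ∀ t ∈ T, t ≠ 1 → Subgroup.centralizer ({t} : Set G) ≤ H) {x : V3} (hx : x ≠ 0) :
    Nat.card (Subgroup.centralizer ({mono3 t₁ t₂ t₃ x} : Set G))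
      * (E4.image (fun ε => ε * x)).card = 108 := by
  classical
  set t := mono3 t₁ t₂ t₃ x with ht
  have htT : t ∈ T := h.mono3_mem x
  have ht1 : t ≠ 1 := h.mono3_ne_one hx
  have hCH : Subgroup.centralizer ({t} : Set G) ≤ H := hC t htT ht1
  choose ε hε hact using fun g : H => h.acts_of_mem g.2
  set O := E4.image (fun e => e * x) with hO
  let φ : H → {z // z ∈ O} := fun g => ⟨ε g * x, Finset.mem_image.2 ⟨ε g, hε g, rfl⟩⟩
  have hφ : ∀ g : H, (g : G) * t * (g : G)⁻¹ = mono3 t₁ t₂ t₃ (φ g).1 := fun g => hact g x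
  have hrep : ∀ z : {z // z ∈ O}, ∃ g : H, (g : G) * t * (g : G)⁻¹ = mono3 t₁ t₂ t₃ z.1 := by
    intro z
    obtain ⟨e, he, hez⟩ := Finset.mem_image.1 z.2
    obtain ⟨g, hg, ha⟩ := h.exists_acts he
    refine ⟨⟨g, hg⟩, ?_⟩
    rw [← hez]
    exact ha x
  choose r hr using hrep
  have hfib : ∀ z : {z // z ∈ O},
      Nat.card {g : H // φ g = z} = Nat.card (Subgroup.centralizer ({t} : Set G)) := by
    intro z
    apply Nat.card_congr
    refine ⟨fun g => ⟨(r z : G)⁻¹ * (g.1 : G), ?_⟩,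
      fun c => ⟨⟨(r z : G) * c.1, H.mul_mem (r z).2 (hCH c.2)⟩, ?_⟩, ?_, ?_⟩
    · rw [Subgroup.mem_centralizer_singleton_iff]
      have h1 : (g.1 : G) * t * (g.1 : G)⁻¹ = (r z : G) * t * (r z : G)⁻¹ := by
        rw [hφ g.1, g.2, hr z]
      calc (r z : G)⁻¹ * (g.1 : G) * t
          = (r z : G)⁻¹ * ((g.1 : G) * t * (g.1 : G)⁻¹) * (g.1 : G) := by group
        _ = (r z : G)⁻¹ * ((r z : G) * t * (r z : G)⁻¹) * (g.1 : G) := by rw [h1]
        _ = t * ((r z : G)⁻¹ * (g.1 : G)) := by group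
    · apply Subtype.ext
      apply h.inj
      have hc : c.1 * t = t * c.1 := Subgroup.mem_centralizer_singleton_iff.1 c.2
      rw [← hφ, ← hr z]
      change (r z : G) * c.1 * t * ((r z : G) * c.1)⁻¹ = _
      calc (r z : G) * c.1 * t * ((r z : G) * c.1)⁻¹
          = (r z : G) * (c.1 * t) * c.1⁻¹ * (r z : G)⁻¹ := by group
        _ = (r z : G) * (t * c.1) * c.1⁻¹ * (r z : G)⁻¹ := by rw [hc]
        _ = (r z : G) * t * (r z : G)⁻¹ := by group
    · intro g
      apply Subtype.ext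
      apply Subtype.ext
      change (r z : G) * ((r z : G)⁻¹ * (g.1 : G)) = (g.1 : G)
      group
    · intro c
      apply Subtype.ext
      change (r z : G)⁻¹ * ((r z : G) * c.1) = c.1
      group
  have hH : Nat.card H = Nat.card (Σ z : {z // z ∈ O}, {g : H // φ g = z}) :=
    Nat.card_congr (Equiv.sigmaFiberEquiv φ).symm
  rw [Nat.card_sigma, Finset.sum_congr rfl (fun z _ => hfib z), Finset.sum_const,
    Finset.card_univ, Fintype.card_coe, smul_eq_mul, h.cardH] at hH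
  rw [mul_comm]
  exact hH.symm

end Cfsg.Agent.Lib.Helper19.S3701
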