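import Mathlib
import Cfsg.Prelude.Def_Characters
import Cfsg.Agent.Lib.Helper19.S3701Defs
import Cfsg.Agent.Lib.Helper2.Linear
import Cfsg.Agent.Lib.Helper2.Induction

/-!
# S3701, piece C: the multiplicities of the linear characters of `T` are natural numbers
-/

set_option autoImplicit false

namespace Cfsg.Agent.Lib.Helper19.S3701

open Cfsg
open Cfsg.Agent.Lib.Helper2
open scoped ComplexConjugate

/-- The linear character of `Multiplicative V3` with index `x`. -/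
noncomputable def evHom (x : V3) : Multiplicative V3 →* ℂˣ where
  toFun a := Units.mk0 (ev x (Multiplicative.toAdd a)) (ev_ne_zero _ _)
  map_one' := by
    apply Units.ext
    change ev x 0 = 1
    exact ev_zero_right x
  map_mul' a b := by
    apply Units.ext
    change ev x (Multiplicative.toAdd a + Multiplicative.toAdd b) = _
    rw [ev_add_right]
    rfl

/-- `mono3` as a homomorphism. -/
def mono3Hom {G : Type*} [Group G] {t₁ t₂ t₃ : G}
    (h₁ : t₁ ^ 3 = 1) (h₂ : t₂ ^ 3 = 1) (h₃ : t₃ ^ 3 = 1)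
    (c₁₂ : t₁ * t₂ = t₂ * t₁) (c₁₃ : t₁ * t₃ = t₃ * t₁) (c₂₃ : t₂ * t₃ = t₃ * t₂) :
    Multiplicative V3 →* G where
  toFun a := mono3 t₁ t₂ t₃ (Multiplicative.toAdd a)
  map_one' := mono3_zero t₁ t₂ t₃
  map_mul' a b := mono3_mul h₁ h₂ h₃ c₁₂ c₁₃ c₂₃ _ _

theorem mult_nat {G : Type*} [Group G] {t₁ t₂ t₃ : G}
    (h₁ : t₁ ^ 3 = 1) (h₂ : t₂ ^ 3 = 1) (h₃ : t₃ ^ 3 = 1)
    (c₁₂ : t₁ * t₂ = t₂ * t₁) (c₁₃ : t₁ * t₃ = t₃ * t₁) (c₂₃ : t₂ * t₃ = t₃ * t₂)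
    (χ : G → ℂ) (hχ : IsCharacter G χ) (x : V3) :
    ∃ n : ℕ, ∑ y : V3, χ (mono3 t₁ t₂ t₃ y) * conj (ev x y) = 27 * (n : ℂ) := by
  have hψ := IsCharacter.comp hχ (mono3Hom h₁ h₂ h₃ c₁₂ c₁₃ c₂₃)
  have hl := IsIrrCharacter.isCharacter (isIrrCharacter_of_monoidHom (evHom x))
  obtain ⟨n, hn⟩ := classInner_isCharacter_nat hψ hl
  refine ⟨n, ?_⟩
  rw [classInner_def] at hn
  have hcard : (Nat.card (Multiplicative V3) : ℂ) = 27 := by
    have : Nat.card (Multiplicative V3) = 27 := by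
      rw [Nat.card_eq_fintype_card]
      rfl
    rw [this]
    norm_num
  rw [hcard] at hn
  have hsum : ∑ a : Multiplicative V3, χ (mono3Hom h₁ h₂ h₃ c₁₂ c₁₃ c₂₃ a)
        * conj (((evHom x) a : ℂˣ) : ℂ)
      = ∑ y : V3, χ (mono3 t₁ t₂ t₃ y) * conj (ev x y) :=
    Fintype.sum_equiv Multiplicative.toAdd _ _ (fun _ => rfl)
  rw [hsum] at hn
  rw [← hn]
  field_simp

end Cfsg.Agent.Lib.Helper19.S3701
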