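import Mathlib
import Cfsg.Agent.Lib.Helper19.S3701Defs
import Cfsg.Agent.Lib.Helper29.S3701FOE2
import Cfsg.Agent.Lib.Helper22.S3701FOE3
import Cfsg.Agent.Lib.Helper6.S3701FOE1

/-!
# S3701, piece E4: the Fourier-analytic main lemma
-/

set_option autoImplicit false

namespace Cfsg.Agent.Lib.Helper19.S3701

open scoped ComplexConjugate

/-- Multiplication by a sign pattern, as a permutation of `V3`. -/
def signEquiv (ε : V3) (hε : ε * ε = 1) : V3 ≃ V3 where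
  toFun y := ε * y
  invFun y := ε * y
  left_inv y := by
    change ε * (ε * y) = y
    rw [← mul_assoc, hε, one_mul]
  right_inv y := by
    change ε * (ε * y) = y
    rw [← mul_assoc, hε, one_mul]

theorem fourier_main (f : V3 → ℂ)
    (hinv : ∀ ε ∈ E4, ∀ y : V3, f (ε * y) = f y)
    (hnat : ∀ x : V3, ∃ n : ℕ, ∑ y : V3, f y * conj (ev x y) = 27 * (n : ℂ))
    (hlt : ∑ y : V3, (if y = 0 then 0 else Complex.normSq (f y)) < 108) :
    ∃ X₁ X₂ X₃ Y₁ Y₂ κ : ℤ,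
      f (1, 0, 0) = X₁ ∧ f (0, 1, 0) = X₂ ∧ f (0, 0, 1) = X₃ ∧ f (0, 1, 1) = Y₁ ∧
      f (1, 0, 1) = Y₂ ∧ X₁ - X₂ + Y₁ - Y₂ = 9 * κ ∧
      (κ ≠ 0 → ∑ y : V3, (if y = 0 then 0 else Complex.normSq (f y)) = 92 ∧
        ((κ = 1 ∧ X₁ = 4 ∧ X₂ = -2 ∧ X₃ = -2) ∨ (κ = -1 ∧ X₁ = -4 ∧ X₂ = 2 ∧ X₃ = 2) ∨
         (κ = -1 ∧ X₁ = -2 ∧ X₂ = 4 ∧ X₃ = -2) ∨ (κ = 1 ∧ X₁ = 2 ∧ X₂ = -4 ∧ X₃ = 2))) := by
  classical
  choose N hN using hnat
  set M : V3 → ℤ := fun x => (N x : ℤ) with hMdef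
  -- invariance of the multiplicities
  have hMinv : ∀ ε ∈ E4, ∀ x : V3, M (ε * x) = M x := by
    intro ε hε x
    have hεε := E4_mul_self ε hε
    have h1 : ∑ y : V3, f y * conj (ev (ε * x) y) = ∑ y : V3, f y * conj (ev x y) := by
      rw [← Equiv.sum_comp (signEquiv ε hεε) (fun y => f y * conj (ev x y))]
      apply Finset.sum_congr rfl
      intro y _
      change f y * conj (ev (ε * x) y) = f (ε * y) * conj (ev x (ε * y))
      rw [hinv ε hε y, ev_mul_left]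
    rw [hN, hN] at h1
    have h2 : (N (ε * x) : ℂ) = (N x : ℂ) := by
      have h27 : (27 : ℂ) ≠ 0 := by norm_num
      exact mul_left_cancel₀ h27 h1
    have h3 : N (ε * x) = N x := by exact_mod_cast h2
    simp only [hMdef, h3]
  -- inversion
  have hf : ∀ y : V3, f y = ∑ x : V3, (M x : ℂ) * ev x y := by
    intro y
    have h0 := Cfsg.Agent.Lib.Helper6.S3701FOE1.fourier_inv f y
    rw [Finset.sum_congr rfl (fun x _ => by rw [hN x])] at h0
    have h1 : ∑ x : V3, 27 * (N x : ℂ) * ev x y = 27 * ∑ x : V3, (M x : ℂ) * ev x y := by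
      rw [Finset.mul_sum]
      apply Finset.sum_congr rfl
      intro x _
      simp only [hMdef]
      push_cast
      ring
    rw [h1] at h0
    have h27 : (27 : ℂ) ≠ 0 := by norm_num
    exact (mul_left_cancel₀ h27 h0).symm
  obtain ⟨v1, v2, v3, v4, v5, vS, vQ⟩ := Cfsg.Agent.Lib.Helper29.S3701FOE2.orbit_values M hMinv
  -- the value at zero
  have hf0 : f 0 = ((∑ x : V3, M x : ℤ) : ℂ) := by
    rw [hf 0]
    push_cast
    apply Finset.sum_congr rfl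
    intro x _
    rw [ev_zero_right, mul_one]
  -- Parseval
  have hpars : ∑ y : V3, Complex.normSq (f y) = 27 * ((∑ x : V3, M x ^ 2 : ℤ) : ℝ) := by
    have h0 := Cfsg.Agent.Lib.Helper6.S3701FOE1.parseval f
    rw [Finset.sum_congr rfl (fun x _ => by rw [hN x])] at h0
    have h1 : ∑ x : V3, Complex.normSq (27 * (N x : ℂ))
        = 729 * ((∑ x : V3, M x ^ 2 : ℤ) : ℝ) := by
      push_cast
      rw [Finset.mul_sum]
      apply Finset.sum_congr rfl
      intro x _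
      rw [Complex.normSq_mul, Complex.normSq_natCast]
      have : Complex.normSq (27 : ℂ) = 729 := by
        rw [show (27 : ℂ) = ((27 : ℕ) : ℂ) by norm_num, Complex.normSq_natCast]
        norm_num
      rw [this]
      simp only [hMdef]
      push_cast
      ring
    rw [h1] at h0
    linarith
  have hsum : ∑ y : V3, (if y = 0 then 0 else Complex.normSq (f y))
      = ((27 * (∑ x : V3, M x ^ 2) - (∑ x : V3, M x) ^ 2 : ℤ) : ℝ) := by
    have h1 : ∑ y : V3, (if y = 0 then 0 else Complex.normSq (f y))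
        = ∑ y : V3, Complex.normSq (f y) - Complex.normSq (f 0) := by
      have h2 : ∀ y : V3, (if y = 0 then 0 else Complex.normSq (f y))
          = Complex.normSq (f y) - (if y = 0 then Complex.normSq (f 0) else 0) := by
        intro y
        by_cases hy : y = 0
        · simp [hy]
        · simp [hy]
      rw [Finset.sum_congr rfl (fun y _ => h2 y), Finset.sum_sub_distrib,
        Finset.sum_ite_eq' Finset.univ (0 : V3) (fun _ => Complex.normSq (f 0))]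
      simp
    rw [h1, hpars, hf0, Complex.normSq_intCast]
    push_cast
    ring
  -- abbreviations
  set m₀ := M 0 with hm₀
  set p₁ := M (1, 0, 0) with hp₁
  set p₂ := M (0, 1, 0) with hp₂
  set p₃ := M (0, 0, 1) with hp₃
  set q₁ := M (0, 1, 1) with hq₁
  set q₂ := M (1, 0, 1) with hq₂
  set q₃ := M (1, 1, 0) with hq₃
  set r₁ := M (1, 1, 1) with hr₁
  set r₂ := M (2, 2, 2) with hr₂
  refine ⟨m₀ - p₁ + 2 * p₂ + 2 * p₃ + 4 * q₁ - 2 * q₂ - 2 * q₃ - 2 * r₁ - 2 * r₂,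
    m₀ + 2 * p₁ - p₂ + 2 * p₃ - 2 * q₁ + 4 * q₂ - 2 * q₃ - 2 * r₁ - 2 * r₂,
    m₀ + 2 * p₁ + 2 * p₂ - p₃ - 2 * q₁ - 2 * q₂ + 4 * q₃ - 2 * r₁ - 2 * r₂,
    m₀ + 2 * p₁ - p₂ - p₃ + q₁ - 2 * q₂ - 2 * q₃ + r₁ + r₂,
    m₀ - p₁ + 2 * p₂ - p₃ - 2 * q₁ + q₂ - 2 * q₃ + r₁ + r₂,
    q₁ - q₂, ?_, ?_, ?_, ?_, ?_, ?_, ?_⟩
  · rw [hf, v1]
  · rw [hf, v2]
  · rw [hf, v3]
  · rw [hf, v4]
  · rw [hf, v5]
  · ring
  · intro hκ
    have hq : q₁ ≠ q₂ := fun e => hκ (sub_eq_zero.2 e)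
    have hlt' : 27 * (m₀ ^ 2 + 2 * (p₁ ^ 2 + p₂ ^ 2 + p₃ ^ 2)
          + 4 * (q₁ ^ 2 + q₂ ^ 2 + q₃ ^ 2 + r₁ ^ 2 + r₂ ^ 2))
        - (m₀ + 2 * (p₁ + p₂ + p₃) + 4 * (q₁ + q₂ + q₃ + r₁ + r₂)) ^ 2 < 108 := by
      rw [hsum, vS, vQ] at hlt
      exact_mod_cast hlt
    obtain ⟨e92, e1, e2, e3, e4, e5, e6, e7⟩ :=
      Cfsg.Agent.Lib.Helper22.S3701.lemma_Q m₀ p₁ p₂ p₃ q₁ q₂ q₃ r₁ r₂ hlt' hq
    constructor
    · rw [hsum, vS, vQ, e92]
      norm_num
    · rcases e7 with ⟨e8, e9 | e9⟩ | ⟨e8, e9 | e9⟩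
      · left
        refine ⟨by omega, by omega, by omega, by omega⟩
      · right; left
        refine ⟨by omega, by omega, by omega, by omega⟩
      · right; right; left
        refine ⟨by omega, by omega, by omega, by omega⟩
      · right; right; right
        refine ⟨by omega, by omega, by omega, by omega⟩

end Cfsg.Agent.Lib.Helper19.S3701
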