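import Mathlib
import Cfsg.Agent.Lib.Helper19.S3805C

/-!
# S3805, piece E: the elements `a ^ i * b ^ j`, the three classes and the local pair counts
-/

set_option autoImplicit false

namespace Cfsg.Agent.Lib.Helper19.S3805

variable {G : Type*} [Group G] [Finite G]

/-- The element `a ^ i * b ^ j`. -/
def mono (a b : G) (x : ZMod 3 × ZMod 3) : G := a ^ x.1.val * b ^ x.2.val

theorem mono_mul {a b : G} (ha3 : a ^ 3 = 1) (hb3 : b ^ 3 = 1) (hab : a * b = b * a)
    (x y : ZMod 3 × ZMod 3) : mono a b (x + y) = mono a b x * mono a b y := by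
  have cab : Commute a b := hab
  unfold mono
  rw [Prod.fst_add, Prod.snd_add, ZMod.val_add, ZMod.val_add, ← pow_eq_pow_mod _ ha3,
    ← pow_eq_pow_mod _ hb3, pow_add, pow_add]
  have h1 : Commute (b ^ x.2.val) (a ^ y.1.val) := (cab.pow_pow _ _).symm
  calc a ^ x.1.val * a ^ y.1.val * (b ^ x.2.val * b ^ y.2.val)
      = a ^ x.1.val * (a ^ y.1.val * b ^ x.2.val) * b ^ y.2.val := by group
    _ = a ^ x.1.val * (b ^ x.2.val * a ^ y.1.val) * b ^ y.2.val := by rw [h1.eq]
    _ = a ^ x.1.val * b ^ x.2.val * (a ^ y.1.val * b ^ y.2.val) := by group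

theorem mono_zero (a b : G) : mono a b 0 = 1 := by
  simp [mono]

theorem mono_10 (a b : G) : mono a b (1, 0) = a := by
  simp [mono, ZMod.val_one]

theorem mono_01 (a b : G) : mono a b (0, 1) = b := by
  simp [mono, ZMod.val_one]

theorem mono_20 {a : G} (b : G) (ha3 : a ^ 3 = 1) : mono a b (2, 0) = a⁻¹ := by
  have h2 : ((2 : ZMod 3)).val = 2 := rfl
  simp only [mono, h2, ZMod.val_zero, pow_zero, mul_one]
  rw [pow_two]
  exact mul_self_eq_inv_of_cube ha3

theorem mono_02 (a : G) {b : G} (hb3 : b ^ 3 = 1) : mono a b (0, 2) = b⁻¹ := by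
  have h2 : ((2 : ZMod 3)).val = 2 := rfl
  simp only [mono, h2, ZMod.val_zero, pow_zero, one_mul]
  rw [pow_two]
  exact mul_self_eq_inv_of_cube hb3


theorem mono_split (a b : G) (x : ZMod 3 × ZMod 3) :
    mono a b x = mono a b (x.1, 0) * mono a b (0, x.2) := by
  simp [mono]

theorem mono_11 (a b : G) : mono a b (1, 1) = a * b := by
  rw [mono_split, mono_10, mono_01]

theorem mono_21 {a : G} (b : G) (ha3 : a ^ 3 = 1) : mono a b (2, 1) = a⁻¹ * b := by
  rw [mono_split, mono_20 b ha3, mono_01]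

theorem mono_12 (a : G) {b : G} (hb3 : b ^ 3 = 1) : mono a b (1, 2) = a * b⁻¹ := by
  rw [mono_split, mono_10, mono_02 a hb3]

theorem mono_22 {a b : G} (ha3 : a ^ 3 = 1) (hb3 : b ^ 3 = 1) :
    mono a b (2, 2) = a⁻¹ * b⁻¹ := by
  rw [mono_split, mono_20 b ha3, mono_02 a hb3]

/-- The exponent vectors of the class of `a`. -/
def cA : Finset (ZMod 3 × ZMod 3) := {(1, 0), (2, 0)}

/-- The exponent vectors of the class of `b`. -/
def cB : Finset (ZMod 3 × ZMod 3) := {(0, 1), (0, 2)}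

/-- The exponent vectors of the class of `a * b`. -/
def cAB : Finset (ZMod 3 × ZMod 3) := {(1, 1), (2, 1), (1, 2), (2, 2)}

section Config

variable {T : Sylow 3 G} {a b u v : G}

theorem Cfg.symm (h : Cfg T a b u v) : Cfg T b a v u where
  haT := h.hbT
  hbT := h.haT
  ha1 := h.hb1
  hb1 := h.ha1
  hba := fun e => h.hba e.symm
  hba' := fun e => h.hba' (by rw [e, inv_inv])
  huN := h.hvN
  hvN := h.huN
  hua := h.hvb
  hub := h.hva
  hva := h.hub
  hvb := h.hua
  hNa := h.hNb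
  hNb := h.hNa
  hNT := fun n hn h1 h2 => h.hNT n hn h2 h1

theorem Cfg.mono_mem (h : Cfg T a b u v) (x : ZMod 3 × ZMod 3) :
    mono a b x ∈ (T : Subgroup G) :=
  (T : Subgroup G).mul_mem ((T : Subgroup G).pow_mem h.haT _) ((T : Subgroup G).pow_mem h.hbT _)

theorem Cfg.mono_eq_one (h : Cfg T a b u v) (ha3 : a ^ 3 = 1) (hb3 : b ^ 3 = 1)
    (x : ZMod 3 × ZMod 3) (hx : mono a b x = 1) : x = 0 := by
  obtain ⟨i, j⟩ := x
  fin_cases i <;> fin_cases j
  · rfl
  · exfalso
    change mono a b (0, 1) = 1 at hx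
    rw [mono_01] at hx
    exact h.hb1 hx
  · exfalso
    change mono a b (0, 2) = 1 at hx
    rw [mono_02 a hb3] at hx
    exact h.hb1 (inv_eq_one.1 hx)
  · exfalso
    change mono a b (1, 0) = 1 at hx
    rw [mono_10] at hx
    exact h.ha1 hx
  · exfalso
    change mono a b (1, 1) = 1 at hx
    rw [mono_11] at hx
    exact h.hba' (eq_inv_of_mul_eq_one_right hx)
  · exfalso
    change mono a b (1, 2) = 1 at hx
    rw [mono_12 a hb3] at hx
    exact h.hba (mul_inv_eq_one.1 hx).symm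
  · exfalso
    change mono a b (2, 0) = 1 at hx
    rw [mono_20 b ha3] at hx
    exact h.ha1 (inv_eq_one.1 hx)
  · exfalso
    change mono a b (2, 1) = 1 at hx
    rw [mono_21 b ha3] at hx
    exact h.hba (inv_mul_eq_one.1 hx).symm
  · exfalso
    change mono a b (2, 2) = 1 at hx
    rw [mono_22 ha3 hb3] at hx
    have h1 : b⁻¹ = a⁻¹⁻¹ := eq_inv_of_mul_eq_one_right hx
    rw [inv_inv] at h1
    exact h.hba' (by rw [← h1, inv_inv])

theorem Cfg.mono_injective (h : Cfg T a b u v) (ha3 : a ^ 3 = 1) (hb3 : b ^ 3 = 1)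
    (hab : a * b = b * a) {x y : ZMod 3 × ZMod 3} (hxy : mono a b x = mono a b y) : x = y := by
  have h1 : mono a b (x - y) * mono a b y = mono a b x := by
    rw [← mono_mul ha3 hb3 hab, sub_add_cancel]
  rw [hxy] at h1
  have h2 : mono a b (x - y) = 1 := mul_eq_right.1 h1
  exact sub_eq_zero.1 (h.mono_eq_one ha3 hb3 _ h2)

end Config


section Classes

variable (T : Sylow 3 G) {a b u v : G}
  (hcomm : ∀ x ∈ (T : Subgroup G), ∀ y ∈ (T : Subgroup G), x * y = y * x)
  (hexp : ∀ x ∈ (T : Subgroup G), x ^ 3 = 1)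
  (hloc : ∀ t ∈ (T : Subgroup G), t ≠ 1 →
    Subgroup.centralizer ({t} : Set G) ≤ Subgroup.normalizer ((T : Subgroup G) : Set G))
  (h3N : ∀ n ∈ Subgroup.normalizer ((T : Subgroup G) : Set G), n ^ 3 = 1 → n ∈ (T : Subgroup G))
  (h : Cfg T a b u v)

include hcomm hexp hloc h3N h

theorem ab_ne_one : a * b ≠ 1 := fun e => h.hba' (eq_inv_of_mul_eq_one_right e)

theorem isConj_a_iff (p : G) (hp : p ∈ (T : Subgroup G)) :
    IsConj a p ↔ ∃ x ∈ cA, p = mono a b x := by
  have ha3 := hexp a h.haT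
  constructor
  · intro hc
    obtain ⟨g, hg⟩ := isConj_iff.1 hc
    have hgN := fusion T hcomm hexp hloc h3N a g h.haT h.ha1 (hg ▸ hp)
    rcases h.hNa g hgN with h1 | h1
    · exact ⟨(1, 0), by simp [cA], by rw [mono_10, ← hg, h1]⟩
    · exact ⟨(2, 0), by simp [cA], by rw [mono_20 b ha3, ← hg, h1]⟩
  · rintro ⟨x, hx, rfl⟩
    simp only [cA, Finset.mem_insert, Finset.mem_singleton] at hx
    rcases hx with rfl | rfl
    · rw [mono_10]
    · rw [mono_20 b ha3]
      exact isConj_iff.2 ⟨v, h.hva⟩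

theorem isConj_b_iff (p : G) (hp : p ∈ (T : Subgroup G)) :
    IsConj b p ↔ ∃ x ∈ cB, p = mono a b x := by
  have hb3 := hexp b h.hbT
  constructor
  · intro hc
    obtain ⟨g, hg⟩ := isConj_iff.1 hc
    have hgN := fusion T hcomm hexp hloc h3N b g h.hbT h.hb1 (hg ▸ hp)
    rcases h.hNb g hgN with h1 | h1
    · exact ⟨(0, 1), by simp [cB], by rw [mono_01, ← hg, h1]⟩
    · exact ⟨(0, 2), by simp [cB], by rw [mono_02 a hb3, ← hg, h1]⟩
  · rintro ⟨x, hx, rfl⟩
    simp only [cB, Finset.mem_insert, Finset.mem_singleton] at hx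
    rcases hx with rfl | rfl
    · rw [mono_01]
    · rw [mono_02 a hb3]
      exact isConj_iff.2 ⟨u, h.hub⟩

theorem isConj_ab_iff (p : G) (hp : p ∈ (T : Subgroup G)) :
    IsConj (a * b) p ↔ ∃ x ∈ cAB, p = mono a b x := by
  have ha3 := hexp a h.haT
  have hb3 := hexp b h.hbT
  have hconj : ∀ g : G, g * (a * b) * g⁻¹ = (g * a * g⁻¹) * (g * b * g⁻¹) := by
    intro g; group
  constructor
  · intro hc
    obtain ⟨g, hg⟩ := isConj_iff.1 hc
    have hgN := fusion T hcomm hexp hloc h3N (a * b) g ((T : Subgroup G).mul_mem h.haT h.hbT)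
      (ab_ne_one T hcomm hexp hloc h3N h) (hg ▸ hp)
    rw [hconj] at hg
    rcases h.hNa g hgN with h1 | h1 <;> rcases h.hNb g hgN with h2 | h2 <;> rw [h1, h2] at hg
    · exact ⟨(1, 1), by simp [cAB], by rw [mono_11, ← hg]⟩
    · exact ⟨(1, 2), by simp [cAB], by rw [mono_12 a hb3, ← hg]⟩
    · exact ⟨(2, 1), by simp [cAB], by rw [mono_21 b ha3, ← hg]⟩
    · exact ⟨(2, 2), by simp [cAB], by rw [mono_22 ha3 hb3, ← hg]⟩
  · rintro ⟨x, hx, rfl⟩
    simp only [cAB, Finset.mem_insert, Finset.mem_singleton] at hx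
    rcases hx with rfl | rfl | rfl | rfl
    · rw [mono_11]
    · rw [mono_21 b ha3]
      exact isConj_iff.2 ⟨v, by rw [hconj, h.hva, h.hvb]⟩
    · rw [mono_12 a hb3]
      exact isConj_iff.2 ⟨u, by rw [hconj, h.hua, h.hub]⟩
    · rw [mono_22 ha3 hb3]
      refine isConj_iff.2 ⟨u * v, ?_⟩
      have e1 : u * v * a * (u * v)⁻¹ = u * (v * a * v⁻¹) * u⁻¹ := by group
      have e2 : u * v * b * (u * v)⁻¹ = u * (v * b * v⁻¹) * u⁻¹ := by group
      have e3 : u * a⁻¹ * u⁻¹ = (u * a * u⁻¹)⁻¹ := by group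
      rw [hconj, e1, e2, h.hva, h.hvb, e3, h.hua, h.hub]

theorem not_isConj_a_b : ¬ IsConj a b := by
  intro hc
  obtain ⟨x, hx, hbx⟩ := (isConj_a_iff T hcomm hexp hloc h3N h b h.hbT).1 hc
  have ha3 := hexp a h.haT
  have hb3 := hexp b h.hbT
  have hab := hcomm a h.haT b h.hbT
  have hbx' : mono a b (0, 1) = mono a b x := by rw [mono_01]; exact hbx
  have := h.mono_injective ha3 hb3 hab hbx'
  subst this
  revert hx
  decide

theorem not_isConj_a_ab : ¬ IsConj a (a * b) := by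
  intro hc
  obtain ⟨x, hx, hbx⟩ := (isConj_a_iff T hcomm hexp hloc h3N h (a * b)
    ((T : Subgroup G).mul_mem h.haT h.hbT)).1 hc
  have ha3 := hexp a h.haT
  have hb3 := hexp b h.hbT
  have hab := hcomm a h.haT b h.hbT
  have hbx' : mono a b (1, 1) = mono a b x := by rw [mono_11]; exact hbx
  have := h.mono_injective ha3 hb3 hab hbx'
  subst this
  revert hx
  decide

theorem not_isConj_b_ab : ¬ IsConj b (a * b) := by
  intro hc
  obtain ⟨x, hx, hbx⟩ := (isConj_b_iff T hcomm hexp hloc h3N h (a * b)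
    ((T : Subgroup G).mul_mem h.haT h.hbT)).1 hc
  have ha3 := hexp a h.haT
  have hb3 := hexp b h.hbT
  have hab := hcomm a h.haT b h.hbT
  have hbx' : mono a b (1, 1) = mono a b x := by rw [mono_11]; exact hbx
  have := h.mono_injective ha3 hb3 hab hbx'
  subst this
  revert hx
  decide

/-- The general local count. -/
theorem card_pairs (J₁ J₂ w : G) (c₁ c₂ : Finset (ZMod 3 × ZMod 3)) (w' : ZMod 3 × ZMod 3)
    (hJ₁ : J₁ ^ 3 = 1) (hJ₂ : J₂ ^ 3 = 1) (hnc : ¬ IsConj J₁ J₂) (hw' : w' ≠ 0)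
    (hw : w = mono a b w')
    (h₁ : ∀ p ∈ (T : Subgroup G), IsConj J₁ p ↔ ∃ x ∈ c₁, p = mono a b x)
    (h₂ : ∀ p ∈ (T : Subgroup G), IsConj J₂ p ↔ ∃ x ∈ c₂, p = mono a b x) :
    Nat.card {p : G × G // IsConj J₁ p.1 ∧ IsConj J₂ p.2 ∧ p.1 * p.2 = w}
      = ((c₁ ×ˢ c₂).filter (fun xy => xy.1 + xy.2 = w')).card := by
  classical
  have ha3 := hexp a h.haT
  have hb3 := hexp b h.hbT
  have hab := hcomm a h.haT b h.hbT
  have hwT : w ∈ (T : Subgroup G) := by rw [hw]; exact h.mono_mem w'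
  have hw1 : w ≠ 1 := by
    intro e
    rw [hw] at e
    exact hw' (h.mono_eq_one ha3 hb3 _ e)
  rw [← Fintype.card_coe, ← Nat.card_eq_fintype_card]
  symm
  let back : {xy // xy ∈ (c₁ ×ˢ c₂).filter (fun xy => xy.1 + xy.2 = w')} →
      {p : G × G // IsConj J₁ p.1 ∧ IsConj J₂ p.2 ∧ p.1 * p.2 = w} := fun xy =>
    ⟨(mono a b xy.1.1, mono a b xy.1.2), by
      have hm := Finset.mem_filter.1 xy.2
      have hm1 := Finset.mem_product.1 hm.1
      refine ⟨(h₁ _ (h.mono_mem _)).2 ⟨_, hm1.1, rfl⟩, (h₂ _ (h.mono_mem _)).2 ⟨_, hm1.2, rfl⟩, ?_⟩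
      rw [hw, ← mono_mul ha3 hb3 hab]
      exact congrArg (mono a b) hm.2⟩
  apply Nat.card_congr
  apply Equiv.ofBijective back
  constructor
  · intro xy xy' hh
    have h1 : mono a b xy.1.1 = mono a b xy'.1.1 := congrArg (fun p => p.1.1) hh
    have h2 : mono a b xy.1.2 = mono a b xy'.1.2 := congrArg (fun p => p.1.2) hh
    apply Subtype.ext
    exact Prod.ext (h.mono_injective ha3 hb3 hab h1) (h.mono_injective ha3 hb3 hab h2)
  · rintro ⟨⟨p, q⟩, hp, hq, hpq⟩
    simp only at hp hq hpq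
    have hT := tri_local T hcomm hloc h3N p q (isConj_cube hp hJ₁) (isConj_cube hq hJ₂)
      (by rw [hpq]; exact hexp w hwT) (by rw [hpq]; exact hwT) (by rw [hpq]; exact hw1)
      (fun hc => hnc ((hp.trans hc).trans hq.symm))
    obtain ⟨x, hx, rfl⟩ := (h₁ p hT.1).1 hp
    obtain ⟨y, hy, rfl⟩ := (h₂ q hT.2).1 hq
    have hxy : x + y = w' := by
      apply h.mono_injective ha3 hb3 hab
      rw [mono_mul ha3 hb3 hab, hpq, hw]
    exact ⟨⟨(x, y), Finset.mem_filter.2 ⟨Finset.mem_product.2 ⟨hx, hy⟩, hxy⟩⟩, rfl⟩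


theorem count_ab_ab :
    Nat.card {p : G × G // IsConj a p.1 ∧ IsConj b p.2 ∧ p.1 * p.2 = a * b} = 1 := by
  rw [card_pairs T hcomm hexp hloc h3N h a b (a * b) cA cB (1, 1) (hexp a h.haT) (hexp b h.hbT)
    (not_isConj_a_b T hcomm hexp hloc h3N h) (by decide) (mono_11 a b).symm
    (isConj_a_iff T hcomm hexp hloc h3N h) (isConj_b_iff T hcomm hexp hloc h3N h)]
  decide

theorem count_ab_a :
    Nat.card {p : G × G // IsConj a p.1 ∧ IsConj b p.2 ∧ p.1 * p.2 = a} = 0 := by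
  rw [card_pairs T hcomm hexp hloc h3N h a b a cA cB (1, 0) (hexp a h.haT) (hexp b h.hbT)
    (not_isConj_a_b T hcomm hexp hloc h3N h) (by decide) (mono_10 a b).symm
    (isConj_a_iff T hcomm hexp hloc h3N h) (isConj_b_iff T hcomm hexp hloc h3N h)]
  decide

theorem count_ba_b :
    Nat.card {p : G × G // IsConj b p.1 ∧ IsConj a p.2 ∧ p.1 * p.2 = b} = 0 := by
  rw [card_pairs T hcomm hexp hloc h3N h b a b cB cA (0, 1) (hexp b h.hbT) (hexp a h.haT)
    (fun hc => not_isConj_a_b T hcomm hexp hloc h3N h hc.symm) (by decide) (mono_01 a b).symm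
    (isConj_b_iff T hcomm hexp hloc h3N h) (isConj_a_iff T hcomm hexp hloc h3N h)]
  decide

theorem ab_cube : (a * b) ^ 3 = 1 := hexp _ ((T : Subgroup G).mul_mem h.haT h.hbT)

theorem count_aab_a :
    Nat.card {p : G × G // IsConj a p.1 ∧ IsConj (a * b) p.2 ∧ p.1 * p.2 = a} = 0 := by
  rw [card_pairs T hcomm hexp hloc h3N h a (a * b) a cA cAB (1, 0) (hexp a h.haT)
    (ab_cube T hcomm hexp hloc h3N h)
    (not_isConj_a_ab T hcomm hexp hloc h3N h) (by decide) (mono_10 a b).symm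
    (isConj_a_iff T hcomm hexp hloc h3N h) (isConj_ab_iff T hcomm hexp hloc h3N h)]
  decide

theorem count_bab_b :
    Nat.card {p : G × G // IsConj b p.1 ∧ IsConj (a * b) p.2 ∧ p.1 * p.2 = b} = 0 := by
  rw [card_pairs T hcomm hexp hloc h3N h b (a * b) b cB cAB (0, 1) (hexp b h.hbT)
    (ab_cube T hcomm hexp hloc h3N h)
    (not_isConj_b_ab T hcomm hexp hloc h3N h) (by decide) (mono_01 a b).symm
    (isConj_b_iff T hcomm hexp hloc h3N h) (isConj_ab_iff T hcomm hexp hloc h3N h)]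
  decide

theorem count_aab_ab :
    Nat.card {p : G × G // IsConj a p.1 ∧ IsConj (a * b) p.2 ∧ p.1 * p.2 = a * b} = 1 := by
  rw [card_pairs T hcomm hexp hloc h3N h a (a * b) (a * b) cA cAB (1, 1) (hexp a h.haT)
    (ab_cube T hcomm hexp hloc h3N h)
    (not_isConj_a_ab T hcomm hexp hloc h3N h) (by decide) (mono_11 a b).symm
    (isConj_a_iff T hcomm hexp hloc h3N h) (isConj_ab_iff T hcomm hexp hloc h3N h)]
  decide

theorem count_bab_ab :
    Nat.card {p : G × G // IsConj b p.1 ∧ IsConj (a * b) p.2 ∧ p.1 * p.2 = a * b} = 1 := by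
  rw [card_pairs T hcomm hexp hloc h3N h b (a * b) (a * b) cB cAB (1, 1) (hexp b h.hbT)
    (ab_cube T hcomm hexp hloc h3N h)
    (not_isConj_b_ab T hcomm hexp hloc h3N h) (by decide) (mono_11 a b).symm
    (isConj_b_iff T hcomm hexp hloc h3N h) (isConj_ab_iff T hcomm hexp hloc h3N h)]
  decide

/-- `|C_G(a)| = 18`. -/
theorem card_centralizer_a
    (hN : Nat.card (Subgroup.normalizer ((T : Subgroup G) : Set G)) = 36) :
    Nat.card (Subgroup.centralizer ({a} : Set G)) = 18 := by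
  have ha3 := hexp a h.haT
  have hCN : Subgroup.centralizer ({a} : Set G) ≤ Subgroup.normalizer ((T : Subgroup G) : Set G) :=
    hloc a h.haT h.ha1
  have hmem : ∀ n : G, n ∈ Subgroup.centralizer ({a} : Set G) ↔ n * a * n⁻¹ = a := by
    intro n
    rw [Subgroup.mem_centralizer_singleton_iff]
    constructor
    · intro e; rw [e]; group
    · intro e
      calc n * a = (n * a * n⁻¹) * n := by group
        _ = a * n := by rw [e]
  have hidx : ((Subgroup.centralizer ({a} : Set G)).subgroupOf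
      (Subgroup.normalizer ((T : Subgroup G) : Set G))).index = 2 := by
    rw [Subgroup.index_eq_two_iff_exists_notMem_and]
    refine ⟨⟨v, h.hvN⟩, ?_, ?_⟩
    · rw [Subgroup.mem_subgroupOf, hmem]
      simp only
      rw [h.hva]
      exact inv_ne_self_of_cube ha3 h.ha1
    · intro n
      rw [Subgroup.mem_subgroupOf, Subgroup.mem_subgroupOf, hmem, hmem]
      rcases h.hNa n n.2 with h1 | h1
      · right; exact h1
      · left
        have e1 : ((n * ⟨v, h.hvN⟩ : ↥(Subgroup.normalizer ((T : Subgroup G) : Set G))) : G)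
            = (n : G) * v := rfl
        rw [e1]
        have e2 : (n : G) * v * a * ((n : G) * v)⁻¹ = (n : G) * (v * a * v⁻¹) * (n : G)⁻¹ := by
          group
        have e3 : (n : G) * a⁻¹ * (n : G)⁻¹ = ((n : G) * a * (n : G)⁻¹)⁻¹ := by group
        rw [e2, h.hva, e3, h1, inv_inv]
  have h1 := Subgroup.card_mul_index ((Subgroup.centralizer ({a} : Set G)).subgroupOf
      (Subgroup.normalizer ((T : Subgroup G) : Set G)))
  have h2 : Nat.card ((Subgroup.centralizer ({a} : Set G)).subgroupOf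
      (Subgroup.normalizer ((T : Subgroup G) : Set G)))
      = Nat.card (Subgroup.centralizer ({a} : Set G)) :=
    Nat.card_congr (Subgroup.subgroupOfEquivOfLe hCN).toEquiv
  rw [hidx, h2, hN] at h1
  omega

/-- `C_G(a * b) = T`. -/
theorem centralizer_ab : Subgroup.centralizer ({a * b} : Set G) = (T : Subgroup G) := by
  have ha3 := hexp a h.haT
  have hb3 := hexp b h.hbT
  have hab := hcomm a h.haT b h.hbT
  have habT : a * b ∈ (T : Subgroup G) := (T : Subgroup G).mul_mem h.haT h.hbT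
  apply le_antisymm
  · intro n hn
    have hnN := hloc (a * b) habT (ab_ne_one T hcomm hexp hloc h3N h) hn
    rw [Subgroup.mem_centralizer_singleton_iff] at hn
    have e0 : n * (a * b) * n⁻¹ = a * b := by rw [hn]; group
    have e1 : n * (a * b) * n⁻¹ = (n * a * n⁻¹) * (n * b * n⁻¹) := by group
    rw [e1] at e0
    rcases h.hNa n hnN with h1 | h1 <;> rcases h.hNb n hnN with h2 | h2
    · exact h.hNT n hnN h1 h2
    · exfalso
      rw [h1, h2, ← mono_12 a hb3, ← mono_11 a b] at e0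
      exact absurd (h.mono_injective ha3 hb3 hab e0) (by decide)
    · exfalso
      rw [h1, h2, ← mono_21 b ha3, ← mono_11 a b] at e0
      exact absurd (h.mono_injective ha3 hb3 hab e0) (by decide)
    · exfalso
      rw [h1, h2, ← mono_22 ha3 hb3, ← mono_11 a b] at e0
      exact absurd (h.mono_injective ha3 hb3 hab e0) (by decide)
  · intro t ht
    rw [Subgroup.mem_centralizer_singleton_iff]
    exact hcomm t ht _ habT

end Classes

end Cfsg.Agent.Lib.Helper19.S3805
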