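import Mathlib
import Cfsg.Prelude.Def_Characters
import Cfsg.Prelude.Def_Transfer
import Cfsg.Agent.Lib.Helper19.S3805E
import Cfsg.Agent.Lib.Helper13.S3805Arith
import Cfsg.Agent.Lib.Helper7.PairCount2
import Cfsg.Agent.Lib.Helper2.Column
import Cfsg.Agent.Lib.Helper2.Regular
import Cfsg.Agent.Lib.Helper2.BurnsidePQ
import Cfsg.Agent.Lib.Helper2.Integrality
import Cfsg.Agent.Lib.Helper2.Orthogonality

/-!
# S3805, piece F: the character-theoretic translation and `|G| < 81`
-/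

set_option autoImplicit false

namespace Cfsg.Agent.Lib.Helper19.S3805

open Cfsg
open Cfsg.Agent.Lib.Helper2
open scoped ComplexConjugate

/-- The value of a character at a real element of order `3` is an integer congruent to the degree
modulo `3` (copy of helper11's `M11T.three_val`). -/
theorem three_val' {G : Type*} [Group G] [Finite G] {χ : G → ℂ} (hχ : IsCharacter G χ) {n : ℕ}
    (h1 : χ 1 = n) {a : G} (ha : orderOf a = 3) (hinv : χ a⁻¹ = χ a) :
    ∃ z : ℤ, χ a = (z : ℂ) ∧ (3 : ℤ) ∣ (n : ℤ) - z := by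
  classical
  obtain ⟨m, ρ, rfl⟩ := hχ
  obtain ⟨μ, hμ, hk, -⟩ := Cfsg.Agent.Lib.Helper2.exists_eigenvalues ρ a
  rw [ha] at hμ
  have e0 : ρ.character 1 = ∑ i, (μ i) ^ 0 := by
    have := hk 0
    rwa [pow_zero] at this
  have e1 : ρ.character a = ∑ i, (μ i) ^ 1 := by
    have := hk 1
    rwa [pow_one] at this
  have e2 : ρ.character (a ^ 2) = ∑ i, (μ i) ^ 2 := hk 2
  have ha3 : a ^ 3 = 1 := by rw [← ha]; exact pow_orderOf_eq_one a
  have ha2 : a ^ 2 = a⁻¹ := by
    apply eq_inv_of_mul_eq_one_left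
    rw [← pow_succ]
    exact ha3
  rw [ha2, hinv] at e2
  have hterm : ∀ i, (μ i) ^ 0 + (μ i) ^ 1 + (μ i) ^ 2 = if μ i = 1 then (3 : ℂ) else 0 := by
    intro i
    by_cases h : μ i = 1
    · rw [if_pos h, h]; norm_num
    · rw [if_neg h]
      have h3 : (μ i - 1) * ((μ i) ^ 0 + (μ i) ^ 1 + (μ i) ^ 2) = 0 := by
        have := hμ i
        linear_combination this
      rcases mul_eq_zero.mp h3 with h4 | h4
      · exact absurd (sub_eq_zero.mp h4) h
      · exact h4
  have hsum : ρ.character 1 + ρ.character a + ρ.character a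
      = 3 * ((Finset.univ.filter (fun i => μ i = 1)).card : ℂ) := by
    have h5 : ρ.character 1 + ρ.character a + ρ.character a
        = (∑ i, (μ i) ^ 0) + (∑ i, (μ i) ^ 1) + ∑ i, (μ i) ^ 2 := by
      rw [← e0, ← e1, ← e2]
    rw [h5, ← Finset.sum_add_distrib, ← Finset.sum_add_distrib,
      Finset.sum_congr rfl (fun i _ => hterm i), Finset.sum_ite, Finset.sum_const_zero, add_zero,
      Finset.sum_const, nsmul_eq_mul]
    ring
  set m₀ := (Finset.univ.filter (fun i => μ i = 1)).card with hm₀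
  rw [h1] at hsum
  have hq : ρ.character a = (((3 * (m₀ : ℤ) - (n : ℤ) : ℤ) : ℚ) / 2 : ℚ) := by
    push_cast
    linear_combination (1 / 2 : ℂ) * hsum
  obtain ⟨z, hz⟩ := Cfsg.Agent.Lib.Helper2.exists_int_of_isIntegral_of_rat _ hq
    (Cfsg.Agent.Lib.Helper2.char_isIntegral ρ a)
  refine ⟨z, hz, ?_⟩
  rw [hz] at hsum
  have h2 : (n : ℤ) + z + z = 3 * (m₀ : ℤ) := by exact_mod_cast hsum
  exact ⟨(m₀ : ℤ) - z, by linarith⟩

section Sums

variable {G : Type*} [Group G] [Fintype G] [DecidableEq G] [Fintype (IrrCharacter G)]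

/-- Column orthogonality for integer-valued columns. -/
theorem col_eq (J₁ J₂ : G) (X₁ X₂ : IrrCharacter G → ℤ)
    (h₁ : ∀ χ : IrrCharacter G, (χ : G → ℂ) J₁ = (X₁ χ : ℂ))
    (h₂ : ∀ χ : IrrCharacter G, (χ : G → ℂ) J₂ = (X₂ χ : ℂ)) [Decidable (IsConj J₁ J₂)] :
    ∑ χ : IrrCharacter G, X₁ χ * X₂ χ
      = if IsConj J₁ J₂ then (Nat.card (Subgroup.centralizer ({J₁} : Set G)) : ℤ) else 0 := by
  have h0 := column_orthogonality (G := G) J₁ J₂
  have h3 : ∑ χ : IrrCharacter G, (χ : G → ℂ) J₁ * conj ((χ : G → ℂ) J₂)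
      = ((∑ χ : IrrCharacter G, X₁ χ * X₂ χ : ℤ) : ℂ) := by
    push_cast
    apply Finset.sum_congr rfl
    intro χ _
    rw [h₁ χ, h₂ χ, map_intCast]
  rw [h3] at h0
  by_cases hc : IsConj J₁ J₂
  · rw [if_pos hc] at h0 ⊢
    exact_mod_cast h0
  · rw [if_neg hc] at h0 ⊢
    exact_mod_cast h0

/-- The class-algebra constant for integer-valued columns. -/
theorem class_eq (J₁ J₂ w : G) (X₁ X₂ X₃ : IrrCharacter G → ℤ) (d : IrrCharacter G → ℕ)
    (h₁ : ∀ χ : IrrCharacter G, (χ : G → ℂ) J₁ = (X₁ χ : ℂ))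
    (h₂ : ∀ χ : IrrCharacter G, (χ : G → ℂ) J₂ = (X₂ χ : ℂ))
    (h₃ : ∀ χ : IrrCharacter G, (χ : G → ℂ) w = (X₃ χ : ℂ))
    (hd : ∀ χ : IrrCharacter G, (χ : G → ℂ) 1 = (d χ : ℂ))
    (c₁ c₂ k : ℕ) (hc₁ : Nat.card (Subgroup.centralizer ({J₁} : Set G)) = c₁)
    (hc₂ : Nat.card (Subgroup.centralizer ({J₂} : Set G)) = c₂)
    (hk : Nat.card {p : G × G // IsConj J₁ p.1 ∧ IsConj J₂ p.2 ∧ p.1 * p.2 = w} = k) :
    (Nat.card G : ℚ) * ∑ χ : IrrCharacter G, ((X₁ χ : ℚ) * X₂ χ * X₃ χ) / d χ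
      = (c₁ : ℚ) * c₂ * k := by
  have h0 := Cfsg.Agent.Lib.Helper7.card_centralizer_mul_card_pairs2 J₁ J₂ w
  rw [hc₁, hc₂, hk] at h0
  have h3 : ∑ χ : IrrCharacter G,
      conj ((χ : G → ℂ) J₁ * (χ : G → ℂ) J₂ / (χ : G → ℂ) 1) * (χ : G → ℂ) w
      = ((∑ χ : IrrCharacter G, ((X₁ χ : ℚ) * X₂ χ * X₃ χ) / d χ : ℚ) : ℂ) := by
    push_cast
    apply Finset.sum_congr rfl
    intro χ _
    rw [h₁ χ, h₂ χ, h₃ χ, hd χ, map_div₀, map_mul, map_intCast, map_intCast, Complex.conj_natCast]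
    ring
  rw [h3] at h0
  have h4 : (((Nat.card G : ℚ) * ∑ χ : IrrCharacter G, ((X₁ χ : ℚ) * X₂ χ * X₃ χ) / d χ : ℚ) : ℂ)
      = (((c₁ : ℚ) * c₂ * k : ℚ) : ℂ) := by
    push_cast
    push_cast at h0
    rw [← h0]
  exact_mod_cast h4

end Sums


/-- **The order bound**: in the configuration `N_G(T) = S₃ × S₃` we have `|G| < 81`. -/
theorem card_lt {G : Type*} [Group G] [Finite G] (T : Sylow 3 G) {a b u v : G}
    (hcomm : ∀ x ∈ (T : Subgroup G), ∀ y ∈ (T : Subgroup G), x * y = y * x)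
    (hexp : ∀ x ∈ (T : Subgroup G), x ^ 3 = 1)
    (hloc : ∀ t ∈ (T : Subgroup G), t ≠ 1 →
      Subgroup.centralizer ({t} : Set G) ≤ Subgroup.normalizer ((T : Subgroup G) : Set G))
    (h3N : ∀ n ∈ Subgroup.normalizer ((T : Subgroup G) : Set G), n ^ 3 = 1 → n ∈ (T : Subgroup G))
    (hN36 : Nat.card (Subgroup.normalizer ((T : Subgroup G) : Set G)) = 36)
    (hcardT : Nat.card (T : Subgroup G) = 9)
    (h : Cfg T a b u v) : Nat.card G < 81 := by
  classical
  haveI : Fintype G := Fintype.ofFinite G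
  haveI : Fintype (IrrCharacter G) := Fintype.ofFinite _
  haveI : Fact (Nat.Prime 3) := ⟨Nat.prime_three⟩
  have ha3 := hexp a h.haT
  have hb3 := hexp b h.hbT
  have habc := hcomm a h.haT b h.hbT
  have hab3 := ab_cube T hcomm hexp hloc h3N h
  have hab1 := ab_ne_one T hcomm hexp hloc h3N h
  have hoa : orderOf a = 3 := orderOf_eq_prime ha3 h.ha1
  have hob : orderOf b = 3 := orderOf_eq_prime hb3 h.hb1
  have hoab : orderOf (a * b) = 3 := orderOf_eq_prime hab3 hab1
  -- degrees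
  choose d hdpos hd using fun χ : IrrCharacter G => IsIrrCharacter.apply_one χ.2
  -- the three classes are real
  have hra : ∀ χ : IrrCharacter G, (χ : G → ℂ) a⁻¹ = (χ : G → ℂ) a := by
    intro χ
    have := IrrCharacter.isClassFunction χ a v
    rwa [h.hva] at this
  have hrb : ∀ χ : IrrCharacter G, (χ : G → ℂ) b⁻¹ = (χ : G → ℂ) b := by
    intro χ
    have := IrrCharacter.isClassFunction χ b u
    rwa [h.hub] at this
  have hrab : ∀ χ : IrrCharacter G, (χ : G → ℂ) (a * b)⁻¹ = (χ : G → ℂ) (a * b) := by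
    intro χ
    have e0 : (a * b)⁻¹ = mono a b (2, 2) := by
      rw [mono_22 ha3 hb3, mul_inv_rev, ← mul_inv_rev, ← mul_inv_rev, habc]
    have hmem : ((2, 2) : ZMod 3 × ZMod 3) ∈ cAB := by simp [cAB]
    have hc : IsConj (a * b) (mono a b (2, 2)) :=
      (isConj_ab_iff T hcomm hexp hloc h3N h _ (h.mono_mem _)).2 ⟨(2, 2), hmem, rfl⟩
    rw [e0]
    exact (IsClassFunction.eq_of_isConj (IrrCharacter.isClassFunction χ) hc).symm
  choose x hx hx3 using fun χ : IrrCharacter G =>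
    three_val' (IsIrrCharacter.isCharacter χ.2) (hd χ) hoa (hra χ)
  choose y hy hy3 using fun χ : IrrCharacter G =>
    three_val' (IsIrrCharacter.isCharacter χ.2) (hd χ) hob (hrb χ)
  choose z hz hz3 using fun χ : IrrCharacter G =>
    three_val' (IsIrrCharacter.isCharacter χ.2) (hd χ) hoab (hrab χ)
  -- centralisers
  have hCa : Nat.card (Subgroup.centralizer ({a} : Set G)) = 18 :=
    card_centralizer_a T hcomm hexp hloc h3N h hN36
  have hCb : Nat.card (Subgroup.centralizer ({b} : Set G)) = 18 :=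
    card_centralizer_a T hcomm hexp hloc h3N h.symm hN36
  have hCab : Nat.card (Subgroup.centralizer ({a * b} : Set G)) = 9 := by
    rw [centralizer_ab T hcomm hexp hloc h3N h, hcardT]
  have hnab := not_isConj_a_b T hcomm hexp hloc h3N h
  have hnaab := not_isConj_a_ab T hcomm hexp hloc h3N h
  have hnbab := not_isConj_b_ab T hcomm hexp hloc h3N h
  -- the trivial character
  have htriv : ∀ g : G, (trivialIrr G : G → ℂ) g = 1 := fun g => rfl
  have hx0 : x (trivialIrr G) = 1 := by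
    have := hx (trivialIrr G)
    rw [htriv] at this
    exact_mod_cast this.symm
  have hy0 : y (trivialIrr G) = 1 := by
    have := hy (trivialIrr G)
    rw [htriv] at this
    exact_mod_cast this.symm
  have hz0 : z (trivialIrr G) = 1 := by
    have := hz (trivialIrr G)
    rw [htriv] at this
    exact_mod_cast this.symm
  have hd0 : d (trivialIrr G) = 1 := by
    have := hd (trivialIrr G)
    rw [htriv] at this
    exact_mod_cast this.symm
  -- the sum of the squares of the degrees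
  have hg : ∑ χ : IrrCharacter G, d χ ^ 2 = Nat.card G := by
    have h0 := sum_irr_degree_sq (G := G)
    have : ((∑ χ : IrrCharacter G, d χ ^ 2 : ℕ) : ℂ) = (Nat.card G : ℂ) := by
      rw [← h0]
      push_cast
      apply Finset.sum_congr rfl
      intro χ _
      rw [hd χ]
    exact_mod_cast this
  have hg36 : 36 ≤ Nat.card G := by
    have h1 := Subgroup.card_subgroup_dvd_card (Subgroup.normalizer ((T : Subgroup G) : Set G))
    rw [hN36] at h1
    exact Nat.le_of_dvd Nat.card_pos h1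
  have hxz3 : ∀ χ, (3 : ℤ) ∣ x χ - z χ := by
    intro χ
    have := dvd_sub (hz3 χ) (hx3 χ)
    have e : (d χ : ℤ) - z χ - ((d χ : ℤ) - x χ) = x χ - z χ := by ring
    rwa [e] at this
  have hyz3 : ∀ χ, (3 : ℤ) ∣ y χ - z χ := by
    intro χ
    have := dvd_sub (hz3 χ) (hy3 χ)
    have e : (d χ : ℤ) - z χ - ((d χ : ℤ) - y χ) = y χ - z χ := by ring
    rwa [e] at this
  -- column orthogonality
  have hxx : ∑ χ, x χ ^ 2 = 18 := by
    have := col_eq a a x x hx hx
    rw [if_pos (IsConj.refl a), hCa] at this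
    have e : ∑ χ, x χ ^ 2 = ∑ χ, x χ * x χ := Finset.sum_congr rfl (fun χ _ => sq (x χ))
    rw [e, this]
    norm_num
  have hyy : ∑ χ, y χ ^ 2 = 18 := by
    have := col_eq b b y y hy hy
    rw [if_pos (IsConj.refl b), hCb] at this
    have e : ∑ χ, y χ ^ 2 = ∑ χ, y χ * y χ := Finset.sum_congr rfl (fun χ _ => sq (y χ))
    rw [e, this]
    norm_num
  have hzz : ∑ χ, z χ ^ 2 = 9 := by
    have := col_eq (a * b) (a * b) z z hz hz
    rw [if_pos (IsConj.refl (a * b)), hCab] at this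
    have e : ∑ χ, z χ ^ 2 = ∑ χ, z χ * z χ := Finset.sum_congr rfl (fun χ _ => sq (z χ))
    rw [e, this]
    norm_num
  have hxy : ∑ χ, x χ * y χ = 0 := by
    have := col_eq a b x y hx hy
    rwa [if_neg hnab] at this
  have hxz : ∑ χ, x χ * z χ = 0 := by
    have := col_eq a (a * b) x z hx hz
    rwa [if_neg hnaab] at this
  have hyz : ∑ χ, y χ * z χ = 0 := by
    have := col_eq b (a * b) y z hy hz
    rwa [if_neg hnbab] at this
  -- the seven class-algebra constants
  have E1 := class_eq a b (a * b) x y z d hx hy hz hd 18 18 1 hCa hCb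
    (count_ab_ab T hcomm hexp hloc h3N h)
  have E2 := class_eq a b a x y x d hx hy hx hd 18 18 0 hCa hCb
    (count_ab_a T hcomm hexp hloc h3N h)
  have E3 := class_eq b a b y x y d hy hx hy hd 18 18 0 hCb hCa
    (count_ba_b T hcomm hexp hloc h3N h)
  have E4 := class_eq a (a * b) a x z x d hx hz hx hd 18 9 0 hCa hCab
    (count_aab_a T hcomm hexp hloc h3N h)
  have E5 := class_eq b (a * b) b y z y d hy hz hy hd 18 9 0 hCb hCab
    (count_bab_b T hcomm hexp hloc h3N h)
  have E6 := class_eq a (a * b) (a * b) x z z d hx hz hz hd 18 9 1 hCa hCab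
    (count_aab_ab T hcomm hexp hloc h3N h)
  have E7 := class_eq b (a * b) (a * b) y z z d hy hz hz hd 18 9 1 hCb hCab
    (count_bab_ab T hcomm hexp hloc h3N h)
  refine Cfsg.Agent.Lib.Helper13.S3805Arith.arith x y z d (Nat.card G) (trivialIrr G) hdpos
    hx0 hy0 hz0 hd0 hg hg36 hxz3 hyz3 hxx hyy hzz hxy hxz hyz ?_ ?_ ?_ ?_ ?_ ?_ ?_
  · rw [E1]; norm_num
  · rw [E2]; norm_num
  · rw [E3]; norm_num
  · rw [E4]; norm_num
  · rw [E5]; norm_num
  · rw [E6]; norm_num
  · rw [E7]; norm_num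


/-- **S3805 modulo the structure of `N_G(T)`.** -/
theorem main_of_cfg {G : Type*} [Group G] [Finite G]
    (T : Sylow 3 G) (hT : Cfsg.IsElementaryAbelian 3 (T : Subgroup G)) (hcard : Nat.card T = 9)
    [hn : ((T : Subgroup G).subgroupOf (Subgroup.normalizer ((T : Subgroup G) : Set G))).Normal]
    (hK : IsKleinFour (↥(Subgroup.normalizer ((T : Subgroup G) : Set G)) ⧸
      (T : Subgroup G).subgroupOf (Subgroup.normalizer ((T : Subgroup G) : Set G))))
    (hloc : ∀ t ∈ (T : Subgroup G), t ≠ 1 →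
      Subgroup.centralizer ({t} : Set G) ≤ Subgroup.normalizer ((T : Subgroup G) : Set G))
    (hcfg : ∃ a b u v : G, Cfg T a b u v) :
    Subgroup.normalizer ((T : Subgroup G) : Set G) = ⊤ := by
  have hcomm : ∀ x ∈ (T : Subgroup G), ∀ y ∈ (T : Subgroup G), x * y = y * x := by
    intro x hx y hy
    have := hT.1.is_comm.comm (⟨x, hx⟩ : (T : Subgroup G)) ⟨y, hy⟩
    exact congrArg Subtype.val this
  have hexp : ∀ x ∈ (T : Subgroup G), x ^ 3 = 1 := hT.2
  have hcard' : Nat.card (T : Subgroup G) = 9 := hcard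
  have h3N := three_mem T hK
  have hN36 := card_normalizer T hcard' hK
  obtain ⟨a, b, u, v, h⟩ := hcfg
  have hlt := card_lt T hcomm hexp hloc h3N hN36 hcard' h
  set N := Subgroup.normalizer ((T : Subgroup G) : Set G) with hNdef
  have hidx := Subgroup.card_mul_index N
  rw [hN36] at hidx
  have hi0 : N.index ≠ 0 := Subgroup.index_ne_zero_of_finite
  have hi2 : N.index = 1 ∨ N.index = 2 := by omega
  rcases hi2 with h1 | h2
  · exact Subgroup.index_eq_one.1 h1
  · haveI : N.Normal := Subgroup.normal_of_index_eq_two h2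
    rw [eq_top_iff]
    intro g _
    rw [hNdef, Subgroup.mem_normalizer_iff]
    intro t
    constructor
    · intro ht
      apply h3N
      · exact ‹N.Normal›.conj_mem t (Subgroup.le_normalizer ht) g
      · rw [conj_pow, hexp t ht]
        group
    · intro ht
      have e : t = g⁻¹ * (g * t * g⁻¹) * (g⁻¹)⁻¹ := by group
      rw [e]
      apply h3N
      · exact ‹N.Normal›.conj_mem _ (Subgroup.le_normalizer ht) g⁻¹
      · rw [conj_pow, hexp _ ht]
        group

end Cfsg.Agent.Lib.Helper19.S3805
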