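import Mathlib
import Cfsg.Prelude.Def_Characters
import Cfsg.Agent.Lib.Helper19.S3701B
import Cfsg.Agent.Lib.Helper19.S3805F
import Cfsg.Agent.Lib.Helper11.FrobBasic
import Cfsg.Agent.Lib.Helper19.S3701A2
import Cfsg.Agent.Lib.Helper19.S3701B4
import Cfsg.Agent.Lib.Helper19.S3701C
import Cfsg.Agent.Lib.Helper19.S3701E4
import Cfsg.Agent.Lib.Helper27.S3701FOD
import Cfsg.Agent.Lib.Helper29.S3701FOF

/-!
# S3701: the final assembly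
-/

set_option autoImplicit false

namespace Cfsg.Agent.Lib.Helper19.S3701

open Cfsg
open Cfsg.Agent.Lib.Helper2
open scoped ComplexConjugate

section Main

variable {G : Type*} [Group G] [Finite G] (P : Sylow 3 G) {H : Subgroup G}
  {t₁ t₂ t₃ u₁ u₂ : G} (h : Cfg3 H (P : Subgroup G) t₁ t₂ t₃ u₁ u₂)
  (hN : Subgroup.normalizer ((P : Subgroup G) : Set G) = H)
  (hC : ∀ t ∈ (P : Subgroup G), t ≠ 1 → Subgroup.centralizer ({t} : Set G) ≤ H)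

include h hN hC

theorem card_centralizer_54 {x : V3} (hx : x ≠ 0)
    (h2 : (E4.image (fun ε => ε * x)).card = 2) :
    Nat.card (Subgroup.centralizer ({mono3 t₁ t₂ t₃ x} : Set G)) = 54 := by
  have := card_centralizer_mul h hC hx
  rw [h2] at this
  omega

theorem card_centralizer_27 {x : V3} (hx : x ≠ 0)
    (h2 : (E4.image (fun ε => ε * x)).card = 4) :
    Nat.card (Subgroup.centralizer ({mono3 t₁ t₂ t₃ x} : Set G)) = 27 := by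
  have := card_centralizer_mul h hC hx
  rw [h2] at this
  omega

theorem not_isConj_of {x x' : V3} (hx : x ≠ 0) (hne : ∀ ε ∈ E4, x' ≠ ε * x) :
    ¬ IsConj (mono3 t₁ t₂ t₃ x) (mono3 t₁ t₂ t₃ x') := by
  intro hc
  obtain ⟨ε, hε, he⟩ := (isConj_mono3_iff P h hN hC hx x').1 hc
  exact hne ε hε he

/-- **The order bound.** -/
theorem card_le : Nat.card G ≤ 108 := by
  classical
  haveI : Fintype G := Fintype.ofFinite G
  haveI : Fintype (IrrCharacter G) := Fintype.ofFinite _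
  set μ := mono3 t₁ t₂ t₃ with hμ
  have hgpos : (0 : ℝ) < (Nat.card G : ℝ) := by exact_mod_cast Nat.card_pos
  choose d hdpos hd using fun χ : IrrCharacter G => IsIrrCharacter.apply_one χ.2
  -- invariance
  have hinv : ∀ χ : IrrCharacter G, ∀ ε ∈ E4, ∀ y : V3,
      (χ : G → ℂ) (μ (ε * y)) = (χ : G → ℂ) (μ y) := by
    intro χ ε hε y
    obtain ⟨g, -, ha⟩ := h.exists_acts hε
    rw [hμ, ← ha y]
    exact IrrCharacter.isClassFunction χ (mono3 t₁ t₂ t₃ y) g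
  -- multiplicities
  have hnat : ∀ χ : IrrCharacter G, ∀ x : V3, ∃ n : ℕ,
      ∑ y : V3, (χ : G → ℂ) (μ y) * conj (ev x y) = 27 * (n : ℂ) := fun χ x =>
    mult_nat h.t₁3 h.t₂3 h.t₃3 h.c₁₂ h.c₁₃ h.c₂₃ _ (IsIrrCharacter.isCharacter χ.2) x
  -- the norm bound
  have hnb : ∀ χ : IrrCharacter G,
      (Nat.card G : ℝ) * ∑ y : V3, (if y = 0 then 0 else Complex.normSq ((χ : G → ℂ) (μ y)))
        ≤ 108 * ((Nat.card G : ℝ) - (d χ : ℝ) ^ 2) := by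
    intro χ
    have h0 := Cfsg.Agent.Lib.Helper27.S3701FOD.norm_bound H 108 h.cardH (ι := {y : V3 // y ≠ 0}) (fun i => μ i.1)
      (fun i j hij => Subtype.ext (h.inj hij)) (fun i => h.mono3_ne_one i.2)
      (fun i j g hg => mem_of_conj P h hN hC i.2 hg) (χ : G → ℂ) χ.2
    have h1 : ∑ i : {y : V3 // y ≠ 0}, Complex.normSq ((χ : G → ℂ) (μ i.1))
        = ∑ y : V3, (if y = 0 then 0 else Complex.normSq ((χ : G → ℂ) (μ y))) := by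
      rw [← Finset.sum_subtype (Finset.univ.filter (fun y : V3 => y ≠ 0)) (by simp)
        (fun y => Complex.normSq ((χ : G → ℂ) (μ y))), Finset.sum_filter]
      apply Finset.sum_congr rfl
      intro y _
      by_cases hy : y = 0
      · simp [hy]
      · simp [hy]
    have h2 : Complex.normSq ((χ : G → ℂ) 1) = (d χ : ℝ) ^ 2 := by
      rw [hd χ, Complex.normSq_natCast, sq]
    rw [h1, h2] at h0
    exact_mod_cast h0
  have hlt : ∀ χ : IrrCharacter G,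
      ∑ y : V3, (if y = 0 then 0 else Complex.normSq ((χ : G → ℂ) (μ y))) < 108 := by
    intro χ
    have h0 := hnb χ
    have hd1 : (1 : ℝ) ≤ (d χ : ℝ) := by exact_mod_cast hdpos χ
    have hd2 : (0 : ℝ) < (d χ : ℝ) ^ 2 := by positivity
    by_contra hge
    push_neg at hge
    have : (Nat.card G : ℝ) * 108 ≤ (Nat.card G : ℝ) *
        ∑ y : V3, (if y = 0 then 0 else Complex.normSq ((χ : G → ℂ) (μ y))) :=
      mul_le_mul_of_nonneg_left hge hgpos.le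
    nlinarith
  choose X₁ X₂ X₃ Y₁ Y₂ κ hX₁ hX₂ hX₃ hY₁ hY₂ h9 hpat using fun χ : IrrCharacter G =>
    fourier_main (fun y => (χ : G → ℂ) (μ y)) (hinv χ) (hnat χ) (hlt χ)
  -- centralisers
  have hA1 : ((1, 0, 0) : V3) ≠ 0 := by decide
  have hA2 : ((0, 1, 0) : V3) ≠ 0 := by decide
  have hA3 : ((0, 0, 1) : V3) ≠ 0 := by decide
  have hB1 : ((0, 1, 1) : V3) ≠ 0 := by decide
  have hB2 : ((1, 0, 1) : V3) ≠ 0 := by decide
  have hCA1 := card_centralizer_54 P h hN hC hA1 (by decide)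
  have hCA2 := card_centralizer_54 P h hN hC hA2 (by decide)
  have hCA3 := card_centralizer_54 P h hN hC hA3 (by decide)
  have hCB1 := card_centralizer_27 P h hN hC hB1 (by decide)
  have hCB2 := card_centralizer_27 P h hN hC hB2 (by decide)
  -- non-conjugacy
  have n12 := not_isConj_of P h hN hC (x := (1, 0, 0)) (x' := (0, 1, 0)) hA1 (by decide)
  have n1b1 := not_isConj_of P h hN hC (x := (1, 0, 0)) (x' := (0, 1, 1)) hA1 (by decide)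
  have n1b2 := not_isConj_of P h hN hC (x := (1, 0, 0)) (x' := (1, 0, 1)) hA1 (by decide)
  have n2b1 := not_isConj_of P h hN hC (x := (0, 1, 0)) (x' := (0, 1, 1)) hA2 (by decide)
  have n2b2 := not_isConj_of P h hN hC (x := (0, 1, 0)) (x' := (1, 0, 1)) hA2 (by decide)
  have nb1b2 := not_isConj_of P h hN hC (x := (0, 1, 1)) (x' := (1, 0, 1)) hB1 (by decide)
  -- column orthogonality
  have c11 := S3805.col_eq (μ (1, 0, 0)) (μ (1, 0, 0)) X₁ X₁ hX₁ hX₁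
  rw [if_pos (IsConj.refl _), hCA1] at c11
  have c22 := S3805.col_eq (μ (0, 1, 0)) (μ (0, 1, 0)) X₂ X₂ hX₂ hX₂
  rw [if_pos (IsConj.refl _), hCA2] at c22
  have cb1 := S3805.col_eq (μ (0, 1, 1)) (μ (0, 1, 1)) Y₁ Y₁ hY₁ hY₁
  rw [if_pos (IsConj.refl _), hCB1] at cb1
  have cb2 := S3805.col_eq (μ (1, 0, 1)) (μ (1, 0, 1)) Y₂ Y₂ hY₂ hY₂
  rw [if_pos (IsConj.refl _), hCB2] at cb2
  have c12 := S3805.col_eq (μ (1, 0, 0)) (μ (0, 1, 0)) X₁ X₂ hX₁ hX₂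
  rw [if_neg n12] at c12
  have c1b1 := S3805.col_eq (μ (1, 0, 0)) (μ (0, 1, 1)) X₁ Y₁ hX₁ hY₁
  rw [if_neg n1b1] at c1b1
  have c1b2 := S3805.col_eq (μ (1, 0, 0)) (μ (1, 0, 1)) X₁ Y₂ hX₁ hY₂
  rw [if_neg n1b2] at c1b2
  have c2b1 := S3805.col_eq (μ (0, 1, 0)) (μ (0, 1, 1)) X₂ Y₁ hX₂ hY₁
  rw [if_neg n2b1] at c2b1
  have c2b2 := S3805.col_eq (μ (0, 1, 0)) (μ (1, 0, 1)) X₂ Y₂ hX₂ hY₂
  rw [if_neg n2b2] at c2b2
  have cb1b2 := S3805.col_eq (μ (0, 1, 1)) (μ (1, 0, 1)) Y₁ Y₂ hY₁ hY₂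
  rw [if_neg nb1b2] at cb1b2
  have hκ2 : ∑ χ : IrrCharacter G, κ χ ^ 2 = 2 := by
    have hsq : ∀ χ : IrrCharacter G, 81 * κ χ ^ 2
        = X₁ χ * X₁ χ + X₂ χ * X₂ χ + Y₁ χ * Y₁ χ + Y₂ χ * Y₂ χ - 2 * (X₁ χ * X₂ χ)
          + 2 * (X₁ χ * Y₁ χ) - 2 * (X₁ χ * Y₂ χ) - 2 * (X₂ χ * Y₁ χ) + 2 * (X₂ χ * Y₂ χ)
          - 2 * (Y₁ χ * Y₂ χ) := by
      intro χ
      have e : 81 * κ χ ^ 2 = (9 * κ χ) ^ 2 := by ring
      rw [e, ← h9 χ]
      ring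
    have h81 : 81 * ∑ χ : IrrCharacter G, κ χ ^ 2 = 162 := by
      rw [Finset.mul_sum, Finset.sum_congr rfl (fun χ _ => hsq χ)]
      simp only [Finset.sum_add_distrib, Finset.sum_sub_distrib, ← Finset.mul_sum]
      rw [c11, c22, cb1, cb2, c12, c1b1, c1b2, c2b1, c2b2, cb1b2]
      norm_num
    omega
  -- the class-algebra constants
  have hP : ∀ x₁ x₂ w : V3, x₁ ≠ 0 → x₂ ≠ 0 → w ≠ 0 → (∀ ε ∈ E4, x₂ ≠ ε * x₁) →
      Nat.card {p : G × G // IsConj (μ x₁) p.1 ∧ IsConj (μ x₂) p.2 ∧ p.1 * p.2 = μ w}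
        = (((E4.image (fun ε => ε * x₁)) ×ˢ (E4.image (fun ε => ε * x₂))).filter
            (fun xy => xy.1 + xy.2 = w)).card :=
    fun x₁ x₂ w h1 h2 h3 h4 => card_pairs3 P h hN hC x₁ x₂ w h1 h2 h3 h4
  have k131 := hP (1, 0, 0) (0, 0, 1) (1, 0, 0) hA1 hA3 hA1 (by decide)
  have k132 := hP (1, 0, 0) (0, 0, 1) (0, 1, 0) hA1 hA3 hA2 (by decide)
  have k13b1 := hP (1, 0, 0) (0, 0, 1) (0, 1, 1) hA1 hA3 hB1 (by decide)
  have k13b2 := hP (1, 0, 0) (0, 0, 1) (1, 0, 1) hA1 hA3 hB2 (by decide)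
  have k231 := hP (0, 1, 0) (0, 0, 1) (1, 0, 0) hA2 hA3 hA1 (by decide)
  have k232 := hP (0, 1, 0) (0, 0, 1) (0, 1, 0) hA2 hA3 hA2 (by decide)
  have k23b1 := hP (0, 1, 0) (0, 0, 1) (0, 1, 1) hA2 hA3 hB1 (by decide)
  have k23b2 := hP (0, 1, 0) (0, 0, 1) (1, 0, 1) hA2 hA3 hB2 (by decide)
  have E131 := S3805.class_eq (μ (1, 0, 0)) (μ (0, 0, 1)) (μ (1, 0, 0)) X₁ X₃ X₁ d hX₁ hX₃ hX₁ hd
    54 54 0 hCA1 hCA3 (by rw [k131]; decide)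
  have E132 := S3805.class_eq (μ (1, 0, 0)) (μ (0, 0, 1)) (μ (0, 1, 0)) X₁ X₃ X₂ d hX₁ hX₃ hX₂ hd
    54 54 0 hCA1 hCA3 (by rw [k132]; decide)
  have E13b1 := S3805.class_eq (μ (1, 0, 0)) (μ (0, 0, 1)) (μ (0, 1, 1)) X₁ X₃ Y₁ d hX₁ hX₃ hY₁ hd
    54 54 0 hCA1 hCA3 (by rw [k13b1]; decide)
  have E13b2 := S3805.class_eq (μ (1, 0, 0)) (μ (0, 0, 1)) (μ (1, 0, 1)) X₁ X₃ Y₂ d hX₁ hX₃ hY₂ hd
    54 54 1 hCA1 hCA3 (by rw [k13b2]; decide)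
  have E231 := S3805.class_eq (μ (0, 1, 0)) (μ (0, 0, 1)) (μ (1, 0, 0)) X₂ X₃ X₁ d hX₂ hX₃ hX₁ hd
    54 54 0 hCA2 hCA3 (by rw [k231]; decide)
  have E232 := S3805.class_eq (μ (0, 1, 0)) (μ (0, 0, 1)) (μ (0, 1, 0)) X₂ X₃ X₂ d hX₂ hX₃ hX₂ hd
    54 54 0 hCA2 hCA3 (by rw [k232]; decide)
  have E23b1 := S3805.class_eq (μ (0, 1, 0)) (μ (0, 0, 1)) (μ (0, 1, 1)) X₂ X₃ Y₁ d hX₂ hX₃ hY₁ hd
    54 54 1 hCA2 hCA3 (by rw [k23b1]; decide)
  have E23b2 := S3805.class_eq (μ (0, 1, 0)) (μ (0, 0, 1)) (μ (1, 0, 1)) X₂ X₃ Y₂ d hX₂ hX₃ hY₂ hd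
    54 54 0 hCA2 hCA3 (by rw [k23b2]; decide)
  have hE1 : (Nat.card G : ℚ) * ∑ χ : IrrCharacter G,
      ((X₁ χ : ℚ) * X₃ χ * (9 * κ χ)) / d χ = -2916 := by
    have key : ∀ χ : IrrCharacter G, ((X₁ χ : ℚ) * X₃ χ * (9 * κ χ)) / d χ
        = ((X₁ χ : ℚ) * X₃ χ * X₁ χ) / d χ - ((X₁ χ : ℚ) * X₃ χ * X₂ χ) / d χ
          + ((X₁ χ : ℚ) * X₃ χ * Y₁ χ) / d χ - ((X₁ χ : ℚ) * X₃ χ * Y₂ χ) / d χ := by
      intro χ
      have e : (9 * (κ χ : ℚ)) = (X₁ χ : ℚ) - X₂ χ + Y₁ χ - Y₂ χ := by exact_mod_cast (h9 χ).symm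
      rw [e]
      ring
    rw [Finset.sum_congr rfl (fun χ _ => key χ)]
    simp only [Finset.sum_add_distrib, Finset.sum_sub_distrib, mul_add, mul_sub]
    rw [E131, E132, E13b1, E13b2]
    norm_num
  have hE2 : (Nat.card G : ℚ) * ∑ χ : IrrCharacter G,
      ((X₂ χ : ℚ) * X₃ χ * (9 * κ χ)) / d χ = 2916 := by
    have key : ∀ χ : IrrCharacter G, ((X₂ χ : ℚ) * X₃ χ * (9 * κ χ)) / d χ
        = ((X₂ χ : ℚ) * X₃ χ * X₁ χ) / d χ - ((X₂ χ : ℚ) * X₃ χ * X₂ χ) / d χ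
          + ((X₂ χ : ℚ) * X₃ χ * Y₁ χ) / d χ - ((X₂ χ : ℚ) * X₃ χ * Y₂ χ) / d χ := by
      intro χ
      have e : (9 * (κ χ : ℚ)) = (X₁ χ : ℚ) - X₂ χ + Y₁ χ - Y₂ χ := by exact_mod_cast (h9 χ).symm
      rw [e]
      ring
    rw [Finset.sum_congr rfl (fun χ _ => key χ)]
    simp only [Finset.sum_add_distrib, Finset.sum_sub_distrib, mul_add, mul_sub]
    rw [E231, E232, E23b1, E23b2]
    norm_num
  have hbound : ∀ χ : IrrCharacter G, κ χ ≠ 0 → 108 * (d χ) ^ 2 ≤ 16 * Nat.card G := by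
    intro χ hk
    have h92 := (hpat χ hk).1
    have h0 := hnb χ
    rw [h92] at h0
    have : (108 : ℝ) * (d χ : ℝ) ^ 2 ≤ 16 * (Nat.card G : ℝ) := by linarith
    exact_mod_cast this
  exact Cfsg.Agent.Lib.Helper29.S3701FOF.final_arith X₁ X₂ X₃ κ d (Nat.card G) hdpos Nat.card_pos hκ2
    (fun χ hk => (hpat χ hk).2) hE1 hE2 hbound

end Main

/-- **S3701.** -/
theorem main {G : Type*} [Group G] [Finite G] (H : Subgroup G)
    (hH : Nonempty (↥H ≃* ↥(Subgroup.closure ({Equiv.swap (0 : Fin 9) 1 * Equiv.swap 1 2,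
        Equiv.swap (3 : Fin 9) 4 * Equiv.swap 4 5, Equiv.swap (6 : Fin 9) 7 * Equiv.swap 7 8,
        Equiv.swap (0 : Fin 9) 1 * Equiv.swap 3 4, Equiv.swap (0 : Fin 9) 1 * Equiv.swap 6 7} :
        Set (Equiv.Perm (Fin 9))))))
    (T : Subgroup G) (hTH : T ≤ H) (hT : Nat.card T = 27)
    (hN : Subgroup.normalizer (T : Set G) = H)
    (hC : ∀ t ∈ T, t ≠ 1 → Subgroup.centralizer ({t} : Set G) ≤ H) : H = ⊤ := by
  obtain ⟨t₁, t₂, t₃, u₁, u₂, h⟩ := exists_cfg3 H hH T hTH hT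
  haveI : Fact (Nat.Prime 3) := ⟨Nat.prime_three⟩
  have hidx : ¬ 3 ∣ T.relIndex H := by
    have h1 : T.relIndex H * Nat.card T = Nat.card H := by
      have h5 := Subgroup.card_mul_index (T.subgroupOf H)
      rw [Nat.card_congr (Subgroup.subgroupOfEquivOfLe hTH).toEquiv] at h5
      rw [mul_comm]
      exact h5
    rw [hT, h.cardH] at h1
    have h4 : T.relIndex H = 4 := by omega
    rw [h4]
    norm_num
  obtain ⟨P, hP⟩ := Cfsg.Agent.Lib.Helper11.exists_sylow_eq_of_normalizer 3 T H 3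
    (by rw [hT]; norm_num) hN hTH hidx
  subst hP
  have hle := card_le P h hN hC
  apply Subgroup.eq_top_of_le_card
  rw [h.cardH]
  exact hle

end Cfsg.Agent.Lib.Helper19.S3701
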