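import Mathlib

/-!
# S5630 (helper7's hub), block I5: the abstract group-theoretic dichotomy (helper19)

`G` a finite group, `Z` a central subgroup, `H` a subgroup not contained in `Z`.  Either there are an `H`-normalised
`N ≤ H`, minimal among the `H`-normalised subgroups not contained in `Z`, and a prime `r` with `x ^ r ∈ Z`, `⁅x, y⁆ ∈ Z` on `N`;
or there is a perfect `L ≤ H`, `L ≰ Z`, simple modulo `Z`, such that every `H`-conjugate of `L` is `L` or centralises `L`.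
-/

set_option autoImplicit false

namespace Cfsg.Agent.Lib.Helper19.S5630I5

open scoped commutatorElement

variable {G : Type*} [Group G]

/-- `N` is normalised by `H` -/
def NB (H N : Subgroup G) : Prop := ∀ h ∈ H, ∀ x ∈ N, h * x * h⁻¹ ∈ N

/-- `Z` is central -/
def Cen (Z : Subgroup G) : Prop := ∀ z ∈ Z, ∀ g : G, g * z = z * g

/-- a subgroup of minimal cardinality with a given property -/
theorem exists_min_card [Finite G] (P : Subgroup G → Prop) (h : ∃ N, P N) :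
    ∃ N, P N ∧ ∀ K, P K → Nat.card N ≤ Nat.card K := by
  classical
  have hne : ∃ c, ∃ N : Subgroup G, P N ∧ Nat.card N = c := let ⟨N, hN⟩ := h; ⟨_, N, hN, rfl⟩
  obtain ⟨N, hN, hc⟩ := Nat.find_spec hne
  refine ⟨N, hN, fun K hK => ?_⟩
  rw [hc]
  exact Nat.find_min' hne ⟨K, hK, rfl⟩

theorem eq_of_le_of_card_le [Finite G] {K N : Subgroup G} (h : K ≤ N) (hc : Nat.card N ≤ Nat.card K) : K = N :=
  Subgroup.eq_of_le_of_card_ge h hc

/-! ### commutators with central values -/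

theorem comm_mul_left {Z : Subgroup G} (hZ : Cen Z) (x x' y : G) (h : ⁅x', y⁆ ∈ Z) :
    ⁅x * x', y⁆ = ⁅x', y⁆ * ⁅x, y⁆ := by
  have h1 : ⁅x * x', y⁆ = x * ⁅x', y⁆ * x⁻¹ * ⁅x, y⁆ := by
    simp only [commutatorElement_def]; group
  rw [h1, hZ _ h x]
  group

theorem comm_inv_swap (x y : G) : ⁅x, y⁆⁻¹ = ⁅y, x⁆ := commutatorElement_inv x y

theorem comm_inv_left {Z : Subgroup G} (hZ : Cen Z) (x y : G) (h : ⁅x, y⁆ ∈ Z) : ⁅x⁻¹, y⁆ = ⁅x, y⁆⁻¹ := by
  have h1 : ⁅x⁻¹, y⁆ = x⁻¹ * ⁅x, y⁆⁻¹ * x := by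
    simp only [commutatorElement_def]; group
  rw [h1, hZ _ (Z.inv_mem h) x⁻¹]
  group

/-- the elements whose commutator with `y` lies in the central subgroup `Z` form a subgroup -/
def commSub (Z : Subgroup G) (hZ : Cen Z) (y : G) : Subgroup G where
  carrier := {x | ⁅x, y⁆ ∈ Z}
  one_mem' := by
    change ⁅(1 : G), y⁆ ∈ Z
    rw [commutatorElement_one_left]; exact Z.one_mem
  mul_mem' {a b} ha hb := by
    change ⁅a * b, y⁆ ∈ Z
    rw [comm_mul_left hZ a b y hb]
    exact Z.mul_mem hb ha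
  inv_mem' {a} ha := by
    change ⁅a⁻¹, y⁆ ∈ Z
    rw [comm_inv_left hZ a y ha]
    exact Z.inv_mem ha

theorem mem_commSub {Z : Subgroup G} (hZ : Cen Z) (y x : G) : x ∈ commSub Z hZ y ↔ ⁅x, y⁆ ∈ Z := Iff.rfl

/-- commutators of elements of two closures lie in `Z` if the commutators of the generators do -/
theorem comm_closure {Z : Subgroup G} (hZ : Cen Z) (S T : Set G) (h : ∀ s ∈ S, ∀ t ∈ T, ⁅s, t⁆ ∈ Z) :
    ∀ a ∈ Subgroup.closure S, ∀ b ∈ Subgroup.closure T, ⁅a, b⁆ ∈ Z := by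
  have h1 : ∀ t ∈ T, ∀ a ∈ Subgroup.closure S, ⁅a, t⁆ ∈ Z := by
    intro t ht a ha
    have : Subgroup.closure S ≤ commSub Z hZ t := by
      rw [Subgroup.closure_le]
      intro s hs
      exact h s hs t ht
    exact this ha
  intro a ha b hb
  have : Subgroup.closure T ≤ commSub Z hZ a := by
    rw [Subgroup.closure_le]
    intro t ht
    change ⁅t, a⁆ ∈ Z
    rw [← comm_inv_swap]
    exact Z.inv_mem (h1 t ht a ha)
  have h2 : ⁅b, a⁆ ∈ Z := this hb
  rw [← comm_inv_swap]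
  exact Z.inv_mem h2

/-- powers of a product, modulo central commutators -/
theorem mul_pow_mod {Z N : Subgroup G} (hZ : Cen Z) (hc : ∀ a ∈ N, ∀ b ∈ N, ⁅a, b⁆ ∈ Z) (g g' : G)
    (hg : g ∈ N) (hg' : g' ∈ N) (k : ℕ) : ∃ c ∈ Z, (g * g') ^ k = g ^ k * g' ^ k * c := by
  induction k with
  | zero => exact ⟨1, Z.one_mem, by simp⟩
  | succ k ih =>
    obtain ⟨c, hcZ, hk⟩ := ih
    set c' : G := ⁅(g' ^ k)⁻¹, g⁻¹⁆ with hc'
    have hc'Z : c' ∈ Z := hc _ (N.inv_mem (N.pow_mem hg' k)) _ (N.inv_mem hg)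
    refine ⟨c' * c, Z.mul_mem hc'Z hcZ, ?_⟩
    have e1 : g' ^ k * g = g * g' ^ k * c' := by
      rw [hc', commutatorElement_def]; group
    calc (g * g') ^ (k + 1) = (g * g') ^ k * (g * g') := pow_succ _ _
      _ = g ^ k * g' ^ k * c * (g * g') := by rw [hk]
      _ = g ^ k * (g' ^ k * g) * g' * c := by
          rw [mul_assoc (g ^ k * g' ^ k) c, ← hZ c hcZ (g * g')]; group
      _ = g ^ k * (g * g' ^ k * c') * g' * c := by rw [e1]
      _ = g ^ k * g * g' ^ k * g' * (c' * c) := by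
          have : c' * g' = g' * c' := (hZ c' hc'Z g').symm
          calc g ^ k * (g * g' ^ k * c') * g' * c = g ^ k * g * g' ^ k * (c' * g') * c := by group
            _ = g ^ k * g * g' ^ k * (g' * c') * c := by rw [this]
            _ = g ^ k * g * g' ^ k * g' * (c' * c) := by group
      _ = g ^ (k + 1) * g' ^ (k + 1) * (c' * c) := by
          rw [pow_succ, pow_succ]; group

end Cfsg.Agent.Lib.Helper19.S5630I5
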