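import Mathlib
import Cfsg.Agent.Lib.Helper19.S5630I5A

/-!
# S5630 (helper7's hub), block I5: case (a) — `[N,N] ≤ Z` (helper19)
-/

set_option autoImplicit false

namespace Cfsg.Agent.Lib.Helper19.S5630I5

open scoped commutatorElement

variable {G : Type*} [Group G]

/-- conjugation by `h` maps a commutator subgroup of an `H`-normalised subgroup into itself -/
theorem NB.commutator {H N : Subgroup G} (hN : NB H N) : NB H ⁅N, N⁆ := by
  intro h hh x hx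
  have h1 : (⁅N, N⁆).map (MulAut.conj h).toMonoidHom ≤ ⁅N, N⁆ := by
    rw [Subgroup.map_commutator]
    apply Subgroup.commutator_mono <;>
    · rintro _ ⟨y, hy, rfl⟩
      exact hN h hh y hy
  exact h1 ⟨x, hx, rfl⟩

theorem commutator_le_self (N : Subgroup G) : ⁅N, N⁆ ≤ N := by
  rw [Subgroup.commutator_le]
  intro a ha b hb
  exact N.mul_mem (N.mul_mem (N.mul_mem ha hb) (N.inv_mem ha)) (N.inv_mem hb)

/-- the subgroup `{g ∈ N | g ^ r ∈ Z}` when `[N,N] ≤ Z` -/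
def powSub (Z N : Subgroup G) (hZ : Cen Z) (hc : ∀ a ∈ N, ∀ b ∈ N, ⁅a, b⁆ ∈ Z) (r : ℕ) : Subgroup G where
  carrier := {g | g ∈ N ∧ g ^ r ∈ Z}
  one_mem' := ⟨N.one_mem, by rw [one_pow]; exact Z.one_mem⟩
  mul_mem' {a b} ha hb := by
    refine ⟨N.mul_mem ha.1 hb.1, ?_⟩
    obtain ⟨c, hcZ, hk⟩ := mul_pow_mod hZ hc a b ha.1 hb.1 r
    rw [hk]
    exact Z.mul_mem (Z.mul_mem ha.2 hb.2) hcZ
  inv_mem' {a} ha := ⟨N.inv_mem ha.1, by rw [inv_pow]; exact Z.inv_mem ha.2⟩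

theorem mem_powSub {Z N : Subgroup G} (hZ : Cen Z) (hc : ∀ a ∈ N, ∀ b ∈ N, ⁅a, b⁆ ∈ Z) (r : ℕ) (g : G) :
    g ∈ powSub Z N hZ hc r ↔ g ∈ N ∧ g ^ r ∈ Z := Iff.rfl

/-- case (a) -/
theorem case_a [Finite G] {Z H N : Subgroup G} (hZ : Cen Z) (hnorm : NB H N) (hNs : ¬ N ≤ Z)
    (hmin : ∀ K : Subgroup G, K ≤ N → NB H K → K ≤ Z ∨ K = N) (hc : ⁅N, N⁆ ≤ Z) :
    ∃ r : ℕ, r.Prime ∧ (∀ x ∈ N, x ^ r ∈ Z) ∧ (∀ x ∈ N, ∀ y ∈ N, ⁅x, y⁆ ∈ Z) := by
  classical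
  have hcomm : ∀ a ∈ N, ∀ b ∈ N, ⁅a, b⁆ ∈ Z := fun a ha b hb =>
    hc (Subgroup.commutator_mem_commutator ha hb)
  obtain ⟨x, hxN, hxZ⟩ := SetLike.not_le_iff_exists.mp hNs
  have hex : ∃ m, 0 < m ∧ x ^ m ∈ Z :=
    ⟨orderOf x, orderOf_pos x, by rw [pow_orderOf_eq_one]; exact Z.one_mem⟩
  set m := Nat.find hex with hm
  obtain ⟨hmpos, hmZ⟩ := Nat.find_spec hex
  have hm1 : m ≠ 1 := by
    intro h1
    rw [← hm, h1, pow_one] at hmZ
    exact hxZ hmZ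
  set r := m.minFac with hr
  have hrp : r.Prime := Nat.minFac_prime hm1
  have hrm : r ∣ m := Nat.minFac_dvd m
  obtain ⟨k, hk⟩ := hrm
  have hkpos : 0 < k := by
    rcases Nat.eq_zero_or_pos k with h0 | h0
    · rw [h0, mul_zero] at hk; omega
    · exact h0
  have hklt : k < m := by
    have : 2 ≤ r := hrp.two_le
    nlinarith
  set y := x ^ k with hy
  have hyZ : y ∉ Z := fun h => Nat.find_min hex hklt ⟨hkpos, h⟩
  have hyr : y ^ r ∈ Z := by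
    rw [hy, ← pow_mul, mul_comm, ← hk]
    exact hmZ
  have hyN : y ∈ N := N.pow_mem hxN k
  refine ⟨r, hrp, ?_, hcomm⟩
  have hnb : NB H (powSub Z N hZ hcomm r) := by
    intro h hh g hg
    refine ⟨hnorm h hh g hg.1, ?_⟩
    rw [conj_pow, hZ _ hg.2 h, mul_inv_cancel_right]
    exact hg.2
  have hK : powSub Z N hZ hcomm r = N := by
    rcases hmin (powSub Z N hZ hcomm r) (fun g hg => hg.1) hnb with h | h
    · exact absurd (h ⟨hyN, hyr⟩) hyZ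
    · exact h
  intro g hg
  rw [← hK] at hg
  exact hg.2

end Cfsg.Agent.Lib.Helper19.S5630I5
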