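import Mathlib
import Cfsg.Agent.Lib.Helper19.S5630I5A
import Cfsg.Agent.Lib.Helper19.S5630I5B

/-!
# S5630 (helper7's hub), block I5: case (b) — `[N,N] = N` (helper19)
-/

set_option autoImplicit false

namespace Cfsg.Agent.Lib.Helper19.S5630I5

open scoped commutatorElement

variable {G : Type*} [Group G]

/-- the conjugate subgroup `h L h⁻¹` -/
def cj (h : G) (L : Subgroup G) : Subgroup G := L.map (MulAut.conj h).toMonoidHom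

theorem mem_cj (h : G) (L : Subgroup G) (x : G) : x ∈ cj h L ↔ ∃ y ∈ L, h * y * h⁻¹ = x := by
  unfold cj
  rw [Subgroup.mem_map]
  rfl

theorem conj_mem_cj (h : G) (L : Subgroup G) {y : G} (hy : y ∈ L) : h * y * h⁻¹ ∈ cj h L :=
  (mem_cj h L _).2 ⟨y, hy, rfl⟩

theorem cj_one (L : Subgroup G) : cj 1 L = L := by
  ext x
  rw [mem_cj]
  constructor
  · rintro ⟨y, hy, rfl⟩
    simpa using hy
  · intro hx
    exact ⟨x, hx, by simp⟩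

theorem cj_mul (h k : G) (L : Subgroup G) : cj (h * k) L = cj h (cj k L) := by
  ext x
  rw [mem_cj, mem_cj]
  constructor
  · rintro ⟨y, hy, rfl⟩
    exact ⟨k * y * k⁻¹, conj_mem_cj k L hy, by group⟩
  · rintro ⟨y, hy, rfl⟩
    obtain ⟨w, hw, rfl⟩ := (mem_cj k L y).1 hy
    exact ⟨w, hw, by group⟩

theorem card_cj [Finite G] (h : G) (L : Subgroup G) : Nat.card (cj h L) = Nat.card L :=
  Subgroup.card_map_of_injective (MulAut.conj h).injective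

theorem cj_le {H N L : Subgroup G} (hN : NB H N) (hL : L ≤ N) {h : G} (hh : h ∈ H) : cj h L ≤ N := by
  intro x hx
  obtain ⟨y, hy, rfl⟩ := (mem_cj h L x).1 hx
  exact hN h hh y (hL hy)

theorem NB_cj {H N L : Subgroup G} (hN : NB H N) (hL : NB N L) {h : G} (hh : h ∈ H) : NB N (cj h L) := by
  intro n hn x hx
  obtain ⟨y, hy, rfl⟩ := (mem_cj h L x).1 hx
  have h1 : h⁻¹ * n * h ∈ N := by
    have := hN h⁻¹ (H.inv_mem hh) n hn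
    rwa [inv_inv] at this
  have h2 := hL _ h1 y hy
  have : n * (h * y * h⁻¹) * n⁻¹ = h * (h⁻¹ * n * h * y * (h⁻¹ * n * h)⁻¹) * h⁻¹ := by group
  rw [this]
  exact conj_mem_cj h L h2

theorem conj_central {Z : Subgroup G} (hZ : Cen Z) {z : G} (hz : z ∈ Z) (h : G) : h * z * h⁻¹ = z := by
  rw [hZ z hz h, mul_inv_cancel_right]

theorem not_cj_le {Z L : Subgroup G} (hZ : Cen Z) (hL : ¬ L ≤ Z) (h : G) : ¬ cj h L ≤ Z := by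
  intro hle
  apply hL
  intro x hx
  have h1 : h * x * h⁻¹ ∈ Z := hle (conj_mem_cj h L hx)
  have h2 := conj_central hZ h1 h⁻¹
  rw [inv_inv] at h2
  have h3 : h⁻¹ * (h * x * h⁻¹) * h = x := by group
  rw [h3] at h2
  rw [h2]
  exact h1

theorem comm_conj (h x y : G) : ⁅h * x * h⁻¹, h * y * h⁻¹⁆ = h * ⁅x, y⁆ * h⁻¹ := by
  simp only [commutatorElement_def]; group

/-- the commutator of two commutator-central elements with `x` commutes with `x` -/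
theorem comm_comm_eq_one {Z : Subgroup G} (hZ : Cen Z) (x y₁ y₂ : G) (h1 : ⁅y₁, x⁆ ∈ Z) (h2 : ⁅y₂, x⁆ ∈ Z) :
    ⁅y₁, y₂⁆ * x = x * ⁅y₁, y₂⁆ := by
  have h1' : ⁅y₁⁻¹, x⁆ ∈ Z := by rw [comm_inv_left hZ _ _ h1]; exact Z.inv_mem h1
  have h2' : ⁅y₂⁻¹, x⁆ ∈ Z := by rw [comm_inv_left hZ _ _ h2]; exact Z.inv_mem h2
  have e1 : ⁅y₁ * y₂, x⁆ = ⁅y₂, x⁆ * ⁅y₁, x⁆ := comm_mul_left hZ _ _ _ h2
  have e2 : ⁅y₁ * y₂ * y₁⁻¹, x⁆ = ⁅y₁⁻¹, x⁆ * ⁅y₁ * y₂, x⁆ := comm_mul_left hZ _ _ _ h1'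
  have e3 : ⁅y₁ * y₂ * y₁⁻¹ * y₂⁻¹, x⁆ = ⁅y₂⁻¹, x⁆ * ⁅y₁ * y₂ * y₁⁻¹, x⁆ := comm_mul_left hZ _ _ _ h2'
  have e4 : ⁅⁅y₁, y₂⁆, x⁆ = 1 := by
    rw [commutatorElement_def y₁ y₂, e3, e2, e1, comm_inv_left hZ _ _ h1, comm_inv_left hZ _ _ h2]
    have hc : ⁅y₂, x⁆ * ⁅y₁, x⁆ = ⁅y₁, x⁆ * ⁅y₂, x⁆ := (hZ _ h1 _)
    calc ⁅y₂, x⁆⁻¹ * (⁅y₁, x⁆⁻¹ * (⁅y₂, x⁆ * ⁅y₁, x⁆))
        = ⁅y₂, x⁆⁻¹ * (⁅y₁, x⁆⁻¹ * (⁅y₁, x⁆ * ⁅y₂, x⁆)) := by rw [hc]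
      _ = 1 := by group
  exact commutatorElement_eq_one_iff_mul_comm.mp e4

end Cfsg.Agent.Lib.Helper19.S5630I5
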