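import Mathlib
import Cfsg.Agent.Lib.Helper19.S5630I5A
import Cfsg.Agent.Lib.Helper19.S5630I5B
import Cfsg.Agent.Lib.Helper19.S5630I5C

/-!
# S5630 (helper7's hub), block I5: case (b), assembly, and the abstract dichotomy (helper19)
-/

set_option autoImplicit false

namespace Cfsg.Agent.Lib.Helper19.S5630I5

open scoped commutatorElement

variable {G : Type*} [Group G]

/-- case (b) -/
theorem case_b [Finite G] {Z H N : Subgroup G} (hZ : Cen Z) (hNH : N ≤ H) (hnorm : NB H N) (hNs : ¬ N ≤ Z)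
    (hmin : ∀ K : Subgroup G, K ≤ N → NB H K → K ≤ Z ∨ K = N) (hperf : ⁅N, N⁆ = N) :
    ∃ L : Subgroup G, L ≤ H ∧ ¬ L ≤ Z ∧ ⁅L, L⁆ = L ∧
      (∀ K : Subgroup G, K ≤ L → NB L K → K ≤ Z ∨ K = L) ∧
      (∀ h ∈ H, (∀ x ∈ L, h * x * h⁻¹ ∈ L) ∨ (∀ x ∈ L, ∀ y ∈ L, (h * x * h⁻¹) * y = y * (h * x * h⁻¹))) := by
  classical
  -- `L` of minimal cardinality among the `N`-normalised non-central subgroups of `N`
  obtain ⟨L, ⟨hLN, hLnb, hLs⟩, hLmin⟩ := exists_min_card (fun L : Subgroup G => L ≤ N ∧ NB N L ∧ ¬ L ≤ Z)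
    ⟨N, le_refl N, fun n hn x hx => N.mul_mem (N.mul_mem hn hx) (N.inv_mem hn), hNs⟩
  have hLmin' : ∀ K : Subgroup G, K ≤ L → NB N K → ¬ K ≤ Z → K = L := by
    intro K hKL hKnb hKs
    exact eq_of_le_of_card_le hKL (hLmin K ⟨hKL.trans hLN, hKnb, hKs⟩)
  -- distinct conjugates meet in `Z`
  have hX : ∀ h ∈ H, cj h L ≠ L → L ⊓ cj h L ≤ Z := by
    intro h hh hne
    by_contra hcon
    have hnb : NB N (L ⊓ cj h L) := by
      intro n hn x hx
      exact ⟨hLnb n hn x hx.1, NB_cj hnorm hLnb hh n hn x hx.2⟩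
    have h1 := hLmin' (L ⊓ cj h L) inf_le_left hnb hcon
    have h2 : L ≤ cj h L := by
      intro x hx
      rw [← h1] at hx
      exact hx.2
    have h3 : L = cj h L := eq_of_le_of_card_le h2 (by rw [card_cj])
    exact hne h3.symm
  have hX' : ∀ h ∈ H, cj h L ≠ L → ∀ x ∈ L, ∀ y ∈ cj h L, ⁅x, y⁆ ∈ Z := by
    intro h hh hne x hx y hy
    apply hX h hh hne
    have hxN : x ∈ N := hLN hx
    have hyN : y ∈ N := cj_le hnorm hLN hh hy
    constructor
    · have : ⁅x, y⁆ = x * (y * x⁻¹ * y⁻¹) := by rw [commutatorElement_def]; group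
      rw [this]
      exact L.mul_mem hx (hLnb y hyN x⁻¹ (L.inv_mem hx))
    · have : ⁅x, y⁆ = (x * y * x⁻¹) * y⁻¹ := by rw [commutatorElement_def]
      rw [this]
      exact (cj h L).mul_mem (NB_cj hnorm hLnb hh x hxN y hy) ((cj h L).inv_mem hy)
  -- two distinct conjugates
  have hXX : ∀ h ∈ H, ∀ h' ∈ H, cj h L ≠ cj h' L → ∀ x ∈ cj h L, ∀ y ∈ cj h' L, ⁅x, y⁆ ∈ Z := by
    intro h hh h' hh' hne x hx y hy
    obtain ⟨x₀, hx₀, rfl⟩ := (mem_cj h L x).1 hx
    obtain ⟨y₀, hy₀, rfl⟩ := (mem_cj h' L y).1 hy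
    have hk : h⁻¹ * h' ∈ H := H.mul_mem (H.inv_mem hh) hh'
    have hne' : cj (h⁻¹ * h') L ≠ L := by
      intro he
      apply hne
      have : cj h' L = cj h (cj (h⁻¹ * h') L) := by
        rw [← cj_mul]; congr 1; group
      rw [this, he]
    have h1 := hX' _ hk hne' x₀ hx₀ _ (conj_mem_cj (h⁻¹ * h') L hy₀)
    have h2 : ⁅h * x₀ * h⁻¹, h' * y₀ * h'⁻¹⁆ = h * ⁅x₀, h⁻¹ * h' * y₀ * (h⁻¹ * h')⁻¹⁆ * h⁻¹ := by
      rw [← comm_conj]; congr 1; group
    rw [h2, conj_central hZ h1]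
    exact h1
  -- the normal closure of `L` under `H`
  set U : Set G := {x | ∃ h ∈ H, x ∈ cj h L} with hU
  have hLU : (L : Set G) ⊆ U := fun x hx => ⟨1, H.one_mem, by rw [cj_one]; exact hx⟩
  have hMN : Subgroup.closure U ≤ N := by
    rw [Subgroup.closure_le]
    rintro x ⟨h, hh, hx⟩
    exact cj_le hnorm hLN hh hx
  have hMnb : NB H (Subgroup.closure U) := by
    intro h' hh' x hx
    have h1 : (Subgroup.closure U).map (MulAut.conj h').toMonoidHom ≤ Subgroup.closure U := by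
      rw [MonoidHom.map_closure, Subgroup.closure_le]
      rintro _ ⟨y, ⟨h, hh, hy⟩, rfl⟩
      apply Subgroup.subset_closure
      refine ⟨h' * h, H.mul_mem hh' hh, ?_⟩
      rw [cj_mul]
      exact conj_mem_cj h' _ hy
    exact h1 ⟨x, hx, rfl⟩
  have hMs : ¬ Subgroup.closure U ≤ Z := fun hle =>
    hLs (fun x hx => hle (Subgroup.subset_closure (hLU hx)))
  have hM : Subgroup.closure U = N := by
    rcases hmin _ hMN hMnb with h | h
    · exact absurd h hMs
    · exact h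
  -- `L` is perfect
  have hLperf : ⁅L, L⁆ = L := by
    apply hLmin' _ (commutator_le_self L) (NB.commutator hLnb)
    intro hcon
    apply hNs
    have hgen : ∀ s ∈ U, ∀ t ∈ U, ⁅s, t⁆ ∈ Z := by
      rintro s ⟨h, hh, hs⟩ t ⟨h', hh', ht⟩
      by_cases he : cj h L = cj h' L
      · rw [← he] at ht
        obtain ⟨s₀, hs₀, rfl⟩ := (mem_cj h L s).1 hs
        obtain ⟨t₀, ht₀, rfl⟩ := (mem_cj h L t).1 ht
        have h1 : ⁅s₀, t₀⁆ ∈ Z := hcon (Subgroup.commutator_mem_commutator hs₀ ht₀)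
        rw [comm_conj, conj_central hZ h1]
        exact h1
      · exact hXX h hh h' hh' he s hs t ht
    have hall := comm_closure hZ U U hgen
    rw [hM] at hall
    rw [← hperf, Subgroup.commutator_le]
    exact hall
  -- distinct conjugates commute
  have hcomm : ∀ h ∈ H, cj h L ≠ L → ∀ x ∈ cj h L, ∀ y ∈ L, y * x = x * y := by
    intro h hh hne x hx
    have hle : ⁅L, L⁆ ≤ Subgroup.centralizer ({x} : Set G) := by
      rw [Subgroup.commutator_le]
      intro y₁ hy₁ y₂ hy₂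
      rw [Subgroup.mem_centralizer_singleton_iff]
      exact comm_comm_eq_one hZ x y₁ y₂ (hX' h hh hne y₁ hy₁ x hx) (hX' h hh hne y₂ hy₂ x hx)
    rw [hLperf] at hle
    intro y hy
    have := hle hy
    rw [Subgroup.mem_centralizer_singleton_iff] at this
    exact this
  refine ⟨L, hLN.trans hNH, hLs, hLperf, ?_, ?_⟩
  · -- simple modulo `Z`
    intro K hKL hKnb
    by_cases hKs : K ≤ Z
    · exact Or.inl hKs
    right
    apply hLmin' K hKL _ hKs
    have hle : Subgroup.closure U ≤ Subgroup.normalizer (K : Set G) := by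
      rw [Subgroup.closure_le]
      rintro g ⟨h, hh, hg⟩
      rw [SetLike.mem_coe, Subgroup.mem_normalizer_iff]
      by_cases he : cj h L = L
      · rw [he] at hg
        intro k
        constructor
        · intro hk
          exact hKnb g hg k hk
        · intro hk
          have := hKnb g⁻¹ (L.inv_mem hg) _ hk
          rw [inv_inv] at this
          have e : g⁻¹ * (g * k * g⁻¹) * g = k := by group
          rwa [e] at this
      · intro k
        have hc : ∀ k' ∈ K, g * k' * g⁻¹ = k' := by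
          intro k' hk'
          rw [← hcomm h hh he g hg k' (hKL hk'), mul_inv_cancel_right]
        constructor
        · intro hk
          rw [hc k hk]; exact hk
        · intro hk
          -- `g⁻¹` also centralises `L`
          have hg' : ∀ y ∈ L, g⁻¹ * y * g = y := by
            intro y hy
            have := hcomm h hh he g hg y hy
            calc g⁻¹ * y * g = g⁻¹ * (y * g) := by group
              _ = g⁻¹ * (g * y) := by rw [this]
              _ = y := by group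
          have h1 := hg' _ (hKL hk)
          have e : g⁻¹ * (g * k * g⁻¹) * g = k := by group
          rw [e] at h1
          rw [h1]; exact hk
    rw [hM] at hle
    intro n hn k hk
    exact (Subgroup.mem_normalizer_iff.mp (hle hn) k).mp hk
  · intro h hh
    by_cases he : cj h L = L
    · left
      intro x hx
      rw [← he]
      exact conj_mem_cj h L hx
    · right
      intro x hx y hy
      exact (hcomm h hh he _ (conj_mem_cj h L hx) y hy).symm

/-- **The abstract dichotomy.** -/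
theorem dichotomy [Finite G] (Z H : Subgroup G) (hZ : Cen Z) (hH : ¬ H ≤ Z) :
    (∃ (N : Subgroup G) (r : ℕ), N ≤ H ∧ NB H N ∧ ¬ N ≤ Z ∧
      (∀ K : Subgroup G, K ≤ N → NB H K → K ≤ Z ∨ K = N) ∧ r.Prime ∧
      (∀ x ∈ N, x ^ r ∈ Z) ∧ (∀ x ∈ N, ∀ y ∈ N, ⁅x, y⁆ ∈ Z)) ∨
    (∃ L : Subgroup G, L ≤ H ∧ ¬ L ≤ Z ∧ ⁅L, L⁆ = L ∧
      (∀ K : Subgroup G, K ≤ L → NB L K → K ≤ Z ∨ K = L) ∧
      (∀ h ∈ H, (∀ x ∈ L, h * x * h⁻¹ ∈ L) ∨
        (∀ x ∈ L, ∀ y ∈ L, (h * x * h⁻¹) * y = y * (h * x * h⁻¹)))) := by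
  classical
  obtain ⟨N, ⟨hNH, hNnb, hNs⟩, hNmin⟩ := exists_min_card (fun N : Subgroup G => N ≤ H ∧ NB H N ∧ ¬ N ≤ Z)
    ⟨H, le_refl H, fun h hh x hx => H.mul_mem (H.mul_mem hh hx) (H.inv_mem hh), hH⟩
  have hmin : ∀ K : Subgroup G, K ≤ N → NB H K → K ≤ Z ∨ K = N := by
    intro K hKN hKnb
    by_cases hKs : K ≤ Z
    · exact Or.inl hKs
    · exact Or.inr (eq_of_le_of_card_le hKN (hNmin K ⟨hKN.trans hNH, hKnb, hKs⟩))
  by_cases hc : ⁅N, N⁆ ≤ Z
  · left
    obtain ⟨r, hr, hpow, hcomm⟩ := case_a hZ hNnb hNs hmin hc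
    exact ⟨N, r, hNH, hNnb, hNs, hmin, hr, hpow, hcomm⟩
  · right
    have hperf : ⁅N, N⁆ = N := by
      rcases hmin _ (commutator_le_self N) (NB.commutator hNnb) with h | h
      · exact absurd h hc
      · exact h
    exact case_b hZ hNH hNnb hNs hmin hperf

end Cfsg.Agent.Lib.Helper19.S5630I5
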