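import Mathlib
import Cfsg.Prelude.Def_GeometricClasses
import Cfsg.Agent.Lib.Helper7.AschDefs
import Cfsg.Agent.Lib.Helper19.S5630I5D

/-!
# S5630 (helper7's hub), block I5: `group_dichotomy` with the exact signature of `AschTop` (helper19)
-/

set_option autoImplicit false

namespace Cfsg.Agent.Lib.Helper19.S5630I5

open Matrix Cfsg.Geo Cfsg.Agent.Lib.Helper7.Asch
open scoped commutatorElement

variable {F : Type*} [Field F] {n : ℕ}

/-- scalar matrices are central in `GL` -/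
theorem cen_scalars : Cen (scalars (Fin n) F) := by
  intro z hz g
  obtain ⟨c, hc⟩ := (mem_scalars_iff z).1 hz
  apply Units.ext
  rw [Units.val_mul, Units.val_mul, hc, Matrix.mul_smul, Matrix.smul_mul, mul_one, one_mul]

/-- **I5** the group-theoretic dichotomy -/
theorem group_dichotomy [Fintype F] (H : Subgroup (GL (Fin n) F)) (hH : ¬ H ≤ scalars (Fin n) F) :
    (∃ (N : Subgroup (GL (Fin n) F)) (r : ℕ), N ≤ H ∧ NormBy H N ∧ ¬ N ≤ scalars (Fin n) F ∧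
      (∀ K : Subgroup (GL (Fin n) F), K ≤ N → NormBy H K → K ≤ scalars (Fin n) F ∨ K = N) ∧ r.Prime ∧
      (∀ x ∈ N, x ^ r ∈ scalars (Fin n) F) ∧ (∀ x ∈ N, ∀ y ∈ N, ⁅x, y⁆ ∈ scalars (Fin n) F)) ∨
    (∃ L : Subgroup (GL (Fin n) F), L ≤ H ∧ ¬ L ≤ scalars (Fin n) F ∧ ⁅L, L⁆ = L ∧ SimpleModScal L ∧
      (∀ h ∈ H, (∀ x ∈ L, h * x * h⁻¹ ∈ L) ∨ (∀ x ∈ L, ∀ y ∈ L, (h * x * h⁻¹) * y = y * (h * x * h⁻¹)))) := by
  have : Finite (GL (Fin n) F) := inferInstance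
  exact dichotomy (scalars (Fin n) F) H cen_scalars hH

end Cfsg.Agent.Lib.Helper19.S5630I5
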