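import Mathlib
import Cfsg.Prelude.Def_GeometricClasses

/-!
# S5630 block I6, half B (helper3's sub-skeleton): GEN-EIG (helper19)

A commutative group of matrices of exponent dividing `z`, `z ∣ q - 1`, has a common eigenvector.
-/

set_option autoImplicit false

namespace Cfsg.Agent.Lib.Helper19.S5630I6B

open Matrix Cfsg.Geo

variable {F : Type*} [Field F]

/-- a finite field with `z ∣ q - 1` has a primitive `z`-th root of unity -/
theorem exists_primitiveRoot [Fintype F] (z : ℕ) (hz : z ∣ Fintype.card F - 1) :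
    ∃ ζ : F, IsPrimitiveRoot ζ z := by
  classical
  obtain ⟨g, hg⟩ := IsCyclic.exists_generator (α := Fˣ)
  have hord : orderOf g = Fintype.card F - 1 := by
    rw [orderOf_eq_card_of_forall_mem_zpowers hg, Nat.card_eq_fintype_card, Fintype.card_units]
  have hq : 1 ≤ Fintype.card F - 1 := by
    have := Fintype.one_lt_card (α := F)
    omega
  obtain ⟨k, hk⟩ := hz
  have hk0 : k ≠ 0 := by
    rintro rfl
    omega
  have h1 : orderOf (g ^ k) = z := by
    rw [orderOf_pow_of_dvd hk0 (by rw [hord, hk]; exact dvd_mul_left k z), hord, hk,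
      Nat.mul_div_cancel _ (Nat.pos_of_ne_zero hk0)]
  refine ⟨((g ^ k : Fˣ) : F), ?_⟩
  rw [IsPrimitiveRoot.coe_units_iff, ← h1]
  exact IsPrimitiveRoot.orderOf _

/-- an endomorphism `f` of a non-trivial finite-dimensional space with `f ^ z = 1`, where `F` has a primitive `z`-th
root of unity, has an eigenvector -/
theorem exists_eigenvector_of_pow_eq_one {W : Type*} [AddCommGroup W] [Module F W] [FiniteDimensional F W]
    [Nontrivial W] (f : Module.End F W) (z : ℕ) (hz : 0 < z) (ζ : F) (hζ : IsPrimitiveRoot ζ z)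
    (hf : f ^ z = 1) : ∃ (μ : F) (w : W), w ≠ 0 ∧ f w = μ • w := by
  have hsplit : Polynomial.Splits (Polynomial.X ^ z - Polynomial.C (1 : F)) :=
    Polynomial.X_pow_sub_one_splits hζ
  have hne : (Polynomial.X ^ z - Polynomial.C (1 : F)) ≠ 0 := Polynomial.X_pow_sub_C_ne_zero hz 1
  have hdvd : minpoly F f ∣ Polynomial.X ^ z - Polynomial.C (1 : F) := by
    apply minpoly.dvd
    simp [hf]
  have hs := hsplit.of_dvd hne hdvd
  have hint : IsIntegral F f := Algebra.IsIntegral.isIntegral f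
  have hdeg : (minpoly F f).degree ≠ 0 := (minpoly.degree_pos hint).ne'
  obtain ⟨μ, hμ⟩ := hs.exists_eval_eq_zero hdeg
  have h1 := Module.End.hasEigenvalue_of_isRoot (f := f) hμ
  obtain ⟨w, hw⟩ := h1.exists_hasEigenvector
  exact ⟨μ, w, hw.2, hw.apply_eq_smul⟩

/-- the same for an invariant non-zero subspace of a finite-dimensional space -/
theorem exists_eigenvector_in_submodule {V : Type*} [AddCommGroup V] [Module F V] [FiniteDimensional F V]
    (T : Module.End F V) (z : ℕ) (hz : 0 < z) (ζ : F) (hζ : IsPrimitiveRoot ζ z) (hT : T ^ z = 1)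
    (W : Submodule F V) (hW0 : W ≠ ⊥) (hW : ∀ x ∈ W, T x ∈ W) :
    ∃ (μ : F) (w : V), w ∈ W ∧ w ≠ 0 ∧ T w = μ • w := by
  have : Nontrivial W := Submodule.nontrivial_iff_ne_bot.2 hW0
  have hf : (T.restrict hW) ^ z = 1 := by
    rw [Module.End.pow_restrict z hW, LinearMap.ext_iff]
    intro x
    apply Subtype.ext
    rw [LinearMap.coe_restrict_apply, hT]
    rfl
  obtain ⟨μ, w, hw0, hw⟩ := exists_eigenvector_of_pow_eq_one (T.restrict hW) z hz ζ hζ hf
  refine ⟨μ, (w : V), w.2, fun h => hw0 (Subtype.ext h), ?_⟩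
  have := congrArg Subtype.val hw
  rw [LinearMap.coe_restrict_apply] at this
  rw [this]
  rfl

/-- a non-zero subspace with a property, of minimal dimension -/
theorem exists_min_finrank {V : Type*} [AddCommGroup V] [Module F V] (P : Submodule F V → Prop)
    (h : ∃ W, P W) : ∃ W, P W ∧ ∀ W', P W' → Module.finrank F W ≤ Module.finrank F W' := by
  classical
  have hne : ∃ c, ∃ W : Submodule F V, P W ∧ Module.finrank F W = c := let ⟨W, hW⟩ := h; ⟨_, W, hW, rfl⟩
  obtain ⟨W, hW, hc⟩ := Nat.find_spec hne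
  refine ⟨W, hW, fun W' hW' => ?_⟩
  rw [hc]
  exact Nat.find_min' hne ⟨W', hW', rfl⟩

/-- **GEN-EIG** a commutative group of matrices of exponent dividing `z`, `z ∣ q - 1`, has a common eigenvector -/
theorem exists_common_eigenvector {n : ℕ} [Fintype F] (hn : 0 < n) (A : Subgroup (GL (Fin n) F)) (z : ℕ)
    (hz : z ∣ Fintype.card F - 1) (hcomm : ∀ x ∈ A, ∀ y ∈ A, x * y = y * x) (hexp : ∀ x ∈ A, x ^ z = 1) :
    ∃ v : Fin n → F, v ≠ 0 ∧ ∀ a ∈ A, ∃ c : F, (a : Matrix (Fin n) (Fin n) F) *ᵥ v = c • v := by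
  obtain ⟨ζ, hζ⟩ := exists_primitiveRoot z hz
  have hz0 : 0 < z := by
    rcases Nat.eq_zero_or_pos z with h | h
    · subst h
      have := Fintype.one_lt_card (α := F)
      have h2 := Nat.eq_zero_of_zero_dvd hz
      omega
    · exact h
  have : Nonempty (Fin n) := ⟨⟨0, hn⟩⟩
  -- the invariant non-zero subspaces
  let P : Submodule F (Fin n → F) → Prop := fun W =>
    W ≠ ⊥ ∧ ∀ a ∈ A, ∀ x ∈ W, (a : Matrix (Fin n) (Fin n) F) *ᵥ x ∈ W
  have hP : ∃ W, P W := ⟨⊤, top_ne_bot, fun _ _ _ _ => Submodule.mem_top⟩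
  obtain ⟨W, ⟨hW0, hWinv⟩, hWmin⟩ := exists_min_finrank P hP
  -- every `a ∈ A` is scalar on `W`
  have hscal : ∀ a ∈ A, ∃ c : F, ∀ x ∈ W, (a : Matrix (Fin n) (Fin n) F) *ᵥ x = c • x := by
    intro a ha
    have hT : (Matrix.toLin' (a : Matrix (Fin n) (Fin n) F)) ^ z = 1 := by
      rw [← Matrix.toLin'_pow, ← Units.val_pow_eq_pow_val, hexp a ha, Units.val_one, Matrix.toLin'_one]
      rfl
    obtain ⟨μ, w, hwW, hw0, hw⟩ := exists_eigenvector_in_submodule
      (Matrix.toLin' (a : Matrix (Fin n) (Fin n) F)) z hz0 ζ hζ hT W hW0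
      (fun x hx => by rw [Matrix.toLin'_apply]; exact hWinv a ha x hx)
    rw [Matrix.toLin'_apply] at hw
    refine ⟨μ, ?_⟩
    let W' : Submodule F (Fin n → F) :=
      W ⊓ LinearMap.ker (Matrix.toLin' (a : Matrix (Fin n) (Fin n) F) - μ • LinearMap.id)
    have hmemW' : ∀ x, x ∈ W' ↔ x ∈ W ∧ (a : Matrix (Fin n) (Fin n) F) *ᵥ x = μ • x := by
      intro x
      change x ∈ W ∧ x ∈ LinearMap.ker _ ↔ _
      rw [LinearMap.mem_ker, LinearMap.sub_apply, Matrix.toLin'_apply, LinearMap.smul_apply,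
        LinearMap.id_apply, sub_eq_zero]
    have hPW' : P W' := by
      refine ⟨?_, ?_⟩
      · intro hbot
        have : w ∈ W' := (hmemW' w).2 ⟨hwW, hw⟩
        rw [hbot, Submodule.mem_bot] at this
        exact hw0 this
      · intro b hb x hx
        obtain ⟨hxW, hxe⟩ := (hmemW' x).1 hx
        refine (hmemW' _).2 ⟨hWinv b hb x hxW, ?_⟩
        rw [Matrix.mulVec_mulVec, ← Units.val_mul, hcomm a ha b hb, Units.val_mul, ← Matrix.mulVec_mulVec, hxe,
          Matrix.mulVec_smul]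
    have hle : W' ≤ W := inf_le_left
    have heq : W' = W := Submodule.eq_of_le_of_finrank_le hle (hWmin W' hPW')
    intro x hx
    rw [← heq] at hx
    exact ((hmemW' x).1 hx).2
  obtain ⟨v, hvW, hv0⟩ := Submodule.exists_mem_ne_zero_of_ne_bot hW0
  refine ⟨v, hv0, fun a ha => ?_⟩
  obtain ⟨c, hc⟩ := hscal a ha
  exact ⟨c, hc v hvW⟩

end Cfsg.Agent.Lib.Helper19.S5630I6B
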