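import Mathlib
import Cfsg.Agent.Lib.Helper28.TensUDefs
import Cfsg.Agent.Lib.Helper25.S5670FOHS
import Cfsg.Agent.Lib.Helper24.S5670FOISO
import Cfsg.Agent.Lib.Helper23.S5670FOLEFT
import Cfsg.Agent.Lib.Helper10.S5670FORANK
import Cfsg.Agent.Lib.Helper20.S5670FOLX

/-!
# S5670 (helper28's skeleton): FO-E1M `hypE1M_of` (helper19)
-/

set_option autoImplicit false
set_option linter.unusedSectionVars false
set_option linter.unusedVariables false

namespace Cfsg.Agent.Lib.Helper19.S5670E1M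

open Matrix Module
open Cfsg.Agent.Lib.Helper16.Tens Cfsg.Agent.Lib.Helper10.TensFund Cfsg.Agent.Lib.Helper28.TensU
open Cfsg.Agent.Lib.Helper25.S5670HS (hs_pur hs_pur_right' hs_smul_left)
open Cfsg.Agent.Lib.Helper24.S5670ISO (exists_iso exists_hs_eq_one)
open Cfsg.Agent.Lib.Helper23.S5670LEFT (pur_eq_pur)
open Cfsg.Agent.Lib.Helper10.S5670FORANK (img_ptL_of_conj_rM)
open Cfsg.Agent.Lib.Helper20.S5670LX (img_pt_inf_hyp_eq_bot)
open scoped Kronecker

variable {F : Type*} [Field F] [Fintype F] {a b : ℕ} {q : ℕ}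
variable {M : Subgroup (GL (Fin a × Fin b) F)}

local notation "K" => Cfsg.Geo.kroneckerSubgroup a b F
local notation "V" => (Fin a × Fin b → F)

/-- unitarity, moved to the other side -/
theorem hs_act_inv_left (g : GL (Fin a × Fin b) F) (hg : g ∈ UG (Fin a × Fin b) F q) (y z : V) :
    hs q (act g⁻¹ y) z = hs q y (act g z) := by
  have h := (mem_UG_iff q g).1 hg (act g⁻¹ y) z
  rw [← act_apply, ← act_apply, act_act_inv] at h
  exact h.symm

/-- the conjugate `g * rM * g⁻¹` acts as `y ↦ y + c • g (u ⊗ (cj u ⊗ 1)(g⁻¹ y))` -/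
theorem act_conj_rM (g : GL (Fin a × Fin b) F) (u : Fin a → F) (c : F) (hu : hs q u u = 0) (y : V) :
    act (g * rM q u c hu * g⁻¹) y = y + c • act g (pur u (ctrL (cj q u) (act g⁻¹ y))) := by
  rw [act_mul, act_mul, act_rM, map_add, act_act_inv, map_smul]

/-- the key computation: `s` with `g (u ⊗ k) = u₁ ⊗ s` is isotropic -/
theorem iso_of_conj_rM (hF : Fintype.card F = q ^ 2)
    (g : GL (Fin a × Fin b) F) (hgU : g ∈ UG (Fin a × Fin b) F q) (u : Fin a → F) (c : F)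
    (hu : hs q u u = 0) (hu0 : u ≠ 0) (hc : c ≠ 0) (hn : g * rM q u c hu * g⁻¹ ∈ K)
    (u₁ : Fin a → F) (hu₁0 : u₁ ≠ 0) (himg : img g (ptL (b := b) u) = ptL u₁)
    (k : Fin b → F) (hk : hs q k k = 0) (s : Fin b → F) (hs0 : s ≠ 0) (hsk : pur u₁ s = act g (pur u k)) :
    hs q s s = 0 := by
  obtain ⟨x₁, hx₁⟩ := exists_hs_eq_one hF u₁ hu₁0
  obtain ⟨A, B, hAB⟩ := (mem_kron_iff _).1 hn
  have hnpur : ∀ (x : Fin a → F) (w : Fin b → F), act (g * rM q u c hu * g⁻¹) (pur x w) =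
      pur ((A : Matrix (Fin a) (Fin a) F) *ᵥ x) ((B : Matrix (Fin b) (Fin b) F) *ᵥ w) := by
    intro x w
    rw [act_apply, hAB, kron_mulVec_pur]
  -- `n` fixes `u₁ ⊗ W` pointwise
  have hfix : ∀ w : Fin b → F, act (g * rM q u c hu * g⁻¹) (pur u₁ w) = pur u₁ w := by
    intro w
    have h1 : pur u₁ w ∈ img g (ptL (b := b) u) := by rw [himg]; exact pur_mem_ptL _ _
    rw [mem_img_iff, mem_ptL_iff] at h1
    obtain ⟨w'', hw''⟩ := h1
    rw [act_conj_rM, ← hw'', ctrL_pur]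
    have : u ⬝ᵥ cj q u = 0 := hu
    rw [this, zero_smul, pur_zero_right, map_zero, smul_zero, add_zero]
  -- `B s` is a multiple of `s`
  have h2 : pur u₁ s = pur ((A : Matrix (Fin a) (Fin a) F) *ᵥ u₁) ((B : Matrix (Fin b) (Fin b) F) *ᵥ s) := by
    rw [← hnpur, hfix]
  obtain ⟨c₁, hc₁0, hA1, hB1⟩ := pur_eq_pur _ _ _ _ h2 hu₁0 hs0
  have hBs : (B : Matrix (Fin b) (Fin b) F) *ᵥ s = c₁⁻¹ • s := by
    rw [hB1, smul_smul, inv_mul_cancel₀ hc₁0, one_smul]
    exact hB1 ▸ rfl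
  -- the element `ρ`
  set y : V := pur x₁ s with hy
  set ρ : Fin b → F := ctrL (cj q u) (act g⁻¹ y) with hρ
  have hρk : hs q ρ k = hs q s s := by
    rw [hρ, ← hs_pur_right', hs_act_inv_left g hgU, ← hsk, hy, hs_pur, hx₁, one_mul]
  -- `g (u ⊗ ρ) = u₁ ⊗ t`
  have h3 : act g (pur u ρ) ∈ ptL (b := b) u₁ := by
    rw [← himg]
    exact ⟨pur u ρ, pur_mem_ptL _ _, rfl⟩
  obtain ⟨t, ht⟩ := (mem_ptL_iff _ _).1 h3
  have h4 : pur ((A : Matrix (Fin a) (Fin a) F) *ᵥ x₁) (c₁⁻¹ • s) = pur x₁ s + c • pur u₁ t := by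
    rw [← hBs, ← hnpur, act_conj_rM, ht]
  have h5 : pur (c • u₁) t = pur (c₁⁻¹ • ((A : Matrix (Fin a) (Fin a) F) *ᵥ x₁) - x₁) s := by
    have h4' : c₁⁻¹ • pur ((A : Matrix (Fin a) (Fin a) F) *ᵥ x₁) s = pur x₁ s + c • pur u₁ t := by
      rw [← pur_smul_right]; exact h4
    rw [pur_smul_left, sub_eq_add_neg, pur_add_left, pur_neg_left, pur_smul_left, h4']
    abel
  by_cases ht0 : t = 0
  · -- then `ρ = 0`
    have h6 : act g (pur u ρ) = 0 := by rw [← ht, ht0, pur_zero_right]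
    have h7 : pur u ρ = 0 := (act g).injective (h6.trans (map_zero (act g)).symm)
    have h8 : ρ = 0 := by
      rcases pur_eq_zero h7 with h | h
      · exact absurd h hu0
      · exact h
    rw [← hρk, h8]
    unfold hs
    simp
  · have hcu : c • u₁ ≠ 0 := smul_ne_zero hc hu₁0
    obtain ⟨c₂, hc₂0, _, ht2⟩ := pur_eq_pur _ _ _ _ h5 hcu ht0
    have h6 : act g (pur u ρ) = act g (pur u (c₂ • k)) := by
      rw [← ht, ht2, pur_smul_right, hsk, pur_smul_right, map_smul]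
    have h7 : pur u ρ = pur u (c₂ • k) := (act g).injective h6
    have h8 : ρ = c₂ • k := purR_injective hu0 h7
    rw [← hρk, h8, hs_smul_left, hk, mul_zero]

/-- FO-E1M -/
theorem hypE1M_of (hF : Fintype.card F = q ^ 2) (ha : 3 ≤ a) (hb : 4 ≤ b) (hab : a < b) (hdvd : ¬ a ∣ b)
    (hM : OverU q M) (hE : HypE1 q M) : HypE1M q M := by
  intro g hg u c hu hu0 hc hcc hn
  by_contra hgK
  have hgU : g ∈ UG (Fin a × Fin b) F q := hM.le_UG hg
  obtain ⟨u₁, hu₁0, hu₁, himg⟩ := img_ptL_of_conj_rM hF ha hab hdvd g hgU u c hu hu0 hc hn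
  obtain ⟨k, hk0, hk⟩ := exists_iso (n := b) hF (by omega)
  have h1 : act g (pur u k) ∈ ptL (b := b) u₁ := by
    rw [← himg]
    exact ⟨pur u k, pur_mem_ptL _ _, rfl⟩
  obtain ⟨s, hsk⟩ := (mem_ptL_iff _ _).1 h1
  have hy0 : act g (pur u k) ≠ 0 := by
    intro h0
    have h2 : pur u k = 0 := (act g).injective (h0.trans (map_zero (act g)).symm)
    rcases pur_eq_zero h2 with h | h
    · exact hu0 h
    · exact hk0 h
  have hs0 : s ≠ 0 := by
    rintro rfl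
    rw [pur_zero_right] at hsk
    exact hy0 hsk.symm
  have hss : hs q s s = 0 := iso_of_conj_rM hF g hgU u c hu hu0 hc hn u₁ hu₁0 himg k hk s hs0 hsk
  have h2 : act g (pur u k) ∈ img g (pt (a := a) k) := ⟨pur u k, pur_mem_pt _ _, rfl⟩
  have h3 : act g (pur u k) ∈ hyp (a := a) (cj q s) := by
    rw [← hsk]
    exact pur_mem_hyp hss u₁
  have h4 := img_pt_inf_hyp_eq_bot hF (by omega) hb hM hE g hg hgK s k hs0 hss hk0 hk
  have h5 : act g (pur u k) ∈ img g (pt (a := a) k) ⊓ hyp (cj q s) := ⟨h2, h3⟩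
  rw [h4] at h5
  exact hy0 ((Submodule.mem_bot F).1 h5)

end Cfsg.Agent.Lib.Helper19.S5670E1M
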