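import Mathlib
import Cfsg.Agent.Lib.Helper28.TensUDefs
import Cfsg.Agent.Lib.Helper25.S5670FOHS
import Cfsg.Agent.Lib.Helper24.S5670FOISO

/-!
# S5670 (helper28's skeleton): FO-KER `exists_iso_ctr_eq_zero` (helper19)

Every `l : U ⊗ W` is killed by `1 ⊗ h(·,k)` for some isotropic `k ≠ 0` when `b ≥ a + 2`.
-/

set_option autoImplicit false
set_option linter.unusedSectionVars false
set_option linter.unusedVariables false

namespace Cfsg.Agent.Lib.Helper19.S5670KER

open Matrix Module
open Cfsg.Agent.Lib.Helper16.Tens Cfsg.Agent.Lib.Helper10.TensFund Cfsg.Agent.Lib.Helper28.TensU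
open Cfsg.Agent.Lib.Helper25.S5670HS (hs_conj)
open Cfsg.Agent.Lib.Helper24.S5670ISO (exists_iso_mem)
open scoped Kronecker

variable {F : Type*} [Field F] [Fintype F] {a b : ℕ} {q : ℕ}
variable {M : Subgroup (GL (Fin a × Fin b) F)}

local notation "K" => Cfsg.Geo.kroneckerSubgroup a b F
local notation "V" => (Fin a × Fin b → F)

/-- the linear map `k ↦ (i ↦ ∑ j, l (i,j)^q * k j)` -/
def kerMap (q : ℕ) (l : V) : (Fin b → F) →ₗ[F] (Fin a → F) where
  toFun k i := ∑ j, l (i, j) ^ q * k j
  map_add' k k' := by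
    funext i; simp [mul_add, Finset.sum_add_distrib]
  map_smul' c k := by
    funext i
    simp only [Pi.smul_apply, smul_eq_mul, RingHom.id_apply, Finset.mul_sum]
    apply Finset.sum_congr rfl
    intro j _
    ring

theorem kerMap_apply (l : V) (k : Fin b → F) (i : Fin a) :
    kerMap q l k i = hs q k (fun j => l (i, j)) := by
  unfold hs
  simp only [kerMap, LinearMap.coe_mk, AddHom.coe_mk]
  apply Finset.sum_congr rfl
  intro j _
  ring

theorem ctr_cj_apply (l : V) (k : Fin b → F) (i : Fin a) :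
    ctr (cj q k) l i = hs q (fun j => l (i, j)) k := by
  unfold hs
  simp only [ctr_apply, cj_apply]

theorem finrank_ker_kerMap (hab : a + 2 ≤ b) (l : V) :
    2 ≤ finrank F (LinearMap.ker (kerMap (F := F) (a := a) (b := b) q l)) := by
  have h := LinearMap.finrank_range_add_finrank_ker (kerMap (F := F) (a := a) (b := b) q l)
  have h2 : finrank F (LinearMap.range (kerMap (F := F) (a := a) (b := b) q l)) ≤ a := by
    have := Submodule.finrank_le (LinearMap.range (kerMap (F := F) (a := a) (b := b) q l))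
    rwa [Module.finrank_fintype_fun_eq_card, Fintype.card_fin] at this
  rw [Module.finrank_fintype_fun_eq_card, Fintype.card_fin] at h
  omega

/-- FO-KER -/
theorem exists_iso_ctr_eq_zero (hF : Fintype.card F = q ^ 2) (hab : a + 2 ≤ b) (l : V) :
    ∃ k : Fin b → F, k ≠ 0 ∧ hs q k k = 0 ∧ ctr (cj q k) l = 0 := by
  obtain ⟨k, hkS, hk0, hk⟩ := exists_iso_mem hF (LinearMap.ker (kerMap (F := F) (a := a) (b := b) q l))
    (finrank_ker_kerMap hab l)
  refine ⟨k, hk0, hk, ?_⟩
  rw [LinearMap.mem_ker] at hkS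
  have hq : q ≠ 0 := by
    rintro rfl
    have : Fintype.card F = 0 := by rw [hF]; norm_num
    exact Fintype.card_ne_zero this
  funext i
  rw [ctr_cj_apply, hs_conj hF k (fun j => l (i, j)), ← kerMap_apply, hkS, Pi.zero_apply, zero_pow hq]

end Cfsg.Agent.Lib.Helper19.S5670KER
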