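import Mathlib
import Cfsg.Agent.Lib.Helper28.TensUDefs
import Cfsg.Agent.Lib.Helper24.S5670FOISO
import Cfsg.Agent.Lib.Helper19.S5670FOKER
import Cfsg.Agent.Lib.Helper20.S5670FOLX

/-!
# S5670 (helper28's skeleton): FO-L `le_kron_of_add_two_le` (helper19)
-/

set_option autoImplicit false
set_option linter.unusedSectionVars false
set_option linter.unusedVariables false

namespace Cfsg.Agent.Lib.Helper19.S5670L

open Matrix Module
open Cfsg.Agent.Lib.Helper16.Tens Cfsg.Agent.Lib.Helper10.TensFund Cfsg.Agent.Lib.Helper28.TensU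
open Cfsg.Agent.Lib.Helper24.S5670ISO (exists_iso)
open Cfsg.Agent.Lib.Helper19.S5670KER (exists_iso_ctr_eq_zero)
open Cfsg.Agent.Lib.Helper20.S5670LX (img_pt_inf_hyp_eq_bot)
open scoped Kronecker

variable {F : Type*} [Field F] [Fintype F] {a b : ℕ} {q : ℕ}
variable {M : Subgroup (GL (Fin a × Fin b) F)}

local notation "K" => Cfsg.Geo.kroneckerSubgroup a b F
local notation "V" => (Fin a × Fin b → F)

/-- FO-L : the case `b ≥ a + 2` -/
theorem le_kron_of_add_two_le (hF : Fintype.card F = q ^ 2) (ha : 2 ≤ a) (hab : a + 2 ≤ b) (hM : OverU q M)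
    (hE : HypE1 q M) : M ≤ K := by
  intro g hg
  by_contra hgK
  obtain ⟨k', hk'0, hk'⟩ := exists_iso (n := b) hF (by omega)
  let e₀ : Fin a → F := Pi.single ⟨0, by omega⟩ 1
  have he₀ : e₀ ≠ 0 := single_ne_zero' _
  set l : V := act g (pur e₀ k') with hl
  have hl0 : l ≠ 0 := by
    intro h0
    have h1 : pur e₀ k' = 0 := (act g).injective (h0.trans (map_zero (act g)).symm)
    rcases pur_eq_zero h1 with h2 | h2
    · exact he₀ h2
    · exact hk'0 h2
  obtain ⟨k, hk0, hk, hctr⟩ := exists_iso_ctr_eq_zero hF hab l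
  have h1 : l ∈ img g (pt (a := a) k') := ⟨pur e₀ k', pur_mem_pt _ _, rfl⟩
  have h2 : l ∈ hyp (a := a) (cj q k) := (mem_hyp_iff _ _).2 hctr
  have h3 := img_pt_inf_hyp_eq_bot hF (by omega) (by omega) hM hE g hg hgK k k' hk0 hk hk'0 hk'
  have h4 : l ∈ img g (pt (a := a) k') ⊓ hyp (cj q k) := ⟨h1, h2⟩
  rw [h3] at h4
  exact hl0 ((Submodule.mem_bot F).1 h4)

end Cfsg.Agent.Lib.Helper19.S5670L
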