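import Mathlib
import Cfsg.Agent.Lib.Helper28.TensUDefs
import Cfsg.Agent.Lib.Helper25.S5670FOHS
import Cfsg.Agent.Lib.Helper25.S5670FOROOT
import Cfsg.Agent.Lib.Helper24.S5670FOISO
import Cfsg.Agent.Lib.Helper23.S5670FOLEFT
import Cfsg.Agent.Lib.Helper23.S5670FOST
import Cfsg.Agent.Lib.Helper23.S5670FOCL
import Cfsg.Agent.Lib.Helper20.S5670FOMX

/-!
# S5670 (helper28's skeleton): FO-MIX `le_kron_of_lt` (helper19)
-/

set_option autoImplicit false
set_option linter.unusedSectionVars false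
set_option linter.unusedVariables false

namespace Cfsg.Agent.Lib.Helper19.S5670MIX

open Matrix Module
open Cfsg.Agent.Lib.Helper16.Tens Cfsg.Agent.Lib.Helper10.TensFund Cfsg.Agent.Lib.Helper28.TensU
open Cfsg.Agent.Lib.Helper25.S5670HS (hs_pur exists_trace_zero)
open Cfsg.Agent.Lib.Helper25.S5670ROOT (rL_mem_UG rM_mem_UG rL_pow_char rM_pow_char act_rL_eq_self_iff
  act_rM_eq_self_iff)
open Cfsg.Agent.Lib.Helper24.S5670ISO (exists_iso)
open Cfsg.Agent.Lib.Helper23.S5670LEFT (img_ptL_of_mem_kron finrank_ptL)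
open Cfsg.Agent.Lib.Helper23.S5670ST (sylow_trick)
open Cfsg.Agent.Lib.Helper23.S5670CL (closure_fix)
open Cfsg.Agent.Lib.Helper20.S5670MX (img_ptL_inf_hypL_eq_bot)
open scoped Kronecker

variable {F : Type*} [Field F] [Fintype F] {a b : ℕ} {q : ℕ}
variable {M : Subgroup (GL (Fin a × Fin b) F)}

local notation "K" => Cfsg.Geo.kroneckerSubgroup a b F
local notation "V" => (Fin a × Fin b → F)

theorem cj_ne_zero {κ : Type*} (hq : q ≠ 0) (x : κ → F) (hx : x ≠ 0) : cj q x ≠ 0 := by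
  intro h
  apply hx
  funext i
  have := congrFun h i
  simp only [cj_apply, Pi.zero_apply] at this
  exact pow_eq_zero_iff hq |>.1 this

/-- `u ⊗ W ≤ u'^⊥ ⊗ W` when `h(u,u') = 0` (FO-PERP (f), proved here to keep this file independent of FO-PERP) -/
theorem ptL_le_hypL_cj' (u u' : Fin a → F) (h : hs q u u' = 0) : ptL (b := b) u ≤ hypL (cj q u') := by
  intro v hv
  obtain ⟨w, rfl⟩ := (mem_ptL_iff _ _).1 hv
  rw [mem_hypL_iff, ctrL_pur]
  have : u ⬝ᵥ cj q u' = 0 := h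
  rw [this, zero_smul]

/-- `img g (ptL u₀) ⊓ hyp (cj q k)` is non-trivial when `a < b` -/
theorem exists_mem_inf_ne_zero (hq : q ≠ 0) (hab : a < b) (g : GL (Fin a × Fin b) F) (u₀ : Fin a → F)
    (hu₀ : u₀ ≠ 0) (k : Fin b → F) (hk0 : k ≠ 0) :
    ∃ v : V, v ≠ 0 ∧ v ∈ img g (ptL (b := b) u₀) ∧ v ∈ hyp (a := a) (cj q k) := by
  have h1 : finrank F (img g (ptL (b := b) u₀)) = b := by rw [finrank_img, finrank_ptL u₀ hu₀]
  have h2 : finrank F (hyp (F := F) (a := a) (cj q k)) + a = a * b := finrank_hyp (cj_ne_zero hq k hk0)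
  have h3 := Submodule.finrank_sup_add_finrank_inf_eq (img g (ptL (b := b) u₀)) (hyp (a := a) (cj q k))
  have h4 : finrank F ((img g (ptL (b := b) u₀) ⊔ hyp (a := a) (cj q k) : Submodule F V)) ≤ a * b := by
    have := Submodule.finrank_le (img g (ptL (b := b) u₀) ⊔ hyp (a := a) (cj q k) : Submodule F V)
    rwa [Module.finrank_fintype_fun_eq_card, Fintype.card_prod, Fintype.card_fin, Fintype.card_fin] at this
  have h5 : 0 < finrank F ((img g (ptL (b := b) u₀) ⊓ hyp (a := a) (cj q k) : Submodule F V)) := by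
    omega
  rw [Module.finrank_pos_iff] at h5
  obtain ⟨⟨v, hv⟩, hv0⟩ := exists_ne (0 : (img g (ptL (b := b) u₀) ⊓ hyp (a := a) (cj q k) : Submodule F V))
  refine ⟨v, ?_, hv.1, hv.2⟩
  intro h
  apply hv0
  exact Subtype.ext h

/-- the conjugate `g * x * g⁻¹` fixes `img g C` pointwise when `x` fixes `C` pointwise -/
theorem act_conj_eq_self (g x : GL (Fin a × Fin b) F) (C : Submodule F V) (h : ∀ v ∈ C, act x v = v)
    (y : V) (hy : y ∈ img g C) : act (g * x * g⁻¹) y = y := by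
  rw [mem_img_iff] at hy
  rw [act_mul, act_mul, h _ hy, act_act_inv]

/-- FO-MIX -/
theorem le_kron_of_lt (hF : Fintype.card F = q ^ 2) (ha : 4 ≤ a) (hab : a < b) (hM : OverU q M)
    (hE : HypE1 q M) (hEM : HypE1M q M) : M ≤ K := by
  intro g hg
  by_contra hgK
  have hq : q ≠ 0 := by
    rintro rfl
    have : Fintype.card F = 0 := by rw [hF]; norm_num
    exact Fintype.card_ne_zero this
  obtain ⟨u₀, hu₀0, hu₀⟩ := exists_iso (n := a) hF (by omega)
  obtain ⟨k, hk0, hk⟩ := exists_iso (n := b) hF (by omega)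
  obtain ⟨c, hc, hcc⟩ := exists_trace_zero (F := F) hF
  set p := ringChar F with hp
  have : CharP F p := ringChar.charP F
  have : Fact p.Prime := ⟨CharP.char_is_prime F p⟩
  set x₁ : GL (Fin a × Fin b) F := rL q k c hk with hx₁
  set x₂ : GL (Fin a × Fin b) F := g * rM q u₀ c hu₀ * g⁻¹ with hx₂
  have hx₁M : x₁ ∈ M := hM.kron_mem _ (rL_mem_kron q k c hk) (rL_mem_UG hF k c hk hcc) (rL_mem_SL q k c hk)
  have hrM : rM (b := b) q u₀ c hu₀ ∈ M :=
    hM.kron_mem _ (rM_mem_kron q u₀ c hu₀) (rM_mem_UG hF u₀ c hu₀ hcc) (rM_mem_SL q u₀ c hu₀)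
  have hx₂M : x₂ ∈ M := M.mul_mem (M.mul_mem hg hrM) (M.inv_mem hg)
  have ho₁ : x₁ ^ p = 1 := rL_pow_char p k c hk
  have ho₂ : x₂ ^ p = 1 := by
    rw [hx₂, conj_pow, rM_pow_char p u₀ c hu₀, mul_one, mul_inv_cancel]
  have hfix₁ : ∀ g' ∈ M, g'⁻¹ * x₁ * g' ∈ K → g' ∈ K := by
    intro g' hg' h
    have h1 : g'⁻¹ * rL q k c hk * (g'⁻¹)⁻¹ ∈ K := by rw [inv_inv]; exact h
    have := hE g'⁻¹ (M.inv_mem hg') k c hk hk0 hc hcc h1
    simpa using (K).inv_mem this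
  have hfix₂ : ∀ g' ∈ M, g'⁻¹ * x₂ * g' ∈ K → g⁻¹ * g' ∈ K := by
    intro g' hg' h
    have h1 : (g'⁻¹ * g) * rM q u₀ c hu₀ * (g'⁻¹ * g)⁻¹ ∈ K := by
      have : (g'⁻¹ * g) * rM q u₀ c hu₀ * (g'⁻¹ * g)⁻¹ = g'⁻¹ * x₂ * g' := by
        rw [hx₂]; group
      rw [this]; exact h
    have := hEM (g'⁻¹ * g) (M.mul_mem (M.inv_mem hg') hg) u₀ c hu₀ hu₀0 hc hcc h1
    have h2 := (K).inv_mem this
    rwa [_root_.mul_inv_rev, inv_inv] at h2
  obtain ⟨δ, hδ, hδg⟩ := sylow_trick p M K x₁ x₂ g hx₁M hx₂M hg ho₁ ho₂ (rL_mem_kron q k c hk) hfix₁ hfix₂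
  have hδM : δ ∈ M := by
    have : Subgroup.closure ({x₁, x₂} : Set (GL (Fin a × Fin b) F)) ≤ M := by
      rw [Subgroup.closure_le]
      intro z hz
      rcases hz with rfl | rfl
      · exact hx₁M
      · exact hx₂M
    exact this hδ
  -- the image of `u₀ ⊗ W` under `n = δ g`
  obtain ⟨u', hu'0, himg⟩ := img_ptL_of_mem_kron (δ * g) hδg u₀
  have hu'0 := hu'0 hu₀0
  have hnU : δ * g ∈ UG (Fin a × Fin b) F q := hM.le_UG (M.mul_mem hδM hg)
  have hu' : hs q u' u' = 0 := by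
    let w : Fin b → F := Pi.single ⟨0, by omega⟩ 1
    have hw : hs q w w = 1 := by
      unfold hs
      rw [Finset.sum_eq_single (⟨0, by omega⟩ : Fin b)]
      · simp [w]
      · intro j _ hj
        simp [w, Pi.single_apply, hj]
      · simp
    have h1 : pur u' w ∈ img (δ * g) (ptL (b := b) u₀) := by rw [himg]; exact pur_mem_ptL _ _
    obtain ⟨x, hx, hxe⟩ := h1
    obtain ⟨w'', rfl⟩ := (mem_ptL_iff _ _).1 hx
    have h2 : hs q (pur u' w) (pur u' w) = hs q (pur u₀ w'') (pur u₀ w'') := by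
      rw [← hxe]
      exact (mem_UG_iff q _).1 hnU _ _
    rw [hs_pur, hs_pur, hu₀, zero_mul, hw, mul_one] at h2
    exact h2
  -- a non-zero vector of `T`
  obtain ⟨v, hv0, hv1, hv2⟩ := exists_mem_inf_ne_zero hq hab g u₀ hu₀0 k hk0
  -- `δ` fixes `v`
  have hδv : act δ v = v := by
    apply closure_fix x₁ x₂ δ hδ v
    · exact (act_rL_eq_self_iff k c hk hk0 hc v).2 hv2
    · apply act_conj_eq_self g (rM q u₀ c hu₀) (hypL (cj q u₀))
      · intro y hy
        exact (act_rM_eq_self_iff u₀ c hu₀ hu₀0 hc y).2 hy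
      · exact img_mono g (ptL_le_hypL_cj' u₀ u₀ hu₀) hv1
  have hv3 : v ∈ ptL (b := b) u' := by
    rw [← himg, img_mul]
    refine ⟨v, hv1, hδv⟩
  have hv4 : v ∈ hypL (b := b) (cj q u') := ptL_le_hypL_cj' u' u' hu' hv3
  have h5 := img_ptL_inf_hypL_eq_bot hF ha (by omega) hM hEM g hg hgK u' u₀ hu'0 hu' hu₀0 hu₀
  have h6 : v ∈ img g (ptL (b := b) u₀) ⊓ hypL (cj q u') := ⟨hv1, hv4⟩
  rw [h5] at h6
  exact hv0 ((Submodule.mem_bot F).1 h6)

end Cfsg.Agent.Lib.Helper19.S5670MIX
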