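import Mathlib

/-!
A cyclic irreducible linear group of prime order over a prime field: field structure, and the
normalizer acts through powers of the Frobenius map.
-/

set_option autoImplicit false

namespace Cfsg.Agent.Lib.Helper19

open Polynomial

section
variable {p : ℕ} [Fact p.Prime] {M : Type*} [AddCommGroup M] [Module (ZMod p) M]

/-- polynomials in `τ` commute with `τ` -/
theorem aeval_comm_self (τ : Module.End (ZMod p) M) (g : (ZMod p)[X]) :
    aeval τ g * τ = τ * aeval τ g := by
  have h1 : aeval τ (g * X) = aeval τ (X * g) := by rw [mul_comm]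
  rw [map_mul, map_mul, aeval_X] at h1
  exact h1

/-- the kernel of a polynomial in `τ` is `τ`-invariant -/
theorem ker_aeval_invariant (τ : Module.End (ZMod p) M) (g : (ZMod p)[X]) :
    ∀ v ∈ LinearMap.ker (aeval τ g), τ v ∈ LinearMap.ker (aeval τ g) := by
  intro v hv
  rw [LinearMap.mem_ker] at hv ⊢
  have := LinearMap.congr_fun (aeval_comm_self τ g) v
  rw [Module.End.mul_apply, Module.End.mul_apply, hv, map_zero] at this
  exact this

theorem minpoly_irreducible_of_irr [Finite M] [Nontrivial M] (τ : Module.End (ZMod p) M)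
    (hirr : ∀ W : Submodule (ZMod p) M, (∀ v ∈ W, τ v ∈ W) → W = ⊥ ∨ W = ⊤) :
    Irreducible (minpoly (ZMod p) τ) := by
  have hint : IsIntegral (ZMod p) τ := Algebra.IsIntegral.isIntegral τ
  have hmonic := minpoly.monic hint
  have hne : minpoly (ZMod p) τ ≠ 0 := hmonic.ne_zero
  refine ⟨minpoly.not_isUnit (ZMod p) τ, ?_⟩
  intro g h hgh
  have hprod : aeval τ g * aeval τ h = 0 := by
    rw [← map_mul, ← hgh, minpoly.aeval]
  have key : ∀ g h : (ZMod p)[X], minpoly (ZMod p) τ = g * h → aeval τ g = 0 → IsUnit h := by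
    intro g h hgh hg
    obtain ⟨u, hu⟩ := minpoly.dvd (ZMod p) τ hg
    have h1 : minpoly (ZMod p) τ * 1 = minpoly (ZMod p) τ * (u * h) := by
      rw [mul_one, ← mul_assoc, ← hu, ← hgh]
    have h2 := mul_left_cancel₀ hne h1
    exact IsUnit.of_mul_eq_one u (by rw [mul_comm]; exact h2.symm)
  rcases hirr (LinearMap.ker (aeval τ g)) (ker_aeval_invariant τ g) with hW | hW
  · left
    apply key h g (by rw [hgh, mul_comm])
    ext v
    have h1 := LinearMap.congr_fun hprod v
    rw [Module.End.mul_apply] at h1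
    have h2 : aeval τ h v ∈ LinearMap.ker (aeval τ g) := h1
    rw [hW, Submodule.mem_bot] at h2
    rw [h2]; rfl
  · right
    apply key g h hgh
    ext v
    have : v ∈ LinearMap.ker (aeval τ g) := by rw [hW]; trivial
    exact this

/-- conjugation relation extends to polynomials -/
theorem conj_aeval (τ : Module.End (ZMod p) M) (k : ℕ) (η : Module.End (ZMod p) M)
    (h : η * τ = τ ^ k * η) (g : (ZMod p)[X]) : η * aeval τ g = aeval (τ ^ k) g * η := by
  have hpow : ∀ n : ℕ, η * τ ^ n = (τ ^ k) ^ n * η := by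
    intro n
    induction n with
    | zero => simp
    | succ n ih => rw [pow_succ, ← mul_assoc, ih, mul_assoc, h, ← mul_assoc, ← pow_succ]
  induction g using Polynomial.induction_on' with
  | add g₁ g₂ h₁ h₂ => rw [map_add, map_add, mul_add, add_mul, h₁, h₂]
  | monomial n c =>
    rw [← C_mul_X_pow_eq_monomial, map_mul, map_mul, map_pow, map_pow, aeval_X, aeval_X, aeval_C,
      aeval_C]
    rw [Algebra.algebraMap_eq_smul_one, smul_mul_assoc, one_mul, smul_mul_assoc, one_mul,
      mul_smul_comm, hpow n, smul_mul_assoc]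

theorem semilinear_key (q d : ℕ) (hq : q.Prime) [Finite M]
    (hcard : Nat.card M = p ^ d) (hd : 0 < d)
    (τ : Module.End (ZMod p) M) (hτq : τ ^ q = 1) (hfix : ∀ v, τ v = v → v = 0)
    (hirr : ∀ W : Submodule (ZMod p) M, (∀ v ∈ W, τ v ∈ W) → W = ⊥ ∨ W = ⊤) :
    (∀ i, 0 < i → i < d → ¬ q ∣ p ^ i - 1) ∧
    (∀ (k : ℕ) (η : M ≃ₗ[ZMod p] M),
      (η : Module.End (ZMod p) M) * τ = τ ^ k * (η : Module.End (ZMod p) M) →
      ∃ j : ℕ, τ ^ k = τ ^ (p ^ j)) := by
  have hp : p.Prime := Fact.out
  haveI hnt : Nontrivial M := by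
    rw [← Finite.one_lt_card_iff_nontrivial, hcard]
    exact Nat.one_lt_pow hd.ne' hp.one_lt
  have hint : IsIntegral (ZMod p) τ := Algebra.IsIntegral.isIntegral τ
  have hmonic := minpoly.monic hint
  have hfirr := minpoly_irreducible_of_irr τ hirr
  set f := minpoly (ZMod p) τ with hf
  haveI : Fact (Irreducible f) := ⟨hfirr⟩
  haveI : Module.Finite (ZMod p) (AdjoinRoot f) := hmonic.finite_adjoinRoot
  haveI : Finite (AdjoinRoot f) := Module.finite_of_finite (ZMod p)
  -- the representation
  let φ : AdjoinRoot f →ₐ[ZMod p] Module.End (ZMod p) M :=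
    Ideal.Quotient.liftₐ (Ideal.span {f}) (aeval τ) (by
      intro a ha
      rw [Ideal.mem_span_singleton] at ha
      obtain ⟨b, rfl⟩ := ha
      rw [map_mul, hf, minpoly.aeval, zero_mul])
  have hφmk : ∀ g : (ZMod p)[X], φ (AdjoinRoot.mk f g) = aeval τ g := fun g => rfl
  have hφroot : φ (AdjoinRoot.root f) = τ := by
    rw [AdjoinRoot.root, hφmk, aeval_X]
  have hφinj : Function.Injective φ := (φ : AdjoinRoot f →+* Module.End (ZMod p) M).injective
  set ρ := AdjoinRoot.root f with hρ
  have hρq : ρ ^ q = 1 := by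
    apply hφinj
    rw [map_pow, hφroot, hτq, map_one]
  have hτ1 : τ ≠ 1 := by
    intro h
    obtain ⟨v, hv⟩ := exists_ne (0 : M)
    apply hv
    apply hfix
    rw [h]; rfl
  have hρ1 : ρ ≠ 1 := by
    intro h
    apply hτ1
    rw [← hφroot, h, map_one]
  have hρord : orderOf ρ = q := by
    haveI : Fact q.Prime := ⟨hq⟩
    exact orderOf_eq_prime hρq hρ1
  -- cardinality of the field
  obtain ⟨v₀, hv₀⟩ := exists_ne (0 : M)
  let ev : AdjoinRoot f →ₗ[ZMod p] M :=
    { toFun := fun x => φ x v₀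
      map_add' := by intro x y; rw [map_add]; rfl
      map_smul' := by intro c x; rw [map_smul]; rfl }
  have hev : ∀ x, ev x = φ x v₀ := fun x => rfl
  have hevinj : Function.Injective ev := by
    rw [← LinearMap.ker_eq_bot, LinearMap.ker_eq_bot']
    intro x hx
    by_contra hx0
    apply hv₀
    have h1 : φ (x⁻¹ * x) v₀ = v₀ := by
      rw [inv_mul_cancel₀ hx0, map_one]; rfl
    rw [map_mul, Module.End.mul_apply, ← hev, hx, map_zero] at h1
    exact h1.symm
  have hevsurj : Function.Surjective ev := by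
    rw [← LinearMap.range_eq_top]
    rcases hirr (LinearMap.range ev) (by
      rintro v ⟨x, rfl⟩
      refine ⟨ρ * x, ?_⟩
      rw [hev, map_mul, hφroot, Module.End.mul_apply, hev]) with h | h
    · exfalso
      apply hv₀
      have : v₀ ∈ LinearMap.range ev := ⟨1, by rw [hev, map_one]; rfl⟩
      rw [h, Submodule.mem_bot] at this
      exact this
    · exact h
  have hcardL : Nat.card (AdjoinRoot f) = p ^ d := by
    rw [← hcard]
    exact Nat.card_congr (Equiv.ofBijective ev ⟨hevinj, hevsurj⟩)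
  have hfr : Module.finrank (ZMod p) (AdjoinRoot f) = d := by
    have h1 := Module.natCard_eq_pow_finrank (K := ZMod p) (V := AdjoinRoot f)
    rw [Nat.card_zmod, hcardL] at h1
    exact (Nat.pow_right_injective hp.two_le h1).symm
  have hfrobpow : ∀ (n : ℕ) (x : AdjoinRoot f),
      ((FiniteField.frobeniusAlgHom (ZMod p) (AdjoinRoot f)) ^ n) x = x ^ (p ^ n) := by
    intro n x
    rw [AlgHom.coe_pow, FiniteField.coe_frobeniusAlgHom, pow_iterate, ZMod.card]
  refine ⟨?_, ?_⟩
  · intro i hi hid hqi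
    have h1 : ρ ^ (p ^ i) = ρ := by
      have hpos : 1 ≤ p ^ i := Nat.one_le_pow _ _ hp.pos
      obtain ⟨c, hc⟩ := hqi
      have : p ^ i = q * c + 1 := by omega
      rw [this, pow_succ, pow_mul, hρq, one_pow, one_mul]
    have h2 : (FiniteField.frobeniusAlgHom (ZMod p) (AdjoinRoot f)) ^ i = 1 := by
      apply AdjoinRoot.algHom_ext
      rw [hfrobpow, h1]; rfl
    have h3 := orderOf_dvd_of_pow_eq_one h2
    rw [FiniteField.orderOf_frobeniusAlgHom, hfr] at h3
    have := Nat.le_of_dvd hi h3
    omega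
  · intro k η hη
    have h1 := conj_aeval τ k (η : Module.End (ZMod p) M) hη f
    rw [hf, minpoly.aeval, mul_zero] at h1
    have h2 : aeval (τ ^ k) f = 0 := by
      ext v
      obtain ⟨w, rfl⟩ := η.surjective v
      have := LinearMap.congr_fun h1 w
      rw [Module.End.mul_apply] at this
      rw [hf]
      exact this.symm
    have h3 : aeval (ρ ^ k) f = 0 := by
      apply hφinj
      rw [← aeval_algHom_apply, map_pow, hφroot, h2, map_zero]
    let σ : AdjoinRoot f →ₐ[ZMod p] AdjoinRoot f :=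
      AdjoinRoot.liftAlgHom f (Algebra.ofId (ZMod p) (AdjoinRoot f)) (ρ ^ k) (by
        rw [← h3]; rfl)
    have hσ : σ ρ = ρ ^ k := AdjoinRoot.liftAlgHom_root _ _ _ _
    obtain ⟨n, hn⟩ := (FiniteField.bijective_frobeniusAlgHom_pow (ZMod p) (AdjoinRoot f)).2 σ
    refine ⟨n.1, ?_⟩
    have h4 : ρ ^ k = ρ ^ (p ^ n.1) := by
      rw [← hσ, ← hn, hfrobpow]
    have := congrArg φ h4
    rw [map_pow, map_pow, hφroot] at this
    exact this

end

end Cfsg.Agent.Lib.Helper19
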