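import Cfsg.Agent.Lib.Helper28.Srg77.Psd

set_option autoImplicit false
set_option linter.unusedSectionVars false
set_option linter.unusedVariables false

/-! S0429 piece [A] (architect helper28): three pairwise non-adjacent distinct vertices of a graph
with the parameters `(77,16,0,4)` have at most two common neighbours.  Two certificates for the
positive semidefinite kernel `22 I - 11 A + 2 J`. -/

namespace Cfsg.Agent.Lib.Helper28.Srg77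

open Finset Classical

variable {V : Type*} [Fintype V] {G : SimpleGraph V}

namespace Helper19

theorem Ks_self (u : V) : Ks G u u = 24 := by
  simp [Ks]

theorem Ks_adj2 {a b : V} (h : G.Adj a b) : Ks G a b = -9 ∧ Ks G b a = -9 := by
  have hne : a ≠ b := h.ne
  have hne' : b ≠ a := h.ne'
  have h' : G.Adj b a := h.symm
  constructor <;> simp [Ks, *]

theorem Ks_perp2 {a b : V} (h1 : a ≠ b) (h2 : ¬ G.Adj a b) : Ks G a b = 2 ∧ Ks G b a = 2 := by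
  have h1' : b ≠ a := h1.symm
  have h2' : ¬ G.Adj b a := fun h => h2 h.symm
  constructor <;> simp [Ks, *]

/-- first certificate: three pairwise `⊥` vertices with four distinct common neighbours -/
theorem cert4 (hG : M22Like G) {x y z t1 t2 t3 t4 : V}
    (hxy : Perp G x y) (hxz : Perp G x z) (hyz : Perp G y z)
    (hx1 : G.Adj x t1) (hx2 : G.Adj x t2) (hx3 : G.Adj x t3) (hx4 : G.Adj x t4)
    (hy1 : G.Adj y t1) (hy2 : G.Adj y t2) (hy3 : G.Adj y t3) (hy4 : G.Adj y t4)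
    (hz1 : G.Adj z t1) (hz2 : G.Adj z t2) (hz3 : G.Adj z t3) (hz4 : G.Adj z t4)
    (h12 : t1 ≠ t2) (h13 : t1 ≠ t3) (h14 : t1 ≠ t4) (h23 : t2 ≠ t3) (h24 : t2 ≠ t4)
    (h34 : t3 ≠ t4) : False := by
  have h := psd_s hG ![x, y, z, t1, t2, t3, t4] (fun _ => 1)
  obtain ⟨a1, a1'⟩ := Ks_perp2 hxy.1 hxy.2
  obtain ⟨a2, a2'⟩ := Ks_perp2 hxz.1 hxz.2
  obtain ⟨a3, a3'⟩ := Ks_perp2 hyz.1 hyz.2
  obtain ⟨b1, b1'⟩ := Ks_adj2 hx1
  obtain ⟨b2, b2'⟩ := Ks_adj2 hx2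
  obtain ⟨b3, b3'⟩ := Ks_adj2 hx3
  obtain ⟨b4, b4'⟩ := Ks_adj2 hx4
  obtain ⟨c1, c1'⟩ := Ks_adj2 hy1
  obtain ⟨c2, c2'⟩ := Ks_adj2 hy2
  obtain ⟨c3, c3'⟩ := Ks_adj2 hy3
  obtain ⟨c4, c4'⟩ := Ks_adj2 hy4
  obtain ⟨d1, d1'⟩ := Ks_adj2 hz1
  obtain ⟨d2, d2'⟩ := Ks_adj2 hz2
  obtain ⟨d3, d3'⟩ := Ks_adj2 hz3
  obtain ⟨d4, d4'⟩ := Ks_adj2 hz4
  obtain ⟨e12, e12'⟩ := Ks_perp2 h12 (hG.tri x t1 t2 hx1 hx2)
  obtain ⟨e13, e13'⟩ := Ks_perp2 h13 (hG.tri x t1 t3 hx1 hx3)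
  obtain ⟨e14, e14'⟩ := Ks_perp2 h14 (hG.tri x t1 t4 hx1 hx4)
  obtain ⟨e23, e23'⟩ := Ks_perp2 h23 (hG.tri x t2 t3 hx2 hx3)
  obtain ⟨e24, e24'⟩ := Ks_perp2 h24 (hG.tri x t2 t4 hx2 hx4)
  obtain ⟨e34, e34'⟩ := Ks_perp2 h34 (hG.tri x t3 t4 hx3 hx4)
  simp only [Fin.sum_univ_succ, Fin.sum_univ_zero, Matrix.cons_val_zero, Matrix.cons_val_succ,
    Ks_self, a1, a1', a2, a2', a3, a3', b1, b1', b2, b2', b3, b3', b4, b4', c1, c1', c2, c2', c3,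
    c3', c4, c4', d1, d1', d2, d2', d3, d3', d4, d4', e12, e12', e13, e13', e14, e14', e23, e23',
    e24, e24', e34, e34'] at h
  norm_num at h

/-- second certificate: three common neighbours, and the fourth common neighbours `bx` of
`(z, x)` and `by'` of `(z, y)` -/
theorem cert3 (hG : M22Like G) {x y z t1 t2 t3 bx by' : V}
    (hxy : Perp G x y) (hxz : Perp G x z) (hyz : Perp G y z)
    (hx1 : G.Adj x t1) (hx2 : G.Adj x t2) (hx3 : G.Adj x t3)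
    (hy1 : G.Adj y t1) (hy2 : G.Adj y t2) (hy3 : G.Adj y t3)
    (hz1 : G.Adj z t1) (hz2 : G.Adj z t2) (hz3 : G.Adj z t3)
    (h12 : t1 ≠ t2) (h13 : t1 ≠ t3) (h23 : t2 ≠ t3)
    (hzbx : G.Adj z bx) (hxbx : G.Adj x bx) (hybx : ¬ G.Adj y bx)
    (hzby : G.Adj z by') (hyby : G.Adj y by') (hxby : ¬ G.Adj x by') : False := by
  have h := psd_s hG ![x, y, z, t1, t2, t3, bx, by'] ![2, 2, 2, 2, 2, 2, 1, 1]
  have nybx : y ≠ bx := by
    rintro rfl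
    exact hyz.2 hzbx.symm
  have nxby : x ≠ by' := by
    rintro rfl
    exact hxz.2 hzby.symm
  have n1bx : t1 ≠ bx := by
    rintro rfl
    exact hybx hy1
  have n2bx : t2 ≠ bx := by
    rintro rfl
    exact hybx hy2
  have n3bx : t3 ≠ bx := by
    rintro rfl
    exact hybx hy3
  have n1by : t1 ≠ by' := by
    rintro rfl
    exact hxby hx1
  have n2by : t2 ≠ by' := by
    rintro rfl
    exact hxby hx2
  have n3by : t3 ≠ by' := by
    rintro rfl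
    exact hxby hx3
  have nbb : bx ≠ by' := by
    rintro rfl
    exact hxby hxbx
  obtain ⟨a1, a1'⟩ := Ks_perp2 hxy.1 hxy.2
  obtain ⟨a2, a2'⟩ := Ks_perp2 hxz.1 hxz.2
  obtain ⟨a3, a3'⟩ := Ks_perp2 hyz.1 hyz.2
  obtain ⟨b1, b1'⟩ := Ks_adj2 hx1
  obtain ⟨b2, b2'⟩ := Ks_adj2 hx2
  obtain ⟨b3, b3'⟩ := Ks_adj2 hx3
  obtain ⟨c1, c1'⟩ := Ks_adj2 hy1
  obtain ⟨c2, c2'⟩ := Ks_adj2 hy2
  obtain ⟨c3, c3'⟩ := Ks_adj2 hy3
  obtain ⟨d1, d1'⟩ := Ks_adj2 hz1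
  obtain ⟨d2, d2'⟩ := Ks_adj2 hz2
  obtain ⟨d3, d3'⟩ := Ks_adj2 hz3
  obtain ⟨e12, e12'⟩ := Ks_perp2 h12 (hG.tri x t1 t2 hx1 hx2)
  obtain ⟨e13, e13'⟩ := Ks_perp2 h13 (hG.tri x t1 t3 hx1 hx3)
  obtain ⟨e23, e23'⟩ := Ks_perp2 h23 (hG.tri x t2 t3 hx2 hx3)
  obtain ⟨f1, f1'⟩ := Ks_adj2 hxbx
  obtain ⟨f2, f2'⟩ := Ks_perp2 nxby hxby
  obtain ⟨f3, f3'⟩ := Ks_perp2 nybx hybx
  obtain ⟨f4, f4'⟩ := Ks_adj2 hyby
  obtain ⟨f5, f5'⟩ := Ks_adj2 hzbx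
  obtain ⟨f6, f6'⟩ := Ks_adj2 hzby
  obtain ⟨g1, g1'⟩ := Ks_perp2 n1bx (hG.tri z t1 bx hz1 hzbx)
  obtain ⟨g2, g2'⟩ := Ks_perp2 n2bx (hG.tri z t2 bx hz2 hzbx)
  obtain ⟨g3, g3'⟩ := Ks_perp2 n3bx (hG.tri z t3 bx hz3 hzbx)
  obtain ⟨k1, k1'⟩ := Ks_perp2 n1by (hG.tri z t1 by' hz1 hzby)
  obtain ⟨k2, k2'⟩ := Ks_perp2 n2by (hG.tri z t2 by' hz2 hzby)
  obtain ⟨k3, k3'⟩ := Ks_perp2 n3by (hG.tri z t3 by' hz3 hzby)
  obtain ⟨m1, m1'⟩ := Ks_perp2 nbb (hG.tri z bx by' hzbx hzby)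
  simp only [Fin.sum_univ_succ, Fin.sum_univ_zero, Matrix.cons_val_zero, Matrix.cons_val_succ,
    Ks_self, a1, a1', a2, a2', a3, a3', b1, b1', b2, b2', b3, b3', c1, c1', c2, c2', c3,
    c3', d1, d1', d2, d2', d3, d3', e12, e12', e13, e13', e23, e23', f1, f1', f2, f2', f3, f3',
    f4, f4', f5, f5', f6, f6', g1, g1', g2, g2', g3, g3', k1, k1', k2, k2', k3, k3', m1, m1'] at h
  norm_num at h

end Helper19

/-- [A] three pairwise `⊥` vertices have at most two common neighbours -/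
theorem p1 (hG : M22Like G) : P1 G := by
  intro x y z hxy hxz hyz
  by_contra hcon
  rw [not_le] at hcon
  obtain ⟨t1, t2, t3, ht1, ht2, ht3, h12, h13, h23⟩ := Finset.two_lt_card_iff.mp hcon
  simp only [mem_filter, mem_univ, true_and] at ht1 ht2 ht3
  obtain ⟨hx1, hy1, hz1⟩ := ht1
  obtain ⟨hx2, hy2, hz2⟩ := ht2
  obtain ⟨hx3, hy3, hz3⟩ := ht3
  set T := univ.filter (fun m => G.Adj x m ∧ G.Adj y m ∧ G.Adj z m) with hT
  by_cases h4 : ∃ t4 ∈ T, t4 ≠ t1 ∧ t4 ≠ t2 ∧ t4 ≠ t3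
  · obtain ⟨t4, ht4, h41, h42, h43⟩ := h4
    simp only [hT, mem_filter, mem_univ, true_and] at ht4
    obtain ⟨hx4, hy4, hz4⟩ := ht4
    exact Helper19.cert4 hG hxy hxz hyz hx1 hx2 hx3 hx4 hy1 hy2 hy3 hy4 hz1 hz2 hz3 hz4
      h12 h13 h41.symm h23 h42.symm h43.symm
  · -- `T ⊆ {t1, t2, t3}`
    have hsub : T ⊆ {t1, t2, t3} := by
      intro t ht
      by_contra hnot
      simp only [mem_insert, mem_singleton, not_or] at hnot
      exact h4 ⟨t, ht, hnot.1, hnot.2.1, hnot.2.2⟩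
    have hcard : T.card ≤ 3 := (Finset.card_le_card hsub).trans Finset.card_le_three
    -- the fourth common neighbour of `z`, `x`
    have hMx := hG.mu z x hxz.1.symm (fun h => hxz.2 h.symm)
    have hTx : T ⊆ univ.filter (fun c => G.Adj z c ∧ G.Adj x c) := by
      intro t ht
      simp only [hT, mem_filter, mem_univ, true_and] at ht ⊢
      exact ⟨ht.2.2, ht.1⟩
    obtain ⟨bx, hbx, hbxT⟩ := Finset.exists_mem_notMem_of_card_lt_card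
      (show T.card < (univ.filter (fun c => G.Adj z c ∧ G.Adj x c)).card by rw [hMx]; omega)
    simp only [mem_filter, mem_univ, true_and] at hbx
    have hybx : ¬ G.Adj y bx := by
      intro h
      apply hbxT
      simp only [hT, mem_filter, mem_univ, true_and]
      exact ⟨hbx.2, h, hbx.1⟩
    -- the fourth common neighbour of `z`, `y`
    have hMy := hG.mu z y hyz.1.symm (fun h => hyz.2 h.symm)
    obtain ⟨by', hby, hbyT⟩ := Finset.exists_mem_notMem_of_card_lt_card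
      (show T.card < (univ.filter (fun c => G.Adj z c ∧ G.Adj y c)).card by rw [hMy]; omega)
    simp only [mem_filter, mem_univ, true_and] at hby
    have hxby : ¬ G.Adj x by' := by
      intro h
      apply hbyT
      simp only [hT, mem_filter, mem_univ, true_and]
      exact ⟨h, hby.2, hby.1⟩
    exact Helper19.cert3 hG hxy hxz hyz hx1 hx2 hx3 hy1 hy2 hy3 hz1 hz2 hz3 h12 h13 h23
      hbx.1 hbx.2 hybx hby.1 hby.2 hxby

end Cfsg.Agent.Lib.Helper28.Srg77
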