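import Cfsg.Agent.Lib.Helper19.Srg77A

set_option autoImplicit false
set_option linter.unusedSectionVars false
set_option linter.unusedVariables false

/-! S0429 piece [C] (architect helper28): collinearity with a fixed pair propagates.  Three
certificates for the positive semidefinite kernel `22 I - 11 A + 2 J` (generated text: one
equation for each pair of vertices of the configuration). -/

namespace Cfsg.Agent.Lib.Helper28.Srg77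

open Finset Classical

variable {V : Type*} [Fintype V] {G : SimpleGraph V}

namespace Helper19

theorem ne_of_adj {w u v : V} (h1 : G.Adj w u) (h2 : ¬ G.Adj w v) : u ≠ v := by
  rintro rfl
  exact h2 h1

/-- four distinct elements of a finset with four elements -/
theorem exists_four {S : Finset V} (h : S.card = 4) :
    ∃ m1 m2 m3 m4, m1 ∈ S ∧ m2 ∈ S ∧ m3 ∈ S ∧ m4 ∈ S ∧ m1 ≠ m2 ∧ m1 ≠ m3 ∧ m1 ≠ m4 ∧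
      m2 ≠ m3 ∧ m2 ≠ m4 ∧ m3 ≠ m4 := by
  obtain ⟨m1, m2, m3, h1, h2, h3, h12, h13, h23⟩ :=
    Finset.two_lt_card_iff.mp (show 2 < S.card by omega)
  have hc : ({m1, m2, m3} : Finset V).card < S.card := by
    have := Finset.card_le_three (a := m1) (b := m2) (c := m3)
    omega
  obtain ⟨m4, h4, hn4⟩ := Finset.exists_mem_notMem_of_card_lt_card hc
  simp only [mem_insert, mem_singleton, not_or] at hn4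
  exact ⟨m1, m2, m3, m4, h1, h2, h3, h4, h12, h13, fun h => hn4.1 h.symm, h23,
    fun h => hn4.2.1 h.symm, fun h => hn4.2.2 h.symm⟩

/-- first certificate for `p3`: the partners `y`, `y'` are adjacent -/
theorem certC1 (hG : M22Like G) {a x y y' m1 m2 m3 m4 : V}
    (pax : Perp G a x) (pay : Perp G a y) (pay' : Perp G a y')
    (pxy : Perp G x y) (pxy' : Perp G x y')
    (hyy : G.Adj y y')
    (ha_m1 : G.Adj a m1) (hx_m1 : G.Adj x m1) (ny_m1 : ¬ G.Adj y m1) (nyp_m1 : ¬ G.Adj y' m1)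
    (ha_m2 : G.Adj a m2) (hx_m2 : G.Adj x m2) (ny_m2 : ¬ G.Adj y m2) (nyp_m2 : ¬ G.Adj y' m2)
    (ha_m3 : G.Adj a m3) (hx_m3 : G.Adj x m3) (ny_m3 : ¬ G.Adj y m3) (nyp_m3 : ¬ G.Adj y' m3)
    (ha_m4 : G.Adj a m4) (hx_m4 : G.Adj x m4) (ny_m4 : ¬ G.Adj y m4) (nyp_m4 : ¬ G.Adj y' m4)
    (hne_m1_m2 : m1 ≠ m2)
    (hne_m1_m3 : m1 ≠ m3)
    (hne_m1_m4 : m1 ≠ m4)
    (hne_m2_m3 : m2 ≠ m3)
    (hne_m2_m4 : m2 ≠ m4)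
    (hne_m3_m4 : m3 ≠ m4) : False := by
  have h := psd_s hG ![a, x, y, y', m1, m2, m3, m4] ![3, 3, -2, -2, 2, 2, 2, 2]
  obtain ⟨q1, q1'⟩ := Ks_perp2 pax.1 pax.2
  obtain ⟨q2, q2'⟩ := Ks_perp2 pay.1 pay.2
  obtain ⟨q3, q3'⟩ := Ks_perp2 pay'.1 pay'.2
  obtain ⟨q4, q4'⟩ := Ks_perp2 pxy.1 pxy.2
  obtain ⟨q5, q5'⟩ := Ks_perp2 pxy'.1 pxy'.2
  obtain ⟨q6, q6'⟩ := Ks_adj2 hyy
  obtain ⟨q7, q7'⟩ := Ks_adj2 ha_m1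
  obtain ⟨q8, q8'⟩ := Ks_adj2 hx_m1
  obtain ⟨q9, q9'⟩ := Ks_perp2 (ne_of_adj ha_m1 pay.2).symm ny_m1
  obtain ⟨q10, q10'⟩ := Ks_perp2 (ne_of_adj ha_m1 pay'.2).symm nyp_m1
  obtain ⟨q11, q11'⟩ := Ks_adj2 ha_m2
  obtain ⟨q12, q12'⟩ := Ks_adj2 hx_m2
  obtain ⟨q13, q13'⟩ := Ks_perp2 (ne_of_adj ha_m2 pay.2).symm ny_m2
  obtain ⟨q14, q14'⟩ := Ks_perp2 (ne_of_adj ha_m2 pay'.2).symm nyp_m2
  obtain ⟨q15, q15'⟩ := Ks_adj2 ha_m3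
  obtain ⟨q16, q16'⟩ := Ks_adj2 hx_m3
  obtain ⟨q17, q17'⟩ := Ks_perp2 (ne_of_adj ha_m3 pay.2).symm ny_m3
  obtain ⟨q18, q18'⟩ := Ks_perp2 (ne_of_adj ha_m3 pay'.2).symm nyp_m3
  obtain ⟨q19, q19'⟩ := Ks_adj2 ha_m4
  obtain ⟨q20, q20'⟩ := Ks_adj2 hx_m4
  obtain ⟨q21, q21'⟩ := Ks_perp2 (ne_of_adj ha_m4 pay.2).symm ny_m4
  obtain ⟨q22, q22'⟩ := Ks_perp2 (ne_of_adj ha_m4 pay'.2).symm nyp_m4
  obtain ⟨q23, q23'⟩ := Ks_perp2 hne_m1_m2 (hG.tri a m1 m2 ha_m1 ha_m2)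
  obtain ⟨q24, q24'⟩ := Ks_perp2 hne_m1_m3 (hG.tri a m1 m3 ha_m1 ha_m3)
  obtain ⟨q25, q25'⟩ := Ks_perp2 hne_m1_m4 (hG.tri a m1 m4 ha_m1 ha_m4)
  obtain ⟨q26, q26'⟩ := Ks_perp2 hne_m2_m3 (hG.tri a m2 m3 ha_m2 ha_m3)
  obtain ⟨q27, q27'⟩ := Ks_perp2 hne_m2_m4 (hG.tri a m2 m4 ha_m2 ha_m4)
  obtain ⟨q28, q28'⟩ := Ks_perp2 hne_m3_m4 (hG.tri a m3 m4 ha_m3 ha_m4)
  simp only [Fin.sum_univ_succ, Fin.sum_univ_zero, Matrix.cons_val_zero, Matrix.cons_val_succ,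
    Ks_self, q1, q1', q2, q2', q3, q3', q4, q4', q5, q5', q6, q6', q7, q7', q8, q8', q9, q9',
    q10, q10', q11, q11', q12, q12', q13, q13', q14, q14', q15, q15', q16, q16', q17, q17', q18,
    q18', q19, q19', q20, q20', q21, q21', q22, q22', q23, q23', q24, q24', q25, q25', q26,
    q26', q27, q27', q28, q28'] at h
  norm_num at h

/-- second certificate for `p3`: exactly one common neighbour of `a`, `y`, `y'` -/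
theorem certC2 (hG : M22Like G) {a x y y' m1 m2 m3 m4 c1 d1 d2 d3 e1 e2 e3 : V}
    (pax : Perp G a x) (pay : Perp G a y) (pay' : Perp G a y')
    (pxy : Perp G x y) (pxy' : Perp G x y')
    (pyy : Perp G y y')
    (ha_m1 : G.Adj a m1) (hx_m1 : G.Adj x m1) (ny_m1 : ¬ G.Adj y m1) (nyp_m1 : ¬ G.Adj y' m1)
    (ha_m2 : G.Adj a m2) (hx_m2 : G.Adj x m2) (ny_m2 : ¬ G.Adj y m2) (nyp_m2 : ¬ G.Adj y' m2)
    (ha_m3 : G.Adj a m3) (hx_m3 : G.Adj x m3) (ny_m3 : ¬ G.Adj y m3) (nyp_m3 : ¬ G.Adj y' m3)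
    (ha_m4 : G.Adj a m4) (hx_m4 : G.Adj x m4) (ny_m4 : ¬ G.Adj y m4) (nyp_m4 : ¬ G.Adj y' m4)
    (ha_c1 : G.Adj a c1) (nx_c1 : ¬ G.Adj x c1) (hy_c1 : G.Adj y c1) (hyp_c1 : G.Adj y' c1)
    (ha_d1 : G.Adj a d1) (nx_d1 : ¬ G.Adj x d1) (hy_d1 : G.Adj y d1) (nyp_d1 : ¬ G.Adj y' d1)
    (ha_d2 : G.Adj a d2) (nx_d2 : ¬ G.Adj x d2) (hy_d2 : G.Adj y d2) (nyp_d2 : ¬ G.Adj y' d2)
    (ha_d3 : G.Adj a d3) (nx_d3 : ¬ G.Adj x d3) (hy_d3 : G.Adj y d3) (nyp_d3 : ¬ G.Adj y' d3)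
    (ha_e1 : G.Adj a e1) (nx_e1 : ¬ G.Adj x e1) (ny_e1 : ¬ G.Adj y e1) (hyp_e1 : G.Adj y' e1)
    (ha_e2 : G.Adj a e2) (nx_e2 : ¬ G.Adj x e2) (ny_e2 : ¬ G.Adj y e2) (hyp_e2 : G.Adj y' e2)
    (ha_e3 : G.Adj a e3) (nx_e3 : ¬ G.Adj x e3) (ny_e3 : ¬ G.Adj y e3) (hyp_e3 : G.Adj y' e3)
    (hne_m1_m2 : m1 ≠ m2)
    (hne_m1_m3 : m1 ≠ m3)
    (hne_m1_m4 : m1 ≠ m4)
    (hne_m2_m3 : m2 ≠ m3)
    (hne_m2_m4 : m2 ≠ m4)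
    (hne_m3_m4 : m3 ≠ m4)
    (hne_d1_d2 : d1 ≠ d2)
    (hne_d1_d3 : d1 ≠ d3)
    (hne_d2_d3 : d2 ≠ d3)
    (hne_e1_e2 : e1 ≠ e2)
    (hne_e1_e3 : e1 ≠ e3)
    (hne_e2_e3 : e2 ≠ e3) : False := by
  have h := psd_s hG ![a, x, y, y', m1, m2, m3, m4, c1, d1, d2, d3, e1, e2, e3] ![1, -2, 2, 2, -1, -1, -1, -1, 2, 1, 1, 1, 1, 1, 1]
  obtain ⟨q1, q1'⟩ := Ks_perp2 pax.1 pax.2
  obtain ⟨q2, q2'⟩ := Ks_perp2 pay.1 pay.2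
  obtain ⟨q3, q3'⟩ := Ks_perp2 pay'.1 pay'.2
  obtain ⟨q4, q4'⟩ := Ks_perp2 pxy.1 pxy.2
  obtain ⟨q5, q5'⟩ := Ks_perp2 pxy'.1 pxy'.2
  obtain ⟨q6, q6'⟩ := Ks_perp2 pyy.1 pyy.2
  obtain ⟨q7, q7'⟩ := Ks_adj2 ha_m1
  obtain ⟨q8, q8'⟩ := Ks_adj2 hx_m1
  obtain ⟨q9, q9'⟩ := Ks_perp2 (ne_of_adj ha_m1 pay.2).symm ny_m1
  obtain ⟨q10, q10'⟩ := Ks_perp2 (ne_of_adj ha_m1 pay'.2).symm nyp_m1
  obtain ⟨q11, q11'⟩ := Ks_adj2 ha_m2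
  obtain ⟨q12, q12'⟩ := Ks_adj2 hx_m2
  obtain ⟨q13, q13'⟩ := Ks_perp2 (ne_of_adj ha_m2 pay.2).symm ny_m2
  obtain ⟨q14, q14'⟩ := Ks_perp2 (ne_of_adj ha_m2 pay'.2).symm nyp_m2
  obtain ⟨q15, q15'⟩ := Ks_adj2 ha_m3
  obtain ⟨q16, q16'⟩ := Ks_adj2 hx_m3
  obtain ⟨q17, q17'⟩ := Ks_perp2 (ne_of_adj ha_m3 pay.2).symm ny_m3
  obtain ⟨q18, q18'⟩ := Ks_perp2 (ne_of_adj ha_m3 pay'.2).symm nyp_m3
  obtain ⟨q19, q19'⟩ := Ks_adj2 ha_m4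
  obtain ⟨q20, q20'⟩ := Ks_adj2 hx_m4
  obtain ⟨q21, q21'⟩ := Ks_perp2 (ne_of_adj ha_m4 pay.2).symm ny_m4
  obtain ⟨q22, q22'⟩ := Ks_perp2 (ne_of_adj ha_m4 pay'.2).symm nyp_m4
  obtain ⟨q23, q23'⟩ := Ks_adj2 ha_c1
  obtain ⟨q24, q24'⟩ := Ks_perp2 (ne_of_adj ha_c1 pax.2).symm nx_c1
  obtain ⟨q25, q25'⟩ := Ks_adj2 hy_c1
  obtain ⟨q26, q26'⟩ := Ks_adj2 hyp_c1
  obtain ⟨q27, q27'⟩ := Ks_adj2 ha_d1
  obtain ⟨q28, q28'⟩ := Ks_perp2 (ne_of_adj ha_d1 pax.2).symm nx_d1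
  obtain ⟨q29, q29'⟩ := Ks_adj2 hy_d1
  obtain ⟨q30, q30'⟩ := Ks_perp2 (ne_of_adj ha_d1 pay'.2).symm nyp_d1
  obtain ⟨q31, q31'⟩ := Ks_adj2 ha_d2
  obtain ⟨q32, q32'⟩ := Ks_perp2 (ne_of_adj ha_d2 pax.2).symm nx_d2
  obtain ⟨q33, q33'⟩ := Ks_adj2 hy_d2
  obtain ⟨q34, q34'⟩ := Ks_perp2 (ne_of_adj ha_d2 pay'.2).symm nyp_d2
  obtain ⟨q35, q35'⟩ := Ks_adj2 ha_d3
  obtain ⟨q36, q36'⟩ := Ks_perp2 (ne_of_adj ha_d3 pax.2).symm nx_d3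
  obtain ⟨q37, q37'⟩ := Ks_adj2 hy_d3
  obtain ⟨q38, q38'⟩ := Ks_perp2 (ne_of_adj ha_d3 pay'.2).symm nyp_d3
  obtain ⟨q39, q39'⟩ := Ks_adj2 ha_e1
  obtain ⟨q40, q40'⟩ := Ks_perp2 (ne_of_adj ha_e1 pax.2).symm nx_e1
  obtain ⟨q41, q41'⟩ := Ks_perp2 (ne_of_adj ha_e1 pay.2).symm ny_e1
  obtain ⟨q42, q42'⟩ := Ks_adj2 hyp_e1
  obtain ⟨q43, q43'⟩ := Ks_adj2 ha_e2
  obtain ⟨q44, q44'⟩ := Ks_perp2 (ne_of_adj ha_e2 pax.2).symm nx_e2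
  obtain ⟨q45, q45'⟩ := Ks_perp2 (ne_of_adj ha_e2 pay.2).symm ny_e2
  obtain ⟨q46, q46'⟩ := Ks_adj2 hyp_e2
  obtain ⟨q47, q47'⟩ := Ks_adj2 ha_e3
  obtain ⟨q48, q48'⟩ := Ks_perp2 (ne_of_adj ha_e3 pax.2).symm nx_e3
  obtain ⟨q49, q49'⟩ := Ks_perp2 (ne_of_adj ha_e3 pay.2).symm ny_e3
  obtain ⟨q50, q50'⟩ := Ks_adj2 hyp_e3
  obtain ⟨q51, q51'⟩ := Ks_perp2 hne_m1_m2 (hG.tri a m1 m2 ha_m1 ha_m2)
  obtain ⟨q52, q52'⟩ := Ks_perp2 hne_m1_m3 (hG.tri a m1 m3 ha_m1 ha_m3)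
  obtain ⟨q53, q53'⟩ := Ks_perp2 hne_m1_m4 (hG.tri a m1 m4 ha_m1 ha_m4)
  obtain ⟨q54, q54'⟩ := Ks_perp2 (ne_of_adj hx_m1 nx_c1) (hG.tri a m1 c1 ha_m1 ha_c1)
  obtain ⟨q55, q55'⟩ := Ks_perp2 (ne_of_adj hx_m1 nx_d1) (hG.tri a m1 d1 ha_m1 ha_d1)
  obtain ⟨q56, q56'⟩ := Ks_perp2 (ne_of_adj hx_m1 nx_d2) (hG.tri a m1 d2 ha_m1 ha_d2)
  obtain ⟨q57, q57'⟩ := Ks_perp2 (ne_of_adj hx_m1 nx_d3) (hG.tri a m1 d3 ha_m1 ha_d3)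
  obtain ⟨q58, q58'⟩ := Ks_perp2 (ne_of_adj hx_m1 nx_e1) (hG.tri a m1 e1 ha_m1 ha_e1)
  obtain ⟨q59, q59'⟩ := Ks_perp2 (ne_of_adj hx_m1 nx_e2) (hG.tri a m1 e2 ha_m1 ha_e2)
  obtain ⟨q60, q60'⟩ := Ks_perp2 (ne_of_adj hx_m1 nx_e3) (hG.tri a m1 e3 ha_m1 ha_e3)
  obtain ⟨q61, q61'⟩ := Ks_perp2 hne_m2_m3 (hG.tri a m2 m3 ha_m2 ha_m3)
  obtain ⟨q62, q62'⟩ := Ks_perp2 hne_m2_m4 (hG.tri a m2 m4 ha_m2 ha_m4)
  obtain ⟨q63, q63'⟩ := Ks_perp2 (ne_of_adj hx_m2 nx_c1) (hG.tri a m2 c1 ha_m2 ha_c1)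
  obtain ⟨q64, q64'⟩ := Ks_perp2 (ne_of_adj hx_m2 nx_d1) (hG.tri a m2 d1 ha_m2 ha_d1)
  obtain ⟨q65, q65'⟩ := Ks_perp2 (ne_of_adj hx_m2 nx_d2) (hG.tri a m2 d2 ha_m2 ha_d2)
  obtain ⟨q66, q66'⟩ := Ks_perp2 (ne_of_adj hx_m2 nx_d3) (hG.tri a m2 d3 ha_m2 ha_d3)
  obtain ⟨q67, q67'⟩ := Ks_perp2 (ne_of_adj hx_m2 nx_e1) (hG.tri a m2 e1 ha_m2 ha_e1)
  obtain ⟨q68, q68'⟩ := Ks_perp2 (ne_of_adj hx_m2 nx_e2) (hG.tri a m2 e2 ha_m2 ha_e2)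
  obtain ⟨q69, q69'⟩ := Ks_perp2 (ne_of_adj hx_m2 nx_e3) (hG.tri a m2 e3 ha_m2 ha_e3)
  obtain ⟨q70, q70'⟩ := Ks_perp2 hne_m3_m4 (hG.tri a m3 m4 ha_m3 ha_m4)
  obtain ⟨q71, q71'⟩ := Ks_perp2 (ne_of_adj hx_m3 nx_c1) (hG.tri a m3 c1 ha_m3 ha_c1)
  obtain ⟨q72, q72'⟩ := Ks_perp2 (ne_of_adj hx_m3 nx_d1) (hG.tri a m3 d1 ha_m3 ha_d1)
  obtain ⟨q73, q73'⟩ := Ks_perp2 (ne_of_adj hx_m3 nx_d2) (hG.tri a m3 d2 ha_m3 ha_d2)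
  obtain ⟨q74, q74'⟩ := Ks_perp2 (ne_of_adj hx_m3 nx_d3) (hG.tri a m3 d3 ha_m3 ha_d3)
  obtain ⟨q75, q75'⟩ := Ks_perp2 (ne_of_adj hx_m3 nx_e1) (hG.tri a m3 e1 ha_m3 ha_e1)
  obtain ⟨q76, q76'⟩ := Ks_perp2 (ne_of_adj hx_m3 nx_e2) (hG.tri a m3 e2 ha_m3 ha_e2)
  obtain ⟨q77, q77'⟩ := Ks_perp2 (ne_of_adj hx_m3 nx_e3) (hG.tri a m3 e3 ha_m3 ha_e3)
  obtain ⟨q78, q78'⟩ := Ks_perp2 (ne_of_adj hx_m4 nx_c1) (hG.tri a m4 c1 ha_m4 ha_c1)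
  obtain ⟨q79, q79'⟩ := Ks_perp2 (ne_of_adj hx_m4 nx_d1) (hG.tri a m4 d1 ha_m4 ha_d1)
  obtain ⟨q80, q80'⟩ := Ks_perp2 (ne_of_adj hx_m4 nx_d2) (hG.tri a m4 d2 ha_m4 ha_d2)
  obtain ⟨q81, q81'⟩ := Ks_perp2 (ne_of_adj hx_m4 nx_d3) (hG.tri a m4 d3 ha_m4 ha_d3)
  obtain ⟨q82, q82'⟩ := Ks_perp2 (ne_of_adj hx_m4 nx_e1) (hG.tri a m4 e1 ha_m4 ha_e1)
  obtain ⟨q83, q83'⟩ := Ks_perp2 (ne_of_adj hx_m4 nx_e2) (hG.tri a m4 e2 ha_m4 ha_e2)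
  obtain ⟨q84, q84'⟩ := Ks_perp2 (ne_of_adj hx_m4 nx_e3) (hG.tri a m4 e3 ha_m4 ha_e3)
  obtain ⟨q85, q85'⟩ := Ks_perp2 (ne_of_adj hyp_c1 nyp_d1) (hG.tri a c1 d1 ha_c1 ha_d1)
  obtain ⟨q86, q86'⟩ := Ks_perp2 (ne_of_adj hyp_c1 nyp_d2) (hG.tri a c1 d2 ha_c1 ha_d2)
  obtain ⟨q87, q87'⟩ := Ks_perp2 (ne_of_adj hyp_c1 nyp_d3) (hG.tri a c1 d3 ha_c1 ha_d3)
  obtain ⟨q88, q88'⟩ := Ks_perp2 (ne_of_adj hy_c1 ny_e1) (hG.tri a c1 e1 ha_c1 ha_e1)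
  obtain ⟨q89, q89'⟩ := Ks_perp2 (ne_of_adj hy_c1 ny_e2) (hG.tri a c1 e2 ha_c1 ha_e2)
  obtain ⟨q90, q90'⟩ := Ks_perp2 (ne_of_adj hy_c1 ny_e3) (hG.tri a c1 e3 ha_c1 ha_e3)
  obtain ⟨q91, q91'⟩ := Ks_perp2 hne_d1_d2 (hG.tri a d1 d2 ha_d1 ha_d2)
  obtain ⟨q92, q92'⟩ := Ks_perp2 hne_d1_d3 (hG.tri a d1 d3 ha_d1 ha_d3)
  obtain ⟨q93, q93'⟩ := Ks_perp2 (ne_of_adj hy_d1 ny_e1) (hG.tri a d1 e1 ha_d1 ha_e1)
  obtain ⟨q94, q94'⟩ := Ks_perp2 (ne_of_adj hy_d1 ny_e2) (hG.tri a d1 e2 ha_d1 ha_e2)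
  obtain ⟨q95, q95'⟩ := Ks_perp2 (ne_of_adj hy_d1 ny_e3) (hG.tri a d1 e3 ha_d1 ha_e3)
  obtain ⟨q96, q96'⟩ := Ks_perp2 hne_d2_d3 (hG.tri a d2 d3 ha_d2 ha_d3)
  obtain ⟨q97, q97'⟩ := Ks_perp2 (ne_of_adj hy_d2 ny_e1) (hG.tri a d2 e1 ha_d2 ha_e1)
  obtain ⟨q98, q98'⟩ := Ks_perp2 (ne_of_adj hy_d2 ny_e2) (hG.tri a d2 e2 ha_d2 ha_e2)
  obtain ⟨q99, q99'⟩ := Ks_perp2 (ne_of_adj hy_d2 ny_e3) (hG.tri a d2 e3 ha_d2 ha_e3)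
  obtain ⟨q100, q100'⟩ := Ks_perp2 (ne_of_adj hy_d3 ny_e1) (hG.tri a d3 e1 ha_d3 ha_e1)
  obtain ⟨q101, q101'⟩ := Ks_perp2 (ne_of_adj hy_d3 ny_e2) (hG.tri a d3 e2 ha_d3 ha_e2)
  obtain ⟨q102, q102'⟩ := Ks_perp2 (ne_of_adj hy_d3 ny_e3) (hG.tri a d3 e3 ha_d3 ha_e3)
  obtain ⟨q103, q103'⟩ := Ks_perp2 hne_e1_e2 (hG.tri a e1 e2 ha_e1 ha_e2)
  obtain ⟨q104, q104'⟩ := Ks_perp2 hne_e1_e3 (hG.tri a e1 e3 ha_e1 ha_e3)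
  obtain ⟨q105, q105'⟩ := Ks_perp2 hne_e2_e3 (hG.tri a e2 e3 ha_e2 ha_e3)
  simp only [Fin.sum_univ_succ, Fin.sum_univ_zero, Matrix.cons_val_zero, Matrix.cons_val_succ,
    Ks_self, q1, q1', q2, q2', q3, q3', q4, q4', q5, q5', q6, q6', q7, q7', q8, q8', q9, q9',
    q10, q10', q11, q11', q12, q12', q13, q13', q14, q14', q15, q15', q16, q16', q17, q17', q18,
    q18', q19, q19', q20, q20', q21, q21', q22, q22', q23, q23', q24, q24', q25, q25', q26,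
    q26', q27, q27', q28, q28', q29, q29', q30, q30', q31, q31', q32, q32', q33, q33', q34,
    q34', q35, q35', q36, q36', q37, q37', q38, q38', q39, q39', q40, q40', q41, q41', q42,
    q42', q43, q43', q44, q44', q45, q45', q46, q46', q47, q47', q48, q48', q49, q49', q50,
    q50', q51, q51', q52, q52', q53, q53', q54, q54', q55, q55', q56, q56', q57, q57', q58,
    q58', q59, q59', q60, q60', q61, q61', q62, q62', q63, q63', q64, q64', q65, q65', q66,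
    q66', q67, q67', q68, q68', q69, q69', q70, q70', q71, q71', q72, q72', q73, q73', q74,
    q74', q75, q75', q76, q76', q77, q77', q78, q78', q79, q79', q80, q80', q81, q81', q82,
    q82', q83, q83', q84, q84', q85, q85', q86, q86', q87, q87', q88, q88', q89, q89', q90,
    q90', q91, q91', q92, q92', q93, q93', q94, q94', q95, q95', q96, q96', q97, q97', q98,
    q98', q99, q99', q100, q100', q101, q101', q102, q102', q103, q103', q104, q104', q105,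
    q105'] at h
  norm_num at h

/-- third certificate for `p3`: two common neighbours of `a`, `y`, `y'` -/
theorem certC3 (hG : M22Like G) {a x y y' m1 m2 m3 m4 c1 c2 : V}
    (pax : Perp G a x) (pay : Perp G a y) (pay' : Perp G a y')
    (pxy : Perp G x y) (pxy' : Perp G x y')
    (pyy : Perp G y y')
    (ha_m1 : G.Adj a m1) (hx_m1 : G.Adj x m1) (ny_m1 : ¬ G.Adj y m1) (nyp_m1 : ¬ G.Adj y' m1)
    (ha_m2 : G.Adj a m2) (hx_m2 : G.Adj x m2) (ny_m2 : ¬ G.Adj y m2) (nyp_m2 : ¬ G.Adj y' m2)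
    (ha_m3 : G.Adj a m3) (hx_m3 : G.Adj x m3) (ny_m3 : ¬ G.Adj y m3) (nyp_m3 : ¬ G.Adj y' m3)
    (ha_m4 : G.Adj a m4) (hx_m4 : G.Adj x m4) (ny_m4 : ¬ G.Adj y m4) (nyp_m4 : ¬ G.Adj y' m4)
    (ha_c1 : G.Adj a c1) (nx_c1 : ¬ G.Adj x c1) (hy_c1 : G.Adj y c1) (hyp_c1 : G.Adj y' c1)
    (ha_c2 : G.Adj a c2) (nx_c2 : ¬ G.Adj x c2) (hy_c2 : G.Adj y c2) (hyp_c2 : G.Adj y' c2)
    (hne_m1_m2 : m1 ≠ m2)
    (hne_m1_m3 : m1 ≠ m3)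
    (hne_m1_m4 : m1 ≠ m4)
    (hne_m2_m3 : m2 ≠ m3)
    (hne_m2_m4 : m2 ≠ m4)
    (hne_m3_m4 : m3 ≠ m4)
    (hne_c1_c2 : c1 ≠ c2) : False := by
  have h := psd_s hG ![a, x, y, y', m1, m2, m3, m4, c1, c2] ![1, 2, -1, -1, 1, 1, 1, 1, -1, -1]
  obtain ⟨q1, q1'⟩ := Ks_perp2 pax.1 pax.2
  obtain ⟨q2, q2'⟩ := Ks_perp2 pay.1 pay.2
  obtain ⟨q3, q3'⟩ := Ks_perp2 pay'.1 pay'.2
  obtain ⟨q4, q4'⟩ := Ks_perp2 pxy.1 pxy.2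
  obtain ⟨q5, q5'⟩ := Ks_perp2 pxy'.1 pxy'.2
  obtain ⟨q6, q6'⟩ := Ks_perp2 pyy.1 pyy.2
  obtain ⟨q7, q7'⟩ := Ks_adj2 ha_m1
  obtain ⟨q8, q8'⟩ := Ks_adj2 hx_m1
  obtain ⟨q9, q9'⟩ := Ks_perp2 (ne_of_adj ha_m1 pay.2).symm ny_m1
  obtain ⟨q10, q10'⟩ := Ks_perp2 (ne_of_adj ha_m1 pay'.2).symm nyp_m1
  obtain ⟨q11, q11'⟩ := Ks_adj2 ha_m2
  obtain ⟨q12, q12'⟩ := Ks_adj2 hx_m2
  obtain ⟨q13, q13'⟩ := Ks_perp2 (ne_of_adj ha_m2 pay.2).symm ny_m2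
  obtain ⟨q14, q14'⟩ := Ks_perp2 (ne_of_adj ha_m2 pay'.2).symm nyp_m2
  obtain ⟨q15, q15'⟩ := Ks_adj2 ha_m3
  obtain ⟨q16, q16'⟩ := Ks_adj2 hx_m3
  obtain ⟨q17, q17'⟩ := Ks_perp2 (ne_of_adj ha_m3 pay.2).symm ny_m3
  obtain ⟨q18, q18'⟩ := Ks_perp2 (ne_of_adj ha_m3 pay'.2).symm nyp_m3
  obtain ⟨q19, q19'⟩ := Ks_adj2 ha_m4
  obtain ⟨q20, q20'⟩ := Ks_adj2 hx_m4
  obtain ⟨q21, q21'⟩ := Ks_perp2 (ne_of_adj ha_m4 pay.2).symm ny_m4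
  obtain ⟨q22, q22'⟩ := Ks_perp2 (ne_of_adj ha_m4 pay'.2).symm nyp_m4
  obtain ⟨q23, q23'⟩ := Ks_adj2 ha_c1
  obtain ⟨q24, q24'⟩ := Ks_perp2 (ne_of_adj ha_c1 pax.2).symm nx_c1
  obtain ⟨q25, q25'⟩ := Ks_adj2 hy_c1
  obtain ⟨q26, q26'⟩ := Ks_adj2 hyp_c1
  obtain ⟨q27, q27'⟩ := Ks_adj2 ha_c2
  obtain ⟨q28, q28'⟩ := Ks_perp2 (ne_of_adj ha_c2 pax.2).symm nx_c2
  obtain ⟨q29, q29'⟩ := Ks_adj2 hy_c2
  obtain ⟨q30, q30'⟩ := Ks_adj2 hyp_c2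
  obtain ⟨q31, q31'⟩ := Ks_perp2 hne_m1_m2 (hG.tri a m1 m2 ha_m1 ha_m2)
  obtain ⟨q32, q32'⟩ := Ks_perp2 hne_m1_m3 (hG.tri a m1 m3 ha_m1 ha_m3)
  obtain ⟨q33, q33'⟩ := Ks_perp2 hne_m1_m4 (hG.tri a m1 m4 ha_m1 ha_m4)
  obtain ⟨q34, q34'⟩ := Ks_perp2 (ne_of_adj hx_m1 nx_c1) (hG.tri a m1 c1 ha_m1 ha_c1)
  obtain ⟨q35, q35'⟩ := Ks_perp2 (ne_of_adj hx_m1 nx_c2) (hG.tri a m1 c2 ha_m1 ha_c2)
  obtain ⟨q36, q36'⟩ := Ks_perp2 hne_m2_m3 (hG.tri a m2 m3 ha_m2 ha_m3)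
  obtain ⟨q37, q37'⟩ := Ks_perp2 hne_m2_m4 (hG.tri a m2 m4 ha_m2 ha_m4)
  obtain ⟨q38, q38'⟩ := Ks_perp2 (ne_of_adj hx_m2 nx_c1) (hG.tri a m2 c1 ha_m2 ha_c1)
  obtain ⟨q39, q39'⟩ := Ks_perp2 (ne_of_adj hx_m2 nx_c2) (hG.tri a m2 c2 ha_m2 ha_c2)
  obtain ⟨q40, q40'⟩ := Ks_perp2 hne_m3_m4 (hG.tri a m3 m4 ha_m3 ha_m4)
  obtain ⟨q41, q41'⟩ := Ks_perp2 (ne_of_adj hx_m3 nx_c1) (hG.tri a m3 c1 ha_m3 ha_c1)
  obtain ⟨q42, q42'⟩ := Ks_perp2 (ne_of_adj hx_m3 nx_c2) (hG.tri a m3 c2 ha_m3 ha_c2)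
  obtain ⟨q43, q43'⟩ := Ks_perp2 (ne_of_adj hx_m4 nx_c1) (hG.tri a m4 c1 ha_m4 ha_c1)
  obtain ⟨q44, q44'⟩ := Ks_perp2 (ne_of_adj hx_m4 nx_c2) (hG.tri a m4 c2 ha_m4 ha_c2)
  obtain ⟨q45, q45'⟩ := Ks_perp2 hne_c1_c2 (hG.tri a c1 c2 ha_c1 ha_c2)
  simp only [Fin.sum_univ_succ, Fin.sum_univ_zero, Matrix.cons_val_zero, Matrix.cons_val_succ,
    Ks_self, q1, q1', q2, q2', q3, q3', q4, q4', q5, q5', q6, q6', q7, q7', q8, q8', q9, q9',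
    q10, q10', q11, q11', q12, q12', q13, q13', q14, q14', q15, q15', q16, q16', q17, q17', q18,
    q18', q19, q19', q20, q20', q21, q21', q22, q22', q23, q23', q24, q24', q25, q25', q26,
    q26', q27, q27', q28, q28', q29, q29', q30, q30', q31, q31', q32, q32', q33, q33', q34,
    q34', q35, q35', q36, q36', q37, q37', q38, q38', q39, q39', q40, q40', q41, q41', q42,
    q42', q43, q43', q44, q44', q45, q45'] at h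
  norm_num at h

/-- [C] collinearity with a fixed pair propagates (SPARE: the official `p3` is helper28's
`Srg77/PieceC.lean`) -/
theorem p3_spare (hG : M22Like G) (h1 : P1 G) : P3 G := by
  intro a x y y' hC1 hC2 hne
  obtain ⟨pax, pay, pxy, n1⟩ := hC1
  obtain ⟨-, pay', pxy', n2⟩ := hC2
  -- the four common neighbours of `a`, `x`
  obtain ⟨m1, m2, m3, m4, hm1, hm2, hm3, hm4, h12, h13, h14, h23, h24, h34⟩ :=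
    exists_four (hG.mu a x pax.1 pax.2)
  simp only [mem_filter, mem_univ, true_and] at hm1 hm2 hm3 hm4
  -- step 1: `y`, `y'` are not adjacent
  have hnadj : ¬ G.Adj y y' := by
    intro hadj
    exact certC1 hG pax pay pay' pxy pxy' hadj
      hm1.1 hm1.2 (n1 m1 hm1.1 hm1.2) (n2 m1 hm1.1 hm1.2)
      hm2.1 hm2.2 (n1 m2 hm2.1 hm2.2) (n2 m2 hm2.1 hm2.2)
      hm3.1 hm3.2 (n1 m3 hm3.1 hm3.2) (n2 m3 hm3.1 hm3.2)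
      hm4.1 hm4.2 (n1 m4 hm4.1 hm4.2) (n2 m4 hm4.1 hm4.2)
      h12 h13 h14 h23 h24 h34
  have pyy : Perp G y y' := ⟨hne, hnadj⟩
  refine ⟨pay, pay', pyy, ?_⟩
  -- step 2: no common neighbour of `a`, `y`, `y'`
  by_contra hcon
  set C := univ.filter (fun m => G.Adj a m ∧ G.Adj y m ∧ G.Adj y' m) with hC
  have hCle : C.card ≤ 2 := h1 a y y' pay pay' pyy
  have hCpos : 0 < C.card := by
    rw [Finset.card_pos]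
    by_contra hemp
    apply hcon
    intro m ha hy hy'
    apply hemp
    exact ⟨m, by simp only [hC, mem_filter, mem_univ, true_and]; exact ⟨ha, hy, hy'⟩⟩
  have hCmem : ∀ m, m ∈ C ↔ G.Adj a m ∧ G.Adj y m ∧ G.Adj y' m := by
    intro m
    simp only [hC, mem_filter, mem_univ, true_and]
  -- a common neighbour of `a` and `y` (or `y'`) is not adjacent to `x`
  have nxy : ∀ m, G.Adj a m → G.Adj y m → ¬ G.Adj x m := fun m ha hy hx => n1 m ha hx hy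
  have nxy' : ∀ m, G.Adj a m → G.Adj y' m → ¬ G.Adj x m := fun m ha hy hx => n2 m ha hx hy
  rcases Nat.lt_or_ge C.card 2 with hlt | hge
  · -- exactly one common neighbour
    have hC1 : C.card = 1 := by omega
    obtain ⟨c1, hc1⟩ := Finset.card_eq_one.mp hC1
    have hc1m : c1 ∈ C := by rw [hc1]; exact mem_singleton_self _
    have hc1' := (hCmem c1).mp hc1m
    -- the other three common neighbours of `a`, `y`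
    set Dy := univ.filter (fun m => G.Adj a m ∧ G.Adj y m ∧ ¬ G.Adj y' m) with hDy
    have hDycard : Dy.card = 3 := by
      have hsplit := Finset.card_filter_add_card_filter_not
        (s := univ.filter (fun c => G.Adj a c ∧ G.Adj y c)) (fun m => G.Adj y' m)
      rw [hG.mu a y pay.1 pay.2] at hsplit
      have e1 : ((univ.filter (fun c => G.Adj a c ∧ G.Adj y c)).filter (fun m => G.Adj y' m)) = C := by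
        ext m
        simp only [hC, mem_filter, mem_univ, true_and, and_assoc]
      have e2 : ((univ.filter (fun c => G.Adj a c ∧ G.Adj y c)).filter
          (fun m => ¬ G.Adj y' m)) = Dy := by
        ext m
        simp only [hDy, mem_filter, mem_univ, true_and, and_assoc]
      rw [e1, e2] at hsplit
      omega
    set Dy' := univ.filter (fun m => G.Adj a m ∧ G.Adj y' m ∧ ¬ G.Adj y m) with hDy'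
    have hDy'card : Dy'.card = 3 := by
      have hsplit := Finset.card_filter_add_card_filter_not
        (s := univ.filter (fun c => G.Adj a c ∧ G.Adj y' c)) (fun m => G.Adj y m)
      rw [hG.mu a y' pay'.1 pay'.2] at hsplit
      have e1 : ((univ.filter (fun c => G.Adj a c ∧ G.Adj y' c)).filter (fun m => G.Adj y m)) = C := by
        ext m
        simp only [hC, mem_filter, mem_univ, true_and]
        tauto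
      have e2 : ((univ.filter (fun c => G.Adj a c ∧ G.Adj y' c)).filter
          (fun m => ¬ G.Adj y m)) = Dy' := by
        ext m
        simp only [hDy', mem_filter, mem_univ, true_and, and_assoc]
      rw [e1, e2] at hsplit
      omega
    obtain ⟨d1, d2, d3, hd12, hd13, hd23, hDyeq⟩ := Finset.card_eq_three.mp hDycard
    obtain ⟨e1, e2, e3, he12, he13, he23, hDy'eq⟩ := Finset.card_eq_three.mp hDy'card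
    have hd : ∀ d, d ∈ ({d1, d2, d3} : Finset V) → G.Adj a d ∧ G.Adj y d ∧ ¬ G.Adj y' d := by
      intro d hd
      rw [← hDyeq] at hd
      simpa only [hDy, mem_filter, mem_univ, true_and] using hd
    have he : ∀ d, d ∈ ({e1, e2, e3} : Finset V) → G.Adj a d ∧ G.Adj y' d ∧ ¬ G.Adj y d := by
      intro d hd
      rw [← hDy'eq] at hd
      simpa only [hDy', mem_filter, mem_univ, true_and] using hd
    have hd1 := hd d1 (by simp)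
    have hd2 := hd d2 (by simp)
    have hd3 := hd d3 (by simp)
    have he1 := he e1 (by simp)
    have he2 := he e2 (by simp)
    have he3 := he e3 (by simp)
    exact certC2 hG pax pay pay' pxy pxy' pyy
      hm1.1 hm1.2 (n1 m1 hm1.1 hm1.2) (n2 m1 hm1.1 hm1.2)
      hm2.1 hm2.2 (n1 m2 hm2.1 hm2.2) (n2 m2 hm2.1 hm2.2)
      hm3.1 hm3.2 (n1 m3 hm3.1 hm3.2) (n2 m3 hm3.1 hm3.2)
      hm4.1 hm4.2 (n1 m4 hm4.1 hm4.2) (n2 m4 hm4.1 hm4.2)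
      hc1'.1 (nxy c1 hc1'.1 hc1'.2.1) hc1'.2.1 hc1'.2.2
      hd1.1 (nxy d1 hd1.1 hd1.2.1) hd1.2.1 hd1.2.2
      hd2.1 (nxy d2 hd2.1 hd2.2.1) hd2.2.1 hd2.2.2
      hd3.1 (nxy d3 hd3.1 hd3.2.1) hd3.2.1 hd3.2.2
      he1.1 (nxy' e1 he1.1 he1.2.1) he1.2.2 he1.2.1
      he2.1 (nxy' e2 he2.1 he2.2.1) he2.2.2 he2.2.1
      he3.1 (nxy' e3 he3.1 he3.2.1) he3.2.2 he3.2.1
      h12 h13 h14 h23 h24 h34 hd12 hd13 hd23 he12 he13 he23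
  · -- exactly two common neighbours
    have hC2 : C.card = 2 := by omega
    obtain ⟨c1, c2, hc12, hceq⟩ := Finset.card_eq_two.mp hC2
    have hc1' := (hCmem c1).mp (by rw [hceq]; simp)
    have hc2' := (hCmem c2).mp (by rw [hceq]; simp)
    exact certC3 hG pax pay pay' pxy pxy' pyy
      hm1.1 hm1.2 (n1 m1 hm1.1 hm1.2) (n2 m1 hm1.1 hm1.2)
      hm2.1 hm2.2 (n1 m2 hm2.1 hm2.2) (n2 m2 hm2.1 hm2.2)
      hm3.1 hm3.2 (n1 m3 hm3.1 hm3.2) (n2 m3 hm3.1 hm3.2)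
      hm4.1 hm4.2 (n1 m4 hm4.1 hm4.2) (n2 m4 hm4.1 hm4.2)
      hc1'.1 (nxy c1 hc1'.1 hc1'.2.1) hc1'.2.1 hc1'.2.2
      hc2'.1 (nxy c2 hc2'.1 hc2'.2.1) hc2'.2.1 hc2'.2.2
      h12 h13 h14 h23 h24 h34 hc12

end Helper19

end Cfsg.Agent.Lib.Helper28.Srg77
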