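import Cfsg.Agent.Lib.Helper19.StBruhatA
set_option autoImplicit false

/-!
# Type-A Steinberg groups: Bruhat decomposition `G = U W̃ U` (part B: the main argument)
-/

namespace Cfsg.Agent.Lib.Helper19.StBruhat

open Cfsg.Agent.Lib.Helper2.StA
open Cfsg.Agent.Lib.Helper2.StA.StRep

variable {n : ℕ} {K : Type*} [Field K] {G : Type*} [Group G] (S : StRep n K G)

theorem inB_one : InB S (1 : G) :=
  ⟨1, S.U.one_mem, 1, S.Wtil.one_mem, 1, S.U.one_mem, by simp⟩

theorem inB_mul_left {u0 a : G} (hu0 : u0 ∈ S.U) (ha : InB S a) : InB S (u0 * a) := by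
  obtain ⟨u, hu, w, hw, u', hu', rfl⟩ := ha
  exact ⟨u0 * u, S.U.mul_mem hu0 hu, w, hw, u', hu', by group⟩

theorem inB_mul_right {u0 a : G} (hu0 : u0 ∈ S.U) (ha : InB S a) : InB S (a * u0) := by
  obtain ⟨u, hu, w, hw, u', hu', rfl⟩ := ha
  exact ⟨u, hu, w, hw, u' * u0, S.U.mul_mem hu' hu0, by group⟩

theorem inB_of_mem_Wtil {w : G} (hw : w ∈ S.Wtil) : InB S w :=
  ⟨1, S.U.one_mem, w, hw, 1, S.U.one_mem, by simp⟩

/-- `x_{qp}(t) w' ∈ U W̃ U` for `w' ∈ W̃` -/
theorem lower_mul_Wtil (hn : 3 ≤ n) {p q : Fin n} (hpq : q.val = p.val + 1) (t : K) {w' : G}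
    (hw' : w' ∈ S.Wtil) : InB S (S.x q p t * w') := by
  have hpq' : p ≠ q := adj_ne hpq
  have hlt : p < q := by show p.val < q.val; omega
  obtain ⟨σ, e, hσ⟩ := S.exists_monAct_of_mem_Wtil hn (S.Wtil.inv_mem hw')
  -- moving a root element to the right of `w'`
  have move : ∀ k l : Fin n, k ≠ l → ∀ c : K,
      S.x k l c * w' = w' * S.x (σ k) (σ l) (((e k / e l : Kˣ) : K) * c) := by
    intro k l hkl c
    rw [← hσ k l hkl c]
    unfold cj
    group
  have hab : σ q ≠ σ p := fun h => hpq' (σ.injective h).symm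
  rcases lt_or_gt_of_ne hab with hlt' | hgt'
  · rw [move q p hpq'.symm t]
    exact inB_mul_right S (S.x_mem_U hlt' _) (inB_of_mem_Wtil S hw')
  · by_cases ht : t = 0
    · rw [ht, S.x_zero hpq'.symm, one_mul]
      exact inB_of_mem_Wtil S hw'
    · set τ : Kˣ := Units.mk0 t ht with hτ
      have hτt : (τ : K) = t := rfl
      -- `x_{qp}(τ) = x_{pq}(τ⁻¹) w_{pq}(-τ⁻¹) x_{pq}(τ⁻¹)`
      have e1 : S.x q p t = S.x p q ((τ⁻¹ : Kˣ) : K) * S.w p q (-τ⁻¹) * S.x p q ((τ⁻¹ : Kˣ) : K) := by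
        rw [S.w_def p q (-τ⁻¹)]
        have h1 : -((((-τ⁻¹)⁻¹ : Kˣ)) : K) = t := by
          rw [inv_neg, inv_inv, Units.val_neg, neg_neg]
          exact hτt
        have h2 : (((-τ⁻¹ : Kˣ)) : K) = -((τ⁻¹ : Kˣ) : K) := by
          rw [Units.val_neg]
        rw [h1, h2, S.x_neg hpq']
        group
      rw [e1, mul_assoc, move p q hpq' _]
      have : S.x p q ((τ⁻¹ : Kˣ) : K) * S.w p q (-τ⁻¹) *
          (w' * S.x (σ p) (σ q) (((e p / e q : Kˣ) : K) * ((τ⁻¹ : Kˣ) : K))) =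
          S.x p q ((τ⁻¹ : Kˣ) : K) * (S.w p q (-τ⁻¹) * w') *
            S.x (σ p) (σ q) (((e p / e q : Kˣ) : K) * ((τ⁻¹ : Kˣ) : K)) := by group
      rw [this]
      exact ⟨_, S.x_mem_U hlt _, _, S.Wtil.mul_mem (S.w_mem_Wtil hpq' _) hw', _,
        S.x_mem_U hgt' _, rfl⟩

/-- `U W̃ U` is stable under left multiplication by `w_{pq}(β)` (adjacent `p, q`) -/
theorem w_mul_inB (hn : 3 ≤ n) {p q : Fin n} (hpq : q.val = p.val + 1) (β : Kˣ) {a : G}
    (ha : InB S a) : InB S (S.w p q β * a) := by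
  have hpq' : p ≠ q := adj_ne hpq
  obtain ⟨u, hu, w, hw, u', hu', rfl⟩ := ha
  obtain ⟨t, u1, hu1, rfl⟩ := U_decomp S hpq hu
  have hcj := S.monAct_w hn hpq' β p q hpq' t
  rw [Equiv.swap_apply_left, Equiv.swap_apply_right] at hcj
  set t' : K := ((dw p q β p / dw p q β q : Kˣ) : K) * t with ht'
  set s : G := S.w p q β with hs
  have hv : cj (S.x q p t') (cj s u1) ∈ S.U :=
    Uk_le_U S p q (cj_lower_mem_Uk S hpq _ (cj_w_mem_Uk S hn hpq β hu1))
  have key : s * (S.x p q t * u1 * w * u') =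
      cj (S.x q p t') (cj s u1) * (S.x q p t' * (s * w)) * u' := by
    rw [← hcj]
    unfold cj
    group
  rw [key]
  exact inB_mul_right S hu' (inB_mul_left S hv
    (lower_mul_Wtil S hn hpq t' (S.Wtil.mul_mem (S.w_mem_Wtil hpq' β) hw)))

/-- the stabilizer of `U W̃ U` under left multiplication -/
def stab : Subgroup G where
  carrier := {g | ∀ a, InB S a → InB S (g * a) ∧ InB S (g⁻¹ * a)}
  mul_mem' := by
    intro g h hg hh a ha
    refine ⟨?_, ?_⟩
    · rw [mul_assoc]; exact (hg _ (hh a ha).1).1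
    · rw [mul_inv_rev, mul_assoc]; exact (hh _ (hg a ha).2).2
  one_mem' := by
    intro a ha
    simp [ha]
  inv_mem' := by
    intro g hg a ha
    refine ⟨(hg a ha).2, ?_⟩
    rw [inv_inv]; exact (hg a ha).1

theorem U_le_stab : S.U ≤ stab S := by
  intro u hu a ha
  exact ⟨inB_mul_left S hu ha, inB_mul_left S (S.U.inv_mem hu) ha⟩

theorem w_mem_stab (hn : 3 ≤ n) {p q : Fin n} (hpq : q.val = p.val + 1) (β : Kˣ) :
    S.w p q β ∈ stab S := by
  intro a ha
  refine ⟨w_mul_inB S hn hpq β ha, ?_⟩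
  rw [S.w_inv (adj_ne hpq)]
  exact w_mul_inB S hn hpq (-β) ha

theorem lower_adj_mem_stab (hn : 3 ≤ n) {p q : Fin n} (hpq : q.val = p.val + 1) (t : K) :
    S.x q p t ∈ stab S := by
  have hpq' : p ≠ q := adj_ne hpq
  have hlt : p < q := by show p.val < q.val; omega
  have hcj := S.monAct_w hn hpq' 1 p q hpq'
    ((((dw p q (1 : Kˣ) p / dw p q (1 : Kˣ) q : Kˣ)⁻¹ : Kˣ) : K) * t)
  rw [Equiv.swap_apply_left, Equiv.swap_apply_right, ← mul_assoc, ← Units.val_mul,
    mul_inv_cancel, Units.val_one, one_mul] at hcj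
  rw [← hcj]
  unfold cj
  exact (stab S).mul_mem ((stab S).mul_mem (w_mem_stab S hn hpq 1) (U_le_stab S (S.x_mem_U hlt _)))
    ((stab S).inv_mem (w_mem_stab S hn hpq 1))

theorem lower_mem_stab (hn : 3 ≤ n) : ∀ d : ℕ, ∀ i j : Fin n, j.val = i.val + d + 1 → ∀ t : K,
    S.x j i t ∈ stab S := by
  intro d
  induction d with
  | zero =>
    intro i j hij t
    exact lower_adj_mem_stab S hn (by omega) t
  | succ d ih =>
    intro i j hij t
    have hm : i.val + 1 < n := by have := j.isLt; omega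
    set m : Fin n := ⟨i.val + 1, hm⟩ with hmdef
    have hmv : m.val = i.val + 1 := rfl
    have hjm : j ≠ m := by intro h; rw [h] at hij; omega
    have hmi : m ≠ i := by intro h; rw [h] at hmv; omega
    have hji : j ≠ i := by intro h; rw [h] at hij; omega
    have e := S.comm3 hjm hmi hji t 1
    rw [mul_one] at e
    rw [e]
    have h1 : S.x j m t ∈ stab S := ih m j (by omega) t
    have h2 : S.x m i 1 ∈ stab S := lower_adj_mem_stab S hn hmv 1
    exact (stab S).mul_mem ((stab S).mul_mem ((stab S).mul_mem h1 h2) ((stab S).inv_mem h1))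
      ((stab S).inv_mem h2)

theorem stab_eq_top (hn : 3 ≤ n) : stab S = ⊤ := by
  rw [eq_top_iff, ← S.gen, Subgroup.closure_le]
  rintro g ⟨i, j, t, hij, rfl⟩
  rcases lt_or_gt_of_ne hij with h | h
  · exact U_le_stab S (S.x_mem_U h t)
  · have h' : j.val < i.val := h
    exact lower_mem_stab S hn (i.val - j.val - 1) j i (by omega) t

/-- **Bruhat decomposition** `G = U W̃ U` in a type-A Steinberg group. -/
theorem bruhat {n : ℕ} {K : Type*} [Field K] {G : Type*} [Group G] (S : StRep n K G) (hn : 3 ≤ n)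
    (g : G) : ∃ u ∈ S.U, ∃ w ∈ S.Wtil, ∃ u' ∈ S.U, g = u * w * u' := by
  have hg : g ∈ stab S := by rw [stab_eq_top S hn]; trivial
  have := (hg 1 (inB_one S)).1
  rw [mul_one] at this
  exact this

end Cfsg.Agent.Lib.Helper19.StBruhat
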