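import Cfsg.Agent.Lib.Helper2.StA4
set_option autoImplicit false

/-!
# Type-A Steinberg groups: Bruhat decomposition `G = U W̃ U` (part A: the subgroup `U_k`)
-/

namespace Cfsg.Agent.Lib.Helper19.StBruhat

open Cfsg.Agent.Lib.Helper2.StA
open Cfsg.Agent.Lib.Helper2.StA.StRep

variable {n : ℕ} {K : Type*} [Field K] {G : Type*} [Group G] (S : StRep n K G)

/-- the union of the double cosets `U w U`, `w ∈ W̃` -/
def InB (g : G) : Prop := ∃ u ∈ S.U, ∃ w ∈ S.Wtil, ∃ u' ∈ S.U, g = u * w * u'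

/-- the subgroup generated by the positive root elements other than those of `(p,q)` -/
def Uk (p q : Fin n) : Subgroup G :=
  Subgroup.closure {g : G | ∃ i j t, i < j ∧ (i ≠ p ∨ j ≠ q) ∧ g = S.x i j t}

theorem Uk_le_U (p q : Fin n) : Uk S p q ≤ S.U := by
  unfold Uk
  rw [Subgroup.closure_le]
  rintro g ⟨i, j, t, hij, _, rfl⟩
  exact S.x_mem_U hij t

theorem x_mem_Uk {p q i j : Fin n} (hij : i < j) (h : i ≠ p ∨ j ≠ q) (t : K) :
    S.x i j t ∈ Uk S p q :=
  Subgroup.subset_closure ⟨i, j, t, hij, h, rfl⟩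

omit S in
theorem cj_mem_closure {A : Set G} {H : Subgroup G} (g : G) (h : ∀ y ∈ A, cj g y ∈ H) {y : G}
    (hy : y ∈ Subgroup.closure A) : cj g y ∈ H := by
  induction hy using Subgroup.closure_induction with
  | mem y hy => exact h y hy
  | one => rw [cj_one]; exact H.one_mem
  | mul a b _ _ ha hb => rw [cj_mul]; exact H.mul_mem ha hb
  | inv a _ ha => rw [cj_inv]; exact H.inv_mem ha

omit S in
theorem adj_ne {p q : Fin n} (hpq : q.val = p.val + 1) : p ≠ q := by
  intro h; rw [h] at hpq; omega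

/-- `X_{pq}` normalizes `U_k` -/
theorem cj_upper_mem_Uk {p q : Fin n} (hpq : q.val = p.val + 1) (u : K) {y : G}
    (hy : y ∈ Uk S p q) : cj (S.x p q u) y ∈ Uk S p q := by
  have hpq' : p ≠ q := adj_ne hpq
  refine cj_mem_closure (S.x p q u) ?_ hy
  rintro y ⟨i, j, t, hij, hne, rfl⟩
  have hij' : i.val < j.val := hij
  by_cases hjp : j = p
  · subst hjp
    have hiq : i ≠ q := by intro h; rw [h] at hij'; omega
    rw [S.cj_x_left hpq' (ne_of_lt hij) hiq]
    refine (Uk S j q).mul_mem (x_mem_Uk S hij hne _) (x_mem_Uk S ?_ (Or.inl (ne_of_lt hij)) _)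
    show i.val < q.val
    omega
  · by_cases hiq : i = q
    · subst hiq
      have hpj : p ≠ j := by intro h; rw [← h] at hij'; omega
      rw [S.cj_x_right hpq' (ne_of_lt hij) hpj]
      refine (Uk S p i).mul_mem (x_mem_Uk S ?_ (Or.inr (ne_of_gt hij)) _) (x_mem_Uk S hij hne _)
      show p.val < j.val
      omega
    · rw [S.cj_x_comm hpq' (ne_of_lt hij) (Ne.symm hjp) (Ne.symm hiq)]
      exact x_mem_Uk S hij hne _

/-- `X_{qp}` normalizes `U_k` -/
theorem cj_lower_mem_Uk {p q : Fin n} (hpq : q.val = p.val + 1) (u : K) {y : G}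
    (hy : y ∈ Uk S p q) : cj (S.x q p u) y ∈ Uk S p q := by
  have hpq' : p ≠ q := adj_ne hpq
  refine cj_mem_closure (S.x q p u) ?_ hy
  rintro y ⟨i, j, t, hij, hne, rfl⟩
  have hij' : i.val < j.val := hij
  by_cases hip : i = p
  · subst hip
    have hjq : j ≠ q := by
      rcases hne with h | h
      · exact absurd rfl h
      · exact h
    have hjq' : j.val ≠ q.val := fun h => hjq (Fin.ext h)
    rw [S.cj_x_right hpq'.symm (ne_of_lt hij) (Ne.symm hjq)]
    refine (Uk S i q).mul_mem (x_mem_Uk S ?_ (Or.inl hpq'.symm) _) (x_mem_Uk S hij hne _)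
    show q.val < j.val
    omega
  · by_cases hjq : j = q
    · subst hjq
      have hip' : i.val ≠ p.val := fun h => hip (Fin.ext h)
      rw [S.cj_x_left hpq'.symm (ne_of_lt hij) hip]
      refine (Uk S p j).mul_mem (x_mem_Uk S hij hne _) (x_mem_Uk S ?_ (Or.inl hip) _)
      show i.val < p.val
      omega
    · rw [S.cj_x_comm hpq'.symm (ne_of_lt hij) (Ne.symm hjq) (Ne.symm hip)]
      exact x_mem_Uk S hij hne _

omit S in
theorem swap_adj_lt {p q i j : Fin n} (hpq : q.val = p.val + 1) (hij : i < j)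
    (hne : i ≠ p ∨ j ≠ q) :
    Equiv.swap p q i < Equiv.swap p q j ∧ (Equiv.swap p q i ≠ p ∨ Equiv.swap p q j ≠ q) := by
  have hij' : i.val < j.val := hij
  have hne' : i.val ≠ p.val ∨ j.val ≠ q.val := by
    rcases hne with h | h
    · exact Or.inl (fun h' => h (Fin.ext h'))
    · exact Or.inr (fun h' => h (Fin.ext h'))
  simp only [Equiv.swap_apply_def, Fin.lt_def, Ne, Fin.ext_iff]
  split_ifs <;> omega

/-- `w_{pq}(β)` normalizes `U_k` -/
theorem cj_w_mem_Uk (hn : 3 ≤ n) {p q : Fin n} (hpq : q.val = p.val + 1) (β : Kˣ) {y : G}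
    (hy : y ∈ Uk S p q) : cj (S.w p q β) y ∈ Uk S p q := by
  have hpq' : p ≠ q := adj_ne hpq
  refine cj_mem_closure (S.w p q β) ?_ hy
  rintro y ⟨i, j, t, hij, hne, rfl⟩
  rw [S.monAct_w hn hpq' β i j (ne_of_lt hij) t]
  obtain ⟨h1, h2⟩ := swap_adj_lt hpq hij hne
  exact x_mem_Uk S h1 h2 _

/-- `U = X_{pq} U_k` -/
theorem U_decomp {p q : Fin n} (hpq : q.val = p.val + 1) {u : G} (hu : u ∈ S.U) :
    ∃ t : K, ∃ u1 ∈ Uk S p q, u = S.x p q t * u1 := by
  have hpq' : p ≠ q := adj_ne hpq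
  have hlt : p < q := by show p.val < q.val; omega
  have step : ∀ i j : Fin n, i < j → ∀ c t : K, ∀ u1 ∈ Uk S p q,
      ∃ t' : K, ∃ u1' ∈ Uk S p q, S.x i j c * (S.x p q t * u1) = S.x p q t' * u1' := by
    intro i j hij c t u1 hu1
    by_cases h : i = p ∧ j = q
    · obtain ⟨rfl, rfl⟩ := h
      exact ⟨c + t, u1, hu1, by rw [← mul_assoc, S.x_add i j hpq']⟩
    · have hne : i ≠ p ∨ j ≠ q := by
        by_contra hcon
        push Not at hcon
        exact h hcon
      refine ⟨t, cj (S.x p q (-t)) (S.x i j c) * u1,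
        (Uk S p q).mul_mem (cj_upper_mem_Uk S hpq _ (x_mem_Uk S hij hne c)) hu1, ?_⟩
      unfold cj
      rw [S.x_neg hpq']
      group
  unfold U at hu
  induction hu using Subgroup.closure_induction_left with
  | one => exact ⟨0, 1, (Uk S p q).one_mem, by rw [S.x_zero hpq', mul_one]⟩
  | mul_left y hy z _ hz =>
    obtain ⟨i, j, c, hij, rfl⟩ := hy
    obtain ⟨t, u1, hu1, rfl⟩ := hz
    exact step i j hij c t u1 hu1
  | inv_mul_cancel y hy z _ hz =>
    obtain ⟨i, j, c, hij, rfl⟩ := hy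
    obtain ⟨t, u1, hu1, rfl⟩ := hz
    rw [S.x_inv (ne_of_lt hij)]
    exact step i j hij (-c) t u1 hu1

end Cfsg.Agent.Lib.Helper19.StBruhat
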