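import Cfsg.Agent.Lib.Helper22.SuzOExclDefs
import Cfsg.Agent.Lib.Helper17.SuzOP4

/-!
# S2074-F5 (helper22's Out(Suz) front): elements of order 4 in the centraliser of `D`  (helper19)

`cd_unique`: if the base of the chain is `b0` (fixed by `D`) followed by `D^k b1` (`k < m`), and the
Boolean check `cdPt` holds for all candidate pairs of images `(x0, x1)` of `(b0, b1)`, then the only
elements `z` of the group commuting with `D` with `z^4 = 1 ≠ z^2` are `Y` and `Y⁻¹`.
-/

set_option autoImplicit false

namespace Cfsg.Agent.Lib.Helper22.SuzOut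

open Cfsg.Agent.Lib.Helper28.BSGS

namespace Helper19

theorem evalW_append (w : ℕ) (ws ws' : List ℕ) (a : ℕ) :
    evalW w (ws ++ ws') a = evalW w ws (evalW w ws' a) := by
  unfold evalW
  rw [List.foldr_append]

theorem actsByW_append {n w : ℕ} {g h : Equiv.Perm (Fin n)} {ws ws' : List ℕ}
    (hg : ActsByW n w g ws) (hh : ActsByW n w h ws') : ActsByW n w (g * h) (ws ++ ws') := by
  intro a
  show (g (h a)).val = evalW w (ws ++ ws') a.val
  rw [evalW_append, hg, hh]

theorem wordId_of_eq_one {n w : ℕ} [NeZero n] {g : Equiv.Perm (Fin n)} {ws : List ℕ}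
    (hg : ActsByW n w g ws) (h1 : g = 1) : wordId n w ws = true := by
  unfold wordId
  rw [List.all_eq_true]
  intro a ha
  have ha' : a < n := List.mem_range.mp ha
  have := hg (pt n a)
  rw [h1, Equiv.Perm.one_apply, pt_val n ha'] at this
  exact beq_iff_eq.mpr this.symm

/-- the point `D^k x` in table form -/
theorem pow_pt {n w : ℕ} [NeZero n] {t ti : ℕ} (hD : pairOK n w t ti = true) (k : ℕ) (x : Fin n) :
    pt n (evalW w (List.replicate k t) x.val) = (permOf n w t ti ^ k) x := by
  have h := actsByW_pow n w (g := permOf n w t ti) (t := t) (permOf_apply hD) k x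
  rw [← h, pt_of_val]

theorem comm_pow_apply {n : ℕ} {z D : Equiv.Perm (Fin n)} (hzD : z * D = D * z) (k : ℕ) (x : Fin n) :
    z ((D ^ k) x) = (D ^ k) (z x) := by
  have hc : Commute z D := hzD
  have := (hc.pow_right k).eq
  have h2 := congrArg (fun f : Equiv.Perm (Fin n) => f x) this
  simpa [Equiv.Perm.mul_apply] using h2

/-- the images of the base points `D^k b1` under an element commuting with `D` -/
theorem forall₂_of_comm {n w : ℕ} [NeZero n] {t ti : ℕ} (hD : pairOK n w t ti = true)
    (z : Equiv.Perm (Fin n)) (hzD : z * permOf n w t ti = permOf n w t ti * z) (b1 : ℕ) (hb1 : b1 < n) :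
    ∀ (rest : List CLevel) (ks : List ℕ), rest.map (fun lv => lv.1) = powImgs w t ks b1 →
      List.Forall₂ (fun (lv : CLevel) (y : ℕ) => (z (pt n lv.1)).val = y) rest
        (powImgs w t ks (z (pt n b1)).val) := by
  intro rest
  induction rest with
  | nil =>
    intro ks h
    cases ks with
    | nil => exact List.Forall₂.nil
    | cons k ks => simp [powImgs] at h
  | cons lv rest ih =>
    intro ks h
    cases ks with
    | nil => simp [powImgs] at h
    | cons k ks =>
      unfold powImgs at h ⊢
      rw [List.map_cons, List.map_cons, List.cons.injEq] at h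
      rw [List.map_cons]
      refine List.Forall₂.cons ?_ (ih ks h.2)
      rw [h.1]
      have h1 : pt n (evalW w (List.replicate k t) b1) = (permOf n w t ti ^ k) (pt n b1) := by
        have := pow_pt hD k (pt n b1)
        rwa [pt_val n hb1] at this
      rw [h1, comm_pow_apply hzD k]
      exact actsByW_pow n w (permOf_apply hD) k (z (pt n b1))

/-- two elements commuting with `D` that agree on `b1` agree on all base points `D^k b1` -/
theorem agree_of_comm {n w : ℕ} [NeZero n] {t ti : ℕ} (hD : pairOK n w t ti = true)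
    (z y : Equiv.Perm (Fin n)) (hzD : z * permOf n w t ti = permOf n w t ti * z)
    (hyD : y * permOf n w t ti = permOf n w t ti * y) (b1 : ℕ) (hb1 : b1 < n)
    (h1 : z (pt n b1) = y (pt n b1)) (rest : List CLevel) (ks : List ℕ)
    (hbase : rest.map (fun lv => lv.1) = powImgs w t ks b1) :
    ∀ lv ∈ rest, z (pt n lv.1) = y (pt n lv.1) := by
  intro lv hlv
  have hm : lv.1 ∈ rest.map (fun lv => lv.1) := List.mem_map.mpr ⟨lv, hlv, rfl⟩
  rw [hbase] at hm
  unfold powImgs at hm
  obtain ⟨k, _, hk⟩ := List.mem_map.mp hm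
  have h2 : pt n lv.1 = (permOf n w t ti ^ k) (pt n b1) := by
    have := pow_pt hD k (pt n b1)
    rw [pt_val n hb1] at this
    rw [← hk]
    exact this
  rw [h2, comm_pow_apply hzD k, comm_pow_apply hyD k, h1]

end Helper19

open Helper19 in
/-- [F5] elements of order 4 in the centraliser of `D`.  `b0` is fixed by `D`, the base points of
`rest` are `D^k b1` (k < m). -/
theorem cd_unique (n w : ℕ) [NeZero n] (gens : List (ℕ × ℕ)) (b0 : ℕ) (tr : List Entry)
    (rest : List CLevel) (hwf : LevelsWF n w ((b0, tr) :: rest))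
    (hcomp : ∀ z ∈ genGroup n w gens, Sifts (semLevels n w gens ((b0, tr) :: rest)) z)
    (tD tY : ℕ × ℕ) (hD : pairOK n w tD.1 tD.2 = true) (hY : pairOK n w tY.1 tY.2 = true)
    (hYm : permOf n w tY.1 tY.2 ∈ genGroup n w gens)
    (hYD : permOf n w tY.1 tY.2 * permOf n w tD.1 tD.2 =
      permOf n w tD.1 tD.2 * permOf n w tY.1 tY.2)
    (hb0 : look w tD.1 b0 = b0) (b1 m : ℕ) (hb1 : b1 < n)
    (hbase : rest.map (fun lv => lv.1) = powImgs w tD.1 (List.range m) b1)
    (hcd : ∀ e0 ∈ tr, look w tD.1 e0.1 = e0.1 → ∀ x1, x1 < n →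
      cdPt n w rest tD.1 m (fun x0 x1 => (x0 == look w tY.1 b0 && x1 == look w tY.1 b1) ||
        (x0 == look w tY.2 b0 && x1 == look w tY.2 b1)) e0 x1 = true) :
    ∀ z ∈ genGroup n w gens, z * permOf n w tD.1 tD.2 = permOf n w tD.1 tD.2 * z →
      z ^ 4 = 1 → z ^ 2 ≠ 1 → z = permOf n w tY.1 tY.2 ∨ z = (permOf n w tY.1 tY.2)⁻¹ := by
  intro z hz hzD hz4 hz2
  have hb0n : b0 < n := (hwf (b0, tr) List.mem_cons_self).1
  have hs := hcomp z hz
  -- the base images of `z`
  have himg : List.Forall₂ (fun (lv : CLevel) (y : ℕ) => (z (pt n lv.1)).val = y) ((b0, tr) :: rest)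
      ((z (pt n b0)).val :: powImgs w tD.1 (List.range m) (z (pt n b1)).val) :=
    List.Forall₂.cons rfl (forall₂_of_comm hD z hzD b1 hb1 rest (List.range m) hbase)
  obtain ⟨ws, hws, hact⟩ := imgSift_sound' n w gens ((b0, tr) :: rest) hwf z hs _ himg
  -- unfold the first step of the sift
  have hws' : (match findE tr (z (pt n b0)).val with
      | none => none
      | some e => imgSift w rest (powImgs w tD.1 (List.range m) (z (pt n b1)).val) [e.2.2]) = some ws :=
    hws
  cases hf : findE tr (z (pt n b0)).val with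
  | none => rw [hf] at hws'; exact absurd hws' (by simp)
  | some e =>
    rw [hf] at hws'
    have hws'' : imgSift w rest (powImgs w tD.1 (List.range m) (z (pt n b1)).val) [e.2.2] = some ws :=
      hws'
    obtain ⟨he, he1⟩ := findE_some hf
    -- the image of `b0` is fixed by `D`
    have hDb0 : permOf n w tD.1 tD.2 (pt n b0) = pt n b0 := by
      apply Fin.ext
      rw [permOf_apply hD, pt_val n hb0n, hb0]
    have hfix : look w tD.1 e.1 = e.1 := by
      rw [he1, ← permOf_apply hD]
      have h1 : permOf n w tD.1 tD.2 (z (pt n b0)) = z (pt n b0) := by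
        have := comm_pow_apply hzD 1 (pt n b0)
        rw [pow_one, hDb0] at this
        exact this.symm
      rw [h1]
    have hc := hcd e he hfix (z (pt n b1)).val (z (pt n b1)).isLt
    unfold cdPt at hc
    rw [hws''] at hc
    rw [Bool.or_eq_true] at hc
    rcases hc with hex | hw
    · -- the exceptional pairs
      rw [Bool.or_eq_true] at hex
      rcases hex with hex | hex
      · left
        rw [Bool.and_eq_true, beq_iff_eq, beq_iff_eq] at hex
        obtain ⟨h0, h1⟩ := hex
        have hy0 : z (pt n b0) = permOf n w tY.1 tY.2 (pt n b0) := by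
          apply Fin.ext
          rw [permOf_apply hY, pt_val n hb0n, ← he1, h0]
        have hy1 : z (pt n b1) = permOf n w tY.1 tY.2 (pt n b1) := by
          apply Fin.ext
          rw [permOf_apply hY, pt_val n hb1, h1]
        apply eq_of_base_eq' n w gens ((b0, tr) :: rest) hwf z _ hs (hcomp _ hYm)
        intro lv hlv
        rcases List.mem_cons.mp hlv with rfl | hlv'
        · exact hy0
        · exact agree_of_comm hD z _ hzD hYD b1 hb1 hy1 rest (List.range m) hbase lv hlv'
      · right
        rw [Bool.and_eq_true, beq_iff_eq, beq_iff_eq] at hex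
        obtain ⟨h0, h1⟩ := hex
        have hy0 : z (pt n b0) = (permOf n w tY.1 tY.2)⁻¹ (pt n b0) := by
          apply Fin.ext
          rw [permOf_inv_apply hY, pt_val n hb0n, ← he1, h0]
        have hy1 : z (pt n b1) = (permOf n w tY.1 tY.2)⁻¹ (pt n b1) := by
          apply Fin.ext
          rw [permOf_inv_apply hY, pt_val n hb1, h1]
        have hYiD : (permOf n w tY.1 tY.2)⁻¹ * permOf n w tD.1 tD.2 =
            permOf n w tD.1 tD.2 * (permOf n w tY.1 tY.2)⁻¹ := by
          have hc : Commute (permOf n w tY.1 tY.2) (permOf n w tD.1 tD.2) := hYD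
          exact hc.inv_left.eq
        apply eq_of_base_eq' n w gens ((b0, tr) :: rest) hwf z _ hs
          (hcomp _ (Subgroup.inv_mem _ hYm))
        intro lv hlv
        rcases List.mem_cons.mp hlv with rfl | hlv'
        · exact hy0
        · exact agree_of_comm hD z _ hzD hYiD b1 hb1 hy1 rest (List.range m) hbase lv hlv'
    · -- the order conditions
      exfalso
      have hw' : (wordId n w (ws ++ ws) || !(wordId n w (ws ++ ws ++ ws ++ ws))) = true := hw
      rw [Bool.or_eq_true] at hw'
      rcases hw' with h2 | h4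
      · have hact2 : ActsByW n w (z⁻¹ * z⁻¹) (ws ++ ws) := actsByW_append hact hact
        have := eq_one_of_wordId n w hact2 h2
        apply hz2
        have h3 : (z * z)⁻¹ = 1 := by rw [mul_inv_rev]; exact this
        rw [pow_two]
        exact inv_eq_one.mp h3
      · have hact4 : ActsByW n w (z⁻¹ * z⁻¹ * z⁻¹ * z⁻¹) (ws ++ ws ++ ws ++ ws) :=
          actsByW_append (actsByW_append (actsByW_append hact hact) hact) hact
        have h1 : z⁻¹ * z⁻¹ * z⁻¹ * z⁻¹ = 1 := by
          have : z⁻¹ * z⁻¹ * z⁻¹ * z⁻¹ = (z ^ 4)⁻¹ := by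
            rw [← inv_pow]; simp only [pow_succ, pow_zero, one_mul]
          rw [this, hz4, inv_one]
        have := wordId_of_eq_one hact4 h1
        rw [this] at h4
        simp at h4

end Cfsg.Agent.Lib.Helper22.SuzOut
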