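import Mathlib

/-!
# Sylow numbers under quotients (helper19, for S3641)

General lemmas relating the number of Sylow `p`-subgroups of `G` and of a homomorphic image.
-/

set_option autoImplicit false

namespace Cfsg.Agent.Lib.Helper19.SylNum

open Subgroup

variable {G : Type*} [Group G]

/-- If `N` is normal then `N_G(P) ≤ N_G(P ⊔ N)`. -/
theorem normalizer_le_normalizer_sup (P N : Subgroup G) [N.Normal] :
    normalizer (P : Set G) ≤ normalizer ((P ⊔ N : Subgroup G) : Set G) := by
  intro g hg
  rw [mem_normalizer_iff_map_conj_eq] at hg ⊢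
  rw [Subgroup.map_sup, hg, Normal.map_conj_eq]

variable [Finite G]

/-- Sylow count under a surjective hom:
`n_p(G) = n_p(G') * [N_G(P ⊔ ker f) : N_G(P)]`. -/
theorem card_sylow_eq_mul {G' : Type*} [Group G'] {f : G →* G'} (hf : Function.Surjective f)
    (p : ℕ) [Fact p.Prime] (P : Sylow p G) :
    Nat.card (Sylow p G) = Nat.card (Sylow p G') *
      (normalizer ((P : Subgroup G) : Set G)).relIndex
        (normalizer (((P : Subgroup G) ⊔ f.ker : Subgroup G) : Set G)) := by
  have : Finite G' := Finite.of_surjective f hf
  rw [Sylow.card_eq_index_normalizer P, Sylow.card_eq_index_normalizer (P.mapSurjective hf)]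
  change (normalizer ((P : Subgroup G) : Set G)).index =
    (normalizer (((P.mapSurjective hf : Sylow p G') : Subgroup G') : Set G')).index * _
  have h1 : (normalizer (((P.mapSurjective hf : Sylow p G') : Subgroup G') : Set G')).index
      = (normalizer (((P : Subgroup G) ⊔ f.ker : Subgroup G) : Set G)).index := by
    rw [← Subgroup.index_comap_of_surjective _ hf, Subgroup.comap_normalizer_eq_of_surjective _ hf,
      Sylow.coe_mapSurjective, Subgroup.comap_map_eq]
  rw [h1, mul_comm]
  exact (Subgroup.relIndex_mul_index (normalizer_le_normalizer_sup _ _)).symm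

/-- `n_p(G')` divides `n_p(G)` for a surjective hom `G → G'`. -/
theorem card_sylow_dvd {G' : Type*} [Group G'] {f : G →* G'} (hf : Function.Surjective f)
    (p : ℕ) [Fact p.Prime] : Nat.card (Sylow p G') ∣ Nat.card (Sylow p G) := by
  obtain ⟨P⟩ : Nonempty (Sylow p G) := inferInstance
  exact ⟨_, card_sylow_eq_mul hf p P⟩

/-- If `n_p(G) = n_p(G')` then the kernel normalizes every Sylow `p`-subgroup. -/
theorem ker_le_normalizer_of_card_eq {G' : Type*} [Group G'] {f : G →* G'}
    (hf : Function.Surjective f) (p : ℕ) [Fact p.Prime]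
    (h : Nat.card (Sylow p G) = Nat.card (Sylow p G')) (P : Sylow p G) :
    f.ker ≤ normalizer ((P : Subgroup G) : Set G) := by
  have : Finite G' := Finite.of_surjective f hf
  have h1 := card_sylow_eq_mul hf p P
  have hpos : 0 < Nat.card (Sylow p G') := Nat.card_pos
  have h2 : (normalizer ((P : Subgroup G) : Set G)).relIndex
        (normalizer (((P : Subgroup G) ⊔ f.ker : Subgroup G) : Set G)) = 1 := by
    rw [h] at h1
    have : Nat.card (Sylow p G') * 1 = Nat.card (Sylow p G') *
        (normalizer ((P : Subgroup G) : Set G)).relIndex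
          (normalizer (((P : Subgroup G) ⊔ f.ker : Subgroup G) : Set G)) := by
      rw [mul_one]; exact h1
    exact (Nat.eq_of_mul_eq_mul_left hpos this).symm
  have h3 : normalizer (((P : Subgroup G) ⊔ f.ker : Subgroup G) : Set G)
      ≤ normalizer ((P : Subgroup G) : Set G) := Subgroup.relIndex_eq_one.mp h2
  exact le_trans (le_trans le_sup_right le_normalizer) h3

end Cfsg.Agent.Lib.Helper19.SylNum
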