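import Mathlib

/-!
# Zassenhaus-type permutation groups of degree 18 (helper19, for S3641)

`Zas M` : `M ≤ Perm Ω`, `|Ω| = 18`, transitive, and every point stabiliser contains a normal
subgroup of order 17 whose nonidentity elements fix no further point.
-/

set_option autoImplicit false

namespace Cfsg.Agent.Lib.Helper19.SylNum

variable {Ω : Type*} [Fintype Ω] [DecidableEq Ω]

/-- The data attached to a point `a`: a subgroup `Q ≤ M` of order 17 fixing `a`, normalised by the
stabiliser of `a` in `M`, and acting freely off `a`. -/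
def IsQ (M : Subgroup (Equiv.Perm Ω)) (a : Ω) (Q : Subgroup (Equiv.Perm Ω)) : Prop :=
  Q ≤ M ∧ Nat.card Q = 17 ∧ (∀ x ∈ Q, x a = a) ∧
    (∀ g ∈ M, g a = a → ∀ x ∈ Q, g * x * g⁻¹ ∈ Q) ∧
    (∀ x ∈ Q, x ≠ 1 → ∀ b, x b = b → b = a)

/-- Zassenhaus-type structure of degree 18. -/
structure Zas (M : Subgroup (Equiv.Perm Ω)) : Prop where
  card : Fintype.card Ω = 18
  trans : ∀ a b : Ω, ∃ g ∈ M, g a = b
  q : ∀ a : Ω, ∃ Q : Subgroup (Equiv.Perm Ω), IsQ M a Q

omit [DecidableEq Ω] in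
theorem card_ne (hΩ : Fintype.card Ω = 18) (a : Ω) : Nat.card {c : Ω // c ≠ a} = 17 := by
  classical
  rw [Nat.card_eq_fintype_card, Fintype.card_subtype_compl, Fintype.card_subtype_eq, hΩ]

/-- `Q` is regular on the points other than `a`. -/
theorem IsQ.reg {M : Subgroup (Equiv.Perm Ω)} (hΩ : Fintype.card Ω = 18) {a : Ω}
    {Q : Subgroup (Equiv.Perm Ω)} (hQ : IsQ M a Q) {b c : Ω} (hb : b ≠ a) (hc : c ≠ a) :
    ∃ x ∈ Q, x b = c := by
  obtain ⟨-, hQc, hQa, -, hQf⟩ := hQ
  have hne : ∀ x : Q, (x : Equiv.Perm Ω) b ≠ a := by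
    intro x hx
    apply hb
    have h1 : (x : Equiv.Perm Ω) a = a := hQa x x.2
    exact (x : Equiv.Perm Ω).injective (hx.trans h1.symm)
  let ψ : Q → {c : Ω // c ≠ a} := fun x => ⟨(x : Equiv.Perm Ω) b, hne x⟩
  have hinj : Function.Injective ψ := by
    intro x y hxy
    have h1 : (x : Equiv.Perm Ω) b = (y : Equiv.Perm Ω) b := congrArg Subtype.val hxy
    by_contra hne'
    have h2 : ((y⁻¹ * x : Q) : Equiv.Perm Ω) ≠ 1 := by
      intro h
      apply hne'
      have : y⁻¹ * x = 1 := Subtype.ext h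
      exact (inv_mul_eq_one.mp this).symm
    have h3 : ((y⁻¹ * x : Q) : Equiv.Perm Ω) b = b := by
      simp only [Subgroup.coe_mul, Subgroup.coe_inv, Equiv.Perm.coe_mul, Function.comp_apply]
      rw [h1]
      simp
    exact hb (hQf _ (y⁻¹ * x).2 h2 b h3)
  have hbij : Function.Bijective ψ := by
    apply Function.Injective.bijective_of_nat_card_le hinj
    rw [card_ne hΩ, hQc]
  obtain ⟨x, hx⟩ := hbij.2 ⟨c, hc⟩
  exact ⟨x, x.2, congrArg Subtype.val hx⟩

/-- In a `Zas` group only the identity fixes three points. -/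
theorem Zas.eq_one_of_fix_three {M : Subgroup (Equiv.Perm Ω)} (h : Zas M) {g : Equiv.Perm Ω}
    (hg : g ∈ M) {a b c : Ω} (hab : a ≠ b) (hac : a ≠ c) (hbc : b ≠ c)
    (ha : g a = a) (hb : g b = b) (hc : g c = c) : g = 1 := by
  obtain ⟨Q, hQ⟩ := h.q a
  obtain ⟨x, hxQ, hx⟩ := hQ.reg h.card hab.symm hac.symm
  obtain ⟨hQM, hQc, hQa, hQn, hQf⟩ := hQ
  have hx1 : x ≠ 1 := by
    intro h1
    rw [h1] at hx
    exact hbc hx
  -- g x g⁻¹ agrees with x at b
  have hy : g * x * g⁻¹ ∈ Q := hQn g hg ha x hxQ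
  have hyb : (g * x * g⁻¹) b = c := by
    simp only [Equiv.Perm.coe_mul, Function.comp_apply]
    have : g⁻¹ b = b := by
      rw [Equiv.Perm.inv_eq_iff_eq]; exact hb.symm
    rw [this, hx, hc]
  have hcomm : g * x * g⁻¹ = x := by
    by_contra hne
    have h2 : x⁻¹ * (g * x * g⁻¹) ≠ 1 := by
      intro h
      apply hne
      exact (inv_mul_eq_one.mp h).symm
    have h3 : (x⁻¹ * (g * x * g⁻¹)) b = b := by
      rw [Equiv.Perm.coe_mul, Function.comp_apply, hyb, ← hx]
      simp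
    exact hab (hQf _ (Q.mul_mem (Q.inv_mem hxQ) hy) h2 b h3).symm
  have hcomm' : g * x = x * g := by
    calc g * x = g * x * g⁻¹ * g := by group
      _ = x * g := by rw [hcomm]
  -- the powers of x reach every point other than a
  have hzp : ∀ y ∈ Q, g * y = y * g := by
    intro y hy
    have hxo : orderOf (⟨x, hxQ⟩ : Q) = 17 := by
      have h1 : orderOf (⟨x, hxQ⟩ : Q) ∣ 17 := hQc ▸ orderOf_dvd_natCard _
      rcases (Nat.dvd_prime (by norm_num : Nat.Prime 17)).mp h1 with h | h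
      · exfalso
        apply hx1
        have := orderOf_eq_one_iff.mp h
        exact congrArg Subtype.val this
      · exact h
    have hcyc : ∀ z : Q, z ∈ Subgroup.zpowers (⟨x, hxQ⟩ : Q) := by
      intro z
      have : Subgroup.zpowers (⟨x, hxQ⟩ : Q) = ⊤ := by
        apply Subgroup.eq_top_of_card_eq
        rw [Nat.card_zpowers, hxo, hQc]
      rw [this]; trivial
    obtain ⟨k, hk⟩ := Subgroup.mem_zpowers_iff.mp (hcyc ⟨y, hy⟩)
    have hk' : x ^ k = y := by
      have := congrArg Subtype.val hk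
      simpa using this
    rw [← hk']
    exact (Commute.zpow_right (show Commute g x from hcomm') k).eq
  ext d
  rw [Equiv.Perm.one_apply]
  by_cases hda : d = a
  · rw [hda, ha]
  · obtain ⟨y, hyQ, hy⟩ := (show IsQ M a Q from ⟨hQM, hQc, hQa, hQn, hQf⟩).reg h.card hab.symm hda
    rw [← hy]
    have : (g * y) b = (y * g) b := by rw [hzp y hyQ]
    simpa [Equiv.Perm.coe_mul, hb] using this

end Cfsg.Agent.Lib.Helper19.SylNum
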