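import Mathlib
import Cfsg.Agent.Lib.Helper19.SylNumB

/-!
# Zassenhaus-type permutation groups of degree 18, part 2 (helper19, for S3641)

2-transitivity, two-point stabilisers, order formula.
-/

set_option autoImplicit false

namespace Cfsg.Agent.Lib.Helper19.SylNum

variable {Ω : Type*} [Fintype Ω] [DecidableEq Ω]

theorem Zas.two_trans {M : Subgroup (Equiv.Perm Ω)} (h : Zas M) {a b c e : Ω}
    (hab : a ≠ b) (hce : c ≠ e) : ∃ g ∈ M, g a = c ∧ g b = e := by
  obtain ⟨g, hgM, hg⟩ := h.trans a c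
  obtain ⟨Q, hQ⟩ := h.q c
  have hgb : g b ≠ c := by
    intro hh
    apply hab
    exact g.injective (hg.trans hh.symm)
  obtain ⟨x, hxQ, hx⟩ := hQ.reg h.card hgb hce.symm
  refine ⟨x * g, M.mul_mem (hQ.1 hxQ) hgM, ?_, ?_⟩
  · rw [Equiv.Perm.coe_mul, Function.comp_apply, hg]
    exact hQ.2.2.1 x hxQ
  · rw [Equiv.Perm.coe_mul, Function.comp_apply, hx]

omit [Fintype Ω] [DecidableEq Ω] in
theorem smul_def' {M : Subgroup (Equiv.Perm Ω)} (g : M) (a : Ω) :
    g • a = (g : Equiv.Perm Ω) a := rfl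

omit [Fintype Ω] [DecidableEq Ω] in
theorem smul_prod_def' {M : Subgroup (Equiv.Perm Ω)} (g : M) (a b : Ω) :
    g • ((a, b) : Ω × Ω) = ((g : Equiv.Perm Ω) a, (g : Equiv.Perm Ω) b) := rfl

omit [DecidableEq Ω] in
theorem Zas.pretrans {M : Subgroup (Equiv.Perm Ω)} (h : Zas M) :
    MulAction.IsPretransitive M Ω := by
  constructor
  intro a b
  obtain ⟨g, hgM, hg⟩ := h.trans a b
  exact ⟨⟨g, hgM⟩, hg⟩

/-- The two-point stabiliser, as a subgroup of `M`. -/
def D (M : Subgroup (Equiv.Perm Ω)) (a b : Ω) : Subgroup M :=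
  MulAction.stabilizer M ((a, b) : Ω × Ω)

omit [Fintype Ω] [DecidableEq Ω] in
theorem mem_D {M : Subgroup (Equiv.Perm Ω)} {a b : Ω} {g : M} :
    g ∈ D M a b ↔ (g : Equiv.Perm Ω) a = a ∧ (g : Equiv.Perm Ω) b = b := by
  unfold D
  rw [MulAction.mem_stabilizer_iff, smul_prod_def', Prod.mk.injEq]

theorem Zas.orbit_eq {M : Subgroup (Equiv.Perm Ω)} (h : Zas M) {a b : Ω} (hab : a ≠ b) :
    MulAction.orbit M ((a, b) : Ω × Ω) = ((Finset.univ : Finset Ω).offDiag : Set (Ω × Ω)) := by
  ext ⟨c, e⟩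
  rw [MulAction.mem_orbit_iff, Finset.mem_coe, Finset.mem_offDiag]
  constructor
  · rintro ⟨g, hg⟩
    rw [smul_prod_def', Prod.mk.injEq] at hg
    refine ⟨Finset.mem_univ _, Finset.mem_univ _, ?_⟩
    intro hce
    apply hab
    apply (g : Equiv.Perm Ω).injective
    rw [hg.1, hg.2]
    exact hce
  · rintro ⟨-, -, hce⟩
    obtain ⟨g, hgM, hg1, hg2⟩ := h.two_trans hab hce
    refine ⟨⟨g, hgM⟩, ?_⟩
    rw [smul_prod_def']
    simp [hg1, hg2]

theorem Zas.card_eq {M : Subgroup (Equiv.Perm Ω)} (h : Zas M) {a b : Ω} (hab : a ≠ b) :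
    Nat.card M = 306 * Nat.card (D M a b) := by
  have h1 := (D M a b).card_mul_index
  have h2 : (D M a b).index = 306 := by
    unfold D
    rw [MulAction.index_stabilizer, h.orbit_eq hab, Set.ncard_coe_finset, Finset.offDiag_card,
      Finset.card_univ, h.card]
  rw [h2] at h1
  omega

/-- The two-point stabiliser has order at most 16. -/
theorem Zas.card_D_le {M : Subgroup (Equiv.Perm Ω)} (h : Zas M) {a b : Ω} (hab : a ≠ b) :
    Nat.card (D M a b) ≤ 16 := by
  classical
  -- pick a third point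
  have h3 : ∃ c : Ω, c ≠ a ∧ c ≠ b := by
    by_contra hcon
    push Not at hcon
    have : (Finset.univ : Finset Ω) ⊆ {a, b} := by
      intro c _
      by_cases hca : c = a
      · simp [hca]
      · simp [hcon c hca]
    have h4 := Finset.card_le_card this
    rw [Finset.card_univ, h.card] at h4
    have h5 : ({a, b} : Finset Ω).card ≤ 2 := Finset.card_le_two
    omega
  obtain ⟨c, hca, hcb⟩ := h3
  let S : Finset Ω := (Finset.univ.erase a).erase b
  have hS : S.card = 16 := by
    rw [Finset.card_erase_of_mem, Finset.card_erase_of_mem (Finset.mem_univ a), Finset.card_univ,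
      h.card]
    exact Finset.mem_erase.mpr ⟨hab.symm, Finset.mem_univ b⟩
  have hmem : ∀ x : D M a b, ((x : M) : Equiv.Perm Ω) c ∈ S := by
    intro x
    have hx := mem_D.mp x.2
    simp only [S, Finset.mem_erase, Finset.mem_univ, and_true]
    constructor
    · intro hh
      apply hcb
      exact ((x : M) : Equiv.Perm Ω).injective (hh.trans hx.2.symm)
    · intro hh
      apply hca
      exact ((x : M) : Equiv.Perm Ω).injective (hh.trans hx.1.symm)
  let ψ : D M a b → S := fun x => ⟨((x : M) : Equiv.Perm Ω) c, hmem x⟩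
  have hinj : Function.Injective ψ := by
    intro x y hxy
    have h1 : ((x : M) : Equiv.Perm Ω) c = ((y : M) : Equiv.Perm Ω) c := congrArg Subtype.val hxy
    have hx := mem_D.mp x.2
    have hy := mem_D.mp y.2
    have h2 : (((y : M) : Equiv.Perm Ω))⁻¹ * ((x : M) : Equiv.Perm Ω) = 1 := by
      apply h.eq_one_of_fix_three (M.mul_mem (M.inv_mem (y : M).2) (x : M).2) hab hca.symm hcb.symm
      · rw [Equiv.Perm.coe_mul, Function.comp_apply, hx.1, Equiv.Perm.inv_eq_iff_eq, hy.1]
      · rw [Equiv.Perm.coe_mul, Function.comp_apply, hx.2, Equiv.Perm.inv_eq_iff_eq, hy.2]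
      · rw [Equiv.Perm.coe_mul, Function.comp_apply, h1]
        simp
    have h3 : ((x : M) : Equiv.Perm Ω) = ((y : M) : Equiv.Perm Ω) := (inv_mul_eq_one.mp h2).symm
    exact Subtype.ext (Subtype.ext h3)
  have := Nat.card_le_card_of_injective ψ hinj
  rw [Nat.card_eq_fintype_card (α := S), Fintype.card_coe, hS] at this
  exact this

end Cfsg.Agent.Lib.Helper19.SylNum
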