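import Mathlib
import Cfsg.Agent.Lib.Helper19.SylNumC

/-!
# Zassenhaus-type permutation groups of degree 18, part 3 (helper19, for S3641)

The number of Sylow 2-subgroups is at least 153.
-/

set_option autoImplicit false

namespace Cfsg.Agent.Lib.Helper19.SylNum

theorem sylow_card_of_eq {G : Type*} [Group G] [Finite G] (p : ℕ) [hp : Fact p.Prime] (a m : ℕ)
    (hm : ¬ p ∣ m) (hcard : Nat.card G = p ^ a * m) (P : Sylow p G) :
    Nat.card (P : Subgroup G) = p ^ a := by
  have hm0 : m ≠ 0 := by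
    rintro rfl
    exact hm (dvd_zero p)
  rw [P.card_eq_multiplicity, hcard, Nat.factorization_mul (pow_ne_zero _ hp.out.ne_zero) hm0,
    Finsupp.add_apply, Nat.Prime.factorization_pow hp.out, Finsupp.single_eq_same,
    Nat.factorization_eq_zero_of_not_dvd hm, add_zero]

variable {Ω : Type*} [Fintype Ω] [DecidableEq Ω]

/-- The pointwise stabiliser of a finite set of points. -/
def FixS (M : Subgroup (Equiv.Perm Ω)) (s : Finset Ω) : Subgroup M where
  carrier := {g | ∀ x ∈ s, (g : Equiv.Perm Ω) x = x}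
  mul_mem' := by
    intro g k hg hk x hx
    show ((g * k : M) : Equiv.Perm Ω) x = x
    rw [Subgroup.coe_mul, Equiv.Perm.coe_mul, Function.comp_apply, hk x hx, hg x hx]
  one_mem' := by
    intro x _
    simp
  inv_mem' := by
    intro g hg x hx
    show ((g⁻¹ : M) : Equiv.Perm Ω) x = x
    rw [Subgroup.coe_inv, Equiv.Perm.inv_eq_iff_eq, hg x hx]

omit [Fintype Ω] in
theorem mem_FixS {M : Subgroup (Equiv.Perm Ω)} {s : Finset Ω} {g : M} :
    g ∈ FixS M s ↔ ∀ x ∈ s, (g : Equiv.Perm Ω) x = x := Iff.rfl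

omit [Fintype Ω] in
theorem FixS_pair (M : Subgroup (Equiv.Perm Ω)) (a b : Ω) : FixS M {a, b} = D M a b := by
  ext g
  rw [mem_FixS, mem_D]
  simp

theorem Zas.FixS_disjoint {M : Subgroup (Equiv.Perm Ω)} (h : Zas M) {s s' : Finset Ω}
    (hs : s.card = 2) (hs' : s'.card = 2) (hne : s ≠ s') : Disjoint (FixS M s) (FixS M s') := by
  rw [Subgroup.disjoint_def]
  intro g hg hg'
  obtain ⟨a, b, hab, rfl⟩ := Finset.card_eq_two.mp hs
  have h3 : ∃ c ∈ s', c ∉ ({a, b} : Finset Ω) := by
    by_contra hcon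
    push Not at hcon
    apply hne
    exact (Finset.eq_of_subset_of_card_le hcon (by rw [hs, hs'])).symm
  obtain ⟨c, hc, hcn⟩ := h3
  have hca : a ≠ c := by
    intro hh; apply hcn; simp [hh]
  have hcb : b ≠ c := by
    intro hh; apply hcn; simp [hh]
  have h1 : (g : Equiv.Perm Ω) = 1 :=
    h.eq_one_of_fix_three g.2 hab hca hcb (hg a (by simp)) (hg b (by simp)) (hg' c hc)
  exact Subtype.ext h1

theorem Zas.card_sylow_two_ge {M : Subgroup (Equiv.Perm Ω)} (h : Zas M) {k : ℕ} (hk : 2 ≤ k)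
    (hM : Nat.card M = 306 * 2 ^ k) : 153 ≤ Nat.card (Sylow 2 M) := by
  classical
  haveI : Fact (Nat.Prime 2) := ⟨Nat.prime_two⟩
  have hP : ∀ P : Sylow 2 M, Nat.card (P : Subgroup M) = 2 ^ (k + 1) := by
    intro P
    apply sylow_card_of_eq 2 (k + 1) 153 (by norm_num) _ P
    rw [hM]; ring
  have hD : ∀ s : Finset Ω, s.card = 2 → Nat.card (FixS M s) = 2 ^ k := by
    intro s hs
    obtain ⟨a, b, hab, rfl⟩ := Finset.card_eq_two.mp hs
    rw [FixS_pair]
    have := h.card_eq hab
    rw [hM] at this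
    omega
  have hex : ∀ s : {s : Finset Ω // s.card = 2}, ∃ P : Sylow 2 M, FixS M s.1 ≤ P := by
    intro s
    exact (IsPGroup.of_card (hD s.1 s.2)).exists_le_sylow
  choose f hf using hex
  have hinj : Function.Injective f := by
    intro s s' hss
    by_contra hne
    have hne' : s.1 ≠ s'.1 := fun hh => hne (Subtype.ext hh)
    have hdis := h.FixS_disjoint s.2 s'.2 hne'
    have hinj2 := Subgroup.mul_injective_of_disjoint hdis
    have hle' : FixS M s'.1 ≤ f s := hss ▸ hf s'
    let ψ : FixS M s.1 × FixS M s'.1 → (f s : Subgroup M) := fun g =>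
      ⟨(g.1 : M) * (g.2 : M), (f s : Subgroup M).mul_mem (hf s g.1.2) (hle' g.2.2)⟩
    have hψ : Function.Injective ψ := by
      intro x y hxy
      apply hinj2
      exact congrArg Subtype.val hxy
    have h1 := Nat.card_le_card_of_injective ψ hψ
    rw [Nat.card_prod, hD s.1 s.2, hD s'.1 s'.2, hP] at h1
    have h2 : 4 ≤ 2 ^ k := by
      calc 4 = 2 ^ 2 := by norm_num
        _ ≤ 2 ^ k := Nat.pow_le_pow_right (by norm_num) hk
    rw [pow_succ] at h1
    nlinarith
  have h1 := Nat.card_le_card_of_injective f hinj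
  rw [Nat.card_eq_fintype_card, Fintype.card_finset_len, h.card] at h1
  have h2 : Nat.choose 18 2 = 153 := by decide
  rw [h2] at h1
  exact h1

end Cfsg.Agent.Lib.Helper19.SylNum
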