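import Mathlib
import Cfsg.Agent.Lib.Helper19.SylNumD

/-!
# Zassenhaus-type permutation groups of degree 18, part 4 (helper19, for S3641)

Fixed-point counts: Burnside's lemma on points and on pairs of points gives the number of
fixed-point-free elements.
-/

set_option autoImplicit false

namespace Cfsg.Agent.Lib.Helper19.SylNum

variable {Ω : Type*} [Fintype Ω] [DecidableEq Ω]

/-- Number of fixed points. -/
def fx (g : Equiv.Perm Ω) : ℕ := (g.support)ᶜ.card

theorem mem_fxset {g : Equiv.Perm Ω} {a : Ω} : a ∈ (g.support)ᶜ ↔ g a = a := by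
  simp

theorem fx_one (hΩ : Fintype.card Ω = 18) : fx (1 : Equiv.Perm Ω) = 18 := by
  unfold fx
  rw [Equiv.Perm.support_one, Finset.compl_empty, Finset.card_univ, hΩ]

theorem Zas.fx_le_two {M : Subgroup (Equiv.Perm Ω)} (h : Zas M) {g : Equiv.Perm Ω} (hg : g ∈ M)
    (hg1 : g ≠ 1) : fx g ≤ 2 := by
  by_contra hcon
  have h1 : 2 < (g.support)ᶜ.card := by
    unfold fx at hcon; omega
  obtain ⟨a, ha, b, hb, c, hc, hab, hac, hbc⟩ := Finset.two_lt_card.mp h1
  exact hg1 (h.eq_one_of_fix_three hg hab hac hbc (mem_fxset.mp ha) (mem_fxset.mp hb)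
    (mem_fxset.mp hc))

theorem card_fixedBy {M : Subgroup (Equiv.Perm Ω)} (g : M)
    [Fintype (MulAction.fixedBy Ω g)] :
    Fintype.card (MulAction.fixedBy Ω g) = fx (g : Equiv.Perm Ω) := by
  unfold fx
  apply Fintype.card_of_subtype
  intro a
  rw [mem_fxset, MulAction.mem_fixedBy, smul_def']

theorem card_fixedBy_prod {M : Subgroup (Equiv.Perm Ω)} (g : M)
    [Fintype (MulAction.fixedBy (Ω × Ω) g)] :
    Fintype.card (MulAction.fixedBy (Ω × Ω) g) = fx (g : Equiv.Perm Ω) * fx (g : Equiv.Perm Ω) := by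
  unfold fx
  rw [← Finset.card_product]
  apply Fintype.card_of_subtype
  rintro ⟨a, b⟩
  rw [Finset.mem_product, mem_fxset, mem_fxset, MulAction.mem_fixedBy, smul_prod_def',
    Prod.mk.injEq]

theorem Zas.card_orbits {M : Subgroup (Equiv.Perm Ω)} (h : Zas M)
    [Fintype (Quotient (MulAction.orbitRel M Ω))] :
    Fintype.card (Quotient (MulAction.orbitRel M Ω)) = 1 := by
  haveI := h.pretrans
  have hne : Nonempty Ω := by
    rw [← Fintype.card_pos_iff, h.card]; norm_num
  obtain ⟨a⟩ := hne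
  rw [Fintype.card_eq_one_iff]
  refine ⟨Quotient.mk'' a, ?_⟩
  intro q
  induction q using Quotient.inductionOn' with
  | h b =>
    apply Quotient.sound'
    obtain ⟨g, hg⟩ := MulAction.exists_smul_eq M a b
    exact ⟨g, hg⟩

theorem Zas.card_orbits_prod {M : Subgroup (Equiv.Perm Ω)} (h : Zas M)
    [Fintype (Quotient (MulAction.orbitRel M (Ω × Ω)))] :
    Fintype.card (Quotient (MulAction.orbitRel M (Ω × Ω))) = 2 := by
  have hne : ∃ a b : Ω, a ≠ b := by
    have : 1 < Fintype.card Ω := by rw [h.card]; norm_num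
    obtain ⟨a, b, hab⟩ := Fintype.one_lt_card_iff.mp this
    exact ⟨a, b, hab⟩
  obtain ⟨a, b, hab⟩ := hne
  rw [← Nat.card_eq_fintype_card, Nat.card_eq_two_iff]
  refine ⟨Quotient.mk'' (a, a), Quotient.mk'' (a, b), ?_, ?_⟩
  · intro hh
    have h1 : (a, a) ∈ MulAction.orbit M ((a, b) : Ω × Ω) := Quotient.exact' hh
    rw [h.orbit_eq hab, Finset.mem_coe, Finset.mem_offDiag] at h1
    exact h1.2.2 rfl
  · rw [Set.eq_univ_iff_forall]
    intro q
    induction q using Quotient.inductionOn' with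
    | h p =>
      obtain ⟨c, e⟩ := p
      by_cases hce : c = e
      · left
        apply Quotient.sound'
        obtain ⟨g, hgM, hg⟩ := h.trans a c
        refine ⟨⟨g, hgM⟩, ?_⟩
        show (⟨g, hgM⟩ : M) • ((a, a) : Ω × Ω) = (c, e)
        rw [smul_prod_def']
        simp [hg, hce]
      · right
        show Quotient.mk'' (c, e) = Quotient.mk'' (a, b)
        apply Quotient.sound'
        obtain ⟨g, hgM, hg1, hg2⟩ := h.two_trans hab hce
        refine ⟨⟨g, hgM⟩, ?_⟩
        show (⟨g, hgM⟩ : M) • ((a, b) : Ω × Ω) = (c, e)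
        rw [smul_prod_def']
        simp [hg1, hg2]

/-- Burnside on points. -/
theorem Zas.sum_fx {M : Subgroup (Equiv.Perm Ω)} (h : Zas M) [Fintype M] :
    ∑ g : M, fx (g : Equiv.Perm Ω) = Nat.card M := by
  classical
  have := MulAction.sum_card_fixedBy_eq_card_orbits_mul_card_group M Ω
  rw [h.card_orbits, one_mul] at this
  rw [Nat.card_eq_fintype_card, ← this]
  apply Finset.sum_congr rfl
  intro g _
  rw [card_fixedBy]

/-- Burnside on pairs. -/
theorem Zas.sum_fx_sq {M : Subgroup (Equiv.Perm Ω)} (h : Zas M) [Fintype M] :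
    ∑ g : M, fx (g : Equiv.Perm Ω) * fx (g : Equiv.Perm Ω) = 2 * Nat.card M := by
  classical
  have := MulAction.sum_card_fixedBy_eq_card_orbits_mul_card_group M (Ω × Ω)
  rw [h.card_orbits_prod] at this
  rw [Nat.card_eq_fintype_card, ← this]
  apply Finset.sum_congr rfl
  intro g _
  rw [card_fixedBy_prod]

/-- The number of fixed-point-free elements. -/
theorem Zas.card_fpf {M : Subgroup (Equiv.Perm Ω)} (h : Zas M) :
    2 * Set.ncard {g : M | fx (g : Equiv.Perm Ω) = 0} + 272 = Nat.card M := by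
  classical
  haveI : Fintype M := Fintype.ofFinite M
  have h1 := h.sum_fx
  have h2 := h.sum_fx_sq
  -- termwise identity
  have hterm : ∀ g : M, ((fx (g : Equiv.Perm Ω) : ℤ) * fx (g : Equiv.Perm Ω)
      - 3 * fx (g : Equiv.Perm Ω) + 2) =
      (if g = 1 then (272 : ℤ) else 0) + (if fx (g : Equiv.Perm Ω) = 0 then (2 : ℤ) else 0) := by
    intro g
    by_cases hg : g = 1
    · subst hg
      rw [Subgroup.coe_one, fx_one h.card]
      simp
    · have hg' : (g : Equiv.Perm Ω) ≠ 1 := fun hh => hg (Subtype.ext hh)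
      have hle := h.fx_le_two g.2 hg'
      rw [if_neg hg]
      generalize fx (g : Equiv.Perm Ω) = f at hle ⊢
      interval_cases f <;> simp
  have hsum : ∑ g : M, ((fx (g : Equiv.Perm Ω) : ℤ) * fx (g : Equiv.Perm Ω)
      - 3 * fx (g : Equiv.Perm Ω) + 2) = (Nat.card M : ℤ) := by
    rw [Finset.sum_add_distrib, Finset.sum_sub_distrib, ← Finset.mul_sum]
    have h1' : ∑ g : M, (fx (g : Equiv.Perm Ω) : ℤ) = (Nat.card M : ℤ) := by
      rw [← h1]; push_cast; rfl
    have h2' : ∑ g : M, (fx (g : Equiv.Perm Ω) : ℤ) * fx (g : Equiv.Perm Ω)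
        = 2 * (Nat.card M : ℤ) := by
      have : ((∑ g : M, fx (g : Equiv.Perm Ω) * fx (g : Equiv.Perm Ω) : ℕ) : ℤ)
          = ((2 * Nat.card M : ℕ) : ℤ) := by rw [h2]
      push_cast at this
      exact this
    rw [h1', h2', Finset.sum_const, Finset.card_univ, ← Nat.card_eq_fintype_card]
    simp
    ring
  rw [Finset.sum_congr rfl (fun g _ => hterm g), Finset.sum_add_distrib, Finset.sum_ite_eq'] at hsum
  simp only [Finset.mem_univ, if_true] at hsum
  rw [← Finset.sum_filter, Finset.sum_const] at hsum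
  simp only [nsmul_eq_mul] at hsum
  have hn : Set.ncard {g : M | fx (g : Equiv.Perm Ω) = 0}
      = (Finset.univ.filter (fun g : M => fx (g : Equiv.Perm Ω) = 0)).card := by
    rw [← Set.ncard_coe_finset]
    congr 1
    ext g
    simp
  have : ((2 * Set.ncard {g : M | fx (g : Equiv.Perm Ω) = 0} + 272 : ℕ) : ℤ)
      = (Nat.card M : ℤ) := by
    rw [hn]
    push_cast
    rw [← hsum]
    ring
  exact_mod_cast this

end Cfsg.Agent.Lib.Helper19.SylNum
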