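import Mathlib
import Cfsg.Agent.Lib.Helper19.SylNumE

/-!
# Zassenhaus-type permutation groups of degree 18, part 5 (helper19, for S3641)

Involutions in even Zassenhaus groups; elements interchanging two points.
-/

set_option autoImplicit false

namespace Cfsg.Agent.Lib.Helper19.SylNum

variable {Ω : Type*} [Fintype Ω] [DecidableEq Ω]

theorem four_dvd_support {t : Equiv.Perm Ω} (ht1 : t ≠ 1) (ht2 : t ^ 2 = 1)
    (hs : Equiv.Perm.sign t = 1) : 4 ∣ t.support.card := by
  have hord : orderOf t = 2 := orderOf_eq_prime ht2 ht1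
  obtain ⟨n, hn⟩ := Equiv.Perm.cycleType_prime_order (σ := t) (by rw [hord]; exact Nat.prime_two)
  rw [hord] at hn
  rw [Equiv.Perm.sign_of_cycleType, hn, Multiset.sum_replicate, Multiset.card_replicate] at hs
  have hev : Even ((n + 1) • 2 + (n + 1)) := by
    by_contra hodd
    rw [Nat.not_even_iff_odd] at hodd
    rw [hodd.neg_one_pow] at hs
    exact absurd hs (by decide)
  rw [← Equiv.Perm.sum_cycleType, hn, Multiset.sum_replicate]
  rw [smul_eq_mul] at hev ⊢
  have : Even (n + 1) := by
    rcases Nat.even_or_odd (n + 1) with h | h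
    · exact h
    · exfalso
      rw [← Nat.not_odd_iff_even] at hev
      apply hev
      obtain ⟨j, hj⟩ := h
      exact ⟨3 * j + 1, by rw [hj]; ring⟩
  obtain ⟨j, hj⟩ := this
  exact ⟨j, by rw [hj]; ring⟩

theorem Zas.fx_invol {M : Subgroup (Equiv.Perm Ω)} (h : Zas M) (hA : M ≤ alternatingGroup Ω)
    {t : Equiv.Perm Ω} (ht : t ∈ M) (ht1 : t ≠ 1) (ht2 : t ^ 2 = 1) : fx t = 2 := by
  have h4 := four_dvd_support ht1 ht2 (Equiv.Perm.mem_alternatingGroup.mp (hA ht))
  have hle := h.fx_le_two ht ht1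
  have hc : fx t = 18 - t.support.card := by
    unfold fx; rw [Finset.card_compl, h.card]
  have hs : t.support.card ≤ 18 := by
    rw [← h.card]; exact Finset.card_le_univ _
  omega

omit [Fintype Ω] [DecidableEq Ω] in
theorem fix_of_comm {g t : Equiv.Perm Ω} (hc : g * t = t * g) {a : Ω} (ha : t a = a) :
    t (g a) = g a := by
  have : (t * g) a = (g * t) a := by rw [hc]
  simpa [Equiv.Perm.coe_mul, ha] using this

/-- A nonidentity element of `M` fixing `a` and `b` fixes no other point. -/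
theorem Zas.eq_of_fix {M : Subgroup (Equiv.Perm Ω)} (h : Zas M) {t : Equiv.Perm Ω} (ht : t ∈ M)
    (ht1 : t ≠ 1) {a b : Ω} (hab : a ≠ b) (ha : t a = a) (hb : t b = b) {c : Ω} (hc : t c = c) :
    c = a ∨ c = b := by
  by_contra hcon
  push Not at hcon
  exact ht1 (h.eq_one_of_fix_three ht hab hcon.1.symm hcon.2.symm ha hb hc)

/-- For `c` off `{a, b}` there is an element interchanging `a` and `b` and fixing `c`. -/
theorem Zas.exists_swap_fix {M : Subgroup (Equiv.Perm Ω)} (h : Zas M)
    (hA : M ≤ alternatingGroup Ω) {d : ℕ} (hM : Nat.card M = 306 * d) (hd : 2 ∣ d)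
    {a b c : Ω} (hab : a ≠ b) (hca : c ≠ a) (hcb : c ≠ b) :
    ∃ x ∈ M, x a = b ∧ x b = a ∧ x c = c := by
  classical
  haveI : Fact (Nat.Prime 2) := ⟨Nat.prime_two⟩
  have hDab : Nat.card (D M a b) = d := by
    have := h.card_eq hab; omega
  -- an involution in `D a b`
  obtain ⟨t₀, ht₀⟩ := exists_prime_orderOf_dvd_card' (G := D M a b) 2 (by rw [hDab]; exact hd)
  set τ : M := (t₀ : M) with hτ
  set t : Equiv.Perm Ω := (τ : Equiv.Perm Ω) with htdef
  have hτo : orderOf τ = 2 := by rw [hτ, Subgroup.orderOf_coe, ht₀]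
  have hto : orderOf t = 2 := by rw [htdef, Subgroup.orderOf_coe, hτo]
  have htM : t ∈ M := τ.2
  have ht1 : t ≠ 1 := by
    intro hh
    rw [hh, orderOf_one] at hto
    omega
  have ht2 : t ^ 2 = 1 := by rw [← hto]; exact pow_orderOf_eq_one t
  have htt : ∀ x, t (t x) = x := by
    intro x
    have : (t ^ 2) x = x := by rw [ht2]; rfl
    simpa [pow_two, Equiv.Perm.coe_mul] using this
  have hτ2 : τ * τ = 1 := by
    rw [← pow_two, ← hτo]; exact pow_orderOf_eq_one τ
  have hτinv : τ⁻¹ = τ := inv_eq_of_mul_eq_one_left hτ2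
  obtain ⟨hta, htb⟩ := mem_D.mp t₀.2
  change t a = a at hta
  change t b = b at htb
  set e := t c with he
  have hte : t e = c := htt c
  have hce : c ≠ e := by
    intro hh
    rcases h.eq_of_fix htM ht1 hab hta htb hh.symm with h1 | h1
    · exact hca h1
    · exact hcb h1
  have hDce : Nat.card (D M c e) = d := by
    have := h.card_eq hce; omega
  -- conjugation by `τ` on `D c e`
  have hconj : ∀ x : D M c e, τ * (x : M) * τ⁻¹ ∈ D M c e := by
    intro x
    obtain ⟨hx1, hx2⟩ := mem_D.mp x.2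
    rw [mem_D, hτinv]
    simp only [Subgroup.coe_mul]
    change (t * ((x : M) : Equiv.Perm Ω) * t) c = c ∧ (t * ((x : M) : Equiv.Perm Ω) * t) e = e
    simp only [Equiv.Perm.coe_mul, Function.comp_apply]
    rw [hte, hx1, ← he, hx2, hte]
    exact ⟨rfl, rfl⟩
  let σ : Function.End (D M c e) := fun x => ⟨τ * (x : M) * τ⁻¹, hconj x⟩
  have hσ : σ ^ 2 ^ 1 = 1 := by
    rw [pow_one, pow_two]
    funext x
    apply Subtype.ext
    show τ * (τ * (x : M) * τ⁻¹) * τ⁻¹ = (x : M)
    rw [hτinv]
    calc τ * (τ * (x : M) * τ) * τ = (τ * τ) * (x : M) * (τ * τ) := by group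
      _ = (x : M) := by rw [hτ2, one_mul, mul_one]
  haveI : Fintype (D M c e) := Fintype.ofFinite _
  have hmod := Equiv.Perm.card_fixedPoints_modEq (p := 2) (n := 1) hσ
  rw [← Nat.card_eq_fintype_card, hDce] at hmod
  have hev : 2 ∣ Fintype.card (Function.fixedPoints σ) := by
    have : d % 2 = Fintype.card (Function.fixedPoints σ) % 2 := hmod
    omega
  have h1fix : (1 : D M c e) ∈ Function.fixedPoints σ := by
    show σ 1 = 1
    apply Subtype.ext
    show τ * ((1 : D M c e) : M) * τ⁻¹ = ((1 : D M c e) : M)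
    simp
  have hgt : 1 < Fintype.card (Function.fixedPoints σ) := by
    have hpos : 0 < Fintype.card (Function.fixedPoints σ) :=
      Fintype.card_pos_iff.mpr ⟨⟨1, h1fix⟩⟩
    omega
  obtain ⟨x, hx⟩ := Fintype.exists_ne_of_one_lt_card hgt ⟨1, h1fix⟩
  have hx1 : (x : D M c e) ≠ 1 := fun hh => hx (Subtype.ext hh)
  have hxfix : τ * ((x : D M c e) : M) * τ⁻¹ = ((x : D M c e) : M) :=
    congrArg Subtype.val x.2
  set y : Equiv.Perm Ω := (((x : D M c e) : M) : Equiv.Perm Ω) with hy
  have hyM : y ∈ M := ((x : D M c e) : M).2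
  have hy1 : y ≠ 1 := by
    intro hh
    apply hx1
    apply Subtype.ext
    apply Subtype.ext
    exact hh
  obtain ⟨hyc, hye⟩ := mem_D.mp (x : D M c e).2
  change y c = c at hyc
  change y e = e at hye
  have hcomm : y * t = t * y := by
    have h1 : τ * ((x : D M c e) : M) = ((x : D M c e) : M) * τ := by
      calc τ * ((x : D M c e) : M) = τ * ((x : D M c e) : M) * τ⁻¹ * τ := by group
        _ = ((x : D M c e) : M) * τ := by rw [hxfix]
    have h2 := congrArg (Subtype.val : M → Equiv.Perm Ω) h1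
    simp only [Subgroup.coe_mul] at h2
    exact h2.symm
  have hya : y a = a ∨ y a = b := h.eq_of_fix htM ht1 hab hta htb (fix_of_comm hcomm hta)
  have hyb : y b = a ∨ y b = b := h.eq_of_fix htM ht1 hab hta htb (fix_of_comm hcomm htb)
  have hae : a ≠ e := by
    intro hh
    apply hca
    have : t a = t e := by rw [← hh]
    rw [hta, hte] at this
    exact this.symm
  have hbe : b ≠ e := by
    intro hh
    apply hcb
    have : t b = t e := by rw [← hh]
    rw [htb, hte] at this
    exact this.symm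
  refine ⟨y, hyM, ?_, ?_, hyc⟩
  · rcases hya with h1 | h1
    · exfalso
      exact hy1 (h.eq_one_of_fix_three hyM hce hca hae.symm hyc hye h1)
    · exact h1
  · rcases hyb with h1 | h1
    · exact h1
    · exfalso
      exact hy1 (h.eq_one_of_fix_three hyM hce hcb hbe.symm hyc hye h1)

end Cfsg.Agent.Lib.Helper19.SylNum
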