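import Mathlib
import Cfsg.Agent.Lib.Helper19.SylNumF

/-!
# Zassenhaus-type permutation groups of degree 18, part 6 (helper19, for S3641)

Counting the elements of order dividing 9 in an even Zassenhaus group of degree 18.
-/

set_option autoImplicit false

namespace Cfsg.Agent.Lib.Helper19.SylNum

theorem ncard_setOf_eq {α : Type*} [Fintype α] (p : α → Prop) [DecidablePred p] :
    Set.ncard {x | p x} = (Finset.univ.filter p).card := by
  rw [← Set.ncard_coe_finset]
  congr 1
  ext x
  simp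

variable {Ω : Type*} [Fintype Ω] [DecidableEq Ω]

/-- Elements of `M` moving every point of `s` to another point of `s`. -/
def Sw (M : Subgroup (Equiv.Perm Ω)) (s : Finset Ω) : Set M :=
  {g | ∀ x ∈ s, (g : Equiv.Perm Ω) x ∈ s ∧ (g : Equiv.Perm Ω) x ≠ x}

omit [Fintype Ω] in
theorem mem_Sw_pair {M : Subgroup (Equiv.Perm Ω)} {a b : Ω} (hab : a ≠ b) {g : M} :
    g ∈ Sw M {a, b} ↔ (g : Equiv.Perm Ω) a = b ∧ (g : Equiv.Perm Ω) b = a := by
  constructor
  · intro hg
    have h1 := hg a (by simp)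
    have h2 := hg b (by simp)
    simp only [Finset.mem_insert, Finset.mem_singleton] at h1 h2
    refine ⟨?_, ?_⟩
    · rcases h1.1 with h | h
      · exact absurd h h1.2
      · exact h
    · rcases h2.1 with h | h
      · exact h
      · exact absurd h h2.2
  · rintro ⟨h1, h2⟩ x hx
    simp only [Finset.mem_insert, Finset.mem_singleton] at hx ⊢
    rcases hx with rfl | rfl
    · rw [h1]
      exact ⟨Or.inr rfl, hab.symm⟩
    · rw [h2]
      exact ⟨Or.inl rfl, hab⟩

theorem Zas.card_Sw_fpf {M : Subgroup (Equiv.Perm Ω)} (h : Zas M) (hA : M ≤ alternatingGroup Ω)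
    {d : ℕ} (hM : Nat.card M = 306 * d) (hd : 2 ∣ d) {s : Finset Ω} (hs : s.card = 2) :
    Set.ncard {g : M | g ∈ Sw M s ∧ fx (g : Equiv.Perm Ω) = 0} + 8 ≤ d := by
  classical
  haveI : Fintype M := Fintype.ofFinite M
  obtain ⟨a, b, hab, rfl⟩ := Finset.card_eq_two.mp hs
  have hDab : Nat.card (D M a b) = d := by
    have := h.card_eq hab; omega
  obtain ⟨g₀, hg₀M, hg₀a, hg₀b⟩ := h.two_trans hab hab.symm
  -- the whole coset has at most `d` elements
  let CF : Finset M := Finset.univ.filter (fun g : M => g ∈ Sw M {a, b})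
  let AF : Finset M := CF.filter (fun g : M => fx (g : Equiv.Perm Ω) ≠ 0)
  let BF : Finset M := CF.filter (fun g : M => fx (g : Equiv.Perm Ω) = 0)
  have hCF : CF.card ≤ d := by
    have hmem : ∀ g : CF, (⟨g₀, hg₀M⟩ : M)⁻¹ * (g : M) ∈ D M a b := by
      intro g
      have hg := (mem_Sw_pair hab).mp (Finset.mem_filter.mp g.2).2
      rw [mem_D]
      simp only [Subgroup.coe_mul, Subgroup.coe_inv, Equiv.Perm.coe_mul, Function.comp_apply]
      rw [hg.1, hg.2, Equiv.Perm.inv_eq_iff_eq, Equiv.Perm.inv_eq_iff_eq]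
      exact ⟨hg₀a.symm, hg₀b.symm⟩
    let ψ : CF → D M a b := fun g => ⟨(⟨g₀, hg₀M⟩ : M)⁻¹ * (g : M), hmem g⟩
    have hψ : Function.Injective ψ := by
      intro x y hxy
      have h1 : (⟨g₀, hg₀M⟩ : M)⁻¹ * (x : M) = (⟨g₀, hg₀M⟩ : M)⁻¹ * (y : M) :=
        congrArg Subtype.val hxy
      exact Subtype.ext (mul_left_cancel h1)
    have := Nat.card_le_card_of_injective ψ hψ
    rw [hDab, Nat.card_eq_fintype_card, Fintype.card_coe] at this
    exact this
  have hsplit : AF.card + BF.card = CF.card := by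
    have := Finset.card_filter_add_card_filter_not (s := CF)
      (fun g : M => fx (g : Equiv.Perm Ω) ≠ 0)
    simp only [not_not] at this
    exact this
  -- at least 8 elements with a fixed point
  have hAF : 8 ≤ AF.card := by
    let T : Finset Ω := (Finset.univ.erase a).erase b
    have hT : T.card = 16 := by
      rw [Finset.card_erase_of_mem, Finset.card_erase_of_mem (Finset.mem_univ a), Finset.card_univ,
        h.card]
      exact Finset.mem_erase.mpr ⟨hab.symm, Finset.mem_univ b⟩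
    have hsub : T ⊆ AF.biUnion (fun g : M => ((g : Equiv.Perm Ω).support)ᶜ) := by
      intro c hc
      simp only [T, Finset.mem_erase, Finset.mem_univ, and_true] at hc
      obtain ⟨x, hxM, hxa, hxb, hxc⟩ := h.exists_swap_fix hA hM hd hab hc.2 hc.1
      rw [Finset.mem_biUnion]
      refine ⟨⟨x, hxM⟩, ?_, mem_fxset.mpr hxc⟩
      simp only [AF, CF, Finset.mem_filter, Finset.mem_univ, true_and]
      refine ⟨(mem_Sw_pair hab).mpr ⟨hxa, hxb⟩, ?_⟩
      intro h0
      unfold fx at h0
      rw [Finset.card_eq_zero] at h0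
      have : c ∈ ((x : Equiv.Perm Ω).support)ᶜ := mem_fxset.mpr hxc
      rw [h0] at this
      exact absurd this (Finset.notMem_empty c)
    have h1 := Finset.card_le_card hsub
    have h2 := Finset.card_biUnion_le (s := AF) (t := fun g : M => ((g : Equiv.Perm Ω).support)ᶜ)
    have h3 : ∑ g ∈ AF, (((g : Equiv.Perm Ω).support)ᶜ).card ≤ ∑ _g ∈ AF, 2 := by
      apply Finset.sum_le_sum
      intro g hg
      have hgS := (mem_Sw_pair hab).mp (Finset.mem_filter.mp (Finset.mem_filter.mp hg).1).2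
      have hg1 : (g : Equiv.Perm Ω) ≠ 1 := by
        intro hh
        rw [hh] at hgS
        exact hab hgS.1
      exact h.fx_le_two g.2 hg1
    rw [Finset.sum_const, smul_eq_mul] at h3
    omega
  have hB : Set.ncard {g : M | g ∈ Sw M {a, b} ∧ fx (g : Equiv.Perm Ω) = 0} = BF.card := by
    rw [ncard_setOf_eq]
    congr 1
    ext g
    simp [BF, CF]
  rw [hB]
  omega

theorem Zas.fpf_cases {M : Subgroup (Equiv.Perm Ω)} (h : Zas M) (hA : M ≤ alternatingGroup Ω)
    {k : ℕ} (hM : Nat.card M = 306 * 2 ^ k) {g : M} (hg : fx (g : Equiv.Perm Ω) = 0) :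
    (∃ s : Finset Ω, s.card = 2 ∧ g ∈ Sw M s) ∨ g ^ 9 = 1 := by
  have hfpf : ∀ x, (g : Equiv.Perm Ω) x ≠ x := by
    intro x hx
    have h1 : x ∈ ((g : Equiv.Perm Ω).support)ᶜ := mem_fxset.mpr hx
    unfold fx at hg
    rw [Finset.card_eq_zero] at hg
    rw [hg] at h1
    exact absurd h1 (Finset.notMem_empty x)
  have hord : orderOf g ∣ 306 * 2 ^ k := hM ▸ orderOf_dvd_natCard g
  have hpos : orderOf g ≠ 0 := (orderOf_pos g).ne'
  by_cases h2 : 2 ∣ orderOf g
  · left
    set τ : M := g ^ (orderOf g / 2) with hτ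
    have hτo : orderOf τ = 2 := orderOf_pow_orderOf_div hpos h2
    set t : Equiv.Perm Ω := (τ : Equiv.Perm Ω) with ht
    have hto : orderOf t = 2 := by rw [ht, Subgroup.orderOf_coe, hτo]
    have ht1 : t ≠ 1 := by
      intro hh
      rw [hh, orderOf_one] at hto
      omega
    have ht2 : t ^ 2 = 1 := by rw [← hto]; exact pow_orderOf_eq_one t
    have hfx := h.fx_invol hA τ.2 ht1 ht2
    have hcomm : (g : Equiv.Perm Ω) * t = t * (g : Equiv.Perm Ω) := by
      have h1 : g * τ = τ * g := ((Commute.refl g).pow_right _).eq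
      have h2 := congrArg (Subtype.val : M → Equiv.Perm Ω) h1
      simpa only [Subgroup.coe_mul] using h2
    refine ⟨(t.support)ᶜ, hfx, ?_⟩
    intro x hx
    refine ⟨?_, hfpf x⟩
    rw [mem_fxset] at hx ⊢
    exact fix_of_comm hcomm hx
  · by_cases h17 : 17 ∣ orderOf g
    · exfalso
      haveI : Fact (Nat.Prime 17) := ⟨by norm_num⟩
      set υ : M := g ^ (orderOf g / 17) with hυ
      have hυo : orderOf υ = 17 := orderOf_pow_orderOf_div hpos h17
      set y : Equiv.Perm Ω := (υ : Equiv.Perm Ω) with hy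
      have hyo : orderOf y = 17 := by rw [hy, Subgroup.orderOf_coe, hυo]
      have hy1 : y ≠ 1 := by
        intro hh
        rw [hh, orderOf_one] at hyo
        omega
      have hy17 : y ^ 17 ^ 1 = 1 := by rw [pow_one, ← hyo]; exact pow_orderOf_eq_one y
      have hmod := Equiv.Perm.card_compl_support_modEq hy17
      rw [h.card] at hmod
      have hle := h.fx_le_two υ.2 hy1
      have hfx1 : (y.support)ᶜ.card = 1 := by
        have hle' : (y.support)ᶜ.card ≤ 2 := hle
        have : (y.support)ᶜ.card % 17 = 18 % 17 := hmod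
        omega
      obtain ⟨c, hc⟩ := Finset.card_eq_one.mp hfx1
      have hyc : y c = c := by
        rw [← mem_fxset, hc]; exact Finset.mem_singleton_self c
      have hcomm : (g : Equiv.Perm Ω) * y = y * (g : Equiv.Perm Ω) := by
        have h1 : g * υ = υ * g := ((Commute.refl g).pow_right _).eq
        have h2 := congrArg (Subtype.val : M → Equiv.Perm Ω) h1
        simpa only [Subgroup.coe_mul] using h2
      have h3 : y ((g : Equiv.Perm Ω) c) = (g : Equiv.Perm Ω) c := fix_of_comm hcomm hyc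
      rw [← mem_fxset, hc, Finset.mem_singleton] at h3
      exact hfpf c h3
    · right
      have hc2 : Nat.Coprime (orderOf g) 2 :=
        ((Nat.Prime.coprime_iff_not_dvd Nat.prime_two).mpr h2).symm
      have hc17 : Nat.Coprime (orderOf g) 17 :=
        ((Nat.Prime.coprime_iff_not_dvd (by norm_num : Nat.Prime 17)).mpr h17).symm
      have hcop : Nat.Coprime (orderOf g) (17 * 2 ^ (k + 1)) :=
        Nat.Coprime.mul_right hc17 (Nat.Coprime.pow_right _ hc2)
      have hdvd : orderOf g ∣ 9 * (17 * 2 ^ (k + 1)) := by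
        have : 306 * 2 ^ k = 9 * (17 * 2 ^ (k + 1)) := by ring
        rw [← this]; exact hord
      have h9 : orderOf g ∣ 9 := hcop.dvd_of_dvd_mul_right hdvd
      exact orderOf_dvd_iff_pow_eq_one.mp h9

/-- At least 1088 nonidentity elements of order dividing 9. -/
theorem Zas.card_nine {M : Subgroup (Equiv.Perm Ω)} (h : Zas M) (hA : M ≤ alternatingGroup Ω)
    {k : ℕ} (hk : 3 ≤ k) (hM : Nat.card M = 306 * 2 ^ k) :
    1088 ≤ Set.ncard {g : M | g ≠ 1 ∧ g ^ 9 = 1} := by
  classical
  haveI : Fintype M := Fintype.ofFinite M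
  have h8 : 8 ≤ 2 ^ k := by
    calc 8 = 2 ^ 3 := by norm_num
      _ ≤ 2 ^ k := Nat.pow_le_pow_right (by norm_num) hk
  have hd2 : 2 ∣ 2 ^ k := dvd_pow_self 2 (by omega)
  have hZ := h.card_fpf
  rw [hM, ncard_setOf_eq] at hZ
  rw [ncard_setOf_eq]
  let ZF : Finset M := Finset.univ.filter (fun g : M => fx (g : Equiv.Perm Ω) = 0)
  let EF : Finset M := Finset.univ.filter (fun g : M => g ≠ 1 ∧ g ^ 9 = 1)
  let P2 : Finset (Finset Ω) := Finset.powersetCard 2 Finset.univ
  let BF : Finset Ω → Finset M := fun s =>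
    Finset.univ.filter (fun g : M => g ∈ Sw M s ∧ fx (g : Equiv.Perm Ω) = 0)
  have hP2 : P2.card = 153 := by
    rw [Finset.card_powersetCard, Finset.card_univ, h.card]
    decide
  have hBF : ∀ s ∈ P2, (BF s).card ≤ 2 ^ k - 8 := by
    intro s hs
    have hs2 : s.card = 2 := (Finset.mem_powersetCard.mp hs).2
    have := h.card_Sw_fpf hA hM hd2 hs2
    rw [ncard_setOf_eq] at this
    have this' : (BF s).card + 8 ≤ 2 ^ k := this
    omega
  have hsub : ZF ⊆ P2.biUnion BF ∪ EF := by
    intro g hg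
    have hg0 : fx (g : Equiv.Perm Ω) = 0 := (Finset.mem_filter.mp hg).2
    rw [Finset.mem_union]
    rcases h.fpf_cases hA hM hg0 with ⟨s, hs, hgs⟩ | h9
    · left
      rw [Finset.mem_biUnion]
      refine ⟨s, Finset.mem_powersetCard.mpr ⟨Finset.subset_univ _, hs⟩, ?_⟩
      exact Finset.mem_filter.mpr ⟨Finset.mem_univ _, hgs, hg0⟩
    · right
      refine Finset.mem_filter.mpr ⟨Finset.mem_univ _, ?_, h9⟩
      intro hh
      rw [hh, Subgroup.coe_one, fx_one h.card] at hg0
      omega
  have h1 := Finset.card_le_card hsub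
  have h2 := Finset.card_union_le (P2.biUnion BF) EF
  have h3 := Finset.card_biUnion_le (s := P2) (t := BF)
  have h4 : ∑ s ∈ P2, (BF s).card ≤ ∑ _s ∈ P2, (2 ^ k - 8) := Finset.sum_le_sum hBF
  rw [Finset.sum_const, smul_eq_mul, hP2] at h4
  have hZF : 2 * ZF.card + 272 = 306 * 2 ^ k := hZ
  have hEF : EF.card = (Finset.univ.filter (fun g : M => g ≠ 1 ∧ g ^ 9 = 1)).card := rfl
  rw [← hEF]
  omega

end Cfsg.Agent.Lib.Helper19.SylNum
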