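import Mathlib
import Cfsg.Agent.Lib.Helper19.SylNumG

/-!
# Zassenhaus-type permutation groups of degree 18, part 7 (helper19, for S3641)

The even part of a Zassenhaus group; the number of Sylow 3-subgroups.
-/

set_option autoImplicit false

namespace Cfsg.Agent.Lib.Helper19.SylNum

variable {Ω : Type*} [Fintype Ω] [DecidableEq Ω]

theorem IsQ.le_alt {M : Subgroup (Equiv.Perm Ω)} {a : Ω} {Q : Subgroup (Equiv.Perm Ω)}
    (hQ : IsQ M a Q) : Q ≤ alternatingGroup Ω := by
  intro x hx
  rw [Equiv.Perm.mem_alternatingGroup]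
  have h1 : (⟨x, hx⟩ : Q) ^ 17 = 1 := by
    rw [← hQ.2.1]; exact pow_card_eq_one'
  have h2 : x ^ 17 = 1 := by
    have := congrArg (Subtype.val : Q → Equiv.Perm Ω) h1
    simpa using this
  have h3 : (Equiv.Perm.sign x) ^ 17 = 1 := by
    rw [← map_pow, h2, map_one]
  rcases Int.units_eq_one_or (Equiv.Perm.sign x) with h | h
  · exact h
  · rw [h] at h3
    exact absurd h3 (by decide)

theorem Zas.alt {M : Subgroup (Equiv.Perm Ω)} (h : Zas M) : Zas (M ⊓ alternatingGroup Ω) := by
  classical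
  have hq : ∀ a : Ω, ∃ Q : Subgroup (Equiv.Perm Ω), IsQ (M ⊓ alternatingGroup Ω) a Q := by
    intro a
    obtain ⟨Q, hQ⟩ := h.q a
    refine ⟨Q, le_inf hQ.1 hQ.le_alt, hQ.2.1, hQ.2.2.1, ?_, hQ.2.2.2.2⟩
    intro g hg hga x hx
    exact hQ.2.2.2.1 g hg.1 hga x hx
  refine ⟨h.card, ?_, hq⟩
  intro a b
  by_cases hab : a = b
  · exact ⟨1, Subgroup.one_mem _, by rw [hab]; rfl⟩
  · have h3 : ∃ c : Ω, c ≠ a ∧ c ≠ b := by
      by_contra hcon
      push Not at hcon
      have : (Finset.univ : Finset Ω) ⊆ {a, b} := by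
        intro c _
        by_cases hca : c = a
        · simp [hca]
        · simp [hcon c hca]
      have h4 := Finset.card_le_card this
      rw [Finset.card_univ, h.card] at h4
      have h5 : ({a, b} : Finset Ω).card ≤ 2 := Finset.card_le_two
      omega
    obtain ⟨c, hca, hcb⟩ := h3
    obtain ⟨Q, hQ⟩ := hq c
    obtain ⟨x, hxQ, hx⟩ := hQ.reg h.card hca.symm hcb.symm
    exact ⟨x, hQ.1 hxQ, hx⟩

theorem not_three_dvd (k : ℕ) : ¬ 3 ∣ 34 * 2 ^ k := by
  intro hdvd
  rcases (Nat.Prime.dvd_mul Nat.prime_three).mp hdvd with h | h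
  · norm_num at h
  · have := Nat.Prime.dvd_of_dvd_pow Nat.prime_three h
    norm_num at this

/-- If a group of order `306 * 2 ^ k` has at least 1088 nonidentity elements of order dividing 9
then it has at least 136 Sylow 3-subgroups. -/
theorem card_sylow_three_ge {H : Type*} [Group H] [Finite H] {k : ℕ}
    (hH : Nat.card H = 306 * 2 ^ k)
    (hE : 1088 ≤ Set.ncard {g : H | g ≠ 1 ∧ g ^ 9 = 1}) : 136 ≤ Nat.card (Sylow 3 H) := by
  classical
  haveI : Fact (Nat.Prime 3) := ⟨Nat.prime_three⟩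
  haveI : Fintype H := Fintype.ofFinite H
  haveI : Fintype (Sylow 3 H) := Fintype.ofFinite _
  have hP : ∀ P : Sylow 3 H, Nat.card (P : Subgroup H) = 3 ^ 2 := by
    intro P
    apply sylow_card_of_eq 3 2 (34 * 2 ^ k) (not_three_dvd k) _ P
    rw [hH]; ring
  rw [ncard_setOf_eq] at hE
  let EF : Finset H := Finset.univ.filter (fun g : H => g ≠ 1 ∧ g ^ 9 = 1)
  let PF : Sylow 3 H → Finset H := fun P =>
    Finset.univ.filter (fun g : H => g ∈ (P : Subgroup H) ∧ g ≠ 1)
  have hPF : ∀ P : Sylow 3 H, (PF P).card = 8 := by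
    intro P
    have h1 : PF P = (Finset.univ.filter (fun g : H => g ∈ (P : Subgroup H))).erase 1 := by
      ext g
      simp only [PF, Finset.mem_filter, Finset.mem_univ, true_and, Finset.mem_erase]
      tauto
    have h2 : (Finset.univ.filter (fun g : H => g ∈ (P : Subgroup H))).card = 9 := by
      have := hP P
      rw [Nat.card_eq_fintype_card] at this
      have h3 : Fintype.card {x // x ∈ (P : Subgroup H)} =
          (Finset.univ.filter (fun g : H => g ∈ (P : Subgroup H))).card :=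
        Fintype.card_of_subtype (p := fun g : H => g ∈ (P : Subgroup H))
          (Finset.univ.filter (fun g : H => g ∈ (P : Subgroup H))) (fun x => by simp)
      rw [← h3]
      norm_num at this
      convert this
    rw [h1, Finset.card_erase_of_mem, h2]
    simp
  have hsub : EF ⊆ (Finset.univ : Finset (Sylow 3 H)).biUnion PF := by
    intro g hg
    obtain ⟨-, hg1, hg9⟩ := Finset.mem_filter.mp hg
    have hpg : IsPGroup 3 (Subgroup.zpowers g) := by
      intro x
      obtain ⟨m, hm⟩ := Subgroup.mem_zpowers_iff.mp x.2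
      refine ⟨2, ?_⟩
      apply Subtype.ext
      rw [Subgroup.coe_pow, ← hm, Subgroup.coe_one]
      norm_num
      rw [← zpow_natCast, ← zpow_mul, mul_comm, zpow_mul, zpow_natCast, hg9, one_zpow]
    obtain ⟨P, hP'⟩ := hpg.exists_le_sylow
    rw [Finset.mem_biUnion]
    refine ⟨P, Finset.mem_univ _, ?_⟩
    exact Finset.mem_filter.mpr ⟨Finset.mem_univ _, hP' (Subgroup.mem_zpowers g), hg1⟩
  have h1 := Finset.card_le_card hsub
  have h2 := Finset.card_biUnion_le (s := (Finset.univ : Finset (Sylow 3 H))) (t := PF)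
  rw [Finset.sum_congr rfl (fun P _ => hPF P), Finset.sum_const, smul_eq_mul, Finset.card_univ,
    ← Nat.card_eq_fintype_card] at h2
  have h3 : 1088 ≤ EF.card := hE
  omega

end Cfsg.Agent.Lib.Helper19.SylNum
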