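import Mathlib
import Cfsg.Agent.S0732
import Cfsg.Agent.Lib.Helper19.SylNumH

/-!
# Zassenhaus-type permutation groups of degree 18, part 8 (helper19, for S3641)

Identification via S0732 and the resulting Sylow numbers.
-/

set_option autoImplicit false

namespace Cfsg.Agent.Lib.Helper19.SylNum

variable {Ω : Type*} [Fintype Ω] [DecidableEq Ω]

/-- A Zassenhaus-type group of degree 18 is `PGL(2,17)` or `PSL(2,17)`. -/
theorem Zas.classify {M : Subgroup (Equiv.Perm Ω)} (h : Zas M) :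
    (Nat.card M = 306 * 2 ^ 4 ∧ Nonempty (M ≃* Matrix.ProjGenLinGroup (Fin 2) (ZMod 17))) ∨
    (Nat.card M = 306 * 2 ^ 3 ∧
      Nonempty (M ≃* Matrix.ProjectiveSpecialLinearGroup (Fin 2) (ZMod 17))) := by
  haveI := h.pretrans
  have hne : ∃ a b : Ω, a ≠ b := by
    have : 1 < Fintype.card Ω := by rw [h.card]; norm_num
    obtain ⟨a, b, hab⟩ := Fintype.one_lt_card_iff.mp this
    exact ⟨a, b, hab⟩
  obtain ⟨a, b, hab⟩ := hne
  have hc := h.card_eq hab
  have hd := h.card_D_le hab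
  have hG : Nat.card M = (17 + 1) * 17 * Nat.card (D M a b) := by rw [hc]
  rcases Cfsg.Agent.S0732.result (p := 17) (d := Nat.card (D M a b)) (by norm_num)
    (by rw [h.card]) M hG (by omega) with ⟨h1, h2⟩ | ⟨h1, h2⟩ | ⟨q, hq, h1, -⟩
  · left
    refine ⟨?_, h2⟩
    rw [hc, h1]
    norm_num
  · right
    refine ⟨?_, h2⟩
    rw [hc]
    omega
  · exfalso
    have hq5 : q < 5 := by
      by_contra hcon
      have : 2 ^ 5 ≤ 2 ^ q := Nat.pow_le_pow_right (by norm_num) (by omega)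
      omega
    interval_cases q <;> omega

theorem Zas.card_cases {M : Subgroup (Equiv.Perm Ω)} (h : Zas M) :
    ∃ k : ℕ, 3 ≤ k ∧ k ≤ 4 ∧ Nat.card M = 306 * 2 ^ k := by
  rcases h.classify with ⟨h1, -⟩ | ⟨h1, -⟩
  · exact ⟨4, by norm_num, le_refl _, h1⟩
  · exact ⟨3, le_refl _, by norm_num, h1⟩

theorem Zas.card_sylow_two_ge' {M : Subgroup (Equiv.Perm Ω)} (h : Zas M) :
    153 ≤ Nat.card (Sylow 2 M) := by
  obtain ⟨k, hk3, -, hk⟩ := h.card_cases
  exact h.card_sylow_two_ge (by omega) hk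

theorem Zas.card_sylow_three_ge' {M : Subgroup (Equiv.Perm Ω)} (h : Zas M) :
    136 ≤ Nat.card (Sylow 3 M) := by
  obtain ⟨k, -, -, hk⟩ := h.card_cases
  obtain ⟨k', hk'3, -, hk'⟩ := h.alt.card_cases
  have h9 := h.alt.card_nine inf_le_right hk'3 hk'
  apply card_sylow_three_ge hk
  refine le_trans h9 ?_
  -- transfer along the inclusion
  let ι : (M ⊓ alternatingGroup Ω : Subgroup (Equiv.Perm Ω)) →* M := Subgroup.inclusion inf_le_left
  have hι : Function.Injective ι := Subgroup.inclusion_injective inf_le_left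
  rw [← Set.ncard_image_of_injective _ hι]
  apply Set.ncard_le_ncard
  · rintro _ ⟨g, ⟨hg1, hg9⟩, rfl⟩
    refine ⟨?_, ?_⟩
    · intro hh
      apply hg1
      apply hι
      rw [hh, map_one]
    · rw [← map_pow, hg9, map_one]
  · exact Set.toFinite _

end Cfsg.Agent.Lib.Helper19.SylNum
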