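import Mathlib
import Cfsg.Agent.Lib.Helper19.SylNumA

/-!
# A normal subgroup normalising all Sylow subgroups (helper19, for S3641)

If `K ⊴ G` normalises every Sylow subgroup of `G` and `Z(G) = 1` then `K = 1`.
-/

set_option autoImplicit false

namespace Cfsg.Agent.Lib.Helper19.SylNum

open Subgroup

/-- In a finite `p`-group a nontrivial normal subgroup meets the centre nontrivially. -/
theorem normal_inf_center_ne_bot' {G : Type*} [Group G] [Finite G] {p : ℕ} [Fact p.Prime]
    (hG : IsPGroup p G) (N : Subgroup G) [N.Normal] (hN : N ≠ ⊥) :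
    N ⊓ Subgroup.center G ≠ ⊥ := by
  have hGc : IsPGroup p (ConjAct G) := hG.of_equiv ConjAct.toConjAct
  have hNp : IsPGroup p N := hG.to_subgroup N
  have hdvd : p ∣ Nat.card N := by
    rcases hNp.card_eq_or_dvd with h | h
    · exfalso
      apply hN
      exact (Subgroup.card_eq_one).mp h
    · exact h
  have h1 : (1 : N) ∈ MulAction.fixedPoints (ConjAct G) N := by
    intro g
    exact smul_one g
  obtain ⟨b, hb, hb1⟩ := hGc.exists_fixed_point_of_prime_dvd_card_of_fixed_point N hdvd h1
  intro hbot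
  apply hb1
  have hbc : (b : G) ∈ N ⊓ Subgroup.center G := by
    refine Subgroup.mem_inf.mpr ⟨b.2, ?_⟩
    rw [Subgroup.mem_center_iff]
    intro g
    have := hb (ConjAct.toConjAct g)
    have h2 := congrArg Subtype.val this
    rw [ConjAct.Subgroup.val_conj_smul, ConjAct.toConjAct_smul] at h2
    calc g * (b : G) = (g * (b : G) * g⁻¹) * g := by group
      _ = (b : G) * g := by rw [h2]
  rw [hbot, Subgroup.mem_bot] at hbc
  exact (Subtype.ext hbc).symm

variable {G : Type*} [Group G] [Finite G]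

/-- If `K` normalises the Sylow subgroup `P'` then `K ⊓ P ≤ P'` for every Sylow `p`-subgroup `P`. -/
theorem inf_sylow_le {p : ℕ} [Fact p.Prime] (K : Subgroup G) (P P' : Sylow p G)
    (hK : K ≤ normalizer ((P' : Subgroup G) : Set G)) : K ⊓ (P : Subgroup G) ≤ P' := by
  have hNp : IsPGroup p (K ⊓ (P : Subgroup G) : Subgroup G) := P.2.to_le inf_le_right
  have h1 := hNp.inf_normalizer_sylow P'
  have h2 : K ⊓ (P : Subgroup G) ≤ normalizer ((P' : Subgroup G) : Set G) := inf_le_left.trans hK
  rw [Sylow.coe_coe] at h2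
  rw [inf_eq_left.mpr h2] at h1
  rw [h1]
  exact inf_le_right

/-- If a normal subgroup `K` normalises every Sylow `p`-subgroup then `K ⊓ P` is normal. -/
theorem inf_sylow_normal {p : ℕ} [Fact p.Prime] (K : Subgroup G) [hKn : K.Normal] (P : Sylow p G)
    (hK : ∀ P' : Sylow p G, K ≤ normalizer ((P' : Subgroup G) : Set G)) :
    (K ⊓ (P : Subgroup G)).Normal := by
  constructor
  intro n hn g
  apply Subgroup.mem_inf.mpr
  refine ⟨hKn.conj_mem n hn.1 g, ?_⟩
  have h1 : n ∈ ((g⁻¹ • P : Sylow p G) : Subgroup G) := inf_sylow_le K P _ (hK _) hn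
  rw [Sylow.coe_subgroup_smul, Subgroup.mem_pointwise_smul_iff_inv_smul_mem] at h1
  have h2 : (MulAut.conj g⁻¹)⁻¹ • n = g * n * g⁻¹ := by
    rw [← map_inv, inv_inv, MulAut.smul_def, MulAut.conj_apply]
  rw [h2] at h1
  exact h1

/-- Main lemma: a normal subgroup normalising all Sylow subgroups of a centreless group is
trivial. -/
theorem eq_bot_of_le_normalizers (hZ : Subgroup.center G = ⊥) (K : Subgroup G) [hKn : K.Normal]
    (hK : ∀ (p : ℕ) [Fact p.Prime], p ∣ Nat.card G → ∀ P : Sylow p G,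
      K ≤ normalizer ((P : Subgroup G) : Set G)) : K = ⊥ := by
  by_contra hne
  have hcard : Nat.card K ≠ 1 := fun h => hne (Subgroup.card_eq_one.mp h)
  obtain ⟨p, hp, hpd⟩ := Nat.exists_prime_and_dvd hcard
  haveI : Fact p.Prime := ⟨hp⟩
  have hpG : p ∣ Nat.card G := hpd.trans (Subgroup.card_subgroup_dvd_card K)
  obtain ⟨x, hx⟩ := exists_prime_orderOf_dvd_card' (G := K) p hpd
  have hxo : orderOf (x : G) = p := by rw [Subgroup.orderOf_coe, hx]
  have hpg : IsPGroup p (Subgroup.zpowers (x : G)) :=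
    IsPGroup.of_card (n := 1) (by rw [Nat.card_zpowers, hxo, pow_one])
  obtain ⟨P, hP⟩ := hpg.exists_le_sylow
  set N : Subgroup G := K ⊓ (P : Subgroup G) with hN
  have hxN : (x : G) ∈ N := ⟨x.2, hP (Subgroup.mem_zpowers _)⟩
  have hx1 : (x : G) ≠ 1 := by
    intro h
    rw [h, orderOf_one] at hxo
    exact hp.one_lt.ne hxo
  have hNp : IsPGroup p N := P.2.to_le inf_le_right
  haveI hNn : N.Normal := inf_sylow_normal K P (fun P' => hK p hpG P')
  -- Sylow subgroups for other primes centralise `N`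
  have hcent : ∀ (r : ℕ) [Fact r.Prime], r ∣ Nat.card G → r ≠ p → ∀ R : Sylow r G,
      ∀ y ∈ (R : Subgroup G), ∀ n ∈ N, y * n = n * y := by
    intro r _ hrG hrp R y hy n hn
    have hc1 : y * n * y⁻¹ * n⁻¹ ∈ N := N.mul_mem (hNn.conj_mem n hn y) (N.inv_mem hn)
    have hc2 : y * n * y⁻¹ * n⁻¹ ∈ (R : Subgroup G) := by
      have hnR : n ∈ normalizer ((R : Subgroup G) : Set G) := hK r hrG R hn.1
      have h3 : n * y⁻¹ * n⁻¹ ∈ (R : Subgroup G) :=
        (Subgroup.mem_normalizer_iff.mp hnR y⁻¹).mp ((R : Subgroup G).inv_mem hy)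
      have : y * n * y⁻¹ * n⁻¹ = y * (n * y⁻¹ * n⁻¹) := by group
      rw [this]
      exact (R : Subgroup G).mul_mem hy h3
    have hdis : Disjoint N (R : Subgroup G) := IsPGroup.disjoint_of_ne p r hrp.symm N R hNp R.2
    have h1 : y * n * y⁻¹ * n⁻¹ = 1 := Subgroup.disjoint_def.mp hdis hc1 hc2
    calc y * n = (y * n * y⁻¹ * n⁻¹) * (n * y) := by group
      _ = n * y := by rw [h1, one_mul]
  -- a central element of `P` inside `N`
  haveI : (N.subgroupOf (P : Subgroup G)).Normal := hNn.subgroupOf _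
  have hN'ne : N.subgroupOf (P : Subgroup G) ≠ ⊥ := by
    intro h
    have : (⟨(x : G), hxN.2⟩ : (P : Subgroup G)) ∈ N.subgroupOf (P : Subgroup G) := by
      rw [Subgroup.mem_subgroupOf]; exact hxN
    rw [h, Subgroup.mem_bot] at this
    exact hx1 (congrArg Subtype.val this)
  have hmeet := normal_inf_center_ne_bot' (P.2 : IsPGroup p (P : Subgroup G))
    (N.subgroupOf (P : Subgroup G)) hN'ne
  obtain ⟨z', hz', hz'1⟩ : ∃ z' ∈ N.subgroupOf (P : Subgroup G) ⊓
      Subgroup.center (P : Subgroup G), z' ≠ 1 := by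
    by_contra hcon
    push Not at hcon
    exact hmeet ((Subgroup.eq_bot_iff_forall _).mpr hcon)
  have hzN : (z' : G) ∈ N := Subgroup.mem_subgroupOf.mp hz'.1
  have hz1 : (z' : G) ≠ 1 := by
    intro h
    apply hz'1
    exact Subtype.ext h
  have hzP : ∀ y ∈ (P : Subgroup G), y * (z' : G) = (z' : G) * y := by
    intro y hy
    have := Subgroup.mem_center_iff.mp hz'.2 ⟨y, hy⟩
    exact congrArg Subtype.val this
  -- the centraliser of `z` is everything
  have hC : Subgroup.centralizer {(z' : G)} = ⊤ := by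
    rw [← Subgroup.index_eq_one]
    by_contra hidx
    obtain ⟨r, hr, hrd⟩ := Nat.exists_prime_and_dvd hidx
    haveI : Fact r.Prime := ⟨hr⟩
    have hrG : r ∣ Nat.card G := hrd.trans (Subgroup.index_dvd_card _)
    have hex : ∃ R : Sylow r G, (R : Subgroup G) ≤ Subgroup.centralizer {(z' : G)} := by
      by_cases hrp : r = p
      · subst hrp
        refine ⟨P, ?_⟩
        intro y hy
        rw [Subgroup.mem_centralizer_iff]
        intro w hw
        rw [Set.mem_singleton_iff] at hw
        subst hw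
        exact (hzP y hy).symm
      · obtain ⟨R⟩ : Nonempty (Sylow r G) := inferInstance
        refine ⟨R, ?_⟩
        intro y hy
        rw [Subgroup.mem_centralizer_iff]
        intro w hw
        rw [Set.mem_singleton_iff] at hw
        subst hw
        exact (hcent r hrG hrp R y hy _ hzN).symm
    obtain ⟨R, hR⟩ := hex
    have h1 := Subgroup.index_dvd_of_le hR
    exact R.not_dvd_index (hrd.trans h1)
  have hzc : (z' : G) ∈ Subgroup.center G := by
    rw [Subgroup.mem_center_iff]
    intro g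
    have hg : g ∈ Subgroup.centralizer {(z' : G)} := by rw [hC]; trivial
    exact (Subgroup.mem_centralizer_iff.mp hg (z' : G) rfl).symm
  rw [hZ, Subgroup.mem_bot] at hzc
  exact hz1 hzc

end Cfsg.Agent.Lib.Helper19.SylNum
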