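import Mathlib
import Cfsg.Agent.Lib.Helper19.SylNumJ

/-!
# Sylow numbers modulo a normal `p`-subgroup (helper19, for S3641)
-/

set_option autoImplicit false

namespace Cfsg.Agent.Lib.Helper19.SylNum

open Subgroup

variable {G : Type*} [Group G] [Finite G]

/-- Let `K ⊴ G` normalise all Sylow `p`-subgroups, `P₀ = K ⊓ P`, and let `R ≤ K` be a Sylow
`r`-subgroup, `r ≠ p`. Then `x = n_r(G ⧸ P₀)` divides `n_r(G)`, is `≡ 1 mod r`, is prime to `p`,
and if `x = 1` then `n_r(G)` divides `|P₀|`. -/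
theorem exists_sylow_quot_count (K : Subgroup G) [hKn : K.Normal] {p r : ℕ} [Fact p.Prime]
    [Fact r.Prime] (P : Sylow p G)
    (hK : ∀ P' : Sylow p G, K ≤ normalizer ((P' : Subgroup G) : Set G))
    (R : Sylow r G) (hRK : (R : Subgroup G) ≤ K) :
    ∃ x : ℕ, x ∣ Nat.card (Sylow r G) ∧ x ≡ 1 [MOD r] ∧ ¬ p ∣ x ∧
      (x = 1 → Nat.card (Sylow r G) ∣ Nat.card (K ⊓ (P : Subgroup G) : Subgroup G)) := by
  set P₀ : Subgroup G := K ⊓ (P : Subgroup G) with hP₀
  haveI hP₀n : P₀.Normal := inf_sylow_normal K P hK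
  let f : G →* G ⧸ P₀ := QuotientGroup.mk' P₀
  have hf : Function.Surjective f := QuotientGroup.mk'_surjective P₀
  have hker : f.ker = P₀ := QuotientGroup.ker_mk' P₀
  refine ⟨Nat.card (Sylow r (G ⧸ P₀)), card_sylow_dvd hf r, card_sylow_modEq_one r (G ⧸ P₀),
    ?_, ?_⟩
  · -- prime to `p`
    rw [Sylow.card_eq_index_normalizer (R.mapSurjective hf)]
    have hle : ((P.mapSurjective hf : Sylow p (G ⧸ P₀)) : Subgroup (G ⧸ P₀)) ≤
        normalizer (((R.mapSurjective hf : Sylow r (G ⧸ P₀)) : Subgroup (G ⧸ P₀)) :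
          Set (G ⧸ P₀)) := by
      refine le_trans ?_ (Subgroup.centralizer_le_normalizer _)
      intro ybar hy
      rw [Sylow.coe_mapSurjective, Subgroup.mem_map] at hy
      obtain ⟨y, hyP, rfl⟩ := hy
      rw [Subgroup.mem_centralizer_iff]
      intro hbar hh
      rw [SetLike.mem_coe, Sylow.coe_mapSurjective, Subgroup.mem_map] at hh
      obtain ⟨w, hwR, rfl⟩ := hh
      have hwK : w ∈ K := hRK hwR
      show f w * f y = f y * f w
      rw [← map_mul, ← map_mul]
      show ((w * y : G) : G ⧸ P₀) = ((y * w : G) : G ⧸ P₀)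
      rw [QuotientGroup.eq]
      apply Subgroup.mem_inf.mpr
      constructor
      · have h1 : y⁻¹ * w⁻¹ * y⁻¹⁻¹ ∈ K := hKn.conj_mem _ (K.inv_mem hwK) y⁻¹
        have h3 : (w * y)⁻¹ * (y * w) = (y⁻¹ * w⁻¹ * y⁻¹⁻¹) * w := by group
        rw [h3]
        exact K.mul_mem h1 hwK
      · have hwn : w⁻¹ ∈ normalizer ((P : Subgroup G) : Set G) := hK P (K.inv_mem hwK)
        have h2 : w⁻¹ * y * w⁻¹⁻¹ ∈ (P : Subgroup G) :=
          (Subgroup.mem_normalizer_iff.mp hwn y).mp hyP
        have h3 : (w * y)⁻¹ * (y * w) = y⁻¹ * (w⁻¹ * y * w⁻¹⁻¹) := by group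
        rw [h3]
        exact (P : Subgroup G).mul_mem ((P : Subgroup G).inv_mem hyP) h2
    have h1 := Subgroup.index_dvd_of_le hle
    intro hp
    exact (P.mapSurjective hf).not_dvd_index (hp.trans h1)
  · intro hx1
    have hmul := card_sylow_eq_mul hf r R
    rw [hx1, one_mul, hker] at hmul
    set A : Subgroup G := normalizer ((R : Subgroup G) : Set G) with hA
    set B : Subgroup G := normalizer (((R : Subgroup G) ⊔ P₀ : Subgroup G) : Set G) with hB
    have hAB : A ≤ B := normalizer_le_normalizer_sup _ _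
    have hidx : Nat.card (Sylow r G) = A.index := Sylow.card_eq_index_normalizer R
    have h2 := Subgroup.relIndex_mul_index hAB
    have hA0 : A.index ≠ 0 := Subgroup.index_ne_zero_of_finite
    have hBtop : B = ⊤ := by
      rw [← Subgroup.index_eq_one]
      rw [← hmul, hidx] at h2
      have h3 : A.index * B.index = A.index * 1 := by rw [h2, mul_one]
      exact Nat.eq_of_mul_eq_mul_left (Nat.pos_of_ne_zero hA0) h3
    haveI hNn : ((R : Subgroup G) ⊔ P₀ : Subgroup G).Normal :=
      Subgroup.normalizer_eq_top_iff.mp hBtop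
    have hfr := Sylow.normalizer_sup_eq_top' (N := (R : Subgroup G) ⊔ P₀) R le_sup_left
    have hAP : A ⊔ P₀ = ⊤ := by
      have hRA : (R : Subgroup G) ≤ A := Subgroup.le_normalizer
      rw [Sylow.coe_coe] at hA
      rw [← hA, ← sup_assoc, sup_eq_left.mpr hRA] at hfr
      exact hfr
    rw [hidx]
    -- index computation
    have h3 : P₀.relIndex (A ⊔ P₀) = P₀.relIndex A := Subgroup.relIndex_sup_right A P₀
    rw [hAP, Subgroup.relIndex_top_right] at h3
    have h4 := Subgroup.card_mul_index (P₀.subgroupOf A)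
    have h5 : (P₀.subgroupOf A).index = P₀.index := h3.symm
    rw [h5] at h4
    have h6 := Subgroup.card_mul_index A
    have h7 := Subgroup.card_mul_index P₀
    have hP0 : P₀.index ≠ 0 := Subgroup.index_ne_zero_of_finite
    refine ⟨Nat.card (P₀.subgroupOf A), ?_⟩
    have h8 : Nat.card P₀ * P₀.index = (A.index * Nat.card (P₀.subgroupOf A)) * P₀.index := by
      rw [h7, ← h6, ← h4]; ring
    exact Nat.eq_of_mul_eq_mul_right (Nat.pos_of_ne_zero hP0) h8

end Cfsg.Agent.Lib.Helper19.SylNum
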