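import Mathlib
import Cfsg.Agent.Lib.Helper19.SylNumB

/-!
# The action on 18 Sylow 17-subgroups is of Zassenhaus type (helper19, for S3641)
-/

set_option autoImplicit false

namespace Cfsg.Agent.Lib.Helper19.SylNum

open Subgroup

variable {G : Type*} [Group G] [Finite G]

theorem toPermHom_apply' {p : ℕ} (g : G) (P : Sylow p G) :
    (MulAction.toPermHom G (Sylow p G) g) P = g • P := rfl

/-- A `p`-subgroup normalising the Sylow `p`-subgroup `P'` is contained in it. -/
theorem le_of_le_normalizer {p : ℕ} [Fact p.Prime] {S : Subgroup G} (hS : IsPGroup p S)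
    (P' : Sylow p G) (h : S ≤ normalizer ((P' : Subgroup G) : Set G)) : S ≤ P' := by
  have h1 := hS.inf_normalizer_sylow P'
  rw [Sylow.coe_coe] at h
  rw [inf_eq_left.mpr h] at h1
  rw [h1]
  exact inf_le_right

theorem not_dvd_fact18 : ¬ 17 ^ 2 ∣ Nat.factorial 18 := by decide

theorem zas_of_sylow [Fintype (Sylow 17 G)] [DecidableEq (Sylow 17 G)]
    (hn : Nat.card (Sylow 17 G) = 18) :
    Zas (MulAction.toPermHom G (Sylow 17 G)).range := by
  haveI : Fact (Nat.Prime 17) := ⟨by norm_num⟩
  set φ := MulAction.toPermHom G (Sylow 17 G) with hφ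
  have hcard : Fintype.card (Sylow 17 G) = 18 := by rw [← Nat.card_eq_fintype_card, hn]
  refine ⟨hcard, ?_, ?_⟩
  · intro a b
    obtain ⟨g, hg⟩ := MulAction.exists_smul_eq G a b
    exact ⟨φ g, ⟨g, rfl⟩, hg⟩
  · intro P
    set Q : Subgroup (Equiv.Perm (Sylow 17 G)) := (P : Subgroup G).map φ with hQ
    have hQp : IsPGroup 17 Q := P.2.map φ
    -- elements of `P` fixing `P'` for all of `P` forces `P = P'`
    have hfixall : ∀ P' : Sylow 17 G, (∀ w ∈ (P : Subgroup G), w • P' = P') → P' = P := by
      intro P' hw
      have hle : (P : Subgroup G) ≤ normalizer ((P' : Subgroup G) : Set G) := by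
        intro w hwP
        have := Sylow.smul_eq_iff_mem_normalizer.mp (hw w hwP)
        rw [Sylow.coe_coe]
        exact this
      have h2 : (P : Subgroup G) ≤ P' := le_of_le_normalizer P.2 P' hle
      exact Sylow.ext (P.3 P'.2 h2)
    have hQcard : Nat.card Q = 17 := by
      obtain ⟨n, hn'⟩ := IsPGroup.iff_card.mp hQp
      have hdvd : Nat.card Q ∣ Nat.factorial 18 := by
        have := Subgroup.card_subgroup_dvd_card Q
        rw [Nat.card_eq_fintype_card (α := Equiv.Perm (Sylow 17 G)), Fintype.card_perm,
          hcard] at this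
        exact this
      have hn1 : n ≤ 1 := by
        by_contra hcon
        have h2 : 17 ^ 2 ∣ 17 ^ n := pow_dvd_pow 17 (by omega)
        rw [← hn'] at h2
        exact not_dvd_fact18 (h2.trans hdvd)
      have hn0 : n ≠ 0 := by
        intro h0
        rw [h0, pow_zero] at hn'
        have hbot : Q = ⊥ := Subgroup.card_eq_one.mp hn'
        have hall : ∀ P' : Sylow 17 G, P' = P := by
          intro P'
          apply hfixall
          intro w hw
          have h1 : φ w ∈ Q := Subgroup.mem_map_of_mem φ hw
          rw [hbot, Subgroup.mem_bot] at h1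
          have : (φ w) P' = P' := by rw [h1]; rfl
          exact this
        have : Fintype.card (Sylow 17 G) ≤ 1 := by
          rw [Fintype.card_le_one_iff]
          intro a b
          rw [hall a, hall b]
        omega
      have : n = 1 := by omega
      rw [hn', this, pow_one]
    refine ⟨Q, Subgroup.map_le_range φ _, hQcard, ?_, ?_, ?_⟩
    · rintro x ⟨y, hy, rfl⟩
      show y • P = P
      rw [Sylow.smul_eq_iff_mem_normalizer, ← Sylow.coe_coe]
      exact Subgroup.le_normalizer hy
    · rintro g ⟨γ, rfl⟩ hgP x ⟨y, hy, rfl⟩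
      have hγ : γ ∈ normalizer ((P : Subgroup G) : Set G) := by
        rw [Sylow.coe_coe]
        exact Sylow.smul_eq_iff_mem_normalizer.mp hgP
      refine ⟨γ * y * γ⁻¹, (Subgroup.mem_normalizer_iff.mp hγ y).mp hy, ?_⟩
      rw [map_mul, map_mul, map_inv]
    · intro x hxQ hx1 P' hxP'
      apply hfixall
      intro w hw
      -- `φ w` is a power of `x`
      have hxo : orderOf (⟨x, hxQ⟩ : Q) = 17 := by
        have h1 : orderOf (⟨x, hxQ⟩ : Q) ∣ 17 := by
          have := _root_.orderOf_dvd_natCard (⟨x, hxQ⟩ : Q)
          rw [hQcard] at this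
          exact this
        rcases (Nat.dvd_prime (by norm_num : Nat.Prime 17)).mp h1 with h | h
        · exfalso
          apply hx1
          have := orderOf_eq_one_iff.mp h
          exact congrArg Subtype.val this
        · exact h
      have htop : Subgroup.zpowers (⟨x, hxQ⟩ : Q) = ⊤ := by
        apply Subgroup.eq_top_of_card_eq
        rw [Nat.card_zpowers, hxo, hQcard]
      have hmem : (⟨φ w, Subgroup.mem_map_of_mem φ hw⟩ : Q) ∈ Subgroup.zpowers (⟨x, hxQ⟩ : Q) := by
        rw [htop]; trivial
      obtain ⟨k, hk⟩ := Subgroup.mem_zpowers_iff.mp hmem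
      have hk' : x ^ k = φ w := by
        have := congrArg Subtype.val hk
        simpa using this
      have : (φ w) P' = P' := by
        rw [← hk']
        exact Equiv.Perm.zpow_apply_eq_self_of_apply_eq_self hxP' k
      exact this

end Cfsg.Agent.Lib.Helper19.SylNum
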