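import Mathlib
import Cfsg.Agent.Lib.Helper19.SylNumI
import Cfsg.Agent.Lib.Helper19.SylNumK
import Cfsg.Agent.Lib.Helper19.SylNumL

/-!
# Groups with Sylow numbers {18, 136, 153} (helper19, for S3641)

A finite group with trivial centre and set of Sylow numbers `{18, 136, 153}` is isomorphic to
`PSL(2,17)` or `PGL(2,17)` (over `ZMod 17`).
-/

set_option autoImplicit false

namespace Cfsg.Agent.Lib.Helper19.SylNum

open Subgroup

theorem prime_dvd_306_pow {p k : ℕ} (hp : p.Prime) (h : p ∣ 306 * 2 ^ k) :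
    p = 2 ∨ p = 3 ∨ p = 17 := by
  rcases (Nat.Prime.dvd_mul hp).mp h with h1 | h1
  · have h306 : (306 : ℕ) = 2 * (3 ^ 2 * 17) := by norm_num
    rw [h306] at h1
    rcases (Nat.Prime.dvd_mul hp).mp h1 with h2 | h2
    · left; exact (Nat.prime_dvd_prime_iff_eq hp Nat.prime_two).mp h2
    · rcases (Nat.Prime.dvd_mul hp).mp h2 with h3 | h3
      · right; left
        exact (Nat.prime_dvd_prime_iff_eq hp Nat.prime_three).mp (hp.dvd_of_dvd_pow h3)
      · right; right
        exact (Nat.prime_dvd_prime_iff_eq hp (by norm_num)).mp h3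
  · left
    exact (Nat.prime_dvd_prime_iff_eq hp Nat.prime_two).mp (hp.dvd_of_dvd_pow h1)

theorem prime_dvd_135 {p : ℕ} (hp : p.Prime) (h : p ∣ 135) : p = 3 ∨ p = 5 := by
  have h135 : (135 : ℕ) = 3 ^ 3 * 5 := by norm_num
  rw [h135] at h
  rcases (Nat.Prime.dvd_mul hp).mp h with h1 | h1
  · left
    exact (Nat.prime_dvd_prime_iff_eq hp Nat.prime_three).mp (hp.dvd_of_dvd_pow h1)
  · right
    exact (Nat.prime_dvd_prime_iff_eq hp (by norm_num)).mp h1

theorem prime_dvd_152 {p : ℕ} (hp : p.Prime) (h : p ∣ 152) : p = 2 ∨ p = 19 := by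
  have h152 : (152 : ℕ) = 2 ^ 3 * 19 := by norm_num
  rw [h152] at h
  rcases (Nat.Prime.dvd_mul hp).mp h with h1 | h1
  · left
    exact (Nat.prime_dvd_prime_iff_eq hp Nat.prime_two).mp (hp.dvd_of_dvd_pow h1)
  · right
    exact (Nat.prime_dvd_prime_iff_eq hp (by norm_num)).mp h1

theorem divisors_136 : Nat.divisors 136 = {1, 2, 4, 8, 17, 34, 68, 136} := by decide

theorem divisors_153 : Nat.divisors 153 = {1, 3, 9, 17, 51, 153} := by decide

theorem x_eq_one_136 {x : ℕ} (h1 : x ∣ 136) (h2 : x ≡ 1 [MOD 5]) (h3 : ¬ 17 ∣ x) : x = 1 := by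
  have hm : x ∈ Nat.divisors 136 := Nat.mem_divisors.mpr ⟨h1, by norm_num⟩
  rw [divisors_136] at hm
  simp only [Finset.mem_insert, Finset.mem_singleton] at hm
  rcases hm with rfl | rfl | rfl | rfl | rfl | rfl | rfl | rfl
  · rfl
  · exact absurd h2 (by decide)
  · exact absurd h2 (by decide)
  · exact absurd h2 (by decide)
  · exact absurd (dvd_refl 17) h3
  · exact absurd (by norm_num : 17 ∣ 34) h3
  · exact absurd (by norm_num : 17 ∣ 68) h3
  · exact absurd (by norm_num : 17 ∣ 136) h3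

theorem x_eq_one_153 {x : ℕ} (h1 : x ∣ 153) (h2 : x ≡ 1 [MOD 19]) (h3 : ¬ 17 ∣ x) : x = 1 := by
  have hm : x ∈ Nat.divisors 153 := Nat.mem_divisors.mpr ⟨h1, by norm_num⟩
  rw [divisors_153] at hm
  simp only [Finset.mem_insert, Finset.mem_singleton] at hm
  rcases hm with rfl | rfl | rfl | rfl | rfl | rfl
  · rfl
  · exact absurd h2 (by decide)
  · exact absurd h2 (by decide)
  · exact absurd (dvd_refl 17) h3
  · exact absurd (by norm_num : 17 ∣ 51) h3
  · exact absurd (by norm_num : 17 ∣ 153) h3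

variable {G : Type*} [Group G] [Finite G]

/-- No prime `5` or `19` with Sylow number `136` resp. `153`, when the kernel `K` normalises the
Sylow 17-subgroups and contains the Sylow `r`-subgroups. -/
theorem no_extra_prime (K : Subgroup G) [K.Normal]
    (hK : ∀ P' : Sylow 17 G, K ≤ normalizer ((P' : Subgroup G) : Set G))
    {r : ℕ} [Fact r.Prime] (R : Sylow r G) (hRK : (R : Subgroup G) ≤ K)
    (hcase : (r = 5 ∧ Nat.card (Sylow r G) = 136) ∨ (r = 19 ∧ Nat.card (Sylow r G) = 153)) :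
    False := by
  haveI : Fact (Nat.Prime 17) := ⟨by norm_num⟩
  obtain ⟨P⟩ : Nonempty (Sylow 17 G) := inferInstance
  obtain ⟨x, hx1, hx2, hx3, hx4⟩ := exists_sylow_quot_count K P hK R hRK
  have hP0 : IsPGroup 17 (K ⊓ (P : Subgroup G) : Subgroup G) := P.2.to_le inf_le_right
  obtain ⟨a, ha⟩ := IsPGroup.iff_card.mp hP0
  rcases hcase with ⟨hr, hn⟩ | ⟨hr, hn⟩
  · subst hr
    rw [hn] at hx1 hx4
    have hx := x_eq_one_136 hx1 hx2 hx3
    have h1 := hx4 hx
    rw [ha] at h1
    have h2 : 2 ∣ 17 ^ a := dvd_trans (by norm_num) h1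
    have h3 := Nat.Prime.dvd_of_dvd_pow Nat.prime_two h2
    norm_num at h3
  · subst hr
    rw [hn] at hx1 hx4
    have hx := x_eq_one_153 hx1 hx2 hx3
    have h1 := hx4 hx
    rw [ha] at h1
    have h2 : 3 ∣ 17 ^ a := dvd_trans (by norm_num) h1
    have h3 := Nat.Prime.dvd_of_dvd_pow Nat.prime_three h2
    norm_num at h3

theorem main_zmod (hZ : Subgroup.center G = ⊥)
    (hNS : {c : ℕ | ∃ r : ℕ, r.Prime ∧ r ∣ Nat.card G ∧ c = Nat.card (Sylow r G)}
      = ({18, 136, 153} : Set ℕ)) :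
    Nonempty (G ≃* Matrix.ProjectiveSpecialLinearGroup (Fin 2) (ZMod 17)) ∨
    Nonempty (G ≃* Matrix.ProjGenLinGroup (Fin 2) (ZMod 17)) := by
  classical
  haveI h17 : Fact (Nat.Prime 17) := ⟨by norm_num⟩
  haveI : Fact (Nat.Prime 2) := ⟨Nat.prime_two⟩
  haveI : Fact (Nat.Prime 3) := ⟨Nat.prime_three⟩
  have hmem : ∀ r : ℕ, r.Prime → r ∣ Nat.card G →
      Nat.card (Sylow r G) ∈ ({18, 136, 153} : Set ℕ) := by
    intro r hr hrd
    rw [← hNS]
    exact ⟨r, hr, hrd, rfl⟩
  have h18 : (18 : ℕ) ∈ {c : ℕ | ∃ r : ℕ, r.Prime ∧ r ∣ Nat.card G ∧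
      c = Nat.card (Sylow r G)} := by
    rw [hNS]; simp
  obtain ⟨r, hr, hrd, hr18⟩ := h18
  have hr17 : r = 17 := by
    haveI : Fact r.Prime := ⟨hr⟩
    have hmod := card_sylow_modEq_one r G
    rw [← hr18] at hmod
    have : r ∣ 18 - 1 := (Nat.modEq_iff_dvd' (by norm_num)).mp hmod.symm
    exact (Nat.prime_dvd_prime_iff_eq hr (by norm_num)).mp this
  subst hr17
  have hn17 : Nat.card (Sylow 17 G) = 18 := hr18.symm
  haveI : Fintype (Sylow 17 G) := Fintype.ofFinite _
  set φ := MulAction.toPermHom G (Sylow 17 G) with hφ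
  have hzas : Zas φ.range := zas_of_sylow hn17
  obtain ⟨k, hk3, hk4, hHcard⟩ := hzas.card_cases
  let f : G →* φ.range := φ.rangeRestrict
  have hf : Function.Surjective f := φ.rangeRestrict_surjective
  have hker : f.ker = φ.ker := φ.ker_rangeRestrict
  have hdvd : Nat.card φ.range ∣ Nat.card G := Subgroup.card_range_dvd φ
  have h2G : 2 ∣ Nat.card G := by
    refine dvd_trans ?_ hdvd
    rw [hHcard]
    exact ⟨153 * 2 ^ k, by ring⟩
  have h3G : 3 ∣ Nat.card G := by
    refine dvd_trans ?_ hdvd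
    rw [hHcard]
    exact ⟨102 * 2 ^ k, by ring⟩
  have hn2 : Nat.card (Sylow 2 G) = 153 := by
    have h1 := hmem 2 Nat.prime_two h2G
    have h2 := card_sylow_modEq_one 2 G
    simp only [Set.mem_insert_iff, Set.mem_singleton_iff] at h1
    rcases h1 with h | h | h
    · rw [h] at h2; exact absurd h2 (by decide)
    · rw [h] at h2; exact absurd h2 (by decide)
    · exact h
  have hn3 : Nat.card (Sylow 3 G) = 136 := by
    have h1 := hmem 3 Nat.prime_three h3G
    have h2 := card_sylow_modEq_one 3 G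
    simp only [Set.mem_insert_iff, Set.mem_singleton_iff] at h1
    rcases h1 with h | h | h
    · rw [h] at h2; exact absurd h2 (by decide)
    · exact h
    · rw [h] at h2; exact absurd h2 (by decide)
  have hn2H : Nat.card (Sylow 2 φ.range) = 153 := by
    have h1 := hzas.card_sylow_two_ge'
    have h2 := card_sylow_dvd hf 2
    rw [hn2] at h2
    exact le_antisymm (Nat.le_of_dvd (by norm_num) h2) h1
  have hn3H : Nat.card (Sylow 3 φ.range) = 136 := by
    have h1 := hzas.card_sylow_three_ge'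
    have h2 := card_sylow_dvd hf 3
    rw [hn3] at h2
    exact le_antisymm (Nat.le_of_dvd (by norm_num) h2) h1
  have hK17 : ∀ P : Sylow 17 G, φ.ker ≤ normalizer ((P : Subgroup G) : Set G) := by
    intro P g hg
    rw [Sylow.coe_coe, ← Sylow.smul_eq_iff_mem_normalizer]
    have h1 : φ g = 1 := MonoidHom.mem_ker.mp hg
    have h2 : (φ g) P = g • P := rfl
    rw [← h2, h1]
    rfl
  have hK : ∀ (p : ℕ) [Fact p.Prime], p ∣ Nat.card G → ∀ P : Sylow p G,
      φ.ker ≤ normalizer ((P : Subgroup G) : Set G) := by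
    intro p hpF hpG P
    by_cases hp2 : p = 2
    · subst hp2
      rw [← hker]
      exact ker_le_normalizer_of_card_eq hf 2 (by rw [hn2, hn2H]) P
    by_cases hp3 : p = 3
    · subst hp3
      rw [← hker]
      exact ker_le_normalizer_of_card_eq hf 3 (by rw [hn3, hn3H]) P
    by_cases hp17 : p = 17
    · subst hp17
      exact hK17 P
    exfalso
    have hpp : p.Prime := hpF.out
    -- Sylow `p`-subgroups lie in the kernel
    have hRK : (P : Subgroup G) ≤ φ.ker := by
      rw [← hker, ← Subgroup.map_eq_bot_iff]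
      have hpg : IsPGroup p ((P : Subgroup G).map f) := P.2.map f
      obtain ⟨j, hj⟩ := IsPGroup.iff_card.mp hpg
      have hj0 : j = 0 := by
        by_contra hne
        have h1 : p ∣ Nat.card ((P : Subgroup G).map f) := by
          rw [hj]; exact dvd_pow_self p hne
        have h2 : p ∣ Nat.card φ.range := h1.trans (Subgroup.card_subgroup_dvd_card _)
        rw [hHcard] at h2
        rcases prime_dvd_306_pow hpp h2 with h | h | h
        · exact hp2 h
        · exact hp3 h
        · exact hp17 h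
      rw [hj0, pow_zero] at hj
      exact Subgroup.card_eq_one.mp hj
    have h1 := hmem p hpp hpG
    have hmod := card_sylow_modEq_one p G
    simp only [Set.mem_insert_iff, Set.mem_singleton_iff] at h1
    rcases h1 with h | h | h
    · rw [h] at hmod
      have : p ∣ 18 - 1 := (Nat.modEq_iff_dvd' (by norm_num)).mp hmod.symm
      exact hp17 ((Nat.prime_dvd_prime_iff_eq hpp (by norm_num)).mp this)
    · rw [h] at hmod
      have : p ∣ 136 - 1 := (Nat.modEq_iff_dvd' (by norm_num)).mp hmod.symm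
      rcases prime_dvd_135 hpp this with h5 | h5
      · exact hp3 h5
      · exact no_extra_prime φ.ker hK17 P hRK (Or.inl ⟨h5, h⟩)
    · rw [h] at hmod
      have : p ∣ 153 - 1 := (Nat.modEq_iff_dvd' (by norm_num)).mp hmod.symm
      rcases prime_dvd_152 hpp this with h5 | h5
      · exact hp2 h5
      · exact no_extra_prime φ.ker hK17 P hRK (Or.inr ⟨h5, h⟩)
  have hKbot : φ.ker = ⊥ := eq_bot_of_le_normalizers hZ φ.ker hK
  have hinj : Function.Injective φ := (MonoidHom.ker_eq_bot_iff φ).mp hKbot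
  let e : G ≃* φ.range := MonoidHom.ofInjective hinj
  rcases hzas.classify with ⟨-, ⟨e'⟩⟩ | ⟨-, ⟨e'⟩⟩
  · right
    exact ⟨e.trans e'⟩
  · left
    exact ⟨e.trans e'⟩

end Cfsg.Agent.Lib.Helper19.SylNum
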