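import Mathlib
import Cfsg.Agent.Lib.Helper3.SLTransport
import Cfsg.Agent.Lib.Helper19.SylNumM

/-!
# Transport of the `ZMod 17` result to an arbitrary field with 17 elements (helper19, for S3641)
-/

set_option autoImplicit false

namespace Cfsg.Agent.Lib.Helper19.SylNum

open Matrix

/-- A ring isomorphism induces an isomorphism of general linear groups. -/
noncomputable def glMapEquiv {R S : Type*} [CommRing R] [CommRing S] {n : Type*} [Fintype n]
    [DecidableEq n] (e : R ≃+* S) : GL n R ≃* GL n S :=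
  Units.mapEquiv (RingEquiv.mapMatrix e).toMulEquiv

theorem main_field {G : Type*} [Group G] [Finite G] (hZ : Subgroup.center G = ⊥)
    (hNS : {c : ℕ | ∃ r : ℕ, r.Prime ∧ r ∣ Nat.card G ∧ c = Nat.card (Sylow r G)}
      = ({18, 136, 153} : Set ℕ))
    {F : Type*} [Field F] [Fintype F] (hF : Fintype.card F = 17) :
    Nonempty (G ≃* Matrix.ProjectiveSpecialLinearGroup (Fin 2) F) ∨
      Nonempty (G ≃* (GL (Fin 2) F ⧸ Subgroup.center (GL (Fin 2) F))) := by
  have h17 : Nat.Prime 17 := by norm_num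
  rcases main_zmod hZ hNS with ⟨⟨e⟩⟩ | ⟨⟨e⟩⟩
  · left
    exact ⟨e.trans (Cfsg.Agent.Lib.Helper3.SLTransport.pslEquivZMod h17 hF (Fin 2)).symm⟩
  · right
    let e1 : G ≃* (GL (Fin 2) (ZMod 17) ⧸ Subgroup.center (GL (Fin 2) (ZMod 17))) := e
    exact ⟨e1.trans (Cfsg.Agent.Lib.Helper3.SLTransport.quotientCenterEquiv
      (glMapEquiv (ZMod.ringEquivOfPrime F h17 hF)))⟩

end Cfsg.Agent.Lib.Helper19.SylNum
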