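import Mathlib
set_option autoImplicit false
set_option maxRecDepth 1000000
set_option synthInstance.maxSize 100000
set_option synthInstance.maxHeartbeats 1000000

/-!
# The model group `Z₂ × S₄` (for S3222)
-/

namespace Cfsg.Agent.Lib.Helper19.Z2S4

/-- the model `Z₂ × S₄` -/
abbrev X := Multiplicative (ZMod 2) × Equiv.Perm (Fin 4)

/-- the central involution -/
def aX : X := (Multiplicative.ofAdd 1, 1)

/-- the four-cycle `(0 1 2 3)` -/
def c4 : Equiv.Perm (Fin 4) := Equiv.swap 0 1 * Equiv.swap 1 2 * Equiv.swap 2 3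

/-- the transposition `(0 2)` -/
def tau : Equiv.Perm (Fin 4) := Equiv.swap 0 2

/-- the double transposition `(0 2)(1 3)` -/
def vv : Equiv.Perm (Fin 4) := Equiv.swap 0 2 * Equiv.swap 1 3

/-- the three-cycle `(0 1 2)` -/
def c3 : Equiv.Perm (Fin 4) := Equiv.swap 0 1 * Equiv.swap 1 2

def zX : X := (1, vv)
def rX : X := (1, c4)
def sX : X := (1, tau)
def dX : X := (1, c3)

theorem card_X : Nat.card X = 48 := by
  rw [Nat.card_eq_fintype_card]
  decide

theorem aX_central : ∀ x : X, x * aX = aX * x := by decide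

theorem center_X : ∀ x : X, (∀ y : X, x * y = y * x) → x = 1 ∨ x = aX := by decide

theorem aX_sq : aX * aX = 1 := by decide

theorem aX_ne_one : aX ≠ 1 := by decide

theorem zX_sq : zX * zX = 1 := by decide

theorem zX_ne_one : zX ≠ 1 := by decide

theorem rX_sq : rX * rX = zX := by decide

theorem comm_rs : rX * sX * rX⁻¹ * sX⁻¹ = zX := by decide

theorem rX_comm : rX * zX = zX * rX := by decide

theorem sX_comm : sX * zX = zX * sX := by decide

theorem aX_comm : aX * zX = zX * aX := by decide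

theorem pow4_SX : ∀ x : X, x * zX = zX * x → x * x * (x * x) = 1 := by decide +kernel

/-- commutators of elements centralizing `zX` -/
theorem comm_SX : ∀ x : X, x * zX = zX * x → ∀ y : X, y * zX = zX * y →
    x * y * x⁻¹ * y⁻¹ = 1 ∨ x * y * x⁻¹ * y⁻¹ = zX := by decide +kernel

theorem dX_cube : dX * dX * dX = 1 := by decide

theorem dX_ne_one : dX ≠ 1 := by decide

theorem sX_sq : sX * sX = 1 := by decide

theorem sX_ne_one : sX ≠ 1 := by decide

theorem zX_ne_sX : zX ≠ sX := by decide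

theorem zX_ne_asX : zX ≠ aX * sX := by decide

theorem aX_ne_sX : aX ≠ sX := by decide

theorem sX_zX : sX * zX = zX * sX := by decide

theorem asX_zX : aX * sX * zX = zX * (aX * sX) := by decide

/-- the classes of involutions of the model -/
theorem invol_X : ∀ x : X, x * x = 1 → x ≠ 1 → x = aX ∨ (∃ c : X, c * zX * c⁻¹ = x) ∨
    (∃ c : X, c * (aX * zX) * c⁻¹ = x) ∨ (∃ c : X, c * sX * c⁻¹ = x) ∨
    (∃ c : X, c * (aX * sX) * c⁻¹ = x) := by decide +kernel

/-- the first candidate `D = ⟨r, s⟩` -/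
def P1 (x : X) : Prop := x * zX = zX * x ∧ x.1 = 1

/-- the second candidate `⟨r, ts⟩` -/
def P2 (x : X) : Prop := x * zX = zX * x ∧ (x.1 = 1 ↔ x.2 * c4 = c4 * x.2)

instance : DecidablePred P1 := fun x => by unfold P1; infer_instance

instance : DecidablePred P2 := fun x => by unfold P2; infer_instance

theorem P1_mul : ∀ x : X, P1 x → ∀ y : X, P1 y → P1 (x * y) := by decide +kernel

theorem P1_one : P1 1 := by decide

theorem P1_inv : ∀ x : X, P1 x → P1 x⁻¹ := by decide +kernel

theorem P2_mul : ∀ x : X, P2 x → ∀ y : X, P2 y → P2 (x * y) := by decide +kernel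

theorem P2_one : P2 1 := by decide

theorem P2_inv : ∀ x : X, P2 x → P2 x⁻¹ := by decide +kernel

def Q1X : Subgroup X where
  carrier := {x | P1 x}
  mul_mem' := fun {a b} ha hb => P1_mul a ha b hb
  one_mem' := P1_one
  inv_mem' := fun {a} ha => P1_inv a ha

def Q2X : Subgroup X where
  carrier := {x | P2 x}
  mul_mem' := fun {a b} ha hb => P2_mul a ha b hb
  one_mem' := P2_one
  inv_mem' := fun {a} ha => P2_inv a ha

theorem mem_Q1X (x : X) : x ∈ Q1X ↔ P1 x := Iff.rfl

theorem mem_Q2X (x : X) : x ∈ Q2X ↔ P2 x := Iff.rfl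

theorem P1_xor : ∀ x : X, x * zX = zX * x → Xor (P1 (x * aX)) (P1 x) := by decide +kernel

theorem P2_xor : ∀ x : X, x * zX = zX * x → Xor (P2 (x * aX)) (P2 x) := by decide +kernel

theorem P1_invol : ∀ x : X, P1 x → x * x = 1 → x ≠ 1 →
    (∃ c : X, c * zX * c⁻¹ = x) ∨ x = sX ∨ x = rX * sX * rX⁻¹ := by decide +kernel

theorem P2_invol : ∀ x : X, P2 x → x * x = 1 → x ≠ 1 →
    (∃ c : X, c * zX * c⁻¹ = x) ∨ (∃ c : X, c * (aX * zX) * c⁻¹ = x) ∨ x = aX * sX ∨
      x = rX * (aX * sX) * rX⁻¹ := by decide +kernel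

theorem not_P1_aX : ¬ P1 aX := by decide

theorem not_P2_aX : ¬ P2 aX := by decide

/-- involutions of `C_X(zX)` of the classes of `t`, `s`, `ts` commute pairwise -/
theorem comm_of_classes : ∀ x : X, x * zX = zX * x →
    (x = aX ∨ (∃ c : X, c * sX * c⁻¹ = x) ∨ (∃ c : X, c * (aX * sX) * c⁻¹ = x)) →
    ∀ y : X, y * zX = zX * y →
    (y = aX ∨ (∃ c : X, c * sX * c⁻¹ = y) ∨ (∃ c : X, c * (aX * sX) * c⁻¹ = y)) →
    x * y = y * x := by decide +kernel

end Cfsg.Agent.Lib.Helper19.Z2S4
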