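import Cfsg.Agent.Lib.Helper19.Z2S4A
set_option autoImplicit false
set_option maxRecDepth 1000000

/-!
# S3222: the set-up `C_G(t) ≅ Z₂ × S₄` in coordinates
-/

namespace Cfsg.Agent.Lib.Helper19.Z2S4

open Subgroup

/-- the standard Sylow 2-subgroup of the model: the centralizer of `zX` -/
def SX : Subgroup X where
  carrier := {x | x * zX = zX * x}
  mul_mem' := by
    intro a b ha hb
    simp only [Set.mem_setOf_eq] at *
    rw [mul_assoc, hb, ← mul_assoc, ha, mul_assoc]
  one_mem' := by simp
  inv_mem' := by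
    intro a ha
    simp only [Set.mem_setOf_eq] at *
    have : a⁻¹ * (a * zX) * a⁻¹ = a⁻¹ * (zX * a) * a⁻¹ := by rw [ha]
    simpa [mul_assoc] using this.symm

theorem mem_SX (x : X) : x ∈ SX ↔ x * zX = zX * x := Iff.rfl

instance : DecidablePred (· ∈ SX) := fun x => decEq (x * zX) (zX * x)

theorem card_SX : Nat.card SX = 16 := by
  rw [Nat.card_eq_fintype_card]
  decide +kernel

theorem factorization_X : (Nat.card X).factorization 2 = 4 := by
  rw [card_X]
  have : (48 : ℕ) = 2 ^ 4 * 3 := by norm_num
  rw [this, Nat.factorization_mul (by norm_num) (by norm_num), Nat.Prime.factorization_pow Nat.prime_two]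
  simp
  rw [Nat.factorization_eq_zero_of_not_dvd (by norm_num)]

variable {G : Type*} [Group G]

/-- The set-up: `F` is an injective homomorphism from `Z₂ × S₄` onto the centraliser of `t = F aX`, the
Sylow 2-subgroup `T` corresponds to the centraliser of `zX`, and `C_G(T') = T`. -/
structure Setup (F : X →* G) (T : Sylow 2 G) : Prop where
  inj : Function.Injective F
  cent : ∀ g : G, g * F aX = F aX * g → ∃ x, F x = g
  memT : ∀ x : X, F x ∈ (T : Subgroup G) ↔ x * zX = zX * x
  tcent : ∀ s ∈ (T : Subgroup G), s * F aX = F aX * s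
  centT : centralizer ((⁅(T : Subgroup G), (T : Subgroup G)⁆ : Subgroup G) : Set G) = (T : Subgroup G)

theorem mem_centralizer_singleton {t g : G} : g ∈ centralizer ({t} : Set G) ↔ g * t = t * g := by
  rw [mem_centralizer_iff]
  constructor
  · intro h
    exact (h t (Set.mem_singleton t)).symm
  · intro h y hy
    rw [Set.mem_singleton_iff] at hy
    rw [hy]; exact h.symm

theorem exists_setup [Finite G] (t : G) (ht : t ≠ 1) (T : Sylow 2 G)
    (htc : ∀ s ∈ (T : Subgroup G), s * t = t * s)
    (e : ↥(centralizer ({t} : Set G)) ≃* X)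
    (h2 : centralizer ((⁅(T : Subgroup G), (T : Subgroup G)⁆ : Subgroup G) : Set G) = (T : Subgroup G)) :
    ∃ F : X →* G, Setup F T ∧ F aX = t := by
  haveI : Fact (Nat.Prime 2) := ⟨Nat.prime_two⟩
  have hmemC : ∀ g : G, g ∈ centralizer ({t} : Set G) ↔ g * t = t * g := fun g => mem_centralizer_singleton
  have hTC : (T : Subgroup G) ≤ centralizer ({t} : Set G) := by
    intro s hs
    rw [hmemC]
    exact htc s hs
  have hcardC : Nat.card (centralizer ({t} : Set G)) = 48 := by rw [Nat.card_congr e.toEquiv, card_X]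
  -- `|T| = 16`
  have hcardT : Nat.card (T : Subgroup G) = 16 := by
    have h1 := T.card_eq_multiplicity
    have h3 : Nat.card (T : Subgroup G) ∣ 48 := by
      rw [← hcardC]; exact Subgroup.card_dvd_of_le hTC
    have h4 : 2 ^ 4 ∣ Nat.card G := by
      have : Nat.card (centralizer ({t} : Set G)) ∣ Nat.card G := Subgroup.card_subgroup_dvd_card _
      rw [hcardC] at this
      exact Dvd.dvd.trans (by norm_num) this
    have h5 := (Nat.prime_two.pow_dvd_iff_le_factorization Nat.card_pos.ne').mp h4
    rw [h1] at h3 ⊢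
    have h6 : (Nat.card G).factorization 2 ≤ 4 := by
      by_contra hcon
      push Not at hcon
      have h7 : 2 ^ 5 ∣ 2 ^ (Nat.card G).factorization 2 := pow_dvd_pow 2 hcon
      have h8 := Dvd.dvd.trans h7 h3
      norm_num at h8
    have h9 : (Nat.card G).factorization 2 = 4 := le_antisymm h6 h5
    rw [h9]; norm_num
  -- the image of `T` in the model
  set TX : Subgroup X := ((T : Subgroup G).subgroupOf (centralizer ({t} : Set G))).map e.toMonoidHom with hTX
  have hcardTX : Nat.card TX = 16 := by
    rw [hTX, Subgroup.card_map_of_injective e.injective,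
      Nat.card_congr (Subgroup.subgroupOfEquivOfLe hTC).toEquiv, hcardT]
  let P : Sylow 2 X := Sylow.ofCard TX (by rw [hcardTX, factorization_X]; norm_num)
  let Q : Sylow 2 X := Sylow.ofCard SX (by rw [card_SX, factorization_X]; norm_num)
  obtain ⟨x0, hx0⟩ := MulAction.exists_smul_eq X P Q
  have hPQ : ∀ y : X, y ∈ SX ↔ ∃ w ∈ TX, x0 * w * x0⁻¹ = y := by
    intro y
    have h1 : ((x0 • P : Sylow 2 X) : Subgroup X) = SX := by rw [hx0]; rfl
    rw [← h1, Sylow.coe_subgroup_smul]
    show y ∈ (P : Subgroup X).map (MulAut.conj x0).toMonoidHom ↔ _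
    rw [Subgroup.mem_map]
    rfl
  -- the adjusted isomorphism
  let e' : ↥(centralizer ({t} : Set G)) ≃* X := e.trans (MulAut.conj x0)
  let F : X →* G := (centralizer ({t} : Set G)).subtype.comp e'.symm.toMonoidHom
  have hFe : ∀ x, F x = ((e'.symm x : ↥(centralizer ({t} : Set G))) : G) := fun x => rfl
  have he' : ∀ c, e' c = x0 * e c * x0⁻¹ := fun c => rfl
  have htmem : t ∈ centralizer ({t} : Set G) := by rw [hmemC]
  have hFa : F aX = t := by
    -- `e' t` is central and nontrivial
    have hc : ∀ y : X, e' ⟨t, htmem⟩ * y = y * e' ⟨t, htmem⟩ := by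
      intro y
      obtain ⟨c, rfl⟩ := e'.surjective y
      rw [← map_mul, ← map_mul]
      congr 1
      apply Subtype.ext
      exact ((hmemC _).mp c.2).symm
    rcases center_X _ hc with h1 | h1
    · exfalso
      apply ht
      have h3 : (⟨t, htmem⟩ : ↥(centralizer ({t} : Set G))) = 1 := by
        apply e'.injective
        rw [h1, map_one]
      exact congrArg Subtype.val h3
    · rw [hFe, ← h1, MulEquiv.symm_apply_apply]
  have hinj : Function.Injective F := by
    intro x y hxy
    rw [hFe, hFe] at hxy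
    exact e'.symm.injective (Subtype.ext hxy)
  refine ⟨F, ⟨hinj, ?_, ?_, ?_, h2⟩, hFa⟩
  · intro g hg
    rw [hFa] at hg
    have hgC : g ∈ centralizer ({t} : Set G) := (hmemC g).mpr hg
    refine ⟨e' ⟨g, hgC⟩, ?_⟩
    rw [hFe, MulEquiv.symm_apply_apply]
  rotate_left
  · intro s hs
    rw [hFa]; exact htc s hs
  · intro x
    rw [← mem_SX, hPQ]
    constructor
    · intro hx
      have hxC : F x ∈ centralizer ({t} : Set G) := hTC hx
      refine ⟨e ⟨F x, hxC⟩, ?_, ?_⟩
      · rw [hTX, Subgroup.mem_map]
        exact ⟨⟨F x, hxC⟩, by rw [Subgroup.mem_subgroupOf]; exact hx, rfl⟩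
      · rw [← he']
        have : (⟨F x, hxC⟩ : ↥(centralizer ({t} : Set G))) = e'.symm x := Subtype.ext (hFe x)
        rw [this, MulEquiv.apply_symm_apply]
    · rintro ⟨w, hw, hwx⟩
      rw [hTX, Subgroup.mem_map] at hw
      obtain ⟨c, hc, rfl⟩ := hw
      rw [Subgroup.mem_subgroupOf] at hc
      have : x = e' c := by rw [he', ← hwx]; rfl
      rw [this, hFe, MulEquiv.symm_apply_apply]
      exact hc

end Cfsg.Agent.Lib.Helper19.Z2S4
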