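import Cfsg.Agent.Lib.Helper19.Z2S4B
import Cfsg.Agent.S0111
set_option autoImplicit false

/-!
# S3222: fusion of involutions and Thompson transfer
-/

namespace Cfsg.Agent.Lib.Helper19.Z2S4

open Subgroup

variable {G : Type*} [Group G]

/-- the subgroup `{1, z}` -/
def ZG (F : X →* G) : Subgroup G where
  carrier := {y | y = 1 ∨ y = F zX}
  mul_mem' := by
    rintro a b (rfl | rfl) (rfl | rfl)
    · left; simp
    · right; simp
    · right; simp
    · left; rw [← map_mul, zX_sq, map_one]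
  one_mem' := Or.inl rfl
  inv_mem' := by
    rintro a (rfl | rfl)
    · left; simp
    · right
      apply inv_eq_of_mul_eq_one_left
      rw [← map_mul, zX_sq, map_one]

namespace Setup

variable {F : X →* G} {T : Sylow 2 G} (h : Setup F T)

include h

theorem F_comm_t (x : X) : F x * F aX = F aX * F x := by
  rw [← map_mul, ← map_mul, aX_central]

theorem t_sq : F aX * F aX = 1 := by rw [← map_mul, aX_sq, map_one]

theorem t_ne_one : F aX ≠ 1 := fun h1 => aX_ne_one (h.inj (by rw [h1, map_one]))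

theorem t_inv : (F aX)⁻¹ = F aX := inv_eq_of_mul_eq_one_left h.t_sq

theorem z_sq : F zX * F zX = 1 := by rw [← map_mul, zX_sq, map_one]

theorem z_ne_one : F zX ≠ 1 := fun h1 => zX_ne_one (h.inj (by rw [h1, map_one]))

theorem z_inv : (F zX)⁻¹ = F zX := inv_eq_of_mul_eq_one_left h.z_sq

theorem orderOf_t : orderOf (F aX) = 2 := by
  apply orderOf_eq_prime
  · rw [pow_two]; exact h.t_sq
  · exact h.t_ne_one

theorem orderOf_z : orderOf (F zX) = 2 := by
  apply orderOf_eq_prime
  · rw [pow_two]; exact h.z_sq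
  · exact h.z_ne_one

theorem exists_of_mem_T {g : G} (hg : g ∈ (T : Subgroup G)) : ∃ x, x * zX = zX * x ∧ F x = g := by
  obtain ⟨x, rfl⟩ := h.cent g (h.tcent g hg)
  exact ⟨x, (h.memT x).mp hg, rfl⟩

theorem t_mem : F aX ∈ (T : Subgroup G) := (h.memT aX).mpr aX_comm

theorem z_mem : F zX ∈ (T : Subgroup G) := (h.memT zX).mpr rfl

theorem r_mem : F rX ∈ (T : Subgroup G) := (h.memT rX).mpr rX_comm

theorem s_mem : F sX ∈ (T : Subgroup G) := (h.memT sX).mpr sX_comm

theorem commutator_T (y : G) (hy : y ∈ ⁅(T : Subgroup G), (T : Subgroup G)⁆) : y = 1 ∨ y = F zX := by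
  have hle : ⁅(T : Subgroup G), (T : Subgroup G)⁆ ≤ ZG F := by
    rw [Subgroup.commutator_le]
    intro g1 hg1 g2 hg2
    obtain ⟨x1, hx1, rfl⟩ := h.exists_of_mem_T hg1
    obtain ⟨x2, hx2, rfl⟩ := h.exists_of_mem_T hg2
    rw [commutatorElement_def, ← map_inv, ← map_inv, ← map_mul, ← map_mul, ← map_mul]
    rcases comm_SX x1 hx1 x2 hx2 with h1 | h1
    · rw [h1, map_one]; exact (ZG F).one_mem
    · rw [h1]; exact Or.inr rfl
  exact hle hy

theorem z_mem_commutator : F zX ∈ ⁅(T : Subgroup G), (T : Subgroup G)⁆ := by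
  have h1 := Subgroup.commutator_mem_commutator h.r_mem h.s_mem
  rw [commutatorElement_def, ← map_inv, ← map_inv, ← map_mul, ← map_mul, ← map_mul, comm_rs] at h1
  exact h1

/-- `C_G(z) = T` -/
theorem cent_z {g : G} (hg : g * F zX = F zX * g) : g ∈ (T : Subgroup G) := by
  rw [← h.centT, mem_centralizer_iff]
  intro y hy
  rcases h.commutator_T y hy with rfl | rfl
  · simp
  · exact hg.symm

theorem comm_z_of_mem {g : G} (hg : g ∈ (T : Subgroup G)) : g * F zX = F zX * g := by
  obtain ⟨x, hx, rfl⟩ := h.exists_of_mem_T hg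
  rw [← map_mul, ← map_mul, hx]

/-- `N_G(T) = T` -/
theorem normalizer_T {g : G} (hg : g ∈ normalizer ((T : Subgroup G) : Set G)) : g ∈ (T : Subgroup G) := by
  rw [mem_normalizer_iff] at hg
  have h1 : g * F rX * g⁻¹ ∈ (T : Subgroup G) := (hg _).mp h.r_mem
  have h2 : g * F sX * g⁻¹ ∈ (T : Subgroup G) := (hg _).mp h.s_mem
  have h3 := Subgroup.commutator_mem_commutator h1 h2
  have h4 : g * F rX * g⁻¹ * (g * F sX * g⁻¹) * (g * F rX * g⁻¹)⁻¹ * (g * F sX * g⁻¹)⁻¹
      = g * F zX * g⁻¹ := by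
    rw [← comm_rs, map_mul, map_mul, map_mul, map_inv, map_inv]
    group
  rw [commutatorElement_def, h4] at h3
  rcases h.commutator_T _ h3 with h5 | h5
  · exfalso
    apply h.z_ne_one
    have : F zX = g⁻¹ * (g * F zX * g⁻¹) * g := by group
    rw [this, h5]; group
  · apply h.cent_z
    have : g * F zX = (g * F zX * g⁻¹) * g := by group
    rw [this, h5]

/-- Burnside: elements of `Z(T)` are not fused -/
theorem fusion_center [Finite G] (x g : G) (hx : ∀ s ∈ (T : Subgroup G), s * x = x * s)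
    (hy : ∀ s ∈ (T : Subgroup G), s * (g⁻¹ * x * g) = (g⁻¹ * x * g) * s) : g⁻¹ * x * g = x := by
  haveI : Fact (Nat.Prime 2) := ⟨Nat.prime_two⟩
  have hx' : x ∈ centralizer ((T : Subgroup G) : Set G) := by
    rw [mem_centralizer_iff]
    intro s hs
    exact hx s hs
  have hy' : g⁻¹ * x * g ∈ centralizer ((T : Subgroup G) : Set G) := by
    rw [mem_centralizer_iff]
    intro s hs
    exact hy s hs
  obtain ⟨n, hn, hn2⟩ := T.conj_eq_normalizer_conj_of_mem_centralizer x g hx' hy'
  have hnT := h.normalizer_T hn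
  rw [hn2]
  have := hx n hnT
  rw [mul_assoc, ← this]; group

theorem t_central_T (s : G) (hs : s ∈ (T : Subgroup G)) : s * F aX = F aX * s := h.tcent s hs

theorem z_central_T (s : G) (hs : s ∈ (T : Subgroup G)) : s * F zX = F zX * s := h.comm_z_of_mem hs

theorem tz_central_T (s : G) (hs : s ∈ (T : Subgroup G)) :
    s * (F aX * F zX) = (F aX * F zX) * s := by
  rw [← mul_assoc, h.tcent s hs, mul_assoc, h.comm_z_of_mem hs, mul_assoc]

/-- `t` is not conjugate to `z` -/
theorem not_conj_t_z : ¬ ∃ g : G, g * F aX * g⁻¹ = F zX := by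
  rintro ⟨g, hg⟩
  -- the element of order three centralizing `t`
  have h1 : g * F dX * g⁻¹ * F zX = F zX * (g * F dX * g⁻¹) := by
    rw [← hg]
    have := h.F_comm_t dX
    calc g * F dX * g⁻¹ * (g * F aX * g⁻¹) = g * (F dX * F aX) * g⁻¹ := by group
      _ = g * (F aX * F dX) * g⁻¹ := by rw [this]
      _ = g * F aX * g⁻¹ * (g * F dX * g⁻¹) := by group
  obtain ⟨x, hx, hx2⟩ := h.exists_of_mem_T (h.cent_z h1)
  have h4 := pow4_SX x hx
  have h5 : (g * F dX * g⁻¹) * (g * F dX * g⁻¹) * ((g * F dX * g⁻¹) * (g * F dX * g⁻¹)) = 1 := by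
    rw [← hx2, ← map_mul, ← map_mul, h4, map_one]
  have h6 : F dX * F dX * (F dX * F dX) = 1 := by
    have : F dX * F dX * (F dX * F dX) =
        g⁻¹ * ((g * F dX * g⁻¹) * (g * F dX * g⁻¹) * ((g * F dX * g⁻¹) * (g * F dX * g⁻¹))) * g := by group
    rw [this, h5]; group
  have h7 : F dX * F dX * F dX = 1 := by rw [← map_mul, ← map_mul, dX_cube, map_one]
  have h8 : F dX = 1 := by
    have : F dX * F dX * (F dX * F dX) = (F dX * F dX * F dX) * F dX := by group
    rw [this, h7, one_mul] at h6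
    exact h6
  exact dX_ne_one (h.inj (by rw [h8, map_one]))

/-- `z` is not conjugate to `tz` -/
theorem not_conj_z_tz [Finite G] : ¬ ∃ g : G, g * F zX * g⁻¹ = F aX * F zX := by
  rintro ⟨g, hg⟩
  have h1 := h.fusion_center (F zX) g⁻¹ h.z_central_T (by
    rw [inv_inv, hg]; exact h.tz_central_T)
  rw [inv_inv, hg] at h1
  apply h.t_ne_one
  calc F aX = F aX * F zX * (F zX)⁻¹ := by group
    _ = 1 := by rw [h1]; group

/-- `t` is not conjugate to `tz` -/
theorem not_conj_t_tz [Finite G] : ¬ ∃ g : G, g * F aX * g⁻¹ = F aX * F zX := by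
  rintro ⟨g, hg⟩
  have h1 := h.fusion_center (F aX) g⁻¹ h.t_central_T (by
    rw [inv_inv, hg]; exact h.tz_central_T)
  rw [inv_inv, hg] at h1
  apply h.z_ne_one
  calc F zX = (F aX)⁻¹ * (F aX * F zX) := by group
    _ = 1 := by rw [h1]; group

end Setup

end Cfsg.Agent.Lib.Helper19.Z2S4
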