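import Cfsg.Agent.Lib.Helper19.Z2S4C
set_option autoImplicit false

/-!
# S3222: the subgroup of index two (Thompson transfer)
-/

namespace Cfsg.Agent.Lib.Helper19.Z2S4

open Subgroup

variable {G : Type*} [Group G]

namespace Setup

variable {F : X →* G} {T : Sylow 2 G} (h : Setup F T)

include h

/-- the key fusion lemma: if `t ~ y` for an involution `y ∈ C(t)` commuting with `z`, then `z` is
conjugate to `t y'`-type elements only -/
theorem fus_aux [Finite G] (y : X) (hyz : y * zX = zX * y) (hzy : zX ≠ y)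
    (g : G) (hg : g * F aX * g⁻¹ = F y) (hya : aX ≠ y) :
    (∃ c : X, g⁻¹ * F zX * g = F c * F sX * (F c)⁻¹) ∨
      (∃ c : X, g⁻¹ * F zX * g = F c * F (aX * sX) * (F c)⁻¹) := by
  -- `g⁻¹ z g` commutes with `t`
  have h1 : g⁻¹ * F zX * g * F aX = F aX * (g⁻¹ * F zX * g) := by
    have e1 : F aX = g⁻¹ * F y * g := by rw [← hg]; group
    have e2 : F zX * F y = F y * F zX := by rw [← map_mul, ← map_mul, hyz]
    calc g⁻¹ * F zX * g * F aX = g⁻¹ * F zX * g * (g⁻¹ * F y * g) := by rw [← e1]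
      _ = g⁻¹ * (F zX * F y) * g := by group
      _ = g⁻¹ * (F y * F zX) * g := by rw [e2]
      _ = g⁻¹ * F y * g * (g⁻¹ * F zX * g) := by group
      _ = F aX * (g⁻¹ * F zX * g) := by rw [← e1]
  obtain ⟨x, hx⟩ := h.cent _ h1
  have hxx : x * x = 1 := by
    apply h.inj
    rw [map_mul, hx, map_one]
    calc g⁻¹ * F zX * g * (g⁻¹ * F zX * g) = g⁻¹ * (F zX * F zX) * g := by group
      _ = 1 := by rw [h.z_sq]; group
  have hx1 : x ≠ 1 := by
    rintro rfl
    rw [map_one] at hx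
    apply h.z_ne_one
    calc F zX = g * (g⁻¹ * F zX * g) * g⁻¹ := by group
      _ = 1 := by rw [← hx]; group
  rcases invol_X x hxx hx1 with rfl | ⟨c, rfl⟩ | ⟨c, rfl⟩ | ⟨c, rfl⟩ | ⟨c, rfl⟩
  · -- `g⁻¹ z g = t`, so `z = y`
    exfalso
    apply hzy
    apply h.inj
    rw [← hg, hx]; group
  · -- `g F c` centralizes `z`, so `g ∈ C(t)`
    exfalso
    apply hya
    apply h.inj
    have h2 : g * F c * F zX = F zX * (g * F c) := by
      have : F (c * zX * c⁻¹) = F c * F zX * (F c)⁻¹ := by rw [map_mul, map_mul, map_inv]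
      rw [this] at hx
      calc g * F c * F zX = g * (F c * F zX * (F c)⁻¹) * F c := by group
        _ = g * (g⁻¹ * F zX * g) * F c := by rw [hx]
        _ = F zX * (g * F c) := by group
    have h3 := h.tcent _ (h.cent_z h2)
    have h4 := h.F_comm_t c
    have h5 : g * F aX = F aX * g := by
      calc g * F aX = g * (F c * F aX * (F c)⁻¹) := by rw [h4]; group
        _ = (g * F c * F aX) * (F c)⁻¹ := by group
        _ = (F aX * (g * F c)) * (F c)⁻¹ := by rw [h3]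
        _ = F aX * g := by group
    rw [← hg, h5]; group
  · -- `z ~ tz`
    exfalso
    apply h.not_conj_z_tz
    refine ⟨(F c)⁻¹ * g⁻¹, ?_⟩
    have : F (c * (aX * zX) * c⁻¹) = F c * (F aX * F zX) * (F c)⁻¹ := by
      rw [map_mul, map_mul, map_mul, map_inv]
    rw [this] at hx
    calc (F c)⁻¹ * g⁻¹ * F zX * ((F c)⁻¹ * g⁻¹)⁻¹ = (F c)⁻¹ * (g⁻¹ * F zX * g) * F c := by group
      _ = F aX * F zX := by rw [← hx]; group
  · left
    exact ⟨c, by rw [← hx, map_mul, map_mul, map_inv]⟩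
  · right
    exact ⟨c, by rw [← hx, map_mul, map_mul, map_inv]⟩

/-- `s ~ t` and `ts ~ t` cannot both hold -/
theorem not_both [Finite G] (hs : ∃ g : G, g * F aX * g⁻¹ = F sX)
    (hts : ∃ g : G, g * F aX * g⁻¹ = F (aX * sX)) : False := by
  obtain ⟨g, hg⟩ := hs
  obtain ⟨k, hk⟩ := hts
  rcases h.fus_aux sX sX_zX zX_ne_sX g hg aX_ne_sX with ⟨c, hc⟩ | ⟨c, hc⟩
  · -- `z ~ s ~ t`
    apply h.not_conj_t_z
    refine ⟨g * (F c) * g, ?_⟩
    calc g * F c * g * F aX * (g * F c * g)⁻¹ = g * (F c * (g * F aX * g⁻¹) * (F c)⁻¹) * g⁻¹ := by group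
      _ = g * (g⁻¹ * F zX * g) * g⁻¹ := by rw [hg, hc]
      _ = F zX := by group
  · -- `z ~ ts ~ t`
    apply h.not_conj_t_z
    refine ⟨g * (F c) * k, ?_⟩
    calc g * F c * k * F aX * (g * F c * k)⁻¹ = g * (F c * (k * F aX * k⁻¹) * (F c)⁻¹) * g⁻¹ := by group
      _ = g * (g⁻¹ * F zX * g) * g⁻¹ := by rw [hk, hc]
      _ = F zX := by group

/-- the two candidate subgroups of index two in `T` -/
theorem exists_index_two [Finite G] :
    ∃ M : Subgroup G, M.Normal ∧ M.index = 2 ∧ F aX ∉ M := by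
  haveI : Fact (Nat.Prime 2) := ⟨Nat.prime_two⟩
  -- general facts for a candidate `QX`
  have key : ∀ (QX : Subgroup X) (P : X → Prop), (∀ x, x ∈ QX ↔ P x) → (∀ x, P x → x * zX = zX * x) →
      (∀ x : X, x * zX = zX * x → Xor (P (x * aX)) (P x)) → ¬ P aX →
      (∃ M : Subgroup G, M.Normal ∧ M.index = 2 ∧ F aX ∉ M) ∨
        ∃ g : G, ∃ x : X, P x ∧ x * x = 1 ∧ x ≠ 1 ∧ g * F aX * g⁻¹ = F x := by
    intro QX P hP hPz hxor hPa
    have hQT : QX.map F ≤ (T : Subgroup G) := by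
      rintro _ ⟨x, hx, rfl⟩
      exact (h.memT x).mpr (hPz x ((hP x).mp hx))
    have hrel : (QX.map F).relIndex (T : Subgroup G) = 2 := by
      rw [Subgroup.relIndex, Subgroup.index_eq_two_iff]
      refine ⟨⟨F aX, h.t_mem⟩, ?_⟩
      intro b
      obtain ⟨x, hx, hxb⟩ := h.exists_of_mem_T b.2
      rw [Subgroup.mem_subgroupOf, Subgroup.mem_subgroupOf]
      simp only [Subgroup.coe_mul]
      rw [← hxb, ← map_mul, Subgroup.mem_map_iff_mem h.inj, Subgroup.mem_map_iff_mem h.inj, hP, hP]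
      exact hxor x hx
    have htQ : F aX ∉ QX.map F := by
      rw [Subgroup.mem_map_iff_mem h.inj, hP]
      exact hPa
    rcases Cfsg.Agent.S0111.result T (QX.map F) hQT hrel (F aX) h.orderOf_t h.t_mem htQ with hM | ⟨g, hg⟩
    · left; exact hM
    · right
      obtain ⟨x, hx, hxg⟩ := hg
      refine ⟨g, x, (hP x).mp hx, ?_, ?_, hxg.symm⟩
      · apply h.inj
        rw [map_mul, hxg, map_one]
        calc g * F aX * g⁻¹ * (g * F aX * g⁻¹) = g * (F aX * F aX) * g⁻¹ := by group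
          _ = 1 := by rw [h.t_sq]; group
      · rintro rfl
        rw [map_one] at hxg
        apply h.t_ne_one
        calc F aX = g⁻¹ * (g * F aX * g⁻¹) * g := by group
          _ = 1 := by rw [← hxg]; group
  rcases key Q1X P1 mem_Q1X (fun x hx => hx.1) P1_xor not_P1_aX with hM | ⟨g, x, hPx, hxx, hx1, hg⟩
  · exact hM
  -- `s ~ t`
  have hs : ∃ g : G, g * F aX * g⁻¹ = F sX := by
    rcases P1_invol x hPx hxx hx1 with ⟨c, rfl⟩ | rfl | rfl
    · exfalso
      apply h.not_conj_t_z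
      refine ⟨(F c)⁻¹ * g, ?_⟩
      calc (F c)⁻¹ * g * F aX * ((F c)⁻¹ * g)⁻¹ = (F c)⁻¹ * (g * F aX * g⁻¹) * F c := by group
        _ = F zX := by rw [hg, map_mul, map_mul, map_inv]; group
    · exact ⟨g, hg⟩
    · refine ⟨(F rX)⁻¹ * g, ?_⟩
      calc (F rX)⁻¹ * g * F aX * ((F rX)⁻¹ * g)⁻¹ = (F rX)⁻¹ * (g * F aX * g⁻¹) * F rX := by group
        _ = F sX := by rw [hg, map_mul, map_mul, map_inv]; group
  rcases key Q2X P2 mem_Q2X (fun x hx => hx.1) P2_xor not_P2_aX with hM | ⟨g, x, hPx, hxx, hx1, hg⟩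
  · exact hM
  exfalso
  rcases P2_invol x hPx hxx hx1 with ⟨c, rfl⟩ | ⟨c, rfl⟩ | rfl | rfl
  · apply h.not_conj_t_z
    refine ⟨(F c)⁻¹ * g, ?_⟩
    calc (F c)⁻¹ * g * F aX * ((F c)⁻¹ * g)⁻¹ = (F c)⁻¹ * (g * F aX * g⁻¹) * F c := by group
      _ = F zX := by rw [hg, map_mul, map_mul, map_inv]; group
  · apply h.not_conj_t_tz
    refine ⟨(F c)⁻¹ * g, ?_⟩
    calc (F c)⁻¹ * g * F aX * ((F c)⁻¹ * g)⁻¹ = (F c)⁻¹ * (g * F aX * g⁻¹) * F c := by group
      _ = F aX * F zX := by rw [hg, map_mul, map_mul, map_mul, map_inv]; group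
  · exact h.not_both hs ⟨g, hg⟩
  · apply h.not_both hs
    refine ⟨(F rX)⁻¹ * g, ?_⟩
    calc (F rX)⁻¹ * g * F aX * ((F rX)⁻¹ * g)⁻¹ = (F rX)⁻¹ * (g * F aX * g⁻¹) * F rX := by group
      _ = F (aX * sX) := by rw [hg, map_mul, map_mul, map_inv]; group

end Setup

end Cfsg.Agent.Lib.Helper19.Z2S4
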