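import Cfsg.Agent.Lib.Helper19.Z2S4A
set_option autoImplicit false
set_option maxRecDepth 1000000
set_option synthInstance.maxSize 100000
set_option synthInstance.maxHeartbeats 1000000

/-!
# S3222: the dihedral group of order 8 inside the model
-/

namespace Cfsg.Agent.Lib.Helper19.Z2S4

open DihedralGroup

/-- the standard embedding `D₈ → S₄` -/
def psiFun : DihedralGroup 4 → Equiv.Perm (Fin 4)
  | r i => c4 ^ i.val
  | sr i => tau * c4 ^ i.val

theorem psiFun_mul : ∀ a b : DihedralGroup 4, psiFun (a * b) = psiFun a * psiFun b := by decide +kernel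

/-- the standard embedding `D₈ → Z₂ × S₄` -/
def psiX : DihedralGroup 4 →* X :=
  MonoidHom.mk' (fun d => ((1 : Multiplicative (ZMod 2)), psiFun d)) (by
    intro a b
    rw [psiFun_mul]
    rfl)

theorem psiX_apply (d : DihedralGroup 4) : psiX d = (1, psiFun d) := rfl

theorem psiX_inj : ∀ a b : DihedralGroup 4, psiX a = psiX b → a = b := by decide +kernel

theorem psiX_ne : ∀ a b : DihedralGroup 4, psiX a ≠ aX * psiX b := by decide +kernel

theorem psiX_r2 : psiX (r 2) = zX := by decide +kernel

theorem psiX_zX : ∀ d : DihedralGroup 4, psiX d * zX = zX * psiX d := by decide +kernel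

theorem psiX_surj : ∀ y : X, y * zX = zX * y → ∃ d : DihedralGroup 4, y = psiX d ∨ y = aX * psiX d := by
  decide +kernel

/-- `z` is conjugate to `ψ (sr 1)` by an element of order three -/
theorem psiX_sr1 : ∃ c : X, c * c * c = 1 ∧ c * zX * c⁻¹ = psiX (sr 1) := by decide +kernel

theorem psiX_sr0 : psiX (sr 0) = sX := by decide +kernel

end Cfsg.Agent.Lib.Helper19.Z2S4
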