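import Cfsg.Agent.Lib.Helper19.Z2S4D
import Cfsg.Agent.Lib.Helper19.Z2S4E
import Cfsg.Agent.Lib.Helper19.D8InvB
import Cfsg.Agent.Lib.Helper19.D8InvG
import Cfsg.Agent.Lib.Helper19.D8Char
set_option autoImplicit false

/-!
# S3222: the subgroup of index two has a dihedral involution centralizer
-/

namespace Cfsg.Agent.Lib.Helper19.Z2S4

open Subgroup DihedralGroup

variable {G : Type*} [Group G]

/-- the configuration after passing to a subgroup `M` of index two avoiding `t` -/
structure Idx (F : X →* G) (T : Sylow 2 G) (M : Subgroup G) : Prop where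
  setup : Setup F T
  normal : M.Normal
  idx : M.index = 2
  tnot : F aX ∉ M

namespace Idx

variable {F : X →* G} {T : Sylow 2 G} {M : Subgroup G} (c : Idx F T M)

include c

theorem mul_mem_iff (a b : G) : a * b ∈ M ↔ (a ∈ M ↔ b ∈ M) :=
  Subgroup.mul_mem_iff_of_index_two c.idx

theorem sq_mem (a : G) : a * a ∈ M := by
  rw [c.mul_mem_iff]

theorem z_mem : F zX ∈ M := by
  have := c.sq_mem (F rX)
  rwa [← map_mul, rX_sq] at this

theorem t_mul_mem {a : G} (ha : a ∉ M) : F aX * a ∈ M := by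
  rw [c.mul_mem_iff]
  exact ⟨fun h1 => absurd h1 c.tnot, fun h1 => absurd h1 ha⟩

theorem t_mul_not_mem {a : G} (ha : a ∈ M) : F aX * a ∉ M := by
  rw [c.mul_mem_iff]
  intro h1
  exact c.tnot (h1.mpr ha)

/-- elements of order three lie in `M` -/
theorem cube_mem {a : G} (ha : a * a * a = 1) : a ∈ M := by
  have h1 : a = (a * a) * (a * a) := by
    calc a = (a * a * a) * a := by rw [ha, one_mul]
      _ = (a * a) * (a * a) := by group
  rw [h1]
  exact c.sq_mem _

open Classical in
/-- move an element into `M` by multiplying with `t` if necessary -/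
noncomputable def adj (M : Subgroup G) (F : X →* G) (a : G) : G := if a ∈ M then a else F aX * a

omit c in
theorem adj_of_mem {a : G} (ha : a ∈ M) : adj M F a = a := by
  unfold adj; rw [if_pos ha]

omit c in
theorem adj_of_not_mem {a : G} (ha : a ∉ M) : adj M F a = F aX * a := by
  unfold adj; rw [if_neg ha]

theorem adj_mem (a : G) : adj M F a ∈ M := by
  by_cases ha : a ∈ M
  · rw [adj_of_mem ha]; exact ha
  · rw [adj_of_not_mem ha]; exact c.t_mul_mem ha

theorem adj_mul (a b : G) (ha : a * F aX = F aX * a) :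
    adj M F (a * b) = adj M F a * adj M F b := by
  have htt := c.setup.t_sq
  by_cases h1 : a ∈ M
  · by_cases h2 : b ∈ M
    · rw [adj_of_mem h1, adj_of_mem h2, adj_of_mem (M.mul_mem h1 h2)]
    · have h3 : a * b ∉ M := by
        rw [c.mul_mem_iff]
        intro h4
        exact h2 (h4.mp h1)
      rw [adj_of_mem h1, adj_of_not_mem h2, adj_of_not_mem h3, ← mul_assoc, ← ha, mul_assoc]
  · by_cases h2 : b ∈ M
    · have h3 : a * b ∉ M := by
        rw [c.mul_mem_iff]
        intro h4
        exact h1 (h4.mpr h2)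
      rw [adj_of_not_mem h1, adj_of_mem h2, adj_of_not_mem h3, mul_assoc]
    · have h3 : a * b ∈ M := by
        rw [c.mul_mem_iff]
        exact ⟨fun h4 => absurd h4 h1, fun h4 => absurd h4 h2⟩
      rw [adj_of_not_mem h1, adj_of_not_mem h2, adj_of_mem h3]
      calc a * b = (F aX * F aX) * a * b := by rw [htt, one_mul]
        _ = F aX * (F aX * a) * b := by group
        _ = F aX * (a * F aX) * b := by rw [ha]
        _ = F aX * a * (F aX * b) := by group

/-- the dihedral group inside `M` -/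
noncomputable def f0 (c : Idx F T M) : DihedralGroup 4 →* ↥M :=
  MonoidHom.mk' (fun d => ⟨adj M F (F (psiX d)), c.adj_mem _⟩) (by
    intro a b
    apply Subtype.ext
    simp only [Subgroup.coe_mul]
    rw [map_mul, map_mul, c.adj_mul _ _ (c.setup.F_comm_t _)])

theorem f0_val (d : DihedralGroup 4) : ((c.f0 d : ↥M) : G) = adj M F (F (psiX d)) := rfl

theorem f0_cases (d : DihedralGroup 4) :
    ((c.f0 d : ↥M) : G) = F (psiX d) ∨ ((c.f0 d : ↥M) : G) = F (aX * psiX d) := by
  rw [c.f0_val]
  by_cases h1 : F (psiX d) ∈ M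
  · left; exact adj_of_mem h1
  · right; rw [adj_of_not_mem h1, map_mul]

theorem f0_r2 : ((c.f0 (r 2) : ↥M) : G) = F zX := by
  rw [c.f0_val, psiX_r2, adj_of_mem c.z_mem]

theorem f0_setup : Cfsg.Agent.Lib.Helper19.D8Inv.Setup c.f0 := by
  constructor
  · intro a b hab
    have h1 := congrArg Subtype.val hab
    rcases c.f0_cases a with ha | ha <;> rcases c.f0_cases b with hb | hb
    · rw [ha, hb] at h1
      exact psiX_inj a b (c.setup.inj h1)
    · rw [ha, hb] at h1
      exact absurd (c.setup.inj h1) (psiX_ne a b)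
    · rw [ha, hb] at h1
      exact absurd (c.setup.inj h1).symm (psiX_ne b a)
    · rw [ha, hb, map_mul, map_mul] at h1
      exact psiX_inj a b (c.setup.inj (mul_left_cancel h1))
  · intro x hx
    have h1 : (x : G) * F zX = F zX * (x : G) := by
      have := congrArg Subtype.val hx
      simp only [Subgroup.coe_mul] at this
      rwa [c.f0_r2] at this
    obtain ⟨y, hy, hyx⟩ := c.setup.exists_of_mem_T (c.setup.cent_z h1)
    obtain ⟨d, hd | hd⟩ := psiX_surj y hy
    · refine ⟨d, Subtype.ext ?_⟩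
      rw [c.f0_val, ← hyx, hd]
      apply adj_of_mem
      rw [← hd, hyx]; exact x.2
    · refine ⟨d, Subtype.ext ?_⟩
      have h2 : F aX * F (psiX d) ∈ M := by
        rw [← map_mul, ← hd, hyx]; exact x.2
      have h3 : F (psiX d) ∉ M := fun h4 => c.t_mul_not_mem h4 h2
      rw [c.f0_val, adj_of_not_mem h3, ← hyx, hd, map_mul]

/-- `z` is fused in `M` to the class of `sr 1` -/
theorem hB : ∃ g : ↥M, g * c.f0 (r 2) * g⁻¹ = c.f0 (sr 1) := by
  obtain ⟨x, hx3, hx⟩ := psiX_sr1
  have h1 : F x ∈ M := by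
    apply c.cube_mem
    rw [← map_mul, ← map_mul, hx3, map_one]
  have h2 : F (psiX (sr 1)) ∈ M := by
    rw [← hx, map_mul, map_mul, map_inv]
    exact M.mul_mem (M.mul_mem h1 c.z_mem) (M.inv_mem h1)
  refine ⟨⟨F x, h1⟩, Subtype.ext ?_⟩
  simp only [Subgroup.coe_mul, Subgroup.coe_inv]
  rw [c.f0_r2, c.f0_val, adj_of_mem h2, ← hx, map_mul, map_mul, map_inv]

theorem card_M [Finite G] : Nat.card M * 2 = Nat.card G := by
  rw [← c.idx]; exact M.card_mul_index

/-- the cases for `M` -/
theorem cases_M [Finite G] : Nonempty (↥M ≃* Equiv.Perm (Fin 4)) ∨ Nonempty (↥M ≃* Equiv.Perm (Fin 5)) ∨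
    (IsSimpleGroup ↥M ∧ (Nat.card ↥M = 168 ∨ Nat.card ↥M = 360) ∧
      ∀ u ∈ M, u * u = 1 → u ≠ 1 → ∃ g : G, g * F zX * g⁻¹ = u) := by
  have hf := c.f0_setup
  by_cases hA : ∃ g : ↥M, g * c.f0 (r 2) * g⁻¹ = c.f0 (sr 0)
  · right; right
    have hG := hf.case_full hA c.hB
    obtain ⟨S, hS⟩ := hf.exists_sylow
    have hzS : c.f0 (r 2) ∈ (S : Subgroup ↥M) := by
      rw [hS, Subgroup.mem_centralizer_iff]
      intro y hy
      rw [Set.mem_singleton_iff] at hy
      rw [hy]
    have hzc : ∀ s ∈ (S : Subgroup ↥M), s * c.f0 (r 2) = c.f0 (r 2) * s := by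
      intro s hs
      rw [hS, Subgroup.mem_centralizer_iff] at hs
      exact (hs _ (Set.mem_singleton _)).symm
    have e : ↥(centralizer ({c.f0 (r 2)} : Set ↥M)) ≃* DihedralGroup 4 := by
      rw [hf.centralizer_eq_range]
      exact (MonoidHom.ofInjective hf.inj).symm
    obtain ⟨hsimple, hcard⟩ := Cfsg.Agent.Lib.Helper19.D8Char.main hG
      (c.f0 (r 2)) hf.orderOf_z S hzS hzc e
    refine ⟨hsimple, hcard, ?_⟩
    intro u huM huu hu1
    haveI : Fact (Nat.Prime 2) := ⟨Nat.prime_two⟩
    -- `u` lies in a conjugate of `T`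
    have hu2 : IsPGroup 2 (Subgroup.zpowers u) := by
      apply IsPGroup.of_card (n := 1)
      rw [Nat.card_zpowers, pow_one]
      apply orderOf_eq_prime
      · rw [pow_two]; exact huu
      · exact hu1
    obtain ⟨P, hP⟩ := hu2.exists_le_sylow
    obtain ⟨k, hk⟩ := MulAction.exists_smul_eq G T P
    have huP : u ∈ (P : Subgroup G) := hP (Subgroup.mem_zpowers u)
    have hkP : ((k • T : Sylow 2 G) : Subgroup G) = (P : Subgroup G) := by rw [hk]
    rw [← hkP, Sylow.coe_subgroup_smul] at huP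
    change u ∈ (T : Subgroup G).map (MulAut.conj k).toMonoidHom at huP
    rw [Subgroup.mem_map] at huP
    obtain ⟨y, hyT, hyu⟩ := huP
    have hyu' : k * y * k⁻¹ = u := hyu
    obtain ⟨x, hx, hxy⟩ := c.setup.exists_of_mem_T hyT
    have hyM : y ∈ M := by
      have : y = k⁻¹ * u * k⁻¹⁻¹ := by rw [← hyu']; group
      rw [this]
      exact c.normal.conj_mem u huM k⁻¹
    have hyy : y * y = 1 := by
      have : y * y = k⁻¹ * (u * u) * k := by rw [← hyu']; group
      rw [this, huu]; group
    have hy1 : y ≠ 1 := by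
      rintro rfl
      apply hu1
      rw [← hyu']; group
    have hxx : x * x = 1 := by
      apply c.setup.inj
      rw [map_mul, hxy, hyy, map_one]
    have hx1 : x ≠ 1 := by
      rintro rfl
      apply hy1
      rw [← hxy, map_one]
    obtain ⟨g0, hg0⟩ := hA
    have hg0' : (g0 : G) * F zX * (g0 : G)⁻¹ = ((c.f0 (sr 0) : ↥M) : G) := by
      have := congrArg Subtype.val hg0
      simp only [Subgroup.coe_mul, Subgroup.coe_inv] at this
      rwa [c.f0_r2] at this
    rw [c.f0_val, psiX_sr0] at hg0'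
    rcases invol_X x hxx hx1 with rfl | ⟨d, rfl⟩ | ⟨d, rfl⟩ | ⟨d, rfl⟩ | ⟨d, rfl⟩
    · exfalso
      apply c.tnot
      rw [hxy]; exact hyM
    · refine ⟨k * F d, ?_⟩
      rw [← hyu', ← hxy, map_mul, map_mul, map_inv]; group
    · exfalso
      have h1 : F (aX * zX) ∈ M := by
        have : F (aX * zX) = (F d)⁻¹ * y * (F d)⁻¹⁻¹ := by
          rw [← hxy]; simp only [map_mul, map_inv]; group
        rw [this]
        exact c.normal.conj_mem y hyM _
      rw [map_mul] at h1
      exact c.t_mul_not_mem c.z_mem h1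
    · have h1 : F sX ∈ M := by
        have : F sX = (F d)⁻¹ * y * (F d)⁻¹⁻¹ := by
          rw [← hxy]; simp only [map_mul, map_inv]; group
        rw [this]
        exact c.normal.conj_mem y hyM _
      rw [adj_of_mem h1] at hg0'
      refine ⟨k * F d * g0, ?_⟩
      rw [← hyu', ← hxy, map_mul, map_mul, map_inv, ← hg0']; group
    · have h1 : F (aX * sX) ∈ M := by
        have : F (aX * sX) = (F d)⁻¹ * y * (F d)⁻¹⁻¹ := by
          rw [← hxy]; simp only [map_mul, map_inv]; group
        rw [this]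
        exact c.normal.conj_mem y hyM _
      have h2 : F sX ∉ M := by
        intro h3
        rw [map_mul] at h1
        exact c.t_mul_not_mem h3 h1
      rw [adj_of_not_mem h2, ← map_mul] at hg0'
      refine ⟨k * F d * g0, ?_⟩
      rw [← hyu', ← hxy, map_mul (f := F) (d * (aX * sX)), map_mul (f := F) d, map_inv, ← hg0']; group
  · have hA' : ¬ ∃ g : ↥M, g * c.f0 (r 2) * g⁻¹ = c.f0 (sr (1 + 1)) := by
      rintro ⟨g, hg⟩
      apply hA
      refine ⟨(c.f0 (r 1))⁻¹ * g, ?_⟩
      have h2 : c.f0 (sr 0)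
          = (c.f0 (r 1))⁻¹ * c.f0 (sr (1 + 1)) * c.f0 (r 1) := by
        have h3 : (sr (1 + 1) : DihedralGroup 4) = sr 2 := by decide
        rw [h3, Cfsg.Agent.Lib.Helper19.D8Inv.d4_sr2, map_mul, map_mul, map_inv]; group
      rw [h2, ← hg]; group
    rcases hf.case_one_class 1 c.hB hA' with h4 | h5
    · left; exact h4
    · right; left; exact h5

end Idx

end Cfsg.Agent.Lib.Helper19.Z2S4
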