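import Cfsg.Agent.Lib.Helper19.Z2S4F
set_option autoImplicit false

/-!
# S3222: the cases `M ≅ S₄`, `M ≅ S₅`, `|M| = 168`
-/

namespace Cfsg.Agent.Lib.Helper19.Z2S4

open Subgroup DihedralGroup

variable {G : Type*} [Group G]

omit [Group G] in
theorem card_inf_mul_relIndex {G : Type*} [Group G] (H K : Subgroup G) :
    H.relIndex K * Nat.card (H ⊓ K : Subgroup G) = Nat.card K := by
  rw [← Subgroup.inf_relIndex_right, Subgroup.relIndex]
  have h1 := ((H ⊓ K).subgroupOf K).index_mul_card
  rw [Nat.card_congr (Subgroup.subgroupOfEquivOfLe (inf_le_right : H ⊓ K ≤ K)).toEquiv] at h1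
  exact h1

namespace Setup

variable {F : X →* G} {T : Sylow 2 G} (h : Setup F T)

include h

theorem centralizer_t : centralizer ({F aX} : Set G) = F.range := by
  ext x
  rw [mem_centralizer_singleton]
  constructor
  · intro hx
    obtain ⟨y, hy⟩ := h.cent x hx
    exact ⟨y, hy⟩
  · rintro ⟨y, rfl⟩
    exact h.F_comm_t y

theorem card_centralizer_t : Nat.card (centralizer ({F aX} : Set G)) = 48 := by
  rw [h.centralizer_t, ← card_X]
  exact (Nat.card_congr (Equiv.ofInjective F h.inj)).symm

/-- central elements of `G` lie in `{1, t}` -/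
theorem central_cases {n : G} (hn : ∀ g : G, g * n = n * g) : n = 1 ∨ n = F aX := by
  obtain ⟨x, rfl⟩ := h.cent n (hn (F aX)).symm
  have hx : ∀ y : X, x * y = y * x := by
    intro y
    apply h.inj
    rw [map_mul, map_mul]
    exact (hn (F y)).symm
  rcases center_X x hx with rfl | rfl
  · left; exact map_one F
  · right; rfl

/-- if `t` is central then `|G| = 48` -/
theorem card_of_t_central [Finite G] (ht : ∀ g : G, g * F aX = F aX * g) : Nat.card G = 48 := by
  rw [← h.card_centralizer_t]
  have : centralizer ({F aX} : Set G) = ⊤ := by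
    rw [eq_top_iff]
    intro g _
    rw [mem_centralizer_singleton]
    exact ht g
  rw [this, Subgroup.card_top]

end Setup

namespace Idx

variable {F : X →* G} {T : Sylow 2 G} {M : Subgroup G} (c : Idx F T M)

include c

/-- an element outside `M` centralizing `M` is central -/
theorem central_of_centralizes {n : G} (hnM : n ∉ M) (hn : ∀ m ∈ M, m * n = n * m) (g : G) :
    g * n = n * g := by
  by_cases hg : g ∈ M
  · exact hn g hg
  · have h1 : n⁻¹ * g ∈ M := by
      rw [c.mul_mem_iff]
      constructor
      · intro h2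
        exact absurd (by simpa using M.inv_mem h2) hnM
      · intro h2
        exact absurd h2 hg
    have h2 := hn _ h1
    calc g * n = n * (n⁻¹ * g * n) := by group
      _ = n * (n * (n⁻¹ * g)) := by rw [h2]
      _ = n * g := by group

/-- the case `M ≅ S₄` -/
theorem case_S4 [Finite G] (ε : ↥M ≃* Equiv.Perm (Fin 4)) : Nat.card G = 48 := by
  have h1 : Nat.card M = 24 := by
    rw [Nat.card_congr ε.toEquiv, Nat.card_perm]
    simp [Nat.factorial]
  have := c.card_M
  omega

/-- the case `M ≅ S₅` is impossible -/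
theorem case_S5 [Finite G] (ε : ↥M ≃* Equiv.Perm (Fin 5)) : False := by
  have hM : Nat.card M = 120 := by
    rw [Nat.card_congr ε.toEquiv, Nat.card_perm]
    simp [Nat.factorial]
  have hG : Nat.card G = 240 := by
    have := c.card_M
    omega
  have hC := c.setup.card_centralizer_t
  set N : Subgroup G := (centralizer ({F aX} : Set G)).normalCore with hN
  have hNle : N ≤ centralizer ({F aX} : Set G) := Subgroup.normalCore_le _
  haveI hNn : N.Normal := Subgroup.normalCore_normal _
  have hCidx : (centralizer ({F aX} : Set G)).index = 5 := by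
    have := (centralizer ({F aX} : Set G)).card_mul_index
    rw [hC, hG] at this
    omega
  have hNidx : N.index ∣ 120 := by
    have h1 : N.index ∣ (centralizer ({F aX} : Set G)).index.factorial := by
      rw [hN, Subgroup.normalCore_eq_ker, Subgroup.index_ker, Subgroup.index_eq_card, ← Nat.card_perm]
      exact Subgroup.card_subgroup_dvd_card _
    rw [hCidx] at h1
    exact h1
  have hNcard : Nat.card N ≠ 1 := by
    intro h1
    have h2 := N.card_mul_index
    rw [h1, hG, one_mul] at h2
    rw [h2] at hNidx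
    omega
  -- `N ∩ M = 1`
  have hNM : ∀ x ∈ N, x ∈ M → x = 1 := by
    intro x hxN hxM
    let K : Subgroup ↥M := N.subgroupOf M
    haveI : K.Normal := Subgroup.normal_subgroupOf
    let K' : Subgroup (Equiv.Perm (Fin 5)) := K.map ε.toMonoidHom
    haveI : K'.Normal := Subgroup.Normal.map ‹K.Normal› _ ε.surjective
    have hK'card : Nat.card K' ∣ 48 := by
      have h1 : Nat.card K' = Nat.card K := Subgroup.card_map_of_injective ε.injective
      have h2 : Nat.card K ∣ Nat.card N := by
        let φ : ↥K →* ↥N := MonoidHom.mk' (fun k => ⟨((k : ↥M) : G), k.2⟩) (by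
          intro a b; rfl)
        apply Subgroup.card_dvd_of_injective φ
        intro a b hab
        apply Subtype.ext
        apply Subtype.ext
        exact congrArg (fun k : ↥N => (k : G)) hab
      rw [h1]
      exact h2.trans (hC ▸ Subgroup.card_dvd_of_le hNle)
    by_cases hnt : Nontrivial K'
    · exfalso
      have h3 := Equiv.Perm.alternatingGroup_le_of_normal (α := Fin 5) (by simp) hnt
      have h4 := Subgroup.card_dvd_of_le h3
      have h5 : Nat.card (alternatingGroup (Fin 5)) = 60 :=
        Cfsg.Agent.Lib.Helper19.D8Inv.card_A5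
      rw [h5] at h4
      have := h4.trans hK'card
      omega
    · rw [not_nontrivial_iff_subsingleton] at hnt
      have h6 : ε ⟨x, hxM⟩ ∈ K' := ⟨⟨x, hxM⟩, hxN, rfl⟩
      have h7 : (⟨ε ⟨x, hxM⟩, h6⟩ : K') = 1 := Subsingleton.elim _ _
      have h8 : ε ⟨x, hxM⟩ = 1 := congrArg Subtype.val h7
      have h9 : (⟨x, hxM⟩ : ↥M) = 1 := by
        apply ε.injective
        rw [h8, map_one]
      exact congrArg Subtype.val h9
  -- a nontrivial element of `N` is central
  obtain ⟨n, hn1⟩ : ∃ n : N, n ≠ 1 := by
    by_contra hcon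
    push Not at hcon
    apply hNcard
    rw [Nat.card_eq_one_iff_unique]
    exact ⟨⟨fun a b => by rw [hcon a, hcon b]⟩, ⟨1⟩⟩
  have hnM : (n : G) ∉ M := by
    intro h1
    apply hn1
    exact Subtype.ext (hNM n n.2 h1)
  have hncent : ∀ m ∈ M, m * (n : G) = (n : G) * m := by
    intro m hm
    have h1 : m * (n : G) * m⁻¹ * (n : G)⁻¹ ∈ N :=
      N.mul_mem (hNn.conj_mem _ n.2 m) (N.inv_mem n.2)
    have h2 : m * (n : G) * m⁻¹ * (n : G)⁻¹ ∈ M := by
      have h3 : (n : G) * m⁻¹ * (n : G)⁻¹ ∈ M := c.normal.conj_mem _ (M.inv_mem hm) _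
      have : m * (n : G) * m⁻¹ * (n : G)⁻¹ = m * ((n : G) * m⁻¹ * (n : G)⁻¹) := by group
      rw [this]
      exact M.mul_mem hm h3
    have h4 := hNM _ h1 h2
    calc m * (n : G) = (m * (n : G) * m⁻¹ * (n : G)⁻¹) * (n : G) * m := by group
      _ = (n : G) * m := by rw [h4, one_mul]
  have hcentral := c.central_of_centralizes hnM hncent
  rcases c.setup.central_cases hcentral with h1 | h1
  · exact hn1 (Subtype.ext h1)
  · have h2 := c.setup.card_of_t_central (by rw [← h1]; exact hcentral)
    omega

end Idx

end Cfsg.Agent.Lib.Helper19.Z2S4
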