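import Cfsg.Agent.Lib.Helper19.Z2S4G
set_option autoImplicit false

/-!
# S3222: the case `|M| = 168` is impossible
-/

namespace Cfsg.Agent.Lib.Helper19.Z2S4

open Subgroup DihedralGroup

variable {G : Type*} [Group G]

/-- the elements commuting with all conjugates of `t` -/
def ZC (t : G) : Subgroup G where
  carrier := {y | ∀ g : G, y * (g * t * g⁻¹) = (g * t * g⁻¹) * y}
  mul_mem' := by
    intro a b ha hb g
    simp only [Set.mem_setOf_eq] at ha hb
    rw [mul_assoc, hb g, ← mul_assoc, ha g, mul_assoc]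
  one_mem' := by intro g; simp
  inv_mem' := by
    intro a ha g
    simp only [Set.mem_setOf_eq] at ha
    have := ha g
    calc a⁻¹ * (g * t * g⁻¹) = a⁻¹ * ((g * t * g⁻¹) * a) * a⁻¹ := by group
      _ = a⁻¹ * (a * (g * t * g⁻¹)) * a⁻¹ := by rw [this]
      _ = (g * t * g⁻¹) * a⁻¹ := by group

theorem mem_ZC {t y : G} : y ∈ ZC t ↔ ∀ g : G, y * (g * t * g⁻¹) = (g * t * g⁻¹) * y := Iff.rfl

instance ZC_normal (t : G) : (ZC t).Normal := by
  constructor
  intro y hy a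
  rw [mem_ZC] at hy ⊢
  intro g
  have := hy (a⁻¹ * g)
  calc a * y * a⁻¹ * (g * t * g⁻¹) = a * (y * (a⁻¹ * g * t * (a⁻¹ * g)⁻¹)) * a⁻¹ := by group
    _ = a * ((a⁻¹ * g * t * (a⁻¹ * g)⁻¹) * y) * a⁻¹ := by rw [this]
    _ = (g * t * g⁻¹) * (a * y * a⁻¹) := by group

namespace Setup

variable {F : X →* G} {T : Sylow 2 G} (h : Setup F T)

include h

/-- the classes of the conjugates of `t` inside `C(t)` -/
theorem class_of_conj_t [Finite G] (x : X) (hx : ∃ g : G, g * F aX * g⁻¹ = F x) :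
    x = aX ∨ (∃ c : X, c * sX * c⁻¹ = x) ∨ (∃ c : X, c * (aX * sX) * c⁻¹ = x) := by
  obtain ⟨g, hg⟩ := hx
  have hxx : x * x = 1 := by
    apply h.inj
    rw [map_mul, ← hg, map_one]
    calc g * F aX * g⁻¹ * (g * F aX * g⁻¹) = g * (F aX * F aX) * g⁻¹ := by group
      _ = 1 := by rw [h.t_sq]; group
  have hx1 : x ≠ 1 := by
    rintro rfl
    rw [map_one] at hg
    apply h.t_ne_one
    calc F aX = g⁻¹ * (g * F aX * g⁻¹) * g := by group
      _ = 1 := by rw [hg]; group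
  rcases invol_X x hxx hx1 with rfl | ⟨c, rfl⟩ | ⟨c, rfl⟩ | h1 | h1
  · left; rfl
  · exfalso
    apply h.not_conj_t_z
    refine ⟨(F c)⁻¹ * g, ?_⟩
    calc (F c)⁻¹ * g * F aX * ((F c)⁻¹ * g)⁻¹ = (F c)⁻¹ * (g * F aX * g⁻¹) * F c := by group
      _ = F zX := by rw [hg]; simp only [map_mul, map_inv]; group
  · exfalso
    apply h.not_conj_t_tz
    refine ⟨(F c)⁻¹ * g, ?_⟩
    calc (F c)⁻¹ * g * F aX * ((F c)⁻¹ * g)⁻¹ = (F c)⁻¹ * (g * F aX * g⁻¹) * F c := by group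
      _ = F aX * F zX := by rw [hg]; simp only [map_mul, map_inv]; group
  · right; left; exact h1
  · right; right; exact h1

/-- two conjugates of `t` centralizing a common conjugate of `z` commute -/
theorem comm_of_common [Finite G] (k g1 g2 : G)
    (h1 : (g1 * F aX * g1⁻¹) * (k * F zX * k⁻¹) = (k * F zX * k⁻¹) * (g1 * F aX * g1⁻¹))
    (h2 : (g2 * F aX * g2⁻¹) * (k * F zX * k⁻¹) = (k * F zX * k⁻¹) * (g2 * F aX * g2⁻¹)) :
    (g1 * F aX * g1⁻¹) * (g2 * F aX * g2⁻¹) = (g2 * F aX * g2⁻¹) * (g1 * F aX * g1⁻¹) := by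
  have e1 : (k⁻¹ * g1) * F aX * (k⁻¹ * g1)⁻¹ * F zX = F zX * ((k⁻¹ * g1) * F aX * (k⁻¹ * g1)⁻¹) := by
    calc (k⁻¹ * g1) * F aX * (k⁻¹ * g1)⁻¹ * F zX
        = k⁻¹ * ((g1 * F aX * g1⁻¹) * (k * F zX * k⁻¹)) * k := by group
      _ = k⁻¹ * ((k * F zX * k⁻¹) * (g1 * F aX * g1⁻¹)) * k := by rw [h1]
      _ = F zX * ((k⁻¹ * g1) * F aX * (k⁻¹ * g1)⁻¹) := by group
  have e2 : (k⁻¹ * g2) * F aX * (k⁻¹ * g2)⁻¹ * F zX = F zX * ((k⁻¹ * g2) * F aX * (k⁻¹ * g2)⁻¹) := by
    calc (k⁻¹ * g2) * F aX * (k⁻¹ * g2)⁻¹ * F zX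
        = k⁻¹ * ((g2 * F aX * g2⁻¹) * (k * F zX * k⁻¹)) * k := by group
      _ = k⁻¹ * ((k * F zX * k⁻¹) * (g2 * F aX * g2⁻¹)) * k := by rw [h2]
      _ = F zX * ((k⁻¹ * g2) * F aX * (k⁻¹ * g2)⁻¹) := by group
  obtain ⟨x1, hx1, hx1'⟩ := h.exists_of_mem_T (h.cent_z e1)
  obtain ⟨x2, hx2, hx2'⟩ := h.exists_of_mem_T (h.cent_z e2)
  have c1 := h.class_of_conj_t x1 ⟨k⁻¹ * g1, hx1'.symm⟩
  have c2 := h.class_of_conj_t x2 ⟨k⁻¹ * g2, hx2'.symm⟩
  have hcomm := comm_of_classes x1 hx1 c1 x2 hx2 c2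
  have hc : F x1 * F x2 = F x2 * F x1 := by rw [← map_mul, ← map_mul, hcomm]
  rw [hx1', hx2'] at hc
  calc (g1 * F aX * g1⁻¹) * (g2 * F aX * g2⁻¹)
      = k * (((k⁻¹ * g1) * F aX * (k⁻¹ * g1)⁻¹) * ((k⁻¹ * g2) * F aX * (k⁻¹ * g2)⁻¹)) * k⁻¹ := by group
    _ = k * (((k⁻¹ * g2) * F aX * (k⁻¹ * g2)⁻¹) * ((k⁻¹ * g1) * F aX * (k⁻¹ * g1)⁻¹)) * k⁻¹ := by rw [hc]
    _ = (g2 * F aX * g2⁻¹) * (g1 * F aX * g1⁻¹) := by group

end Setup

namespace Idx

variable {F : X →* G} {T : Sylow 2 G} {M : Subgroup G} (c : Idx F T M)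

include c

theorem relIndex_M_C : M.relIndex (centralizer ({F aX} : Set G)) = 2 := by
  rw [Subgroup.relIndex_eq_two_iff]
  refine ⟨F aX, mem_centralizer_singleton.mpr rfl, ?_⟩
  intro b _
  by_cases hb : b ∈ M
  · right
    refine ⟨hb, ?_⟩
    rw [c.mul_mem_iff]
    intro h1
    exact c.tnot (h1.mp hb)
  · left
    refine ⟨?_, hb⟩
    rw [c.mul_mem_iff]
    exact ⟨fun h1 => absurd h1 hb, fun h1 => absurd h1 c.tnot⟩

theorem card_M_inf_C : Nat.card (M ⊓ centralizer ({F aX} : Set G) : Subgroup G) = 24 := by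
  have h1 := card_inf_mul_relIndex M (centralizer ({F aX} : Set G))
  rw [c.relIndex_M_C, c.setup.card_centralizer_t] at h1
  omega

/-- the case `|M| = 168`: any conjugate of `t` commutes with `t` -/
theorem comm_conj_168 [Finite G] (h168 : Nat.card M = 168)
    (hinv : ∀ u ∈ M, u * u = 1 → u ≠ 1 → ∃ g : G, g * F zX * g⁻¹ = u) (g : G) :
    F aX * (g * F aX * g⁻¹) = (g * F aX * g⁻¹) * F aX := by
  haveI : Fact (Nat.Prime 2) := ⟨Nat.prime_two⟩
  set H1 : Subgroup G := M ⊓ centralizer ({F aX} : Set G) with hH1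
  set H2 : Subgroup G := H1.map (MulAut.conj g).toMonoidHom with hH2
  have hc1 : Nat.card H1 = 24 := c.card_M_inf_C
  have hc2 : Nat.card H2 = 24 := by
    rw [hH2, Subgroup.card_map_of_injective (MulAut.conj g).injective, hc1]
  have hH1M : H1 ≤ M := inf_le_left
  have hH2M : H2 ≤ M := by
    rintro _ ⟨y, hy, rfl⟩
    exact c.normal.conj_mem y (hH1M hy) g
  have hr1 : H1.relIndex M = 7 := by
    have := card_inf_mul_relIndex H1 M
    rw [inf_eq_left.mpr hH1M, hc1, h168] at this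
    omega
  have hr2 : H2.relIndex M = 7 := by
    have := card_inf_mul_relIndex H2 M
    rw [inf_eq_left.mpr hH2M, hc2, h168] at this
    omega
  have hr3 : (H1 ⊓ H2).relIndex M ≤ 49 := by
    have := Subgroup.relIndex_inf_le (H := H1) (K := H2) (L := M)
    rw [hr1, hr2] at this
    exact this
  have hc3 : 4 ≤ Nat.card (H1 ⊓ H2 : Subgroup G) := by
    have := card_inf_mul_relIndex (H1 ⊓ H2) M
    rw [inf_eq_left.mpr (inf_le_left.trans hH1M), h168] at this
    by_contra hcon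
    push Not at hcon
    have : (H1 ⊓ H2).relIndex M * Nat.card (H1 ⊓ H2 : Subgroup G) ≤ 49 * 3 :=
      Nat.mul_le_mul hr3 (by omega)
    omega
  have hd3 : Nat.card (H1 ⊓ H2 : Subgroup G) ∣ 24 := by
    rw [← hc1]; exact Subgroup.card_dvd_of_le inf_le_left
  have h2dvd : 2 ∣ Nat.card (H1 ⊓ H2 : Subgroup G) := by
    obtain ⟨k, hk⟩ := hd3
    have hk6 : k ≤ 6 := by
      by_contra hcon
      push Not at hcon
      have : 4 * 7 ≤ Nat.card (H1 ⊓ H2 : Subgroup G) * k := Nat.mul_le_mul hc3 hcon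
      omega
    have hk0 : 0 < k := by
      rcases Nat.eq_zero_or_pos k with h0 | h0
      · rw [h0] at hk; omega
      · exact h0
    interval_cases k <;> omega
  obtain ⟨u, hu⟩ := exists_prime_orderOf_dvd_card' 2 h2dvd
  have huu : (u : G) * (u : G) = 1 := by
    have h1 : u ^ 2 = 1 := by rw [← hu]; exact pow_orderOf_eq_one u
    have h2 := congrArg Subtype.val h1
    simpa [pow_two] using h2
  have hu1 : (u : G) ≠ 1 := by
    intro h1
    have h2 : u = 1 := Subtype.ext h1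
    rw [h2, orderOf_one] at hu
    omega
  have huH1 : (u : G) ∈ H1 := u.2.1
  have huH2 : (u : G) ∈ H2 := u.2.2
  have hut : (u : G) * F aX = F aX * (u : G) := mem_centralizer_singleton.mp huH1.2
  have hut' : (u : G) * (g * F aX * g⁻¹) = (g * F aX * g⁻¹) * (u : G) := by
    obtain ⟨y, hy, hyu⟩ := huH2
    have hyu' : g * y * g⁻¹ = (u : G) := hyu
    have hyt : y * F aX = F aX * y := mem_centralizer_singleton.mp hy.2
    rw [← hyu']
    calc g * y * g⁻¹ * (g * F aX * g⁻¹) = g * (y * F aX) * g⁻¹ := by group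
      _ = g * (F aX * y) * g⁻¹ := by rw [hyt]
      _ = (g * F aX * g⁻¹) * (g * y * g⁻¹) := by group
  obtain ⟨k, hk⟩ := hinv (u : G) (hH1M huH1) huu hu1
  have := c.setup.comm_of_common k 1 g (by
    rw [hk]; simp only [one_mul, inv_one, mul_one]; exact hut.symm) (by
    rw [hk]; exact hut'.symm)
  simpa using this

/-- the case `|M| = 168` is impossible -/
theorem case_168 [Finite G] (hs : IsSimpleGroup ↥M) (h168 : Nat.card M = 168)
    (hinv : ∀ u ∈ M, u * u = 1 → u ≠ 1 → ∃ g : G, g * F zX * g⁻¹ = u) : False := by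
  have hG : Nat.card G = 336 := by
    have := c.card_M
    omega
  have hA := c.comm_conj_168 h168 hinv
  -- all conjugates of `t` commute
  have hAll : ∀ g1 g2 : G, (g1 * F aX * g1⁻¹) * (g2 * F aX * g2⁻¹) =
      (g2 * F aX * g2⁻¹) * (g1 * F aX * g1⁻¹) := by
    intro g1 g2
    have := hA (g1⁻¹ * g2)
    calc (g1 * F aX * g1⁻¹) * (g2 * F aX * g2⁻¹)
        = g1 * (F aX * ((g1⁻¹ * g2) * F aX * (g1⁻¹ * g2)⁻¹)) * g1⁻¹ := by group
      _ = g1 * (((g1⁻¹ * g2) * F aX * (g1⁻¹ * g2)⁻¹) * F aX) * g1⁻¹ := by rw [this]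
      _ = (g2 * F aX * g2⁻¹) * (g1 * F aX * g1⁻¹) := by group
  -- `t` is not central
  obtain ⟨g0, hg0⟩ : ∃ g0 : G, g0 * F aX * g0⁻¹ ≠ F aX := by
    by_contra hcon
    push Not at hcon
    have := c.setup.card_of_t_central (fun g => by
      have h1 := hcon g
      calc g * F aX = (g * F aX * g⁻¹) * g := by group
        _ = F aX * g := by rw [h1])
    omega
  set w : G := F aX * (g0 * F aX * g0⁻¹) with hw
  have hwM : w ∈ M := by
    rw [hw, c.mul_mem_iff]
    constructor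
    · intro h1; exact absurd h1 c.tnot
    · intro h1
      exfalso
      apply c.tnot
      have : F aX = g0⁻¹ * (g0 * F aX * g0⁻¹) * g0⁻¹⁻¹ := by group
      rw [this]
      exact c.normal.conj_mem _ h1 _
  have hw1 : w ≠ 1 := by
    intro h1
    apply hg0
    have : g0 * F aX * g0⁻¹ = (F aX)⁻¹ * w := by rw [hw]; group
    rw [this, h1, mul_one, c.setup.t_inv]
  have hwZ : w ∈ ZC (F aX) := by
    rw [mem_ZC]
    intro g
    have e1 := hAll 1 g
    simp only [one_mul, inv_one, mul_one] at e1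
    have e2 := hAll g0 g
    rw [hw, mul_assoc, e2, ← mul_assoc, e1, mul_assoc]
  -- the normal subgroup `ZC ∩ M` of `M` is everything
  let K : Subgroup ↥M := (ZC (F aX)).subgroupOf M
  haveI : K.Normal := Subgroup.normal_subgroupOf
  have hK : K = ⊤ := by
    rcases hs.eq_bot_or_eq_top_of_normal K inferInstance with h1 | h1
    · exfalso
      apply hw1
      have h2 : (⟨w, hwM⟩ : ↥M) ∈ K := by
        rw [Subgroup.mem_subgroupOf]; exact hwZ
      rw [h1, Subgroup.mem_bot] at h2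
      exact congrArg Subtype.val h2
    · exact h1
  have hMC : M ≤ centralizer ({F aX} : Set G) := by
    intro m hm
    have h1 : (⟨m, hm⟩ : ↥M) ∈ K := by rw [hK]; trivial
    rw [Subgroup.mem_subgroupOf, mem_ZC] at h1
    have h2 := h1 1
    simp only [one_mul, inv_one, mul_one] at h2
    exact mem_centralizer_singleton.mpr h2
  have := Subgroup.card_dvd_of_le hMC
  rw [h168, c.setup.card_centralizer_t] at this
  omega

end Idx

end Cfsg.Agent.Lib.Helper19.Z2S4
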