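import Cfsg.Agent.Lib.Helper19.Z2S4H
import Cfsg.Agent.S4231
import Cfsg.Agent.S0497
set_option autoImplicit false

/-!
# S3222: the case `M ≅ A₆` gives `G ≅ S₆`
-/

namespace Cfsg.Agent.Lib.Helper19.Z2S4

open Subgroup Equiv Equiv.Perm Cfsg.Agent.S4231

/-- an automorphism of `A₆` fixing an element of order three preserves three-cycles -/
theorem good_of_fix (ψ : MulAut ↥(alternatingGroup (Fin 6))) (y : ↥(alternatingGroup (Fin 6)))
    (hy : orderOf (y : Perm (Fin 6)) = 3) (hfix : ψ y = y) : Good ψ := by
  by_contra hψ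
  unfold Good at hψ
  push Not at hψ
  obtain ⟨x0, hx0, hx0'⟩ := hψ
  have h33 : ((ψ x0 : ↥(alternatingGroup (Fin 6))) : Perm (Fin 6)).cycleType = {3, 3} := by
    rcases ord3_cases _ (ord_img ψ x0 hx0.orderOf) with h | h
    · exact absurd h hx0'
    · exact h
  -- every three-cycle goes to type (3,3)
  have hTD : ∀ x : ↥(alternatingGroup (Fin 6)), IsThreeCycle (x : Perm (Fin 6)) →
      ((ψ x : ↥(alternatingGroup (Fin 6))) : Perm (Fin 6)).cycleType = {3, 3} := by
    intro x hx
    have hc : IsConj x0 x :=
      alternatingGroup.isThreeCycle_isConj (by simp) hx0 hx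
    obtain ⟨g, hg⟩ := isConj_iff.mp hc
    have e : ψ x = ψ g * ψ x0 * (ψ g)⁻¹ := by
      rw [← hg, map_mul, map_mul, map_inv]
    rw [e, Subgroup.coe_mul, Subgroup.coe_mul, Subgroup.coe_inv, cycleType_conj]
    exact h33
  -- counting: every (3,3) element is the image of a three-cycle
  have hsurj := Finset.surj_on_of_inj_on_of_card_le
    (s := Finset.univ.filter fun g : Perm (Fin 6) => g.cycleType = {3})
    (t := Finset.univ.filter fun g : Perm (Fin 6) => g.cycleType = {3, 3})
    (fun g hg => ((ψ ⟨g, IsThreeCycle.mem_alternatingGroup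
        (Finset.mem_filter.mp hg).2⟩ : ↥(alternatingGroup (Fin 6))) : Perm (Fin 6)))
    (by
      intro g hg
      rw [Finset.mem_filter]
      exact ⟨Finset.mem_univ _, hTD _ (Finset.mem_filter.mp hg).2⟩)
    (by
      intro g1 g2 hg1 hg2 h12
      have := ψ.injective (Subtype.ext h12)
      exact congrArg Subtype.val this)
    (by rw [card_T6, card_D6])
  have hDT : ∀ y : ↥(alternatingGroup (Fin 6)), (y : Perm (Fin 6)).cycleType = {3, 3} →
      IsThreeCycle ((ψ y : ↥(alternatingGroup (Fin 6))) : Perm (Fin 6)) := by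
    intro y hy
    rcases ord3_cases _ (ord_img ψ y (ord_of_ct33 _ hy)) with h | h
    · exact h
    · exfalso
      obtain ⟨a, ha, hab⟩ := hsurj _ (Finset.mem_filter.mpr ⟨Finset.mem_univ _, h⟩)
      have h1 := ψ.injective (Subtype.ext hab)
      have h2 : (y : Perm (Fin 6)) = a := congrArg Subtype.val h1
      have h3 : a.cycleType = {3} := (Finset.mem_filter.mp ha).2
      rw [← h2, hy] at h3
      exact ct33_ne h3
  rcases ord3_cases _ hy with h | h
  · have h1 := hTD y h
    rw [hfix, h] at h1
    exact ct33_ne h1.symm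
  · have h1 : ((ψ y : ↥(alternatingGroup (Fin 6))) : Perm (Fin 6)).cycleType = {3} := hDT y h
    rw [hfix, h] at h1
    exact ct33_ne h1

/-- inner automorphisms preserve three-cycles -/
theorem good_conj (a : ↥(alternatingGroup (Fin 6))) : Good (MulAut.conj a) := by
  intro x hx
  rw [MulAut.conj_apply, Subgroup.coe_mul, Subgroup.coe_mul, Subgroup.coe_inv]
  unfold IsThreeCycle at hx ⊢
  rw [cycleType_conj]
  exact hx

/-- an automorphism preserving three-cycles is induced by a permutation -/
theorem mem_range_of_good (φ : MulAut ↥(alternatingGroup (Fin 6))) (hφ : Good φ) :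
    φ ∈ (MulAut.conjNormal :
      Perm (Fin 6) →* MulAut ↥(alternatingGroup (Fin 6))).range := by
  obtain ⟨σ, hσ⟩ := surj_of_three (by norm_num) φ hφ
  refine ⟨σ, ?_⟩
  apply MulEquiv.ext
  intro x
  apply Subtype.ext
  rw [MulAut.conjNormal_apply, hσ]

variable {G : Type*} [Group G]

namespace Idx

variable {F : X →* G} {T : Sylow 2 G} {M : Subgroup G} (c : Idx F T M)

include c

/-- `M` is not commutative -/
theorem exists_not_comm : ∃ a ∈ M, ∃ b ∈ M, a * b ≠ b * a := by
  obtain ⟨g, hg⟩ := c.hB
  refine ⟨(g : G), g.2, F zX, c.z_mem, ?_⟩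
  intro h1
  have h2 : g * c.f0 (DihedralGroup.r 2) * g⁻¹ = c.f0 (DihedralGroup.r 2) := by
    apply Subtype.ext
    simp only [Subgroup.coe_mul, Subgroup.coe_inv]
    rw [c.f0_r2, h1]; group
  rw [h2] at hg
  have := c.f0_setup.inj hg
  revert this
  decide

/-- the case `|M| = 360` -/
theorem case_360 [Finite G] (hs : IsSimpleGroup ↥M) (h360 : Nat.card M = 360) :
    Nonempty (G ≃* Perm (Fin 6)) := by
  have hG : Nat.card G = 720 := by
    have := c.card_M
    omega
  obtain ⟨ε⟩ := Cfsg.Agent.S0497.result h360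
  haveI := c.normal
  let ρ : G →* MulAut ↥(alternatingGroup (Fin 6)) :=
    (MulAut.congr ε).toMonoidHom.comp (MulAut.conjNormal : G →* MulAut ↥M)
  have hρ : ∀ (g : G) (y : ↥(alternatingGroup (Fin 6))),
      ρ g y = ε ((MulAut.conjNormal g : MulAut ↥M) (ε.symm y)) := fun g y => rfl
  -- elements of `M` act by inner automorphisms
  have hgoodM : ∀ m : G, m ∈ M → Good (ρ m) := by
    intro m hm
    have : ρ m = MulAut.conj (ε ⟨m, hm⟩) := by
      apply MulEquiv.ext
      intro y
      rw [hρ, MulAut.conj_apply]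
      have h1 : (MulAut.conjNormal m : MulAut ↥M) (ε.symm y) = ⟨m, hm⟩ * ε.symm y * ⟨m, hm⟩⁻¹ := by
        apply Subtype.ext
        rw [MulAut.conjNormal_apply]
        rfl
      rw [h1, map_mul, map_mul, map_inv, MulEquiv.apply_symm_apply]
    rw [this]
    exact good_conj _
  -- `t` fixes an element of order three
  have hdM : F dX ∈ M := by
    apply c.cube_mem
    rw [← map_mul, ← map_mul, dX_cube, map_one]
  have hgoodt : Good (ρ (F aX)) := by
    apply good_of_fix (ρ (F aX)) (ε ⟨F dX, hdM⟩)
    · rw [Subgroup.orderOf_coe, MulEquiv.orderOf_eq, ← Subgroup.orderOf_coe]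
      apply orderOf_eq_prime
      · rw [pow_succ, pow_two, ← map_mul, ← map_mul, dX_cube, map_one]
      · intro h1
        have h1' : F dX = 1 := h1
        exact dX_ne_one (c.setup.inj (by rw [h1', map_one]))
    · rw [hρ, MulEquiv.symm_apply_apply]
      congr 1
      apply Subtype.ext
      rw [MulAut.conjNormal_apply]
      have := c.setup.F_comm_t dX
      calc F aX * F dX * (F aX)⁻¹ = (F aX * F dX) * (F aX)⁻¹ := by group
        _ = (F dX * F aX) * (F aX)⁻¹ := by rw [this]
        _ = F dX := by group
  have hgood : ∀ g : G, Good (ρ g) := by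
    intro g
    by_cases hg : g ∈ M
    · exact hgoodM g hg
    · have h1 : g = F aX * (F aX * g) := by
        rw [← mul_assoc, c.setup.t_sq, one_mul]
      rw [h1, map_mul]
      exact good_mul hgoodt (hgoodM _ (c.t_mul_mem hg))
  have hmem : ∀ g : G, ρ g ∈ (MulAut.conjNormal :
      Perm (Fin 6) →* MulAut ↥(alternatingGroup (Fin 6))).range :=
    fun g => mem_range_of_good _ (hgood g)
  -- the kernel of `ρ` is trivial
  have hker : ∀ g : G, ρ g = 1 → g = 1 := by
    intro g hg
    have hcent : ∀ m ∈ M, m * g = g * m := by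
      intro m hm
      have h1 : ρ g (ε ⟨m, hm⟩) = ε ⟨m, hm⟩ := by rw [hg]; rfl
      rw [hρ, MulEquiv.symm_apply_apply] at h1
      have h2 := congrArg Subtype.val (ε.injective h1)
      rw [MulAut.conjNormal_apply] at h2
      calc m * g = (g * m * g⁻¹) * g := by rw [h2]
        _ = g * m := by group
    by_cases hgM : g ∈ M
    · -- `g` is in the centre of `M`
      have h1 : (⟨g, hgM⟩ : ↥M) ∈ Subgroup.center ↥M := by
        rw [Subgroup.mem_center_iff]
        intro m
        apply Subtype.ext
        exact hcent m m.2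
      rcases hs.eq_bot_or_eq_top_of_normal (Subgroup.center ↥M) inferInstance with h2 | h2
      · rw [h2, Subgroup.mem_bot] at h1
        exact congrArg Subtype.val h1
      · exfalso
        obtain ⟨a, ha, b, hb, hab⟩ := c.exists_not_comm
        apply hab
        have h3 : (⟨b, hb⟩ : ↥M) ∈ Subgroup.center ↥M := by rw [h2]; trivial
        rw [Subgroup.mem_center_iff] at h3
        exact (congrArg Subtype.val (h3 ⟨a, ha⟩))
    · exfalso
      have hcentral := c.central_of_centralizes hgM hcent
      rcases c.setup.central_cases hcentral with h1 | h1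
      · apply hgM; rw [h1]; exact M.one_mem
      · have := c.setup.card_of_t_central (by rw [← h1]; exact hcentral)
        omega
  have hinjρ : Function.Injective ρ := (injective_iff_map_eq_one ρ).mpr hker
  have hinjc := Cfsg.Agent.S2119.inj_aux (n := 6) (by norm_num)
  let θ : G →* Perm (Fin 6) :=
    (MonoidHom.ofInjective hinjc).symm.toMonoidHom.comp (ρ.codRestrict _ hmem)
  have hinjθ : Function.Injective θ := by
    intro a b hab
    have h1 := (MonoidHom.ofInjective hinjc).symm.injective hab
    have h2 := congrArg Subtype.val h1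
    exact hinjρ h2
  have hbij : Function.Bijective θ := by
    apply Function.Injective.bijective_of_nat_card_le hinjθ
    rw [hG, Nat.card_perm]
    simp [Nat.factorial]
  exact ⟨MulEquiv.ofBijective θ hbij⟩

end Idx

end Cfsg.Agent.Lib.Helper19.Z2S4
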